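import Mathlib

set_option autoImplicit false
universe u

namespace Groth.Agent.Lib.Helper86.SmoothRetractGen

/-- Localizing a linear map whose kernel and cokernel are killed by `g` at `g` gives a bijection. -/
theorem isLocalizedModule_map_bijective_of_smul {S : Type*} [CommRing S] (g : S)
    {M N M' N' : Type*} [AddCommGroup M] [AddCommGroup N] [AddCommGroup M'] [AddCommGroup N']
    [Module S M] [Module S N] [Module S M'] [Module S N']
    (l₁ : M →ₗ[S] M') (l₂ : N →ₗ[S] N')
    [IsLocalizedModule (Submonoid.powers g) l₁] [IsLocalizedModule (Submonoid.powers g) l₂]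
    (e : M →ₗ[S] N) (hK : ∀ m, e m = 0 → g • m = 0) (hC : ∀ n, ∃ m, e m = g • n) :
    Function.Bijective (IsLocalizedModule.map (Submonoid.powers g) l₁ l₂ e) := by
  have hg : g ∈ Submonoid.powers g := Submonoid.mem_powers g
  constructor
  · rw [injective_iff_map_eq_zero]
    intro x hx
    obtain ⟨⟨m, t⟩, hm⟩ := IsLocalizedModule.surj (Submonoid.powers g) l₁ x
    simp only [Submonoid.smul_def] at hm
    have h1 : l₂ (e m) = 0 := by
      have := IsLocalizedModule.map_apply (Submonoid.powers g) l₁ l₂ e m
      rw [← this, ← hm, map_smul, hx, smul_zero]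
    obtain ⟨c, hc⟩ := (IsLocalizedModule.eq_zero_iff (Submonoid.powers g) l₂).mp h1
    simp only [Submonoid.smul_def] at hc
    have h2 : e ((c : S) • m) = 0 := by rw [map_smul]; exact hc
    have h3 : g • (c : S) • m = 0 := hK _ h2
    have h4 : l₁ m = 0 := by
      rw [IsLocalizedModule.eq_zero_iff (Submonoid.powers g) l₁]
      refine ⟨⟨g, hg⟩ * c, ?_⟩
      simp only [Submonoid.smul_def, Submonoid.coe_mul]
      rw [mul_smul]; exact h3
    rw [h4] at hm
    exact (IsLocalizedModule.smul_inj l₁ t _ _).mp (by
      simp only [Submonoid.smul_def]; rw [hm, smul_zero])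
  · intro y
    obtain ⟨⟨n, t⟩, hn⟩ := IsLocalizedModule.surj (Submonoid.powers g) l₂ y
    simp only [Submonoid.smul_def] at hn
    obtain ⟨m, hm⟩ := hC n
    set u : Submonoid.powers g := ⟨g, hg⟩ * t with hu
    have hunit := IsLocalizedModule.map_units l₁ u
    obtain ⟨x, hx⟩ : ∃ x, (u : S) • x = l₁ m := by
      have := (Module.End.isUnit_iff _).mp hunit
      obtain ⟨x, hx⟩ := this.2 (l₁ m)
      exact ⟨x, hx⟩
    refine ⟨x, ?_⟩
    apply (IsLocalizedModule.smul_inj l₂ u _ _).mp
    simp only [Submonoid.smul_def]
    rw [← map_smul, hx, IsLocalizedModule.map_apply, hm, map_smul, ← hn, hu, Submonoid.coe_mul,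
      mul_smul]

/-- The kernel of a retraction from a finitely generated algebra is a finitely generated ideal. -/
theorem ker_fg_of_retract {A T T' : Type*} [CommRing A] [CommRing T] [CommRing T'] [Algebra A T]
    [Algebra A T'] (r : T →ₐ[A] T') (i : T' →ₐ[A] T) (h : r.comp i = AlgHom.id A T')
    (s : Finset T) (hs : Algebra.adjoin A (s : Set T) = ⊤) :
    (RingHom.ker r.toRingHom).FG := by
  classical
  have hri : ∀ t', r (i t') = t' := fun t' => congr($h t')
  set J : Ideal T := Ideal.span ((fun t => t - i (r t)) '' (s : Set T)) with hJ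
  have key : ∀ t : T, t - i (r t) ∈ J := by
    intro t
    have ht : t ∈ Algebra.adjoin A (s : Set T) := by rw [hs]; trivial
    induction ht using Algebra.adjoin_induction with
    | mem t ht => exact Ideal.subset_span ⟨t, ht, rfl⟩
    | algebraMap a => simp
    | add t t' _ _ h1 h2 =>
      have : t + t' - i (r (t + t')) = (t - i (r t)) + (t' - i (r t')) := by
        simp only [map_add]; ring
      rw [this]; exact J.add_mem h1 h2
    | mul t t' _ _ h1 h2 =>
      have : t * t' - i (r (t * t')) = (t - i (r t)) * t' + i (r t) * (t' - i (r t')) := by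
        simp only [map_mul]; ring
      rw [this]; exact J.add_mem (J.mul_mem_right _ h1) (J.mul_mem_left _ h2)
  have : RingHom.ker r.toRingHom = J := by
    apply le_antisymm
    · intro t ht
      have ht' : r t = 0 := ht
      have := key t
      rwa [ht', map_zero, sub_zero] at this
    · rw [hJ, Ideal.span_le]
      rintro _ ⟨t, _, rfl⟩
      change r (t - i (r t)) = 0
      rw [map_sub, hri, sub_self]
  rw [this]
  exact ⟨s.image (fun t => t - i (r t)), by rw [hJ, Finset.coe_image]⟩

section Sym

variable {A : Type u} [CommRing A] {P : Type u} [AddCommGroup P] [Module A P]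

/-- The symmetric algebra of a projective module is formally smooth. -/
theorem formallySmooth_symmetricAlgebra [Module.Projective A P] :
    Algebra.FormallySmooth A (SymmetricAlgebra A P) := by
  refine Algebra.FormallySmooth.of_comp_surjective fun C _ _ I _ f => ?_
  obtain ⟨h, hh⟩ := Module.projective_lifting_property (Ideal.Quotient.mkₐ A I).toLinearMap
    (f.toLinearMap ∘ₗ SymmetricAlgebra.ι A P) Ideal.Quotient.mk_surjective
  refine ⟨SymmetricAlgebra.lift h, ?_⟩
  apply SymmetricAlgebra.algHom_ext
  ext p
  have := congr($hh p)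
  simpa using this

variable {n : ℕ} (j : P →ₗ[A] (Fin n → A)) (π : (Fin n → A) →ₗ[A] P)

theorem finitePresentation_symmetricAlgebra (hπj : π ∘ₗ j = LinearMap.id) :
    Algebra.FinitePresentation A (SymmetricAlgebra A P) := by
  classical
  let r : MvPolynomial (Fin n) A →ₐ[A] SymmetricAlgebra A P :=
    MvPolynomial.aeval (fun k => SymmetricAlgebra.ι A P (π (Pi.single k 1)))
  let L : (Fin n → A) →ₗ[A] MvPolynomial (Fin n) A :=
    Fintype.linearCombination A (fun k => (MvPolynomial.X k : MvPolynomial (Fin n) A))
  let i : SymmetricAlgebra A P →ₐ[A] MvPolynomial (Fin n) A := SymmetricAlgebra.lift (L ∘ₗ j)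
  have hri : r.comp i = AlgHom.id A _ := by
    apply SymmetricAlgebra.algHom_ext
    ext p
    have hp : π (j p) = p := congr($hπj p)
    change r (i (SymmetricAlgebra.ι A P p)) = SymmetricAlgebra.ι A P p
    simp only [i, SymmetricAlgebra.lift_ι_apply, L, LinearMap.coe_comp, Function.comp_apply,
      Fintype.linearCombination_apply, map_sum, map_smul, r, MvPolynomial.aeval_X]
    simp only [← map_smul, ← map_sum]
    conv_rhs => rw [← hp]
    congr 2
    ext k
    simp [Finset.sum_apply, Pi.single_apply]
  have hsurj : Function.Surjective r := fun b => ⟨i b, congr($hri b)⟩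
  refine Algebra.FinitePresentation.of_surjective (f := r) hsurj ?_
  refine ker_fg_of_retract r i hri (Finset.univ.image MvPolynomial.X) ?_
  rw [Finset.coe_image, Finset.coe_univ, Set.image_univ]
  exact MvPolynomial.adjoin_range_X

theorem smooth_symmetricAlgebra (hπj : π ∘ₗ j = LinearMap.id) :
    Algebra.Smooth A (SymmetricAlgebra A P) := by
  have : Module.Projective A P := Module.Projective.of_split j π hπj
  have := formallySmooth_symmetricAlgebra (A := A) (P := P)
  have := finitePresentation_symmetricAlgebra j π hπj
  exact {}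

end Sym

end Groth.Agent.Lib.Helper86.SmoothRetractGen
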