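import Mathlib
import Groth.Agent.Lib.Helper86.SmoothRetractGen

set_option autoImplicit false
universe u

namespace Groth.Agent.Lib.Helper86.SmoothRetract

open KaehlerDifferential Groth.Agent.Lib.Helper86.SmoothRetractGen

variable {R A : Type u} [CommRing R] [CommRing A] [Algebra R A]
variable {n : ℕ} (x : Fin n → A)
variable {P : Type u} [AddCommGroup P] [Module A P] [Module R P] [IsScalarTower R A P]
variable (j : P →ₗ[A] (Fin n → A)) (π : (Fin n → A) →ₗ[A] P) (s : Ω[A⁄R] →ₗ[A] (Fin n → A))

/-- The map `A^n → Ω[A/R]`, `e_i ↦ d x_i`. -/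
noncomputable def q : (Fin n → A) →ₗ[A] Ω[A⁄R] :=
  Fintype.linearCombination A (fun i => D R A (x i))

omit [Module R P] [IsScalarTower R A P] in
lemma q_single (i : Fin n) : q (R := R) x (Pi.single i 1) = D R A (x i) := by
  simp [q, Fintype.linearCombination_apply, Pi.single_apply]

/-- The algebra map `Sym P → A[ε]·A^n` sending `p` to `ε j(p)`. -/
noncomputable def τ : SymmetricAlgebra A P →ₐ[A] TrivSqZeroExt A (Fin n → A) :=
  SymmetricAlgebra.lift ((TrivSqZeroExt.inrHom A (Fin n → A)) ∘ₗ j)

/-- The augmentation `Sym P → A`. -/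
noncomputable def ρ : SymmetricAlgebra A P →ₐ[A] A := SymmetricAlgebra.algebraMapInv

omit [Module R P] [IsScalarTower R A P] in
lemma fst_τ (b : SymmetricAlgebra A P) : (τ j b).fst = ρ b := by
  have : (TrivSqZeroExt.fstHom A A (Fin n → A)).comp (τ j) = ρ := by
    apply SymmetricAlgebra.algHom_ext
    ext p
    simp [τ, ρ, SymmetricAlgebra.algebraMapInv]
  exact congr($this b)

omit [Module R P] [IsScalarTower R A P] in
@[simp] lemma ρ_ι (p : P) : ρ (SymmetricAlgebra.ι A P p) = 0 :=
  SymmetricAlgebra.algebraMapInv_ι p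

omit [Module R P] [IsScalarTower R A P] in
@[simp] lemma ρ_algebraMap (a : A) : ρ (algebraMap A (SymmetricAlgebra A P) a) = a :=
  (ρ (A := A) (P := P)).commutes a

omit [Module R P] [IsScalarTower R A P] in
@[simp] lemma τ_ι (p : P) : τ j (SymmetricAlgebra.ι A P p) = TrivSqZeroExt.inr (j p) := by
  simp [τ]

lemma ρ_smul (r : R) (b : SymmetricAlgebra A P) : ρ (r • b) = r • ρ b := by
  rw [algebra_compatible_smul A r b, map_smul, algebraMap_smul]

/-- `A^n` as a module over `Sym P` through the augmentation. -/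
noncomputable local instance modB : Module (SymmetricAlgebra A P) (Fin n → A) :=
  Module.compHom _ (ρ (A := A) (P := P)).toRingHom

omit [Module R P] [IsScalarTower R A P] in
lemma smulB_def (b : SymmetricAlgebra A P) (v : Fin n → A) : b • v = ρ b • v := rfl

local instance : IsScalarTower R (SymmetricAlgebra A P) (Fin n → A) :=
  ⟨fun r b v => by rw [smulB_def, smulB_def, ρ_smul, smul_assoc]⟩

local instance : IsScalarTower A (SymmetricAlgebra A P) (Fin n → A) :=
  ⟨fun r b v => by rw [smulB_def, smulB_def, map_smul, smul_assoc]⟩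

/-- The derivation `Sym P → A^n`, `b ↦ s(d ρ(b)) + j(b₁)`. -/
noncomputable def Dfun : Derivation R (SymmetricAlgebra A P) (Fin n → A) where
  toLinearMap :=
    (s.restrictScalars R) ∘ₗ (D R A).toLinearMap ∘ₗ ((ρ (A := A) (P := P)).restrictScalars R).toLinearMap
      + ((TrivSqZeroExt.sndHom A (Fin n → A)).restrictScalars R) ∘ₗ
        ((τ j).restrictScalars R).toLinearMap
  map_one_eq_zero' := by
    simp
  leibniz' b b' := by
    simp only [LinearMap.add_apply, LinearMap.coe_comp, LinearMap.coe_restrictScalars,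
      Function.comp_apply, AlgHom.toLinearMap_apply, AlgHom.coe_restrictScalars', map_mul,
      Derivation.coeFn_coe, Derivation.leibniz, map_add, map_smul, TrivSqZeroExt.sndHom_apply,
      TrivSqZeroExt.snd_mul, fst_τ, smulB_def, op_smul_eq_smul, smul_add]
    abel

lemma Dfun_apply (b : SymmetricAlgebra A P) :
    Dfun j s b = s (D R A (ρ b)) + (τ j b).snd := rfl

/-- The modified generators `b_i = x_i + ι(π e_i)`. -/
noncomputable def bgen (i : Fin n) : SymmetricAlgebra A P :=
  algebraMap A _ (x i) + SymmetricAlgebra.ι A P (π (Pi.single i 1))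

lemma Dfun_bgen (hsplit : s ∘ₗ q x + j ∘ₗ π = LinearMap.id) (i : Fin n) :
    Dfun j s (bgen x π i) = Pi.single i 1 := by
  have h := congr($hsplit (Pi.single i 1))
  simp only [LinearMap.add_apply, LinearMap.comp_apply, q_single, LinearMap.id_apply] at h
  rw [Dfun_apply, bgen]
  simp only [map_add, ρ_ι, add_zero, AlgHom.commutes, τ_ι, TrivSqZeroExt.snd_add,
    TrivSqZeroExt.snd_inr, TrivSqZeroExt.algebraMap_eq_inl, TrivSqZeroExt.snd_inl, zero_add,
    Algebra.algebraMap_self, RingHom.id_apply]
  exact h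

/-- The induced linear map `Ω[Sym P / R] → A^n`. -/
noncomputable def lam : Ω[SymmetricAlgebra A P⁄R] →ₗ[SymmetricAlgebra A P] (Fin n → A) :=
  (Dfun j s).liftKaehlerDifferential

lemma lam_D (b : SymmetricAlgebra A P) : lam j s (D R _ b) = Dfun j s b :=
  Derivation.liftKaehlerDifferential_comp_D _ _

/-- The map `(Sym P)^n → Ω[Sym P / R]`, `e_i ↦ d b_i`. -/
noncomputable def emap :
    (Fin n → SymmetricAlgebra A P) →ₗ[SymmetricAlgebra A P] Ω[SymmetricAlgebra A P⁄R] :=
  Fintype.linearCombination _ (fun i => D R _ (bgen x π i))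

/-- Reduction modulo the augmentation ideal. -/
noncomputable def red : (Fin n → SymmetricAlgebra A P) →ₗ[SymmetricAlgebra A P] (Fin n → A) where
  toFun m i := ρ (m i)
  map_add' m m' := by ext i; simp
  map_smul' b m := by ext i; simp [smulB_def]

omit [Module R P] [IsScalarTower R A P] in
lemma red_apply (m : Fin n → SymmetricAlgebra A P) (i : Fin n) : red m i = ρ (m i) := rfl

omit [Module R P] [IsScalarTower R A P] in
lemma red_surjective : Function.Surjective (red (A := A) (P := P) (n := n)) := fun v =>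
  ⟨fun i => algebraMap A _ (v i), by ext i; simp [red_apply]⟩

lemma lam_emap (hsplit : s ∘ₗ q x + j ∘ₗ π = LinearMap.id) (m : Fin n → SymmetricAlgebra A P) :
    lam j s (emap x π m) = red m := by
  simp only [emap, Fintype.linearCombination_apply, map_sum, map_smul, lam_D,
    Dfun_bgen x j π s hsplit]
  ext i
  simp [red_apply, smulB_def, Finset.sum_apply, Pi.single_apply]

/-- The submodule `range e + 𝔞 Ω`. -/
noncomputable def Nsub : Submodule (SymmetricAlgebra A P) Ω[SymmetricAlgebra A P⁄R] :=
  LinearMap.range (emap (R := R) x π) ⊔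
    (RingHom.ker (ρ (A := A) (P := P)).toRingHom) • (⊤ : Submodule _ Ω[SymmetricAlgebra A P⁄R])

lemma D_bgen_mem (i : Fin n) : D R _ (bgen x π i) ∈ Nsub (R := R) x π := by
  refine Submodule.mem_sup_left ⟨Pi.single i 1, ?_⟩
  simp [emap, Fintype.linearCombination_apply, Pi.single_apply]

lemma ker_smul_mem (c : SymmetricAlgebra A P) (hc : ρ c = 0) (ω : Ω[SymmetricAlgebra A P⁄R]) :
    c • ω ∈ Nsub (R := R) x π :=
  Submodule.mem_sup_right (Submodule.smul_mem_smul hc trivial)

lemma asmul_mem (a : A) {ω : Ω[SymmetricAlgebra A P⁄R]} (h : ω ∈ Nsub (R := R) x π) :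
    a • ω ∈ Nsub (R := R) x π := by
  rw [← algebraMap_smul (SymmetricAlgebra A P) a ω]
  exact Submodule.smul_mem _ _ h

lemma sum_smul_D_alg (v : Fin n → A) :
    ∑ k, v k • D R (SymmetricAlgebra A P) (algebraMap A _ (x k)) =
      KaehlerDifferential.map R R A (SymmetricAlgebra A P) (q x v) := by
  simp [q, Fintype.linearCombination_apply, map_sum, KaehlerDifferential.map_D]

lemma D_ι_mem (hπj : π ∘ₗ j = LinearMap.id) (hqj : q (R := R) x ∘ₗ j = 0) (p : P) :
    D R _ (SymmetricAlgebra.ι A P p) ∈ Nsub (R := R) x π := by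
  have hv : j p = ∑ k, (j p k) • (Pi.single k 1 : Fin n → A) := by
    ext i; simp [Finset.sum_apply, Pi.single_apply]
  have hp : SymmetricAlgebra.ι A P p =
      ∑ k, algebraMap A (SymmetricAlgebra A P) (j p k) *
        (bgen x π k - algebraMap A (SymmetricAlgebra A P) (x k)) := by
    conv_lhs => rw [← show π (j p) = p from congr($hπj p), hv]
    simp only [map_sum, map_smul]
    simp only [bgen, add_sub_cancel_left, Algebra.smul_def]
  have h0 : ∑ k, j p k • D R (SymmetricAlgebra A P) (algebraMap A _ (x k)) = 0 := by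
    rw [sum_smul_D_alg]
    have : q (R := R) x (j p) = 0 := congr($hqj p)
    rw [this, map_zero]
  have hD : D R _ (SymmetricAlgebra.ι A P p) =
      ∑ k, (j p k • D R (SymmetricAlgebra A P) (bgen x π k)
        + (bgen x π k - algebraMap A (SymmetricAlgebra A P) (x k)) •
            D R (SymmetricAlgebra A P) (algebraMap A _ (j p k))) := by
    rw [hp, map_sum]
    have : ∀ k, D R (SymmetricAlgebra A P) (algebraMap A (SymmetricAlgebra A P) (j p k) *
        (bgen x π k - algebraMap A (SymmetricAlgebra A P) (x k))) =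
        (j p k • D R (SymmetricAlgebra A P) (bgen x π k)
        + (bgen x π k - algebraMap A (SymmetricAlgebra A P) (x k)) •
            D R (SymmetricAlgebra A P) (algebraMap A _ (j p k)))
        - j p k • D R (SymmetricAlgebra A P) (algebraMap A _ (x k)) := by
      intro k
      rw [Derivation.leibniz, map_sub, smul_sub, algebraMap_smul, algebraMap_smul]
      abel
    simp only [this, Finset.sum_sub_distrib, h0, sub_zero]
  rw [hD]
  refine Submodule.sum_mem _ fun k _ => Submodule.add_mem _ ?_ ?_
  · exact asmul_mem x π _ (D_bgen_mem x π k)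
  · apply ker_smul_mem
    simp [bgen]

lemma D_alg_mem (hq : Function.Surjective (q (R := R) x)) (hπj : π ∘ₗ j = LinearMap.id)
    (hqj : q (R := R) x ∘ₗ j = 0) (a : A) :
    D R _ (algebraMap A (SymmetricAlgebra A P) a) ∈ Nsub (R := R) x π := by
  obtain ⟨v, hv⟩ := hq (D R A a)
  have : D R _ (algebraMap A (SymmetricAlgebra A P) a) =
      ∑ k, v k • D R (SymmetricAlgebra A P) (algebraMap A _ (x k)) := by
    rw [sum_smul_D_alg, hv, KaehlerDifferential.map_D]
  rw [this]
  refine Submodule.sum_mem _ fun k _ => asmul_mem x π _ ?_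
  have hk : algebraMap A (SymmetricAlgebra A P) (x k) =
      bgen x π k - SymmetricAlgebra.ι A P (π (Pi.single k 1)) := by
    simp [bgen]
  rw [hk, map_sub]
  exact Submodule.sub_mem _ (D_bgen_mem x π k) (D_ι_mem x j π hπj hqj _)

theorem Nsub_eq_top (hq : Function.Surjective (q (R := R) x)) (hπj : π ∘ₗ j = LinearMap.id)
    (hqj : q (R := R) x ∘ₗ j = 0) : Nsub (R := R) x π = ⊤ := by
  rw [eq_top_iff, ← KaehlerDifferential.span_range_derivation, Submodule.span_le]
  rintro _ ⟨b, rfl⟩
  induction b using SymmetricAlgebra.induction with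
  | algebraMap a => exact D_alg_mem x j π hq hπj hqj a
  | ι p => exact D_ι_mem x j π hπj hqj p
  | mul b b' h h' =>
    rw [Derivation.leibniz]
    exact Submodule.add_mem _ (Submodule.smul_mem _ _ h') (Submodule.smul_mem _ _ h)
  | add b b' h h' =>
    rw [map_add]
    exact Submodule.add_mem _ h h'

open scoped Pointwise in
theorem exists_g [Module.Projective (SymmetricAlgebra A P) Ω[SymmetricAlgebra A P⁄R]]
    [Module.Finite (SymmetricAlgebra A P) Ω[SymmetricAlgebra A P⁄R]]
    (hq : Function.Surjective (q (R := R) x)) (hπj : π ∘ₗ j = LinearMap.id)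
    (hqj : q (R := R) x ∘ₗ j = 0) (hsplit : s ∘ₗ q x + j ∘ₗ π = LinearMap.id) :
    ∃ g : SymmetricAlgebra A P, ρ g = 1 ∧
      (∀ m, emap (R := R) x π m = 0 → g • m = 0) ∧
      (∀ ω, ∃ m, emap (R := R) x π m = g • ω) := by
  classical
  -- the kernel part
  obtain ⟨f, hf⟩ := Module.projective_lifting_property (red (A := A) (P := P) (n := n))
    (lam (R := R) j s) red_surjective
  set φ : (Fin n → SymmetricAlgebra A P) →ₗ[SymmetricAlgebra A P] (Fin n → SymmetricAlgebra A P) :=
    f ∘ₗ emap (R := R) x π with hφdef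
  have hφ : ∀ m, red (φ m) = red m := by
    intro m
    have := congr($hf (emap (R := R) x π m))
    rw [lam_emap x j π s hsplit] at this
    exact this
  set M : Matrix (Fin n) (Fin n) (SymmetricAlgebra A P) := LinearMap.toMatrix' φ with hM
  have hM1 : (ρ (A := A) (P := P)).toRingHom.mapMatrix M = 1 := by
    ext i k
    have h1 := congrFun (hφ (Pi.single k 1)) i
    simp only [red_apply] at h1
    have h2 : M i k = φ (Pi.single k 1) i := by
      rw [hM, LinearMap.toMatrix'_apply]
    simp only [RingHom.mapMatrix_apply, Matrix.map_apply, AlgHom.toRingHom_eq_coe,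
      RingHom.coe_coe, h2, h1, Matrix.one_apply, Pi.single_apply]
    split_ifs <;> simp
  have hdet : ρ M.det = 1 := by
    have := RingHom.map_det (ρ (A := A) (P := P)).toRingHom M
    rw [hM1, Matrix.det_one] at this
    exact this
  have hker : ∀ m, emap (R := R) x π m = 0 → M.det • m = 0 := by
    intro m hm
    have h1 : M.mulVec m = 0 := by
      rw [hM, LinearMap.toMatrix'_mulVec, hφdef, LinearMap.comp_apply, hm, map_zero]
    have h2 : (M.adjugate * M).mulVec m = 0 := by
      rw [← Matrix.mulVec_mulVec, h1, Matrix.mulVec_zero]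
    rw [Matrix.adjugate_mul, Matrix.smul_mulVec, Matrix.one_mulVec] at h2
    exact h2
  -- the cokernel part
  have htop := Nsub_eq_top x j π hq hπj hqj
  obtain ⟨g₂, hg₂, hle⟩ := Submodule.exists_sub_one_mem_and_smul_le_of_fg_of_le_sup
    (I := RingHom.ker (ρ (A := A) (P := P)).toRingHom)
    (N := LinearMap.range (emap (R := R) x π)) (N' := ⊤) (P := ⊤)
    (Module.Finite.fg_top) le_rfl (by rw [Nsub] at htop; exact htop.ge)
  have hρg₂ : ρ g₂ = 1 := by
    have : ρ (g₂ - 1) = 0 := hg₂
    rwa [map_sub, map_one, sub_eq_zero] at this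
  refine ⟨M.det * g₂, by rw [map_mul, hdet, hρg₂, one_mul], ?_, ?_⟩
  · intro m hm
    rw [mul_comm, mul_smul, hker m hm, smul_zero]
  · intro ω
    have : g₂ • ω ∈ LinearMap.range (emap (R := R) x π) :=
      hle (Submodule.smul_mem_pointwise_smul _ _ _ trivial)
    obtain ⟨m, hm⟩ := this
    exact ⟨M.det • m, by rw [map_smul, hm, mul_smul]⟩

omit [Module R P] [IsScalarTower R A P] in
lemma q_surjective (hx : Algebra.adjoin R (Set.range x) = ⊤) :
    Function.Surjective (q (R := R) x) := by
  rw [← LinearMap.range_eq_top, eq_top_iff, ← KaehlerDifferential.span_range_derivation,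
    Submodule.span_le]
  rintro _ ⟨a, rfl⟩
  have ha : a ∈ Algebra.adjoin R (Set.range x) := hx ▸ trivial
  induction ha using Algebra.adjoin_induction with
  | mem a ha => obtain ⟨i, rfl⟩ := ha; exact ⟨Pi.single i 1, q_single x i⟩
  | algebraMap r => simp
  | add a a' _ _ h h' => rw [map_add]; exact add_mem h h'
  | mul a a' _ _ h h' =>
    rw [Derivation.leibniz]
    exact add_mem (Submodule.smul_mem _ _ h') (Submodule.smul_mem _ _ h)

end Groth.Agent.Lib.Helper86.SmoothRetract
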