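import Mathlib

/-! Monomial-type ideals in polynomial rings: coefficientwise membership (helper86, for helper81). -/

set_option autoImplicit false
universe u

namespace Groth.Agent.Lib.Helper86.AnnPoly

open MvPolynomial

variable {P : Type u} [CommRing P] {ι : Type*}

/-- The coefficient ideal attached to a monomial exponent `m`. -/
def aS (c : ι → P) (T : Set ι) (e : ℕ) (m : ι →₀ ℕ) : Ideal P :=
  Ideal.span (c '' {j | j ∈ T ∧ e ≤ m j})

theorem aS_mono (c : ι → P) (T : Set ι) (e : ℕ) {m m' : ι →₀ ℕ} (h : m ≤ m') :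
    aS c T e m ≤ aS c T e m' := by
  apply Ideal.span_mono
  apply Set.image_mono
  intro j hj
  exact ⟨hj.1, hj.2.trans (h j)⟩

/-- The ideal generated by the terms `c j * X j ^ e`, `j ∈ T`. -/
noncomputable def monoIdeal (c : ι → P) (T : Set ι) (e : ℕ) : Ideal (MvPolynomial ι P) :=
  Ideal.span ((fun j => monomial (Finsupp.single j e) (c j)) '' T)

theorem monomial_mem_monoIdeal (c : ι → P) (T : Set ι) (e : ℕ) (m : ι →₀ ℕ) (r : P)
    (hr : r ∈ aS c T e m) : monomial m r ∈ monoIdeal c T e := by
  classical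
  unfold aS at hr
  refine Submodule.span_induction ?_ ?_ ?_ ?_ hr
  · rintro _ ⟨j, ⟨hjT, hje⟩, rfl⟩
    have hle : Finsupp.single j e ≤ m := Finsupp.single_le_iff.mpr hje
    have : monomial m (c j) =
        monomial (m - Finsupp.single j e) 1 * monomial (Finsupp.single j e) (c j) := by
      rw [monomial_mul, one_mul, tsub_add_cancel_of_le hle]
    rw [this]
    exact Ideal.mul_mem_left _ _ (Ideal.subset_span ⟨j, hjT, rfl⟩)
  · rw [monomial_zero]; exact zero_mem _
  · intro a b _ _ ha hb
    rw [map_add]; exact add_mem ha hb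
  · intro a b _ hb
    rw [smul_eq_mul, ← C_mul_monomial]
    exact Ideal.mul_mem_left _ _ hb

theorem mem_monoIdeal_iff (c : ι → P) (T : Set ι) (e : ℕ) (y : MvPolynomial ι P) :
    y ∈ monoIdeal c T e ↔ ∀ m, coeff m y ∈ aS c T e m := by
  classical
  constructor
  · intro hy
    let I' : Ideal (MvPolynomial ι P) :=
      { carrier := {y | ∀ m, coeff m y ∈ aS c T e m}
        zero_mem' := fun m => by rw [coeff_zero]; exact zero_mem _
        add_mem' := fun {a b} ha hb m => by rw [coeff_add]; exact add_mem (ha m) (hb m)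
        smul_mem' := fun a b hb m => by
          rw [smul_eq_mul, coeff_mul]
          refine Ideal.sum_mem _ (fun x hx => ?_)
          refine Ideal.mul_mem_left _ _ (aS_mono c T e ?_ (hb x.2))
          have hx' := Finset.HasAntidiagonal.mem_antidiagonal.mp hx
          rw [← hx']
          exact le_add_self }
    have hle : monoIdeal c T e ≤ I' := by
      unfold monoIdeal
      rw [Ideal.span_le]
      rintro _ ⟨j, hjT, rfl⟩
      intro m
      rw [coeff_monomial]
      split_ifs with h
      · refine Ideal.subset_span ⟨j, ⟨hjT, ?_⟩, rfl⟩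
        rw [← h]; simp
      · exact zero_mem _
    exact hle hy
  · intro h
    rw [← support_sum_monomial_coeff y]
    exact Ideal.sum_mem _ (fun m _ => monomial_mem_monoIdeal c T e m _ (h m))

theorem C_mul_X_pow (a : P) (j : ι) (e : ℕ) :
    (C a * X j : MvPolynomial ι P) ^ e = monomial (Finsupp.single j e) (a ^ e) := by
  rw [mul_pow, ← C_pow, X_pow_eq_monomial, C_mul_monomial, mul_one]

theorem span_image_pow_eq (π : ι → P) (T : Set ι) (e : ℕ) :
    Ideal.span ((fun j => (C (π j) * X j : MvPolynomial ι P) ^ e) '' T) =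
      monoIdeal (fun j => π j ^ e) T e := by
  unfold monoIdeal
  congr 2
  funext j
  exact C_mul_X_pow _ _ _

/-- **Polynomial-level annihilator lemma from the coefficient-level one.** -/
theorem poly_of_coeff (π : ι → P) (e : ℕ) (T : Set ι) (i : ι) (hi : i ∉ T)
    (H : ∀ S : Set ι, S ⊆ T → ∀ z : P, π i ^ 2 * z ∈ Ideal.span ((fun j => π j ^ e) '' S) →
      π i * z ∈ Ideal.span ((fun j => π j ^ e) '' S))
    (y : MvPolynomial ι P)
    (hy : (C (π i) * X i) ^ 2 * y ∈
      Ideal.span ((fun j => (C (π j) * X j : MvPolynomial ι P) ^ e) '' T)) :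
    (C (π i) * X i) * y ∈ Ideal.span ((fun j => (C (π j) * X j : MvPolynomial ι P) ^ e) '' T) := by
  classical
  rw [span_image_pow_eq, mem_monoIdeal_iff] at hy ⊢
  rw [C_mul_X_pow] at hy
  have h1 : (C (π i) * X i : MvPolynomial ι P) = monomial (Finsupp.single i 1) (π i) := by
    exact C_mul_X_eq_monomial
  rw [h1]
  intro m
  rw [coeff_monomial_mul']
  split_ifs with hle
  · set m' := m - Finsupp.single i 1 with hm'
    have hm : m = Finsupp.single i 1 + m' := by
      rw [hm', add_comm, tsub_add_cancel_of_le hle]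
    have h2 := hy (Finsupp.single i 2 + m')
    rw [coeff_monomial_mul] at h2
    have hset : ∀ k : ℕ, {j | j ∈ T ∧ e ≤ (Finsupp.single i k + m') j} = {j | j ∈ T ∧ e ≤ m' j} := by
      intro k
      ext j
      simp only [Set.mem_ofPred_eq, Finsupp.coe_add, Pi.add_apply]
      constructor
      · rintro ⟨hjT, hje⟩
        refine ⟨hjT, ?_⟩
        have hne : i ≠ j := fun h => hi (h ▸ hjT)
        simpa [Finsupp.single_apply, hne] using hje
      · rintro ⟨hjT, hje⟩
        refine ⟨hjT, ?_⟩
        have hne : i ≠ j := fun h => hi (h ▸ hjT)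
        simpa [Finsupp.single_apply, hne] using hje
    unfold aS at h2 ⊢
    rw [hset 2] at h2
    rw [hm, hset 1]
    exact H _ (fun j hj => hj.1) _ h2
  · exact zero_mem _

end Groth.Agent.Lib.Helper86.AnnPoly
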