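import Mathlib
import Groth.Agent.Lib.Helper81.PopRegNZD
import Groth.Agent.Lib.Helper87.Smoothing3
import Groth.Agent.Lib.Helper86.AnnPolyA

/-! R-side annihilator lemma for `g_i = π_i X_i` in `P[X_1..X_d]`, `P_p` regular local
(helper86, for helper81's Popescu char p case). -/

set_option autoImplicit false
universe u

namespace Groth.Agent.Lib.Helper86.AnnPoly

open IsLocalRing MvPolynomial Groth.Agent.Lib.Helper87.Smoothing

/-- In a regular local ring with regular parameters `g`, the parameter `g t` is a nonzerodivisor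
modulo the `e`-th powers of any set `S` of the other parameters. -/
theorem mem_span_image_pow_of_mul_mem {R : Type u} [CommRing R] [IsRegularLocalRing R] {d : ℕ}
    (hd : (maximalIdeal R).spanFinrank = d) (g : Fin d → R)
    (hg : Ideal.span (Set.range g) = maximalIdeal R) (e : ℕ) (he : 0 < e)
    (t : Fin d) (S : Set (Fin d)) (ht : t ∉ S) (z : R)
    (hz : g t * z ∈ Ideal.span ((fun j => g j ^ e) '' S)) :
    z ∈ Ideal.span ((fun j => g j ^ e) '' S) := by
  classical
  set a : Ideal R := Ideal.span ((fun j => g j ^ e) '' S) with ha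
  have hgm : ∀ j, g j ∈ maximalIdeal R := fun j => by
    rw [← hg]; exact Ideal.subset_span ⟨j, rfl⟩
  -- for every N ≥ 1, z ∈ a ⊔ m^N
  have hN : ∀ N : ℕ, z ∈ a ⊔ maximalIdeal R ^ N := by
    intro N
    rcases Nat.eq_zero_or_pos N with h0 | hpos
    · subst h0
      rw [pow_zero, Ideal.one_eq_top, sup_top_eq]; trivial
    let v : Fin d → ℕ := fun j => if j ∈ S then e else N
    have hv : ∀ j, 1 ≤ v j := by
      intro j; simp only [v]; split_ifs <;> omega
    set cN : Ideal R := Ideal.span (Set.range fun j : {j : Fin d // j ≠ t} => g j ^ v j) with hcN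
    have h1 : a ≤ cN := by
      rw [ha, Ideal.span_le]
      rintro _ ⟨j, hjS, rfl⟩
      have hjt : j ≠ t := fun h => ht (h ▸ hjS)
      refine Ideal.subset_span ⟨⟨j, hjt⟩, ?_⟩
      simp only [v, if_pos hjS]
    have h2 : cN ≤ a ⊔ maximalIdeal R ^ N := by
      rw [hcN, Ideal.span_le]
      rintro _ ⟨⟨j, hjt⟩, rfl⟩
      by_cases hjS : j ∈ S
      · refine Ideal.mem_sup_left ?_
        simp only [v, if_pos hjS]
        exact Ideal.subset_span ⟨j, hjS, rfl⟩
      · refine Ideal.mem_sup_right ?_
        simp only [v, if_neg hjS]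
        exact Ideal.pow_mem_pow (hgm j) N
    exact h2 (Groth.Agent.Lib.Helper81.Pop.mem_span_pow_of_mul_mem hd g hg v hv t z (h1 hz))
  -- Krull intersection in R ⧸ a
  have hK := Ideal.iInf_pow_smul_eq_bot_of_isLocalRing (R := R) (M := R ⧸ a) (maximalIdeal R)
    (Ideal.IsPrime.ne_top inferInstance)
  have hmem : (Ideal.Quotient.mk a z : R ⧸ a) ∈
      (⨅ i : ℕ, maximalIdeal R ^ i • ⊤ : Submodule R (R ⧸ a)) := by
    rw [Submodule.mem_iInf]
    intro N
    obtain ⟨x, hx, b, hb, hxb⟩ := Submodule.mem_sup.mp (hN N)
    have : (Ideal.Quotient.mk a z : R ⧸ a) = b • (Ideal.Quotient.mk a 1 : R ⧸ a) := by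
      rw [← hxb, map_add, Ideal.Quotient.eq_zero_iff_mem.mpr hx, zero_add]
      change _ = Ideal.Quotient.mk a (b • 1)
      rw [smul_eq_mul, mul_one]
    rw [this]
    exact Submodule.smul_mem_smul hb Submodule.mem_top
  rw [hK, Submodule.mem_bot] at hmem
  exact Ideal.Quotient.eq_zero_iff_mem.mp hmem

section Loc

variable {P : Type u} [CommRing P] (p : Ideal P) [p.IsPrime]

/-- The coefficient-level annihilator condition at index `i`. -/
def QS {d : ℕ} (π : Fin d → P) (e : ℕ) (i : Fin d) : Prop :=
  ∀ S : Set (Fin d), i ∉ S → ∀ z : P, π i ^ 2 * z ∈ Ideal.span ((fun j => π j ^ e) '' S) →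
    π i * z ∈ Ideal.span ((fun j => π j ^ e) '' S)

/-- One step: rescaling `π i` by a suitable `s ∉ p` forces the condition `QS` at `i`. -/
theorem exists_mul_QS [IsNoetherianRing P] [IsRegularLocalRing (Localization.AtPrime p)]
    {d : ℕ} (hd : (maximalIdeal (Localization.AtPrime p)).spanFinrank = d) (e : ℕ) (he : 0 < e)
    (π : Fin d → P)
    (hπ : Ideal.span (Set.range fun i => algebraMap P (Localization.AtPrime p) (π i)) =
      maximalIdeal (Localization.AtPrime p)) (i : Fin d) :
    ∃ s ∈ p.primeCompl, QS (Function.update π i (s * π i)) e i := by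
  classical
  have hex : ∀ S : Finset (Fin d), ∃ s ∈ p.primeCompl, ∀ y : P,
      algebraMap P (Localization.AtPrime p) y ∈
        (Ideal.span ((fun j => π j ^ e) '' (S : Set (Fin d)))).map
          (algebraMap P (Localization.AtPrime p)) →
      s * y ∈ Ideal.span ((fun j => π j ^ e) '' (S : Set (Fin d))) :=
    fun S => exists_forall_mul_mem p _
  choose sS hsS hsS' using hex
  refine ⟨∏ S : Finset (Fin d), sS S, Submonoid.prod_mem _ (fun S _ => hsS S), ?_⟩
  set s := ∏ S : Finset (Fin d), sS S with hs
  have hsu : IsUnit (algebraMap P (Localization.AtPrime p) s) :=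
    isUnit_algebraMap_of_mem_primeCompl p s (Submonoid.prod_mem _ (fun S _ => hsS S))
  intro S hiS z hz
  rw [Function.update_self] at hz ⊢
  -- the ideal does not involve index `i`
  have hset : (fun j => Function.update π i (s * π i) j ^ e) '' S = (fun j => π j ^ e) '' S := by
    apply Set.image_congr
    intro j hj
    have : j ≠ i := fun h => hiS (h ▸ hj)
    simp only [Function.update_of_ne this]
  rw [hset] at hz ⊢
  -- pass to the finset version of S
  obtain ⟨S', rfl⟩ : ∃ S' : Finset (Fin d), (S' : Set (Fin d)) = S :=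
    ⟨S.toFinite.toFinset, Set.Finite.coe_toFinset _⟩
  set a : Ideal P := Ideal.span ((fun j => π j ^ e) '' (S' : Set (Fin d))) with ha
  -- in the localization, z ∈ a P_p
  have hmap : a.map (algebraMap P (Localization.AtPrime p)) =
      Ideal.span ((fun j => (algebraMap P (Localization.AtPrime p) (π j)) ^ e) ''
        (S' : Set (Fin d))) := by
    rw [ha, Ideal.map_span, ← Set.image_comp]
    congr 1
    apply Set.image_congr
    intro j _
    simp
  have hzloc : algebraMap P (Localization.AtPrime p) z ∈
      a.map (algebraMap P (Localization.AtPrime p)) := by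
    rw [hmap]
    apply mem_span_image_pow_of_mul_mem hd _ hπ e he i _ hiS
    apply mem_span_image_pow_of_mul_mem hd _ hπ e he i _ hiS
    rw [← hmap]
    have h1 := Ideal.mem_map_of_mem (algebraMap P (Localization.AtPrime p)) hz
    have h2 : (s * π i) ^ 2 * z = s ^ 2 * (π i * (π i * z)) := by ring
    rw [h2, map_mul, Ideal.unit_mul_mem_iff_mem _ (by rw [map_pow]; exact hsu.pow 2),
      map_mul, map_mul] at h1
    exact h1
  have h3 := hsS' S' z hzloc
  obtain ⟨c, hc⟩ := Finset.dvd_prod_of_mem sS (Finset.mem_univ S')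
  rw [hs, hc]
  have : sS S' * c * π i * z = (c * π i) * (sS S' * z) := by ring
  rw [this]
  exact Ideal.mul_mem_left _ _ h3

/-- **Coefficient-level lemma**: starting from any lifts `π₀` of regular parameters of `P_p`, one
can rescale them by elements outside `p` so that all conditions `QS` (restricted to sets of
smaller indices) hold. -/
theorem exists_rescale_QS [IsNoetherianRing P] [IsRegularLocalRing (Localization.AtPrime p)]
    {d : ℕ} (hd : (maximalIdeal (Localization.AtPrime p)).spanFinrank = d) (e : ℕ) (he : 0 < e)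
    (π₀ : Fin d → P)
    (hπ₀ : Ideal.span (Set.range fun i => algebraMap P (Localization.AtPrime p) (π₀ i)) =
      maximalIdeal (Localization.AtPrime p)) :
    ∀ t : ℕ, t ≤ d → ∃ s : Fin d → P, (∀ i, s i ∈ p.primeCompl) ∧
      ∀ i : Fin d, (i : ℕ) < t → ∀ S : Set (Fin d), (∀ j ∈ S, j < i) → ∀ z : P,
        (s i * π₀ i) ^ 2 * z ∈ Ideal.span ((fun j => (s j * π₀ j) ^ e) '' S) →
        (s i * π₀ i) * z ∈ Ideal.span ((fun j => (s j * π₀ j) ^ e) '' S) := by
  classical
  intro t
  induction t with
  | zero =>
    intro _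
    exact ⟨fun _ => 1, fun _ => Submonoid.one_mem _, fun i hi => absurd hi (Nat.not_lt_zero _)⟩
  | succ t ih =>
    intro ht
    obtain ⟨s, hs, hQ⟩ := ih (by omega)
    let i₀ : Fin d := ⟨t, by omega⟩
    let π : Fin d → P := fun i => s i * π₀ i
    have hπ : Ideal.span (Set.range fun i => algebraMap P (Localization.AtPrime p) (π i)) =
        maximalIdeal (Localization.AtPrime p) := by
      rw [← hπ₀]
      have := span_range_mul_unit (fun i => algebraMap P (Localization.AtPrime p) (π₀ i))
        (fun i => algebraMap P (Localization.AtPrime p) (s i))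
        (fun i => isUnit_algebraMap_of_mem_primeCompl p (s i) (hs i))
      rw [← this]
      congr 2
      funext i
      simp only [π]
      rw [map_mul, mul_comm]
    obtain ⟨u, hu, hQu⟩ := exists_mul_QS p hd e he π hπ i₀
    let s' : Fin d → P := Function.update s i₀ (u * s i₀)
    have hs'π : (fun i => s' i * π₀ i) = Function.update π i₀ (u * π i₀) := by
      funext i
      by_cases h : i = i₀
      · subst h
        simp only [s', π, Function.update_self, mul_assoc]
      · simp only [s', π, Function.update_of_ne h]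
    refine ⟨s', ?_, ?_⟩
    · intro i
      by_cases h : i = i₀
      · subst h
        simp only [s', Function.update_self]
        exact Submonoid.mul_mem _ hu (hs _)
      · simp only [s', Function.update_of_ne h]
        exact hs i
    · intro i hi S hS z hz
      have hfun : ∀ j, s' j * π₀ j = (Function.update π i₀ (u * π i₀)) j := fun j =>
        congrFun hs'π j
      have himg : (fun j => (s' j * π₀ j) ^ e) '' S =
          (fun j => (Function.update π i₀ (u * π i₀)) j ^ e) '' S := by
        apply Set.image_congr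
        intro j _
        rw [hfun]
      rw [himg, hfun] at hz ⊢
      by_cases hit : i = i₀
      · subst hit
        exact hQu S (fun h => lt_irrefl _ (hS _ h)) z hz
      · have hlt : (i : ℕ) < t := by
          have : (i : ℕ) ≠ t := fun h => hit (Fin.ext h)
          omega
        have himg2 : (fun j => (Function.update π i₀ (u * π i₀)) j ^ e) '' S =
            (fun j => (s j * π₀ j) ^ e) '' S := by
          apply Set.image_congr
          intro j hj
          have hji : j ≠ i₀ := by
            intro h
            have h1 : (j : ℕ) < (i : ℕ) := hS j hj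
            rw [h] at h1
            simp only [i₀] at h1
            omega
          simp only [Function.update_of_ne hji, π]
        rw [himg2, Function.update_of_ne hit] at hz ⊢
        exact hQ i hlt S hS z hz

/-- The polynomial-level annihilator condition for `g_i = C (π i) * X i`. -/
def PolyQ {d : ℕ} (π : Fin d → P) (e : ℕ) : Prop :=
  ∀ (i : Fin d) (y : MvPolynomial (Fin d) P),
    (C (π i) * X i) ^ 2 * y ∈
      Ideal.span ((fun j => (C (π j) * X j : MvPolynomial (Fin d) P) ^ e) '' {j | j < i}) →
    (C (π i) * X i) * y ∈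
      Ideal.span ((fun j => (C (π j) * X j : MvPolynomial (Fin d) P) ^ e) '' {j | j < i})

/-- Range-over-subtype form of `PolyQ`. -/
theorem PolyQ.range {d : ℕ} {π : Fin d → P} {e : ℕ} (h : PolyQ π e) (i : Fin d)
    (y : MvPolynomial (Fin d) P)
    (hy : (C (π i) * X i) ^ 2 * y ∈ Ideal.span (Set.range fun j : {j : Fin d // j < i} =>
      (C (π j) * X (j : Fin d) : MvPolynomial (Fin d) P) ^ e)) :
    (C (π i) * X i) * y ∈ Ideal.span (Set.range fun j : {j : Fin d // j < i} =>
      (C (π j) * X (j : Fin d) : MvPolynomial (Fin d) P) ^ e) := by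
  have hr : (Set.range fun j : {j : Fin d // j < i} =>
      (C (π j) * X (j : Fin d) : MvPolynomial (Fin d) P) ^ e) =
      (fun j => (C (π j) * X j : MvPolynomial (Fin d) P) ^ e) '' {j | j < i} := by
    ext x
    constructor
    · rintro ⟨⟨j, hj⟩, rfl⟩; exact ⟨j, hj, rfl⟩
    · rintro ⟨j, hj, rfl⟩; exact ⟨⟨j, hj⟩, rfl⟩
  rw [hr] at hy ⊢
  exact h i y hy

/-- **Lemma (B), rescaling form.** `P` Noetherian, `P_p` regular local of embedding dimension `d`,
`π₀` any lifts of regular parameters.  Then there are `s i ∉ p` such that `π i = s i * π₀ i`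
satisfies the polynomial-level annihilator condition. -/
theorem exists_rescale_polyQ [IsNoetherianRing P] [IsRegularLocalRing (Localization.AtPrime p)]
    {d : ℕ} (hd : (maximalIdeal (Localization.AtPrime p)).spanFinrank = d) (e : ℕ) (he : 0 < e)
    (π₀ : Fin d → P)
    (hπ₀ : Ideal.span (Set.range fun i => algebraMap P (Localization.AtPrime p) (π₀ i)) =
      maximalIdeal (Localization.AtPrime p)) :
    ∃ s : Fin d → P, (∀ i, s i ∈ p.primeCompl) ∧ PolyQ (fun i => s i * π₀ i) e := by
  obtain ⟨s, hs, hQ⟩ := exists_rescale_QS p hd e he π₀ hπ₀ d le_rfl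
  refine ⟨s, hs, ?_⟩
  intro i y hy
  refine poly_of_coeff (fun i => s i * π₀ i) e {j | j < i} i (fun h => lt_irrefl i h) ?_ y hy
  intro S hS z hz
  exact hQ i i.2 S (fun j hj => hS hj) z hz

/-- **Lemma (B), with helper87's property `P`** (`π` lifts regular parameters of `P_p` and
`π i ^ n ∈ I`). -/
theorem exists_P_polyQ [IsNoetherianRing P] (I : Ideal P) (n e d : ℕ) (hn : 0 < n) (he : 0 < e)
    (hpow : (p ^ n).map (algebraMap P (Localization.AtPrime p)) ≤
      I.map (algebraMap P (Localization.AtPrime p)))
    [IsRegularLocalRing (Localization.AtPrime p)]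
    (hd : (maximalIdeal (Localization.AtPrime p)).spanFinrank = d) :
    ∃ π : Fin d → P, Groth.Agent.Lib.Helper87.Smoothing.P p I n d π ∧ PolyQ π e := by
  obtain ⟨π₀, hP⟩ := exists_P p I n d hn hpow hd
  have hπ₀ : Ideal.span (Set.range fun i => algebraMap P (Localization.AtPrime p) (π₀ i)) =
      maximalIdeal (Localization.AtPrime p) := by
    rw [hP.1, Localization.AtPrime.map_eq_maximalIdeal]
  obtain ⟨s, hs, hQ⟩ := exists_rescale_polyQ p hd e he π₀ hπ₀
  exact ⟨fun i => s i * π₀ i, P_mul p hP s hs, hQ⟩

/-- **Lemma (B)** as stated by helper81. -/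
theorem exists_params_polyQ [IsNoetherianRing P] [IsRegularLocalRing (Localization.AtPrime p)]
    (d e : ℕ) (he : 0 < e) (hd : (maximalIdeal (Localization.AtPrime p)).spanFinrank = d) :
    ∃ π : Fin d → P, (∀ i, π i ∈ p) ∧
      Ideal.span (Set.range fun i => algebraMap P (Localization.AtPrime p) (π i)) =
        maximalIdeal (Localization.AtPrime p) ∧
      ∀ (i : Fin d) (y : MvPolynomial (Fin d) P),
        (C (π i) * X i) ^ 2 * y ∈ Ideal.span (Set.range fun j : {j : Fin d // j < i} =>
          (C (π j) * X (j : Fin d) : MvPolynomial (Fin d) P) ^ e) →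
        (C (π i) * X i) * y ∈ Ideal.span (Set.range fun j : {j : Fin d // j < i} =>
          (C (π j) * X (j : Fin d) : MvPolynomial (Fin d) P) ^ e) := by
  obtain ⟨π, hP, hQ⟩ := exists_P_polyQ p ⊤ 1 e d Nat.one_pos he (by
    rw [Ideal.map_top]; exact le_top) hd
  have hspan : Ideal.span (Set.range fun i => algebraMap P (Localization.AtPrime p) (π i)) =
      maximalIdeal (Localization.AtPrime p) := by
    rw [hP.1, Localization.AtPrime.map_eq_maximalIdeal]
  refine ⟨π, ?_, hspan, fun i y hy => hQ.range i y hy⟩
  intro i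
  rw [← IsLocalization.AtPrime.to_map_mem_maximal_iff (Localization.AtPrime p) p, ← hspan]
  exact Ideal.subset_span ⟨i, rfl⟩

end Loc

end Groth.Agent.Lib.Helper86.AnnPoly

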