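import Mathlib

set_option autoImplicit false
set_option linter.unusedSectionVars false
universe u v

open TensorProduct Coalgebra Bialgebra

namespace Groth.Agent.Lib.Helper86.HopfDer

section Basic

variable {k : Type u} [CommRing k] {A : Type v} [CommRing A] [Bialgebra k A]

/-- `ε`-derivations `A → k` (point derivations at the unit). -/
def IsEpsDer (d : A →ₗ[k] k) : Prop :=
  ∀ a b : A, d (a * b) = counit (R := k) a * d b + d a * counit (R := k) b

/-- `a ⊗ b ↦ d b • a`. -/
noncomputable def sliceR (d : A →ₗ[k] k) : A ⊗[k] A →ₗ[k] A :=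
  (TensorProduct.rid k A).toLinearMap ∘ₗ (d.lTensor A)

@[simp] lemma sliceR_tmul (d : A →ₗ[k] k) (a b : A) : sliceR d (a ⊗ₜ[k] b) = d b • a := by
  simp [sliceR]

lemma sliceR_counit_comul (a : A) : sliceR (counit (R := k) (A := A)) (comul a) = a := by
  rw [sliceR, LinearMap.comp_apply, Coalgebra.lTensor_counit_comul]
  simp

lemma sliceR_mul {d : A →ₗ[k] k} (hd : IsEpsDer d) (u v : A ⊗[k] A) :
    sliceR d (u * v) = sliceR d u * sliceR (counit (R := k) (A := A)) v +
      sliceR (counit (R := k) (A := A)) u * sliceR d v := by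
  induction u using TensorProduct.induction_on with
  | zero => simp
  | add u₁ u₂ h₁ h₂ => simp only [add_mul, map_add, h₁, h₂]; ring
  | tmul a b =>
    induction v using TensorProduct.induction_on with
    | zero => simp
    | add v₁ v₂ h₁ h₂ => simp only [mul_add, map_add, h₁, h₂]; ring
    | tmul a' b' =>
      simp only [Algebra.TensorProduct.tmul_mul_tmul, sliceR_tmul, hd b b']
      simp only [add_smul, mul_smul, smul_mul_smul_comm, Algebra.smul_def, map_mul, map_add]
      ring

/-- the left-invariant derivation attached to an `ε`-derivation. -/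
noncomputable def invDer (d : A →ₗ[k] k) (hd : IsEpsDer d) : Derivation k A A :=
  Derivation.mk' (sliceR d ∘ₗ (comul (R := k) (A := A))) (by
    intro a b
    simp only [LinearMap.comp_apply, Bialgebra.comul_mul, sliceR_mul hd, sliceR_counit_comul,
      smul_eq_mul]
    ring)

lemma invDer_apply (d : A →ₗ[k] k) (hd : IsEpsDer d) (a : A) :
    invDer d hd a = sliceR d (comul a) := rfl

lemma counit_sliceR (d : A →ₗ[k] k) (u : A ⊗[k] A) :
    counit (R := k) (sliceR d u) =
      d (TensorProduct.lid k A ((counit (R := k) (A := A)).rTensor A u)) := by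
  induction u using TensorProduct.induction_on with
  | zero => simp
  | add u₁ u₂ h₁ h₂ => simp only [map_add, h₁, h₂]
  | tmul a b => simp [mul_comm]

lemma counit_invDer (d : A →ₗ[k] k) (hd : IsEpsDer d) (a : A) :
    counit (R := k) (invDer d hd a) = d a := by
  rw [invDer_apply, counit_sliceR, Coalgebra.rTensor_counit_comul]
  simp

end Basic

end Groth.Agent.Lib.Helper86.HopfDer
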