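import Mathlib

set_option autoImplicit false
universe u v w w'
open Polynomial

open TensorProduct Algebra Coalgebra Bialgebra HopfAlgebra WithConv

namespace Groth.Agent.Lib.Helper86.HopfInv

section Conv

variable {k : Type u} [CommRing k] {A : Type v} [CommRing A] [HopfAlgebra k A]
  {T : Type w} [CommRing T] [Algebra k T]

lemma conv_antipode_mul (f : A →ₐ[k] T) :
    toConv (f.comp (antipodeAlgHom k A)) * toConv f = 1 := by
  apply WithConv.ofConv_injective
  apply AlgHom.toLinearMap_injective
  apply WithConv.toConv_injective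
  rw [AlgHom.toLinearMap_convMul, AlgHom.toLinearMap_convOne]
  have h := LinearMap.algHom_comp_convMul_distrib f (toConv (antipode k (A := A)))
    (toConv (LinearMap.id))
  rw [LinearMap.antipode_mul_id] at h
  simp only [AlgHom.comp_toLinearMap, toLinearMap_antipodeAlgHom,
    LinearMap.comp_id] at h ⊢
  rw [← toConv_ofConv (toConv (f.toLinearMap ∘ₗ antipode k) * toConv f.toLinearMap), ← h]
  apply WithConv.ofConv_injective
  ext a
  simp [LinearMap.convOne_def]

lemma conv_mul_antipode (f : A →ₐ[k] T) :
    toConv f * toConv (f.comp (antipodeAlgHom k A)) = 1 := by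
  apply WithConv.ofConv_injective
  apply AlgHom.toLinearMap_injective
  apply WithConv.toConv_injective
  rw [AlgHom.toLinearMap_convMul, AlgHom.toLinearMap_convOne]
  have h := LinearMap.algHom_comp_convMul_distrib f (toConv (LinearMap.id))
    (toConv (antipode k (A := A)))
  rw [LinearMap.id_mul_antipode] at h
  simp only [AlgHom.comp_toLinearMap, toLinearMap_antipodeAlgHom,
    LinearMap.comp_id] at h ⊢
  rw [← toConv_ofConv (toConv f.toLinearMap * toConv (f.toLinearMap ∘ₗ antipode k)), ← h]
  apply WithConv.ofConv_injective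
  ext a
  simp [LinearMap.convOne_def]

end Conv

section Shear

variable (k : Type u) [CommRing k] (A : Type v) [CommRing A] [HopfAlgebra k A]
  (S : Type w) [CommRing S] [Algebra k S] (j : A →ₐ[k] S)

/-- generalized shear map `s ⊗ a ↦ (s ⊗ 1) * (j ⊗ id) (Δ a)`. -/
noncomputable def gshear : S ⊗[k] A →ₐ[S] S ⊗[k] A :=
  Algebra.TensorProduct.lift (Algebra.ofId S (S ⊗[k] A))
    ((Algebra.TensorProduct.map j (AlgHom.id k A)).comp (comulAlgHom k A))
    (fun _ _ => Commute.all _ _)

/-- the conv-factor `a ↦ j a ⊗ 1` -/
noncomputable def qL : A →ₐ[k] S ⊗[k] A :=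
  (Algebra.TensorProduct.includeLeft : S →ₐ[k] S ⊗[k] A).comp j

/-- the conv-factor `a ↦ 1 ⊗ a` -/
noncomputable def qR : A →ₐ[k] S ⊗[k] A :=
  (Algebra.TensorProduct.includeRight : A →ₐ[k] S ⊗[k] A)

lemma lmul'_comp_map_incl : (Algebra.TensorProduct.lmul' k).comp
    (Algebra.TensorProduct.map (qL k A S j) (qR k A S)) =
      Algebra.TensorProduct.map j (AlgHom.id k A) := by
  ext <;> simp [qL, qR]

lemma map_comul_eq_conv : (Algebra.TensorProduct.map j (AlgHom.id k A)).comp (comulAlgHom k A)
    = (toConv (qL k A S j) * toConv (qR k A S)).ofConv := by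
  rw [AlgHom.convMul_def]
  simp only [ofConv_toConv]
  rw [← AlgHom.comp_assoc, lmul'_comp_map_incl]

lemma gshear_comp_qL (j j' : A →ₐ[k] S) : ((gshear k A S j).restrictScalars k).comp
    (qL k A S j') = qL k A S j' := by
  ext x
  simp [gshear, qL]

lemma gshear_comp_qR : ((gshear k A S j).restrictScalars k).comp (qR k A S) =
    (toConv (qL k A S j) * toConv (qR k A S)).ofConv := by
  rw [← map_comul_eq_conv, gshear, qR, Algebra.TensorProduct.lift_comp_includeRight]

lemma qL_comp_antipode : qL k A S (j.comp (antipodeAlgHom k A)) =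
    (qL k A S j).comp (antipodeAlgHom k A) := by
  simp only [qL, AlgHom.comp_assoc]

lemma gshear_comp_gshear_antipode :
    (gshear k A S j).comp (gshear k A S (j.comp (antipodeAlgHom k A))) = AlgHom.id S _ := by
  apply Algebra.TensorProduct.ext
  · ext
  · change ((gshear k A S j).restrictScalars k).comp
      (((gshear k A S (j.comp (antipodeAlgHom k A))).restrictScalars k).comp (qR k A S)) =
        qR k A S
    rw [gshear_comp_qR, AlgHom.comp_convMul_distrib]
    simp only [ofConv_toConv, gshear_comp_qL, gshear_comp_qR, toConv_ofConv]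
    rw [← mul_assoc, qL_comp_antipode, conv_antipode_mul, one_mul, ofConv_toConv]

lemma gshear_antipode_comp_gshear :
    (gshear k A S (j.comp (antipodeAlgHom k A))).comp (gshear k A S j) = AlgHom.id S _ := by
  apply Algebra.TensorProduct.ext
  · ext
  · change ((gshear k A S (j.comp (antipodeAlgHom k A))).restrictScalars k).comp
      (((gshear k A S j).restrictScalars k).comp (qR k A S)) = qR k A S
    rw [gshear_comp_qR, AlgHom.comp_convMul_distrib]
    simp only [ofConv_toConv, gshear_comp_qL, gshear_comp_qR, toConv_ofConv]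
    rw [← mul_assoc, qL_comp_antipode, conv_mul_antipode, one_mul, ofConv_toConv]

/-- the shear as an algebra equivalence -/
noncomputable def gshearEquiv : S ⊗[k] A ≃ₐ[S] S ⊗[k] A :=
  AlgEquiv.ofAlgHom (gshear k A S j) (gshear k A S (j.comp (antipodeAlgHom k A)))
    (gshear_comp_gshear_antipode k A S j) (gshear_antipode_comp_gshear k A S j)

@[simp] lemma gshearEquiv_apply (x : S ⊗[k] A) : gshearEquiv k A S j x = gshear k A S j x := rfl

lemma gshear_tmul (s : S) (a : A) : gshear k A S j (s ⊗ₜ a) =
    (s ⊗ₜ[k] (1 : A)) * Algebra.TensorProduct.map j (AlgHom.id k A) (comul (R := k) a) := by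
  simp [gshear]

end Shear

section Chi

variable (k : Type u) [CommRing k] (A : Type v) [CommRing A] [Algebra k A]
  [Module.Free k A] [Module.Finite k A]
  (B : Type w) [CommRing B] [Algebra k B]

/-- characteristic polynomial of multiplication by `w` on the free `B`-module `B ⊗ A`. -/
noncomputable def chi (w : B ⊗[k] A) : B[X] :=
  (LinearMap.mulLeft B w).charpoly

lemma chi_monic (w : B ⊗[k] A) : (chi k A B w).Monic := LinearMap.charpoly_monic _

lemma aeval_chi (w : B ⊗[k] A) : Polynomial.aeval w (chi k A B w) = 0 := by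
  have h := LinearMap.aeval_self_charpoly (LinearMap.mulLeft B w)
  have h2 : LinearMap.mulLeft B w = Algebra.lmul B (B ⊗[k] A) w := rfl
  rw [show (LinearMap.mulLeft B w).charpoly = chi k A B w from rfl, h2,
    Polynomial.aeval_algHom_apply] at h
  have := LinearMap.congr_fun h 1
  simpa using this

variable {B}
variable {B' : Type w'} [CommRing B'] [Algebra k B']

omit [Module.Free k A] [Module.Finite k A] in
lemma repr_map (ι : Type*) [Fintype ι] [DecidableEq ι] (b : Module.Basis ι k A) (f : B →ₐ[k] B')
    (x : B ⊗[k] A) (i : ι) :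
    (Algebra.TensorProduct.basis B' b).repr (Algebra.TensorProduct.map f (AlgHom.id k A) x) i =
      f ((Algebra.TensorProduct.basis B b).repr x i) := by
  induction x using TensorProduct.induction_on with
  | zero => simp
  | tmul c a =>
    simp only [Algebra.TensorProduct.map_tmul, AlgHom.coe_id, id_eq,
      Algebra.TensorProduct.basis_repr_tmul, Finsupp.coe_smul, Pi.smul_apply,
      Finsupp.mapRange_apply, smul_eq_mul, map_mul, AlgHom.commutes]
  | add x y hx hy => simp only [map_add, Finsupp.coe_add, Pi.add_apply, hx, hy]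

lemma chi_map (f : B →ₐ[k] B') (w : B ⊗[k] A) :
    chi k A B' (Algebra.TensorProduct.map f (AlgHom.id k A) w) = (chi k A B w).map f := by
  classical
  let b := Module.Free.chooseBasis k A
  rw [chi, chi, ← LinearMap.charpoly_toMatrix _ (Algebra.TensorProduct.basis B' b),
    ← LinearMap.charpoly_toMatrix _ (Algebra.TensorProduct.basis B b),
    ← Matrix.charpoly_map]
  congr 1
  ext i l
  simp only [LinearMap.toMatrix_apply, LinearMap.mulLeft_apply, Matrix.map_apply,
    RingHom.coe_coe, Algebra.TensorProduct.basis_apply]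
  rw [← repr_map]
  simp

end Chi

end Groth.Agent.Lib.Helper86.HopfInv
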