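import Mathlib

/-!
# Hopf algebra structure on a Hopf subalgebra (over a field)

For a commutative Hopf algebra `A` over a field `k` and a subalgebra `B` with `Δ B ⊆ B ⊗ B` and
`S B ⊆ B`, we construct `HopfAlgebra k B` such that the inclusion is compatible with all the
structure.
-/

set_option autoImplicit false
set_option linter.unusedSectionVars false
set_option linter.style.haveILetI false
universe u v

open TensorProduct

namespace Groth.Agent.Lib.Helper86.HopfSub

variable (k : Type u) [Field k] (A : Type v) [CommRing A] [HopfAlgebra k A] (B : Subalgebra k A)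

/-- `B ⊗ B → A ⊗ A`. -/
noncomputable abbrev jj : B ⊗[k] B →ₐ[k] A ⊗[k] A := Algebra.TensorProduct.map B.val B.val

lemma jj_injective : Function.Injective (jj k A B) :=
  TensorProduct.map_injective_of_flat_flat (R := k) B.val.toLinearMap B.val.toLinearMap
    Subtype.val_injective Subtype.val_injective

/-- `B ⊗ (B ⊗ B) → A ⊗ (A ⊗ A)`. -/
noncomputable abbrev jjj : B ⊗[k] (B ⊗[k] B) →ₐ[k] A ⊗[k] (A ⊗[k] A) :=
  Algebra.TensorProduct.map B.val (jj k A B)

lemma jjj_injective : Function.Injective (jjj k A B) :=
  TensorProduct.map_injective_of_flat_flat (R := k) B.val.toLinearMap (jj k A B).toLinearMap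
    Subtype.val_injective (jj_injective k A B)

/-- `B` is a Hopf subalgebra. -/
structure IsHopfSub : Prop where
  comul_mem : ∀ b ∈ B, Bialgebra.comulAlgHom k A b ∈ (jj k A B).range
  antipode_mem : ∀ b ∈ B, HopfAlgebra.antipode k b ∈ B

variable {k A B}
variable (h : IsHopfSub k A B)

/-- comultiplication of `B`. -/
noncomputable def comulB : B →ₐ[k] B ⊗[k] B :=
  ((AlgEquiv.ofInjective (jj k A B) (jj_injective k A B)).symm : (jj k A B).range →ₐ[k] _).comp
    (((Bialgebra.comulAlgHom k A).comp B.val).codRestrict (jj k A B).range
      (fun b => h.comul_mem b b.2))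

lemma jj_comulB (b : B) : jj k A B (comulB h b) = Bialgebra.comulAlgHom k A (b : A) := by
  have := (AlgEquiv.ofInjective (jj k A B) (jj_injective k A B)).apply_symm_apply
    ⟨Bialgebra.comulAlgHom k A (b : A), h.comul_mem b b.2⟩
  exact congrArg Subtype.val this

/-- counit of `B`. -/
noncomputable def counitB : B →ₐ[k] k := (Bialgebra.counitAlgHom k A).comp B.val

/-- antipode of `B`. -/
noncomputable def antipodeB : B →ₐ[k] B :=
  ((HopfAlgebra.antipodeAlgHom k A).comp B.val).codRestrict B (fun b => h.antipode_mem b b.2)

lemma coe_antipodeB (b : B) : (antipodeB h b : A) = HopfAlgebra.antipode k (b : A) := rfl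

section Axioms

lemma assoc_nat (y : B ⊗[k] B) (b : B) :
    jjj k A B (Algebra.TensorProduct.assoc k k k B B B (y ⊗ₜ b)) =
      Algebra.TensorProduct.assoc k k k A A A (jj k A B y ⊗ₜ (b : A)) := by
  induction y using TensorProduct.induction_on with
  | zero => simp
  | tmul c1 c2 => rfl
  | add x y hx hy => simp only [add_tmul, map_add, hx, hy]

lemma coassocB :
    (Algebra.TensorProduct.assoc k k k B B B).toAlgHom.comp
      ((Algebra.TensorProduct.map (comulB h) (.id k B)).comp (comulB h))
      = (Algebra.TensorProduct.map (.id k B) (comulB h)).comp (comulB h) := by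
  apply AlgHom.ext
  intro b
  apply jjj_injective k A B
  have hL : ∀ x : B ⊗[k] B, jjj k A B (Algebra.TensorProduct.assoc k k k B B B
      (Algebra.TensorProduct.map (comulB h) (.id k B) x)) =
      TensorProduct.assoc k A A A ((Coalgebra.comul (R := k) (A := A)).rTensor A (jj k A B x)) := by
    intro x
    induction x using TensorProduct.induction_on with
    | zero => simp
    | tmul b1 b2 =>
      rw [Algebra.TensorProduct.map_tmul, AlgHom.id_apply, assoc_nat, jj_comulB]
      rfl
    | add x y hx hy => simp only [map_add, hx, hy]
  have hR : ∀ x : B ⊗[k] B, jjj k A B (Algebra.TensorProduct.map (.id k B) (comulB h) x) =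
      (Coalgebra.comul (R := k) (A := A)).lTensor A (jj k A B x) := by
    intro x
    induction x using TensorProduct.induction_on with
    | zero => simp
    | tmul b1 b2 =>
      rw [Algebra.TensorProduct.map_tmul, AlgHom.id_apply, Algebra.TensorProduct.map_tmul,
        jj_comulB]
      rfl
    | add x y hx hy => simp only [map_add, hx, hy]
  show jjj k A B (Algebra.TensorProduct.assoc k k k B B B
      (Algebra.TensorProduct.map (comulB h) (.id k B) (comulB h b))) =
    jjj k A B (Algebra.TensorProduct.map (.id k B) (comulB h) (comulB h b))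
  rw [hL, hR, jj_comulB]
  exact Coalgebra.coassoc_apply (R := k) (b : A)

lemma rTensorB :
    (Algebra.TensorProduct.map (counitB (k := k) (A := A) (B := B)) (.id k B)).comp (comulB h)
      = (Algebra.TensorProduct.lid k B).symm := by
  apply AlgHom.ext
  intro b
  have hinj : Function.Injective (Algebra.TensorProduct.map (AlgHom.id k k) B.val) :=
    Module.Flat.lTensor_preserves_injective_linearMap (M := k) B.val.toLinearMap
      Subtype.val_injective
  apply hinj
  have hL : ∀ x : B ⊗[k] B, Algebra.TensorProduct.map (AlgHom.id k k) B.val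
      (Algebra.TensorProduct.map (counitB (k := k) (A := A) (B := B)) (.id k B) x) =
      (Coalgebra.counit (R := k) (A := A)).rTensor A (jj k A B x) := by
    intro x
    induction x using TensorProduct.induction_on with
    | zero => simp
    | tmul b1 b2 => rfl
    | add x y hx hy => simp only [map_add, hx, hy]
  show Algebra.TensorProduct.map (AlgHom.id k k) B.val
      (Algebra.TensorProduct.map (counitB (k := k) (A := A) (B := B)) (.id k B) (comulB h b)) = _
  rw [hL, jj_comulB]
  exact Coalgebra.rTensor_counit_comul (R := k) (b : A)

lemma lTensorB :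
    (Algebra.TensorProduct.map (.id k B) (counitB (k := k) (A := A) (B := B))).comp (comulB h)
      = (Algebra.TensorProduct.rid k k B).symm := by
  apply AlgHom.ext
  intro b
  have hinj : Function.Injective (Algebra.TensorProduct.map B.val (AlgHom.id k k)) :=
    Module.Flat.rTensor_preserves_injective_linearMap (M := k) B.val.toLinearMap
      Subtype.val_injective
  apply hinj
  have hL : ∀ x : B ⊗[k] B, Algebra.TensorProduct.map B.val (AlgHom.id k k)
      (Algebra.TensorProduct.map (.id k B) (counitB (k := k) (A := A) (B := B)) x) =
      (Coalgebra.counit (R := k) (A := A)).lTensor A (jj k A B x) := by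
    intro x
    induction x using TensorProduct.induction_on with
    | zero => simp
    | tmul b1 b2 => rfl
    | add x y hx hy => simp only [map_add, hx, hy]
  show Algebra.TensorProduct.map B.val (AlgHom.id k k)
      (Algebra.TensorProduct.map (.id k B) (counitB (k := k) (A := A) (B := B)) (comulB h b)) = _
  rw [hL, jj_comulB]
  exact Coalgebra.lTensor_counit_comul (R := k) (b : A)

end Axioms


section Instances

/-- the bialgebra structure on a Hopf subalgebra. -/
@[reducible] noncomputable def bialgebraB : Bialgebra k B :=
  Bialgebra.ofAlgHom (comulB h) counitB (coassocB h) (rTensorB h) (lTensorB h)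

lemma antipode_rTensorB :
    letI := bialgebraB h
    ((Algebra.TensorProduct.lift (antipodeB h) (.id k B) fun _ ↦ Commute.all _).comp
        (Bialgebra.comulAlgHom k B)) = (Algebra.ofId k B).comp (Bialgebra.counitAlgHom k B) := by
  letI := bialgebraB h
  apply AlgHom.ext
  intro b
  apply Subtype.val_injective
  have hL : ∀ x : B ⊗[k] B,
      ((Algebra.TensorProduct.lift (antipodeB h) (.id k B) fun _ ↦ Commute.all _) x : A) =
      LinearMap.mul' k A ((HopfAlgebra.antipode k (A := A)).rTensor A (jj k A B x)) := by
    intro x
    induction x using TensorProduct.induction_on with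
    | zero => simp
    | tmul b1 b2 => rfl
    | add x y hx hy => simp only [map_add, Subalgebra.coe_add, hx, hy]
  show ((Algebra.TensorProduct.lift (antipodeB h) (.id k B) fun _ ↦ Commute.all _)
    (comulB h b) : A) = _
  rw [hL, jj_comulB]
  exact HopfAlgebra.mul_antipode_rTensor_comul_apply (R := k) (b : A)

lemma antipode_lTensorB :
    letI := bialgebraB h
    ((Algebra.TensorProduct.lift (.id k B) (antipodeB h) fun _ _ ↦ Commute.all _ _).comp
        (Bialgebra.comulAlgHom k B)) = (Algebra.ofId k B).comp (Bialgebra.counitAlgHom k B) := by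
  letI := bialgebraB h
  apply AlgHom.ext
  intro b
  apply Subtype.val_injective
  have hL : ∀ x : B ⊗[k] B,
      ((Algebra.TensorProduct.lift (.id k B) (antipodeB h) fun _ _ ↦ Commute.all _ _) x : A) =
      LinearMap.mul' k A ((HopfAlgebra.antipode k (A := A)).lTensor A (jj k A B x)) := by
    intro x
    induction x using TensorProduct.induction_on with
    | zero => simp
    | tmul b1 b2 => rfl
    | add x y hx hy => simp only [map_add, Subalgebra.coe_add, hx, hy]
  show ((Algebra.TensorProduct.lift (.id k B) (antipodeB h) fun _ _ ↦ Commute.all _ _)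
    (comulB h b) : A) = _
  rw [hL, jj_comulB]
  exact HopfAlgebra.mul_antipode_lTensor_comul_apply (R := k) (b : A)

/-- the Hopf algebra structure on a Hopf subalgebra. -/
@[reducible] noncomputable def hopfAlgebraB : HopfAlgebra k B :=
  letI := bialgebraB h
  HopfAlgebra.ofAlgHom (antipodeB h) (antipode_rTensorB h) (antipode_lTensorB h)

lemma counit_eq (b : B) :
    letI := hopfAlgebraB h
    Coalgebra.counit (R := k) b = Coalgebra.counit (R := k) (b : A) := rfl

lemma counitAlgHom_eq (b : B) :
    letI := hopfAlgebraB h
    Bialgebra.counitAlgHom k B b = Bialgebra.counitAlgHom k A (b : A) := rfl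

lemma map_comul (b : B) :
    letI := hopfAlgebraB h
    jj k A B (Coalgebra.comul (R := k) b) = Coalgebra.comul (R := k) (b : A) :=
  jj_comulB h b

lemma coe_antipode (b : B) :
    letI := hopfAlgebraB h
    ((HopfAlgebra.antipode k b : B) : A) = HopfAlgebra.antipode k (b : A) := rfl

end Instances


end Groth.Agent.Lib.Helper86.HopfSub
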