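import Mathlib

set_option autoImplicit false
set_option linter.unusedSectionVars false
universe u v

open MvPolynomial

namespace Groth.Agent.Lib.Helper86.HopfDer

section Chain

variable {k : Type u} [CommRing k] {A : Type v} [CommRing A] [Algebra k A]
  {σ : Type} [Fintype σ] [DecidableEq σ]

/-- chain rule for a derivation applied to a polynomial expression. -/
lemma der_aeval (D : Derivation k A A) (x : σ → A) (f : MvPolynomial σ k) :
    D (aeval x f) = ∑ i, aeval x (pderiv i f) * D (x i) := by
  induction f using MvPolynomial.induction_on with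
  | C a => simp
  | add f g hf hg => simp only [map_add, hf, hg, add_mul, Finset.sum_add_distrib]
  | mul_X f j hf =>
    have h1 : ∀ i, aeval x (pderiv i (f * X j)) =
        aeval x (pderiv i f) * x j + aeval x f * (if i = j then 1 else 0) := by
      intro i
      rw [Derivation.leibniz, pderiv_X]
      by_cases hij : i = j
      · subst hij; simp [mul_comm, add_comm]
      · simp [hij, Ne.symm hij, mul_comm]
    rw [map_mul, aeval_X, Derivation.leibniz, hf]
    simp only [h1, add_mul, Finset.sum_add_distrib, smul_eq_mul]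
    rw [add_comm]
    congr 1
    · rw [Finset.mul_sum]
      refine Finset.sum_congr rfl fun i _ => by ring
    · rw [Finset.sum_eq_single j]
      · simp
      · intro i _ hij
        simp [hij]
      · simp

/-- a derivation lowers the `I`-adic order by at most one. -/
lemma der_pow_mem (D : Derivation k A A) (I : Ideal A) (m : ℕ) {a : A} (ha : a ∈ I ^ (m + 1)) :
    D a ∈ I ^ m := by
  induction m generalizing a with
  | zero => simp
  | succ m ih =>
    rw [pow_succ] at ha
    refine Submodule.mul_induction_on ha ?_ ?_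
    · intro b hb c hc
      rw [Derivation.leibniz]
      refine Ideal.add_mem _ ?_ ?_
      · rw [smul_eq_mul]; exact Ideal.mul_mem_right _ _ hb
      · have := Ideal.mul_mem_mul (ih hb) hc
        rw [← pow_succ] at this
        rwa [smul_eq_mul, mul_comm]
    · intro b c hb hc
      rw [map_add]; exact Ideal.add_mem _ hb hc

/-- coefficientwise homogeneity. -/
def Hom (f : MvPolynomial σ k) (m : ℕ) : Prop := ∀ α, coeff α f ≠ 0 → α.degree = m

lemma aeval_mem_pow (x : σ → A) (I : Ideal A) (hx : ∀ i, x i ∈ I) {f : MvPolynomial σ k} {m : ℕ}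
    (hf : Hom f m) : aeval x f ∈ I ^ m := by
  rw [f.as_sum, map_sum]
  refine Ideal.sum_mem _ fun α hα => ?_
  rw [aeval_monomial]
  refine Ideal.mul_mem_left _ _ ?_
  have hdeg : α.degree = m := hf α (mem_support_iff.1 hα)
  rw [← hdeg, Finsupp.degree_apply, ← Finset.prod_pow_eq_pow_sum, Finsupp.prod]
  exact Ideal.prod_mem_prod fun i _ => Ideal.pow_mem_pow (hx i) _

end Chain

section Indep

variable {k : Type u} [Field k] (p : ℕ) [Fact p.Prime] [CharP k p] {A : Type v} [CommRing A]
  [Algebra k A] {σ : Type} [Fintype σ] [DecidableEq σ]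

/-- all exponents `< p`. -/
def Box (f : MvPolynomial σ k) (p : ℕ) : Prop := ∀ α, coeff α f ≠ 0 → ∀ i, α i < p

lemma box_pderiv {f : MvPolynomial σ k} (hf : Box f p) (j : σ) : Box (pderiv j f) p := by
  intro β hβ i
  rw [coeff_pderiv] at hβ
  have h1 : coeff (β + Finsupp.single j 1) f ≠ 0 := fun h => hβ (by rw [h, zero_mul])
  have := hf _ h1 i
  simp only [Finsupp.coe_add, Pi.add_apply] at this
  omega

lemma hom_pderiv {f : MvPolynomial σ k} {m : ℕ} (hf : Hom f (m + 1)) (j : σ) :
    Hom (pderiv j f) m := by
  intro β hβ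
  rw [coeff_pderiv] at hβ
  have h1 : coeff (β + Finsupp.single j 1) f ≠ 0 := fun h => hβ (by rw [h, zero_mul])
  have := hf _ h1
  rw [map_add, Finsupp.degree_single] at this
  omega

variable (I : Ideal A) (hI : I ≠ ⊤) (x : σ → A) (hx : ∀ i, x i ∈ I)
  (D : σ → Derivation k A A) (hD : ∀ i j, D j (x i) - (if i = j then 1 else 0) ∈ I)

include hI hx hD in
theorem hom_eq_zero : ∀ (m : ℕ) (f : MvPolynomial σ k), Box f p → Hom f m →
    aeval x f ∈ I ^ (m + 1) → f = 0 := by
  intro m
  induction m with
  | zero =>
    intro f _ hhom hmem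
    have hfC : f = C (coeff 0 f) := by
      ext α
      by_cases hα : α = 0
      · subst hα; simp
      · rw [coeff_C, if_neg (Ne.symm hα)]
        by_contra h
        have := hhom α h
        rw [Finsupp.degree_eq_zero_iff] at this
        exact hα this
    rw [hfC, aeval_C, zero_add, pow_one] at hmem
    by_cases hc : coeff 0 f = 0
    · rw [hfC, hc, C_0]
    · exfalso
      exact hI (Ideal.eq_top_of_isUnit_mem _ hmem ((IsUnit.mk0 _ hc).map (algebraMap k A)))
  | succ m ih =>
    intro f hbox hhom hmem
    have hg : ∀ j, pderiv j f = 0 := by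
      intro j
      refine ih _ (box_pderiv p hbox j) (hom_pderiv hhom j) ?_
      have h1 := der_aeval (D j) x f
      have h2 : D j (aeval x f) ∈ I ^ (m + 1) := der_pow_mem (D j) I (m + 1) hmem
      have h3 : aeval x (pderiv j f) = D j (aeval x f) -
          ∑ i, aeval x (pderiv i f) * (D j (x i) - (if i = j then 1 else 0)) := by
        rw [h1]
        simp only [mul_sub, Finset.sum_sub_distrib, mul_ite, mul_one, mul_zero,
          Finset.sum_ite_eq', Finset.mem_univ, if_true]
        ring
      rw [h3]
      refine Ideal.sub_mem _ h2 (Ideal.sum_mem _ fun i _ => ?_)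
      rw [pow_succ]
      exact Ideal.mul_mem_mul (aeval_mem_pow x I hx (hom_pderiv hhom i)) (hD i j)
    by_contra hf
    obtain ⟨α, hα⟩ := exists_coeff_ne_zero hf
    have hdeg := hhom α hα
    have hex : ∃ j, α j ≠ 0 := by
      by_contra hcon
      push Not at hcon
      have : α = 0 := Finsupp.ext hcon
      rw [this, map_zero] at hdeg
      omega
    obtain ⟨j, hj⟩ := hex
    have hβ : (α - Finsupp.single j 1) + Finsupp.single j 1 = α := by
      ext i
      by_cases hij : i = j
      · subst hij; simp; omega
      · simp [Ne.symm hij]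
    have h4 := coeff_pderiv (i := j) f (α - Finsupp.single j 1)
    rw [hg j, coeff_zero, hβ] at h4
    have h5 : (((α - Finsupp.single j 1 : σ →₀ ℕ) j : ℕ) : k) + 1 = ((α j : ℕ) : k) := by
      have : (α - Finsupp.single j 1 : σ →₀ ℕ) j + 1 = α j := by
        simp; omega
      rw [← this]; push_cast; rfl
    rw [h5] at h4
    have h6 : (α j : k) = 0 := by
      rcases mul_eq_zero.1 h4.symm with h | h
      · exact absurd h hα
      · exact h
    rw [CharP.cast_eq_zero_iff k p] at h6
    have h7 := Nat.le_of_dvd (Nat.pos_of_ne_zero hj) h6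
    have h8 := hbox α hα j
    omega

lemma box_homogeneousComponent {f : MvPolynomial σ k} (hf : Box f p) (m : ℕ) :
    Box (homogeneousComponent m f) p := by
  intro α hα
  rw [coeff_homogeneousComponent] at hα
  split_ifs at hα with h
  · exact hf α hα
  · exact absurd rfl hα

lemma hom_homogeneousComponent (f : MvPolynomial σ k) (m : ℕ) :
    Hom (homogeneousComponent m f) m := by
  intro α hα
  rw [coeff_homogeneousComponent] at hα
  split_ifs at hα with h
  · exact h
  · exact absurd rfl hα

include hI hx hD in
theorem box_eq_zero (f : MvPolynomial σ k) (hbox : Box f p) (h0 : aeval x f = 0) : f = 0 := by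
  have key : ∀ m, (∀ i < m, homogeneousComponent i f = 0) → homogeneousComponent m f = 0 := by
    intro m hm
    by_cases hmN : m ∈ Finset.range (f.totalDegree + 1)
    · refine hom_eq_zero p I hI x hx D hD m _ (box_homogeneousComponent p hbox m)
        (hom_homogeneousComponent f m) ?_
      have h1 : aeval x f = ∑ i ∈ Finset.range (f.totalDegree + 1),
          aeval x (homogeneousComponent i f) := by
        conv_lhs => rw [← sum_homogeneousComponent f]
        rw [map_sum]
      rw [h0, ← Finset.add_sum_erase _ _ hmN] at h1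
      have h2 : aeval x (homogeneousComponent m f) =
          - ∑ i ∈ (Finset.range (f.totalDegree + 1)).erase m,
            aeval x (homogeneousComponent i f) := eq_neg_of_add_eq_zero_left h1.symm
      rw [h2]
      refine Ideal.neg_mem_iff _ |>.2 (Ideal.sum_mem _ fun i hi => ?_)
      rcases lt_or_gt_of_ne (Finset.ne_of_mem_erase hi) with hlt | hgt
      · rw [hm i hlt, map_zero]; exact Ideal.zero_mem _
      · exact Ideal.pow_le_pow_right hgt (aeval_mem_pow x I hx (hom_homogeneousComponent f i))
    · apply homogeneousComponent_eq_zero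
      simp only [Finset.mem_range, not_lt] at hmN
      omega
  have hall : ∀ m, homogeneousComponent m f = 0 := by
    intro m
    induction m using Nat.strong_induction_on with
    | _ m ih => exact key m ih
  rw [← sum_homogeneousComponent f]
  exact Finset.sum_eq_zero fun i _ => hall i

end Indep

section Surj

variable {k : Type u} [Field k] (p : ℕ) {A : Type v} [CommRing A]
  [Algebra k A] {σ : Type} [Fintype σ] [DecidableEq σ]
  (I : Ideal A) (x : σ → A) (hx : ∀ i, x i ∈ I)
  (hsplit : ∀ a : A, ∃ c : k, a - algebraMap k A c ∈ I)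
  (hgen : ∀ a ∈ I, ∃ c : σ → k, a - ∑ i, c i • x i ∈ I ^ 2)

include hx hsplit hgen in
lemma step_mem (m : ℕ) : ∀ a ∈ I ^ m, ∃ s ∈ (aeval x : MvPolynomial σ k →ₐ[k] A).range,
    s ∈ I ^ m ∧ a - s ∈ I ^ (m + 1) := by
  induction m with
  | zero =>
    intro a _
    obtain ⟨c, hc⟩ := hsplit a
    exact ⟨algebraMap k A c, Subalgebra.algebraMap_mem _ c, by simp, by simpa using hc⟩
  | succ m ih =>
    intro a ha
    rw [pow_succ] at ha
    refine Submodule.mul_induction_on ha ?_ ?_
    · intro b hb y hy
      obtain ⟨s, hsS, hsI, hbs⟩ := ih b hb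
      obtain ⟨c, hc⟩ := hgen y hy
      set t := ∑ i, c i • x i with ht
      have htS : t ∈ (aeval x : MvPolynomial σ k →ₐ[k] A).range :=
        Subalgebra.sum_mem _ fun i _ => Subalgebra.smul_mem _ ((AlgHom.mem_range _).2 ⟨X i, by simp⟩) _
      have htI : t ∈ I := Ideal.sum_mem _ fun i _ => Submodule.smul_of_tower_mem _ _ (hx i)
      refine ⟨s * t, Subalgebra.mul_mem _ hsS htS, ?_, ?_⟩
      · rw [pow_succ]; exact Ideal.mul_mem_mul hsI htI
      · have e : b * y - s * t = s * (y - t) + (b - s) * y := by ring
        rw [e]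
        refine Ideal.add_mem _ ?_ ?_
        · have := Ideal.mul_mem_mul hsI hc
          rwa [← pow_add] at this
        · have := Ideal.mul_mem_mul hbs hy
          rwa [← pow_succ] at this
    · rintro a b ⟨s, hsS, hsI, has⟩ ⟨s', hsS', hsI', has'⟩
      refine ⟨s + s', Subalgebra.add_mem _ hsS hsS', Ideal.add_mem _ hsI hsI', ?_⟩
      have e : a + b - (s + s') = (a - s) + (b - s') := by ring
      rw [e]; exact Ideal.add_mem _ has has'

include hx hsplit hgen in
lemma approx_mem (m : ℕ) (a : A) : ∃ s ∈ (aeval x : MvPolynomial σ k →ₐ[k] A).range,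
    a - s ∈ I ^ m := by
  induction m with
  | zero => exact ⟨0, Subalgebra.zero_mem _, by simp⟩
  | succ m ih =>
    obtain ⟨s, hs, has⟩ := ih
    obtain ⟨s', hs', -, hs''⟩ := step_mem I x hx hsplit hgen m (a - s) has
    exact ⟨s + s', Subalgebra.add_mem _ hs hs', by
      have e : a - (s + s') = a - s - s' := by ring
      rw [e]; exact hs''⟩

/-- the part of a polynomial with all exponents `< p`. -/
noncomputable def boxPart (f : MvPolynomial σ k) : MvPolynomial σ k :=
  ∑ α ∈ f.support.filter (fun α => ∀ i, α i < p), monomial α (coeff α f)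

lemma box_boxPart (f : MvPolynomial σ k) : Box (boxPart p f) p := by
  classical
  intro β hβ
  rw [boxPart, coeff_sum] at hβ
  obtain ⟨α, hα, hne⟩ := Finset.exists_ne_zero_of_sum_ne_zero hβ
  rw [coeff_monomial] at hne
  split_ifs at hne with h
  · subst h; exact (Finset.mem_filter.1 hα).2
  · exact absurd rfl hne

lemma aeval_boxPart [Fact p.Prime] (hpow : ∀ a ∈ I, a ^ p = 0) (hx : ∀ i, x i ∈ I) (f : MvPolynomial σ k) :
    aeval x (boxPart p f) = aeval x f := by
  classical
  conv_rhs => rw [f.as_sum, ← Finset.sum_filter_add_sum_filter_not f.support (fun α => ∀ i, α i < p)]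
  rw [map_add, boxPart]
  have : aeval x (∑ α ∈ f.support.filter (fun α => ¬ ∀ i, α i < p), monomial α (coeff α f)) = 0 := by
    rw [map_sum]
    refine Finset.sum_eq_zero fun α hα => ?_
    obtain ⟨-, hα2⟩ := Finset.mem_filter.1 hα
    push Not at hα2
    obtain ⟨i, hi⟩ := hα2
    rw [aeval_monomial]
    have hsupp : i ∈ α.support := by
      rw [Finsupp.mem_support_iff]
      have := (Fact.out : p.Prime).pos
      omega
    have : α.prod (fun j e => x j ^ e) = 0 := by
      rw [Finsupp.prod, ← Finset.mul_prod_erase _ _ hsupp]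
      have h1 : x i ^ α i = x i ^ p * x i ^ (α i - p) := by
        rw [← pow_add]; congr 1; omega
      rw [h1, hpow _ (hx i), zero_mul, zero_mul]
    rw [this, mul_zero]
  rw [this, add_zero]

include hsplit hgen in
theorem exists_box_aeval_eq [Fact p.Prime] (hpow : ∀ a ∈ I, a ^ p = 0) (hx : ∀ i, x i ∈ I)
    (hnilp : ∃ N, I ^ N = ⊥) (a : A) :
    ∃ f : MvPolynomial σ k, Box f p ∧ aeval x f = a := by
  obtain ⟨N, hN⟩ := hnilp
  obtain ⟨s, ⟨f, hf⟩, hs⟩ := approx_mem I x hx hsplit hgen N a
  rw [hN, Ideal.mem_bot, sub_eq_zero] at hs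
  refine ⟨boxPart p f, box_boxPart p f, ?_⟩
  rw [aeval_boxPart p I x hpow hx, hs]
  exact hf

end Surj

section Finrank

variable {k : Type u} [Field k] (p : ℕ) [Fact p.Prime] [CharP k p] {A : Type v} [CommRing A]
  [Algebra k A] {σ : Type} [Fintype σ] [DecidableEq σ]
  (I : Ideal A) (hI : I ≠ ⊤) (x : σ → A) (hx : ∀ i, x i ∈ I)
  (D : σ → Derivation k A A) (hD : ∀ i j, D j (x i) - (if i = j then 1 else 0) ∈ I)
  (hsplit : ∀ a : A, ∃ c : k, a - algebraMap k A c ∈ I)
  (hgen : ∀ a ∈ I, ∃ c : σ → k, a - ∑ i, c i • x i ∈ I ^ 2)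
  (hpow : ∀ a ∈ I, a ^ p = 0) (hnilp : ∃ N, I ^ N = ⊥)

/-- exponent vectors in the box as finitely supported functions. -/
noncomputable def boxExp (α : σ → Fin p) : σ →₀ ℕ :=
  Finsupp.equivFunOnFinite.symm (fun i => (α i : ℕ))

lemma boxExp_apply (α : σ → Fin p) (i : σ) : boxExp p α i = (α i : ℕ) := rfl

lemma boxExp_injective : Function.Injective (boxExp p : (σ → Fin p) → (σ →₀ ℕ)) := by
  intro α β h
  funext i
  have := DFunLike.congr_fun h i
  rw [boxExp_apply, boxExp_apply] at this
  exact Fin.ext this

include hI hx hD hsplit hgen hpow hnilp in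
/-- **Truncated polynomial criterion.** -/
theorem finrank_eq_pow : Module.finrank k A = p ^ Fintype.card σ := by
  classical
  let v : (σ → Fin p) → A := fun α => aeval x (monomial (boxExp p α) (1 : k))
  have hli : LinearIndependent k v := by
    rw [Fintype.linearIndependent_iff]
    intro c hc α₀
    set f : MvPolynomial σ k := ∑ α, monomial (boxExp p α) (c α) with hf
    have hcoeff : ∀ β, coeff β f = ∑ α, if boxExp p α = β then c α else 0 := by
      intro β
      rw [hf, coeff_sum]
      refine Finset.sum_congr rfl fun α _ => ?_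
      rw [coeff_monomial]
    have hbox : Box f p := by
      intro β hβ i
      rw [hcoeff] at hβ
      obtain ⟨α, -, hne⟩ := Finset.exists_ne_zero_of_sum_ne_zero hβ
      split_ifs at hne with h
      · rw [← h, boxExp_apply]; exact (α i).2
      · exact absurd rfl hne
    have haev : aeval x f = 0 := by
      rw [hf, map_sum, ← hc]
      refine Finset.sum_congr rfl fun α _ => ?_
      have : monomial (boxExp p α) (c α) = c α • monomial (boxExp p α) (1 : k) := by
        rw [smul_monomial, smul_eq_mul, mul_one]
      rw [this, map_smul]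
    have hf0 := box_eq_zero p I hI x hx D hD f hbox haev
    have := hcoeff (boxExp p α₀)
    rw [hf0, coeff_zero] at this
    rw [Finset.sum_eq_single α₀] at this
    · simpa using this.symm
    · intro α _ hα
      rw [if_neg]
      exact fun h => hα (boxExp_injective p h)
    · simp
  have hsp : ⊤ ≤ Submodule.span k (Set.range v) := by
    intro a _
    obtain ⟨f, hbox, rfl⟩ := exists_box_aeval_eq p I x hsplit hgen hpow hx hnilp a
    rw [f.as_sum, map_sum]
    refine Submodule.sum_mem _ fun β hβ => ?_
    have hβ' := hbox β (mem_support_iff.1 hβ)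
    let α : σ → Fin p := fun i => ⟨β i, hβ' i⟩
    have hα : boxExp p α = β := by
      ext i; rfl
    have : monomial β (coeff β f) = coeff β f • monomial (boxExp p α) (1 : k) := by
      rw [smul_monomial, smul_eq_mul, mul_one, hα]
    rw [this, map_smul]
    exact Submodule.smul_mem _ _ (Submodule.subset_span ⟨α, rfl⟩)
  have hb := Module.finrank_eq_card_basis (Module.Basis.mk hli hsp)
  rw [hb, Fintype.card_fun, Fintype.card_fin]

end Finrank

end Groth.Agent.Lib.Helper86.HopfDer
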