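import Mathlib
import Groth.Agent.Lib.Helper86.HopfDer2

set_option autoImplicit false
set_option linter.unusedSectionVars false
universe u v

open MvPolynomial

namespace Groth.Agent.Lib.Helper86.HopfDer

section Gen

variable {k : Type u} [Field k] {A : Type v} [CommRing A]
  [Algebra k A] {σ : Type} [Fintype σ] [DecidableEq σ]

lemma hom_iff (f : MvPolynomial σ k) (m : ℕ) : Hom f m ↔ f.IsHomogeneous m := by
  constructor
  · intro h d hd
    have := h d hd
    rwa [Finsupp.degree_eq_weight_one] at this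
  · intro h d hd
    have := h hd
    rwa [Finsupp.degree_eq_weight_one]

variable (I : Ideal A) (hI : I ≠ ⊤) (x : σ → A) (hx : ∀ i, x i ∈ I)
  (D : σ → Derivation k A A) (hD : ∀ i j, D j (x i) - (if i = j then 1 else 0) ∈ I)

include hI hx hD in
/-- independence of degree-`m` monomials modulo `I^(m+1)` when `1, …, m` are invertible. -/
theorem hom_eq_zero_gen : ∀ (m : ℕ) (f : MvPolynomial σ k),
    (∀ e : ℕ, 1 ≤ e → e ≤ m → (e : k) ≠ 0) → Hom f m →
    aeval x f ∈ I ^ (m + 1) → f = 0 := by
  intro m
  induction m with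
  | zero =>
    intro f _ hhom hmem
    have hfC : f = C (coeff 0 f) := by
      ext α
      by_cases hα : α = 0
      · subst hα; simp
      · rw [coeff_C, if_neg (Ne.symm hα)]
        by_contra h
        have := hhom α h
        rw [Finsupp.degree_eq_zero_iff] at this
        exact hα this
    rw [hfC, aeval_C, zero_add, pow_one] at hmem
    by_cases hc : coeff 0 f = 0
    · rw [hfC, hc, C_0]
    · exfalso
      exact hI (Ideal.eq_top_of_isUnit_mem _ hmem ((IsUnit.mk0 _ hc).map (algebraMap k A)))
  | succ m ih =>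
    intro f hinv hhom hmem
    have hg : ∀ j, pderiv j f = 0 := by
      intro j
      refine ih _ (fun e h1 h2 => hinv e h1 (by omega)) (hom_pderiv hhom j) ?_
      have h1 := der_aeval (D j) x f
      have h2 : D j (aeval x f) ∈ I ^ (m + 1) := der_pow_mem (D j) I (m + 1) hmem
      have h3 : aeval x (pderiv j f) = D j (aeval x f) -
          ∑ i, aeval x (pderiv i f) * (D j (x i) - (if i = j then 1 else 0)) := by
        rw [h1]
        simp only [mul_sub, Finset.sum_sub_distrib, mul_ite, mul_one, mul_zero,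
          Finset.sum_ite_eq', Finset.mem_univ, if_true]
        ring
      rw [h3]
      refine Ideal.sub_mem _ h2 (Ideal.sum_mem _ fun i _ => ?_)
      rw [pow_succ]
      exact Ideal.mul_mem_mul (aeval_mem_pow x I hx (hom_pderiv hhom i)) (hD i j)
    by_contra hf
    obtain ⟨α, hα⟩ := exists_coeff_ne_zero hf
    have hdeg := hhom α hα
    have hex : ∃ j, α j ≠ 0 := by
      by_contra hcon
      push Not at hcon
      have : α = 0 := Finsupp.ext hcon
      rw [this, map_zero] at hdeg
      omega
    obtain ⟨j, hj⟩ := hex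
    have hβ : (α - Finsupp.single j 1) + Finsupp.single j 1 = α := by
      ext i
      by_cases hij : i = j
      · subst hij; simp; omega
      · simp [Ne.symm hij]
    have h4 := coeff_pderiv (i := j) f (α - Finsupp.single j 1)
    rw [hg j, coeff_zero, hβ] at h4
    have h5 : (((α - Finsupp.single j 1 : σ →₀ ℕ) j : ℕ) : k) + 1 = ((α j : ℕ) : k) := by
      have : (α - Finsupp.single j 1 : σ →₀ ℕ) j + 1 = α j := by
        simp; omega
      rw [← this]; push_cast; rfl
    rw [h5] at h4
    have h6 : (α j : k) = 0 := by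
      rcases mul_eq_zero.1 h4.symm with h | h
      · exact absurd h hα
      · exact h
    have h7 : α j ≤ m + 1 := by
      rw [← hdeg, Finsupp.degree_eq_sum]
      exact Finset.single_le_sum (f := fun i => α i) (fun i _ => Nat.zero_le _) (Finset.mem_univ j)
    exact hinv (α j) (Nat.pos_of_ne_zero hj) h7 h6

variable (hsplit : ∀ a : A, ∃ c : k, a - algebraMap k A c ∈ I)
  (hgen : ∀ a ∈ I, ∃ c : σ → k, a - ∑ i, c i • x i ∈ I ^ 2)

include hx hsplit hgen in
lemma step_hom (m : ℕ) : ∀ a ∈ I ^ m, ∃ f : MvPolynomial σ k, Hom f m ∧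
    a - aeval x f ∈ I ^ (m + 1) := by
  induction m with
  | zero =>
    intro a _
    obtain ⟨c, hc⟩ := hsplit a
    refine ⟨C c, (hom_iff _ _).2 (isHomogeneous_C _ c), ?_⟩
    simpa using hc
  | succ m ih =>
    intro a ha
    rw [pow_succ] at ha
    refine Submodule.mul_induction_on ha ?_ ?_
    · intro b hb y hy
      obtain ⟨g, hg, hbg⟩ := ih b hb
      obtain ⟨c, hc⟩ := hgen y hy
      set ℓ : MvPolynomial σ k := ∑ i, C (c i) * X i with hℓ
      have hℓhom : ℓ.IsHomogeneous 1 :=
        IsHomogeneous.sum _ _ _ fun i _ => isHomogeneous_C_mul_X (c i) i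
      have hℓev : aeval x ℓ = ∑ i, c i • x i := by
        rw [hℓ, map_sum]
        refine Finset.sum_congr rfl fun i _ => ?_
        rw [map_mul, aeval_C, aeval_X, Algebra.smul_def]
      have hsI : aeval x g ∈ I ^ m := aeval_mem_pow x I hx hg
      refine ⟨g * ℓ, (hom_iff _ _).2 (((hom_iff _ _).1 hg).mul hℓhom), ?_⟩
      rw [map_mul, hℓev]
      have e : b * y - aeval x g * ∑ i, c i • x i =
          aeval x g * (y - ∑ i, c i • x i) + (b - aeval x g) * y := by ring
      rw [e]
      refine Ideal.add_mem _ ?_ ?_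
      · have := Ideal.mul_mem_mul hsI hc
        rwa [← pow_add] at this
      · have := Ideal.mul_mem_mul hbg hy
        rwa [← pow_succ] at this
    · rintro a b ⟨f, hf, haf⟩ ⟨g, hg, hbg⟩
      refine ⟨f + g, (hom_iff _ _).2 (((hom_iff _ _).1 hf).add ((hom_iff _ _).1 hg)), ?_⟩
      have e : a + b - aeval x (f + g) = (a - aeval x f) + (b - aeval x g) := by
        rw [map_add]; ring
      rw [e]; exact Ideal.add_mem _ haf hbg

end Gen

section Quot

variable {k : Type u} [Field k] {A : Type v} [CommRing A]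
  [Algebra k A] {σ : Type} [Fintype σ] [DecidableEq σ]

/-- exponent vectors of degree `m`. -/
noncomputable def T (σ : Type) [Fintype σ] [DecidableEq σ] (m : ℕ) : Finset (σ →₀ ℕ) :=
  (Finset.univ : Finset σ).finsuppAntidiag m

lemma mem_T {α : σ →₀ ℕ} {m : ℕ} : α ∈ T σ m ↔ α.degree = m := by
  rw [T, Finset.mem_finsuppAntidiag, Finsupp.degree_eq_sum]
  simp

lemma card_T (m : ℕ) : (T σ m).card = (Fintype.card σ + m - 1).choose m := by
  rw [T, Finset.card_finsuppAntidiag_nat_eq_choose, Finset.card_univ]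

variable (I : Ideal A) (x : σ → A)

/-- the transition map `A/I^(m+1) → A/I^m`. -/
noncomputable def q (m : ℕ) : (A ⧸ I ^ (m + 1)) →ₗ[k] (A ⧸ I ^ m) :=
  (Ideal.Quotient.factorₐ k (Ideal.pow_le_pow_right (Nat.le_succ m))).toLinearMap

lemma q_mk (m : ℕ) (a : A) : q (k := k) I m (Ideal.Quotient.mk _ a) = Ideal.Quotient.mk _ a := rfl

lemma q_surjective (m : ℕ) : Function.Surjective (q (k := k) I m) := by
  intro y
  obtain ⟨a, rfl⟩ := Ideal.Quotient.mk_surjective y
  exact ⟨Ideal.Quotient.mk _ a, rfl⟩

/-- images of the degree-`m` monomials in `A/I^(m+1)`. -/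
noncomputable def v (m : ℕ) : T σ m → A ⧸ I ^ (m + 1) :=
  fun α => Ideal.Quotient.mk _ (aeval x (monomial α.1 (1 : k)))

lemma hom_monomial (α : σ →₀ ℕ) (c : k) : Hom (monomial α c) α.degree := by
  classical
  intro β hβ
  rw [coeff_monomial] at hβ
  split_ifs at hβ with h
  · rw [h]
  · exact absurd rfl hβ

variable (hx : ∀ i, x i ∈ I)
  (hsplit : ∀ a : A, ∃ c : k, a - algebraMap k A c ∈ I)
  (hgen : ∀ a ∈ I, ∃ c : σ → k, a - ∑ i, c i • x i ∈ I ^ 2)

include hx hsplit hgen in
lemma ker_q (m : ℕ) :
    LinearMap.ker (q (k := k) I m) = Submodule.span k (Set.range (v (k := k) I x m)) := by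
  apply le_antisymm
  · intro y hy
    obtain ⟨a, rfl⟩ := Ideal.Quotient.mk_surjective y
    rw [LinearMap.mem_ker, q_mk, Ideal.Quotient.eq_zero_iff_mem] at hy
    obtain ⟨f, hf, haf⟩ := step_hom I x hx hsplit hgen m a hy
    have h1 : Ideal.Quotient.mk (I ^ (m + 1)) a = Ideal.Quotient.mk _ (aeval x f) :=
      Ideal.Quotient.eq.2 haf
    rw [h1, f.as_sum, map_sum, map_sum]
    refine Submodule.sum_mem _ fun α hα => ?_
    have hαT : α ∈ T σ m := mem_T.2 (hf α (mem_support_iff.1 hα))
    have h2 : monomial α (coeff α f) = coeff α f • monomial α (1 : k) := by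
      rw [smul_monomial, smul_eq_mul, mul_one]
    rw [h2, map_smul]
    have h3 : Ideal.Quotient.mk (I ^ (m + 1)) (coeff α f • aeval x (monomial α (1 : k))) =
        coeff α f • v (k := k) I x m ⟨α, hαT⟩ := rfl
    rw [h3]
    exact Submodule.smul_mem _ _ (Submodule.subset_span ⟨⟨α, hαT⟩, rfl⟩)
  · rw [Submodule.span_le]
    rintro _ ⟨α, rfl⟩
    rw [SetLike.mem_coe, LinearMap.mem_ker, v, q_mk, Ideal.Quotient.eq_zero_iff_mem]
    have := aeval_mem_pow x I hx (hom_monomial α.1 (1 : k))
    rwa [mem_T.1 α.2] at this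

include hx hsplit hgen in
lemma finite_quot (m : ℕ) : Module.Finite k (A ⧸ I ^ m) := by
  induction m with
  | zero =>
    have : Subsingleton (A ⧸ I ^ 0) := by
      rw [pow_zero, Ideal.one_eq_top]
      exact Ideal.Quotient.subsingleton_iff.2 rfl
    infer_instance
  | succ m ih =>
    have hker : Module.Finite k (LinearMap.ker (q (k := k) I m)) := by
      rw [ker_q I x hx hsplit hgen m]
      exact Module.Finite.span_of_finite k (Set.finite_range _)
    exact Module.Finite.of_exact (f := (LinearMap.ker (q (k := k) I m)).subtype)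
      (g := q (k := k) I m) (LinearMap.exact_subtype_ker_map _) (q_surjective I m)

variable (hI : I ≠ ⊤)
  (D : σ → Derivation k A A) (hD : ∀ i j, D j (x i) - (if i = j then 1 else 0) ∈ I)

include hI hx hD in
lemma linearIndependent_v (m : ℕ) (hinv : ∀ e : ℕ, 1 ≤ e → e ≤ m → (e : k) ≠ 0) :
    LinearIndependent k (v (k := k) I x m) := by
  classical
  rw [Fintype.linearIndependent_iff]
  intro c hc α₀
  set f : MvPolynomial σ k := ∑ α : T σ m, monomial α.1 (c α) with hf
  have hcoeff : ∀ β, coeff β f = ∑ α : T σ m, if α.1 = β then c α else 0 := by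
    intro β
    rw [hf, coeff_sum]
    refine Finset.sum_congr rfl fun α _ => ?_
    rw [coeff_monomial]
  have hhom : Hom f m := by
    intro β hβ
    rw [hcoeff] at hβ
    obtain ⟨α, -, hne⟩ := Finset.exists_ne_zero_of_sum_ne_zero hβ
    split_ifs at hne with h
    · rw [← h]; exact mem_T.1 α.2
    · exact absurd rfl hne
  have haev : aeval x f ∈ I ^ (m + 1) := by
    rw [← Ideal.Quotient.eq_zero_iff_mem, hf, map_sum, map_sum, ← hc]
    refine Finset.sum_congr rfl fun α _ => ?_
    have : monomial α.1 (c α) = c α • monomial α.1 (1 : k) := by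
      rw [smul_monomial, smul_eq_mul, mul_one]
    rw [this, map_smul]
    rfl
  have hf0 := hom_eq_zero_gen I hI x hx D hD m f hinv hhom haev
  have := hcoeff α₀.1
  rw [hf0, coeff_zero] at this
  rw [Finset.sum_eq_single α₀] at this
  · simpa using this.symm
  · intro α _ hα
    rw [if_neg]
    exact fun h => hα (Subtype.ext h)
  · simp

include hI hx hD hsplit hgen in
/-- **Dimension of the infinitesimal neighbourhoods.** -/
theorem finrank_quot_succ (n : ℕ) (hinv : ∀ e : ℕ, 1 ≤ e → e ≤ n → (e : k) ≠ 0) :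
    Module.finrank k (A ⧸ I ^ (n + 1)) =
      Module.finrank k (A ⧸ I ^ n) + (Fintype.card σ + n - 1).choose n := by
  have hfin := finite_quot I x hx hsplit hgen (n + 1)
  have h1 := LinearMap.finrank_range_add_finrank_ker (q (k := k) I n)
  rw [LinearMap.range_eq_top.2 (q_surjective I n), finrank_top] at h1
  rw [← h1, ker_q I x hx hsplit hgen n,
    finrank_span_eq_card (linearIndependent_v I x hx hI D hD n hinv), Fintype.card_coe, card_T]

end Quot

end Groth.Agent.Lib.Helper86.HopfDer
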