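import Mathlib
import Groth.Agent.Lib.Helper86.HopfDer
import Groth.Agent.Lib.Helper86.HopfDer3
import Groth.Agent.S17328

set_option autoImplicit false
set_option linter.unusedSectionVars false
universe u v

namespace Groth.Agent.Lib.Helper86.HopfDer

open Groth.Agent.S17328

section Data

variable (k : Type u) [Field k] (A : Type v) [CommRing A] [Bialgebra k A]

local notation "I" => RingHom.ker (Bialgebra.counitAlgHom k A)

lemma augIdeal_ne_top : (I) ≠ ⊤ := by
  intro h
  have : (1 : A) ∈ I := by rw [h]; exact Submodule.mem_top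
  rw [RingHom.mem_ker, map_one] at this
  exact one_ne_zero this

lemma smul_cotangent (a : A) (z : (I).Cotangent) :
    a • z = (Bialgebra.counitAlgHom k A a) • z := by
  have h1 : (a - algebraMap k A (Bialgebra.counitAlgHom k A a)) • z = 0 :=
    Ideal.Cotangent.smul_eq_zero_of_mem (sub_mem_ker k A a) z
  rw [sub_smul, sub_eq_zero, algebraMap_smul] at h1
  exact h1

lemma finite_cotangent [IsNoetherianRing A] : Module.Finite k (I).Cotangent := by
  have hI' : Module.Finite A ↥(I) := Module.Finite.iff_fg.2 (IsNoetherian.noetherian _)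
  have hA : Module.Finite A (I).Cotangent :=
    Module.Finite.of_surjective (I).toCotangent (I).toCotangent_surjective
  obtain ⟨S, hS⟩ := hA.fg_top
  refine ⟨⟨S, eq_top_iff.2 fun z hz0 => ?_⟩⟩
  clear hz0
  have hz : z ∈ Submodule.span A (S : Set (I).Cotangent) := by rw [hS]; exact Submodule.mem_top
  induction hz using Submodule.span_induction with
  | mem z hz => exact Submodule.subset_span hz
  | zero => exact Submodule.zero_mem _
  | add y z _ _ hy hz => exact Submodule.add_mem _ hy hz
  | smul a z _ hz =>
    rw [smul_cotangent]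
    exact Submodule.smul_mem _ _ hz

/-- coordinates at the unit and dual invariant derivations. -/
theorem exists_coordinates [Module.Finite k (I).Cotangent] :
    ∃ (x : Fin (Module.finrank k (I).Cotangent) → A)
      (D : Fin (Module.finrank k (I).Cotangent) → Derivation k A A),
      (∀ i, x i ∈ I) ∧ (∀ i j, D j (x i) - (if i = j then 1 else 0) ∈ I) ∧
      (∀ a ∈ I, ∃ c : Fin (Module.finrank k (I).Cotangent) → k,
        a - ∑ i, c i • x i ∈ (I) ^ 2) := by
  classical
  set n := Module.finrank k (I).Cotangent with hn
  let b : Module.Basis (Fin n) k (I).Cotangent := Module.finBasis k (I).Cotangent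
  choose y hy using fun i => (I).toCotangent_surjective (b i)
  let x : Fin n → A := fun i => (y i : A)
  have hx : ∀ i, x i ∈ I := fun i => (y i).2
  have hPx : ∀ i, P k A (x i) = b i := by
    intro i
    rw [P_of_mem k A (x i) (hx i)]
    exact hy i
  let d : Fin n → A →ₗ[k] k := fun j => (b.coord j) ∘ₗ (P k A)
  have hd : ∀ j, IsEpsDer (d j) := by
    intro j a c
    show b.coord j (P k A (a * c)) = Coalgebra.counit (R := k) a * b.coord j (P k A c) +
      b.coord j (P k A a) * Coalgebra.counit (R := k) c
    rw [P_mul, map_add, map_smul, map_smul, smul_eq_mul, smul_eq_mul,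
      Bialgebra.counitAlgHom_apply, Bialgebra.counitAlgHom_apply]
    ring
  let D : Fin n → Derivation k A A := fun j => invDer (d j) (hd j)
  refine ⟨x, D, hx, ?_, ?_⟩
  · intro i j
    rw [RingHom.mem_ker, map_sub, Bialgebra.counitAlgHom_apply, counit_invDer]
    simp only [d, LinearMap.comp_apply, hPx, Module.Basis.coord_apply, Module.Basis.repr_self,
      Finsupp.single_apply]
    split_ifs <;> simp
  · intro a ha
    refine ⟨fun i => b.repr ((I).toCotangent ⟨a, ha⟩) i, ?_⟩
    have h2 : (I).toCotangent ⟨a, ha⟩ =
        (I).toCotangent (∑ i, b.repr ((I).toCotangent ⟨a, ha⟩) i • y i) := by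
      rw [map_sum]
      conv_lhs => rw [← b.sum_repr ((I).toCotangent ⟨a, ha⟩)]
      refine Finset.sum_congr rfl fun i _ => ?_
      rw [LinearMap.map_smul_of_tower, hy]
    rw [Ideal.toCotangent_eq] at h2
    convert h2 using 2
    simp only [Submodule.coe_sum, Submodule.coe_smul_of_tower]
    rfl

lemma exists_sub_algebraMap_mem (a : A) : ∃ c : k, a - algebraMap k A c ∈ I :=
  ⟨Bialgebra.counitAlgHom k A a, sub_mem_ker k A a⟩

end Data

end Groth.Agent.Lib.Helper86.HopfDer
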