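import Mathlib
import Groth.Prelude.Def_GLin
import Groth.Agent.Lib.Helper86.HopfInv

set_option autoImplicit false
universe u v w w'
open Polynomial

open TensorProduct Algebra Coalgebra Bialgebra HopfAlgebra

namespace Groth.Agent.Lib.Helper86.HopfInv

section Conj

variable (k : Type u) [CommRing k] (A : Type v) [CommRing A] [Algebra k A]
  [Module.Free k A] [Module.Finite k A]
  (B : Type w) [CommRing B] [Algebra k B]

lemma chi_algEquiv (e : B ⊗[k] A ≃ₐ[B] B ⊗[k] A) (w : B ⊗[k] A) :
    chi k A B (e w) = chi k A B w := by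
  rw [chi, chi, ← LinearEquiv.charpoly_conj e.toLinearEquiv (LinearMap.mulLeft B w)]
  congr 1
  ext x
  simp [LinearEquiv.conj_apply]

end Conj

section Main

variable (k : Type u) [CommRing k] (A : Type v) [CommRing A] [HopfAlgebra k A]
  [Module.Free k A] [Module.Finite k A]
  (R : Type w) [CommRing R] [Algebra k R] [HopfRep.Comod k A R] [GLin.IsCoactAlg k A R]

local notation "ρ" => GLin.coactAlgHom k A R
local notation "ιL" => (Algebra.TensorProduct.includeLeft : R →ₐ[k] R ⊗[k] A)
local notation "jR" => (Algebra.TensorProduct.includeRight : A →ₐ[k] R ⊗[k] A)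

omit [Module.Free k A] [Module.Finite k A] [HopfRep.Comod k A R] [GLin.IsCoactAlg k A R] in
lemma gshear_map_incl_aux (r : R) (y : A ⊗[k] A) :
    ((r ⊗ₜ[k] (1 : A)) ⊗ₜ[k] (1 : A)) * Algebra.TensorProduct.map jR (AlgHom.id k A) y =
      (TensorProduct.assoc k R A A).symm (r ⊗ₜ y) := by
  induction y using TensorProduct.induction_on with
  | zero => simp
  | tmul a b => simp
  | add x y hx hy => simp only [map_add, mul_add, tmul_add, hx, hy]

omit [Module.Free k A] [Module.Finite k A] [HopfRep.Comod k A R] [GLin.IsCoactAlg k A R] in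
lemma gshear_map_incl (x : R ⊗[k] A) :
    gshear k A (R ⊗[k] A) jR (Algebra.TensorProduct.map ιL (AlgHom.id k A) x) =
      (TensorProduct.assoc k R A A).symm ((comul (R := k) (A := A)).lTensor R x) := by
  induction x using TensorProduct.induction_on with
  | zero => simp
  | tmul r a =>
    simp only [Algebra.TensorProduct.map_tmul, Algebra.TensorProduct.includeLeft_apply,
      AlgHom.coe_id, id_eq, gshear_tmul, LinearMap.lTensor_tmul]
    exact gshear_map_incl_aux k A R r _
  | add x y hx hy => simp only [map_add, hx, hy]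

omit [Module.Free k A] [Module.Finite k A] in
lemma map_coact_coact (r : R) :
    Algebra.TensorProduct.map ρ (AlgHom.id k A) (ρ r) =
      gshear k A (R ⊗[k] A) jR (Algebra.TensorProduct.map ιL (AlgHom.id k A) (ρ r)) := by
  rw [gshear_map_incl]
  have h := LinearMap.congr_fun (HopfRep.Comod.coassoc (k := k) (A := A) (V := R)) r
  simp only [LinearMap.coe_comp, Function.comp_apply, LinearEquiv.coe_coe] at h
  rw [GLin.coactAlgHom_apply, ← h, LinearEquiv.symm_apply_apply]
  generalize HopfRep.Comod.coact (k := k) (A := A) r = x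
  induction x using TensorProduct.induction_on with
  | zero => simp
  | tmul r a => simp
  | add x y hx hy => simp only [map_add, hx, hy]

lemma chi_map_coact (r : R) :
    (chi k A R (ρ r)).map (ρ : R →+* R ⊗[k] A) = (chi k A R (ρ r)).map (ιL : R →+* R ⊗[k] A) := by
  have h1 := chi_map k A (ρ) (ρ r)
  have h2 := chi_map k A (ιL) (ρ r)
  rw [← h1, ← h2, map_coact_coact, ← gshearEquiv_apply, chi_algEquiv]

lemma coeff_chi_mem_invariants (r : R) (n : ℕ) :
    (chi k A R (ρ r)).coeff n ∈ GLin.invariants k A R := by
  rw [GLin.mem_invariants_iff]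
  have h := congrArg (fun p => p.coeff n) (chi_map_coact k A R r)
  simp only [Polynomial.coeff_map] at h
  exact h

/-- the counit projection `R ⊗ A → R` as an `R`-algebra map. -/
noncomputable def counitProj : R ⊗[k] A →ₐ[R] R :=
  Algebra.TensorProduct.lift (AlgHom.id R R) ((Algebra.ofId k R).comp (counitAlgHom k A))
    (fun _ _ => Commute.all _ _)

omit [Module.Free k A] [Module.Finite k A] in
lemma counitProj_coact (r : R) : counitProj k A R (ρ r) = r := by
  have h := LinearMap.congr_fun (HopfRep.Comod.counit_comp (k := k) (A := A) (V := R)) r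
  simp only [LinearMap.coe_comp, Function.comp_apply, LinearMap.flip_apply,
    TensorProduct.mk_apply] at h
  have h2 : ∀ x : R ⊗[k] A, counitProj k A R x =
      TensorProduct.rid k R ((counit (R := k) (A := A)).lTensor R x) := by
    intro x
    induction x using TensorProduct.induction_on with
    | zero => simp
    | tmul r a => simp [counitProj, Algebra.ofId_apply, Algebra.algebraMap_eq_smul_one]
    | add x y hx hy => simp only [map_add, hx, hy]
  rw [h2, GLin.coactAlgHom_apply, h]
  simp

lemma aeval_chi_coact (r : R) : Polynomial.aeval r (chi k A R (ρ r)) = 0 := by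
  have h := congrArg (counitProj k A R) (aeval_chi k A R (ρ r))
  rwa [← Polynomial.aeval_algHom_apply, counitProj_coact, map_zero] at h

theorem isIntegral_invariants (r : R) : IsIntegral (GLin.invariants k A R) r := by
  have hl : chi k A R (ρ r) ∈ Polynomial.lifts (algebraMap (GLin.invariants k A R) R) := by
    rw [Polynomial.lifts_iff_coeff_lifts]
    intro n
    exact ⟨⟨_, coeff_chi_mem_invariants k A R r n⟩, rfl⟩
  obtain ⟨q, hq, -, hqm⟩ := Polynomial.lifts_and_natDegree_eq_and_monic hl (chi_monic k A R _)
  refine ⟨q, hqm, ?_⟩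
  rw [← Polynomial.eval_map, hq]
  have := aeval_chi_coact k A R r
  rwa [Polynomial.aeval_def, Polynomial.eval₂_eq_eval_map, Algebra.algebraMap_self,
    Polynomial.map_id] at this

end Main

end Groth.Agent.Lib.Helper86.HopfInv
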