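import Mathlib

set_option autoImplicit false
open MvPolynomial

namespace Groth.Agent.Lib.Helper86.SymCoc

section Expo

/-- exponent vector in two variables -/
noncomputable def e2 (i j : ℕ) : Fin 2 →₀ ℕ := Finsupp.single 0 i + Finsupp.single 1 j
/-- exponent vector in three variables -/
noncomputable def e3 (i j l : ℕ) : Fin 3 →₀ ℕ :=
  Finsupp.single 0 i + Finsupp.single 1 j + Finsupp.single 2 l

@[simp] lemma e2_zero (i j : ℕ) : e2 i j 0 = i := by simp [e2]
@[simp] lemma e2_one (i j : ℕ) : e2 i j 1 = j := by simp [e2]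
@[simp] lemma e3_zero (i j l : ℕ) : e3 i j l 0 = i := by simp [e3]
@[simp] lemma e3_one (i j l : ℕ) : e3 i j l 1 = j := by simp [e3]
@[simp] lemma e3_two (i j l : ℕ) : e3 i j l 2 = l := by simp [e3]

lemma e2_eta (s : Fin 2 →₀ ℕ) : e2 (s 0) (s 1) = s := by
  ext x; fin_cases x <;> simp

lemma e3_eta (t : Fin 3 →₀ ℕ) : e3 (t 0) (t 1) (t 2) = t := by
  ext x; fin_cases x <;> simp

lemma e2_inj {i j i' j' : ℕ} : e2 i j = e2 i' j' ↔ i = i' ∧ j = j' := by
  constructor
  · intro h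
    exact ⟨by simpa using DFunLike.congr_fun h 0, by simpa using DFunLike.congr_fun h 1⟩
  · rintro ⟨rfl, rfl⟩; rfl

lemma e3_inj {i j l i' j' l' : ℕ} : e3 i j l = e3 i' j' l' ↔ i = i' ∧ j = j' ∧ l = l' := by
  constructor
  · intro h
    exact ⟨by simpa using DFunLike.congr_fun h 0, by simpa using DFunLike.congr_fun h 1,
      by simpa using DFunLike.congr_fun h 2⟩
  · rintro ⟨rfl, rfl, rfl⟩; rfl

end Expo

section Mono
variable {R : Type*} [CommRing R]

lemma mono2 (i j : ℕ) : (X 0 : MvPolynomial (Fin 2) R) ^ i * X 1 ^ j = monomial (e2 i j) 1 := by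
  rw [X_pow_eq_monomial, X_pow_eq_monomial, monomial_mul, one_mul]; rfl

lemma mono3 (i j l : ℕ) :
    (X 0 : MvPolynomial (Fin 3) R) ^ i * X 1 ^ j * X 2 ^ l = monomial (e3 i j l) 1 := by
  rw [X_pow_eq_monomial, X_pow_eq_monomial, X_pow_eq_monomial, monomial_mul, monomial_mul, one_mul,
    one_mul]; rfl

lemma aeval_eq_sum {τ : Type*} (g : Fin 2 → MvPolynomial τ R) (F : MvPolynomial (Fin 2) R) :
    aeval g F = ∑ s ∈ F.support, C (coeff s F) * (g 0 ^ s 0 * g 1 ^ s 1) := by
  rw [aeval_def, eval₂_eq']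
  refine Finset.sum_congr rfl (fun s _ => ?_)
  rw [Fin.prod_univ_two]
  rfl

lemma coeff_aeval {τ : Type*} (g : Fin 2 → MvPolynomial τ R) (F : MvPolynomial (Fin 2) R)
    (t : τ →₀ ℕ) :
    coeff t (aeval g F) = ∑ s ∈ F.support, coeff s F * coeff t (g 0 ^ s 0 * g 1 ^ s 1) := by
  rw [aeval_eq_sum, coeff_sum]
  refine Finset.sum_congr rfl (fun s _ => ?_)
  rw [coeff_C_mul]

lemma sum_collapse (F : MvPolynomial (Fin 2) R) (i j : ℕ) (φ : (Fin 2 →₀ ℕ) → R)
    (hφ : ∀ s : Fin 2 →₀ ℕ, ¬(s 0 = i ∧ s 1 = j) → φ s = 0) :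
    ∑ s ∈ F.support, coeff s F * φ s = coeff (e2 i j) F * φ (e2 i j) := by
  classical
  rw [Finset.sum_eq_single (e2 i j)]
  · intro s _ hs
    rw [hφ s, mul_zero]
    rintro ⟨h0, h1⟩
    apply hs
    rw [← e2_eta s, h0, h1]
  · intro h
    rw [notMem_support_iff.mp h, zero_mul]

end Mono

section K
variable {R : Type*} [CommRing R]

lemma K1 (a b i j l : ℕ) :
    coeff (e3 i j l) ((X 0 : MvPolynomial (Fin 3) R) ^ a * (X 1 + X 2) ^ b) =
      if a = i ∧ b = j + l then (b.choose j : R) else 0 := by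
  classical
  rw [add_pow, Finset.mul_sum, coeff_sum]
  have hterm : ∀ m ∈ Finset.range (b + 1),
      coeff (e3 i j l) ((X 0 : MvPolynomial (Fin 3) R) ^ a *
        (X 1 ^ m * X 2 ^ (b - m) * (b.choose m : MvPolynomial (Fin 3) R))) =
      if (a = i ∧ m = j ∧ b - m = l) then (b.choose m : R) else 0 := by
    intro m _
    have h1 : (X 0 : MvPolynomial (Fin 3) R) ^ a *
        (X 1 ^ m * X 2 ^ (b - m) * (b.choose m : MvPolynomial (Fin 3) R)) =
        monomial (e3 a m (b - m)) (b.choose m : R) := by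
      have : ((b.choose m : ℕ) : MvPolynomial (Fin 3) R) = C ((b.choose m : ℕ) : R) := by
        simp
      rw [this, ← mul_assoc, ← mul_assoc, mono3, mul_comm, C_mul_monomial, mul_one]
    rw [h1, coeff_monomial]
    simp only [e3_inj]
  rw [Finset.sum_congr rfl hterm]
  split_ifs with h
  · obtain ⟨rfl, rfl⟩ := h
    rw [Finset.sum_eq_single j]
    · simp
    · intro m _ hm
      rw [if_neg]
      rintro ⟨-, h2, -⟩
      exact hm h2
    · intro h
      exfalso; apply h; simp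
  · apply Finset.sum_eq_zero
    intro m hm
    rw [if_neg]
    rintro ⟨h1, h2, h3⟩
    apply h
    refine ⟨h1, ?_⟩
    have := Finset.mem_range.mp hm
    omega

lemma K3 (a b i j l : ℕ) :
    coeff (e3 i j l) (((X 0 : MvPolynomial (Fin 3) R) + X 1) ^ a * X 2 ^ b) =
      if a = i + j ∧ b = l then (a.choose i : R) else 0 := by
  classical
  rw [add_pow, Finset.sum_mul, coeff_sum]
  have hterm : ∀ m ∈ Finset.range (a + 1),
      coeff (e3 i j l) ((X 0 : MvPolynomial (Fin 3) R) ^ m * X 1 ^ (a - m) *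
        (a.choose m : MvPolynomial (Fin 3) R) * X 2 ^ b) =
      if (m = i ∧ a - m = j ∧ b = l) then (a.choose m : R) else 0 := by
    intro m _
    have h1 : (X 0 : MvPolynomial (Fin 3) R) ^ m * X 1 ^ (a - m) *
        (a.choose m : MvPolynomial (Fin 3) R) * X 2 ^ b =
        monomial (e3 m (a - m) b) (a.choose m : R) := by
      have : ((a.choose m : ℕ) : MvPolynomial (Fin 3) R) = C ((a.choose m : ℕ) : R) := by
        simp
      rw [this, mul_right_comm, mono3, mul_comm, C_mul_monomial, mul_one]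
    rw [h1, coeff_monomial]
    simp only [e3_inj]
  rw [Finset.sum_congr rfl hterm]
  split_ifs with h
  · obtain ⟨rfl, rfl⟩ := h
    rw [Finset.sum_eq_single i]
    · simp
    · intro m _ hm
      rw [if_neg]
      rintro ⟨h2, -, -⟩
      exact hm h2
    · intro h
      exfalso; apply h; simp
  · apply Finset.sum_eq_zero
    intro m hm
    rw [if_neg]
    rintro ⟨h1, h2, h3⟩
    apply h
    refine ⟨?_, h3⟩
    have := Finset.mem_range.mp hm
    omega

lemma K2 (a b i j l : ℕ) :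
    coeff (e3 i j l) ((X 1 : MvPolynomial (Fin 3) R) ^ a * X 2 ^ b) =
      if i = 0 ∧ a = j ∧ b = l then 1 else 0 := by
  classical
  have h1 : (X 1 : MvPolynomial (Fin 3) R) ^ a * X 2 ^ b = monomial (e3 0 a b) 1 := by
    rw [← mono3, pow_zero, one_mul]
  rw [h1, coeff_monomial]
  simp only [e3_inj, eq_comm (a := 0)]

lemma K4 (a b i j l : ℕ) :
    coeff (e3 i j l) ((X 0 : MvPolynomial (Fin 3) R) ^ a * X 1 ^ b) =
      if a = i ∧ b = j ∧ l = 0 then 1 else 0 := by
  classical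
  have h1 : (X 0 : MvPolynomial (Fin 3) R) ^ a * X 1 ^ b = monomial (e3 a b 0) 1 := by
    rw [← mono3, pow_zero, mul_one]
  rw [h1, coeff_monomial]
  simp only [e3_inj, eq_comm (a := 0)]

lemma K0 (a b i j : ℕ) :
    coeff (e2 i j) ((X 1 : MvPolynomial (Fin 2) R) ^ a * X 0 ^ b) =
      if b = i ∧ a = j then 1 else 0 := by
  classical
  rw [mul_comm, mono2, coeff_monomial]
  simp only [e2_inj]

end K

end Groth.Agent.Lib.Helper86.SymCoc
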