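import Mathlib
import Groth.Agent.Lib.Helper86.Coc1

set_option autoImplicit false
open MvPolynomial

namespace Groth.Agent.Lib.Helper86.SymCoc

section D
variable {R : Type*} [CommRing R]

/-- coefficient function -/
noncomputable def cf (F : MvPolynomial (Fin 2) R) (i j : ℕ) : R := coeff (e2 i j) F

/-- the cocycle defect -/
noncomputable def Dc (F : MvPolynomial (Fin 2) R) : MvPolynomial (Fin 3) R :=
  aeval ![X 0, X 1 + X 2] F + aeval ![X 1, X 2] F - aeval ![X 0 + X 1, X 2] F
    - aeval ![X 0, X 1] F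

lemma coeff_t1 (F : MvPolynomial (Fin 2) R) (i j l : ℕ) :
    coeff (e3 i j l) (aeval ![(X 0 : MvPolynomial (Fin 3) R), X 1 + X 2] F) =
      cf F i (j + l) * ((j + l).choose j : R) := by
  rw [coeff_aeval]
  simp only [Matrix.cons_val_zero, Matrix.cons_val_one, K1]
  rw [sum_collapse F i (j + l)
    (fun s => if s 0 = i ∧ s 1 = j + l then ((s 1).choose j : R) else 0)
    (fun s hs => if_neg hs)]
  simp [cf]

lemma coeff_t2 (F : MvPolynomial (Fin 2) R) (i j l : ℕ) :
    coeff (e3 i j l) (aeval ![(X 1 : MvPolynomial (Fin 3) R), X 2] F) =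
      if i = 0 then cf F j l else 0 := by
  rw [coeff_aeval]
  simp only [Matrix.cons_val_zero, Matrix.cons_val_one, K2]
  rw [sum_collapse F j l
    (fun s => if i = 0 ∧ s 0 = j ∧ s 1 = l then (1 : R) else 0)
    (fun s hs => if_neg (fun h => hs h.2))]
  simp only [e2_zero, e2_one, and_self, and_true, cf]
  split_ifs <;> simp

lemma coeff_t3 (F : MvPolynomial (Fin 2) R) (i j l : ℕ) :
    coeff (e3 i j l) (aeval ![(X 0 : MvPolynomial (Fin 3) R) + X 1, X 2] F) =
      cf F (i + j) l * ((i + j).choose i : R) := by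
  rw [coeff_aeval]
  simp only [Matrix.cons_val_zero, Matrix.cons_val_one, K3]
  rw [sum_collapse F (i + j) l
    (fun s => if s 0 = i + j ∧ s 1 = l then ((s 0).choose i : R) else 0)
    (fun s hs => if_neg hs)]
  simp [cf]

lemma coeff_t4 (F : MvPolynomial (Fin 2) R) (i j l : ℕ) :
    coeff (e3 i j l) (aeval ![(X 0 : MvPolynomial (Fin 3) R), X 1] F) =
      if l = 0 then cf F i j else 0 := by
  rw [coeff_aeval]
  simp only [Matrix.cons_val_zero, Matrix.cons_val_one, K4]
  rw [sum_collapse F i j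
    (fun s => if s 0 = i ∧ s 1 = j ∧ l = 0 then (1 : R) else 0)
    (fun s hs => if_neg (fun h => hs ⟨h.1, h.2.1⟩))]
  simp only [e2_zero, e2_one, true_and, cf]
  split_ifs <;> simp

lemma coeff_swap (F : MvPolynomial (Fin 2) R) (i j : ℕ) :
    coeff (e2 i j) (aeval ![(X 1 : MvPolynomial (Fin 2) R), X 0] F) = cf F j i := by
  rw [coeff_aeval]
  simp only [Matrix.cons_val_zero, Matrix.cons_val_one, K0]
  rw [sum_collapse F j i
    (fun s => if s 1 = i ∧ s 0 = j then (1 : R) else 0)
    (fun s hs => if_neg (fun h => hs ⟨h.2, h.1⟩))]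
  simp [cf]

lemma coeff_Dc (F : MvPolynomial (Fin 2) R) (i j l : ℕ) :
    coeff (e3 i j l) (Dc F) =
      cf F i (j + l) * ((j + l).choose j : R) + (if i = 0 then cf F j l else 0)
        - cf F (i + j) l * ((i + j).choose i : R) - (if l = 0 then cf F i j else 0) := by
  rw [Dc, coeff_sub, coeff_sub, coeff_add, coeff_t1, coeff_t2, coeff_t3, coeff_t4]

/-- coefficientwise symmetric two-cocycle condition. -/
def IsCoc (a : ℕ → ℕ → R) : Prop :=
  (∀ i j, a i j = a j i) ∧
    ∀ i j l, a i (j + l) * ((j + l).choose j : R) + (if i = 0 then a j l else 0)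
      = a (i + j) l * ((i + j).choose i : R) + (if l = 0 then a i j else 0)

theorem isCoc_iff (F : MvPolynomial (Fin 2) R) :
    (aeval ![(X 1 : MvPolynomial (Fin 2) R), X 0] F = F ∧ Dc F = 0) ↔ IsCoc (cf F) := by
  constructor
  · rintro ⟨h1, h2⟩
    refine ⟨fun i j => ?_, fun i j l => ?_⟩
    · rw [← coeff_swap, h1, cf]
    · have := coeff_Dc F i j l
      rw [h2, coeff_zero] at this
      linear_combination -this
  · rintro ⟨h1, h2⟩
    constructor
    · ext s
      rw [← e2_eta s, coeff_swap, ← h1]; rfl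
    · ext t
      rw [← e3_eta t, coeff_Dc, coeff_zero, h2]
      ring

end D

end Groth.Agent.Lib.Helper86.SymCoc
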