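import Mathlib
import Groth.Agent.Lib.Helper86.Coc2

set_option autoImplicit false
set_option linter.unusedSectionVars false
open MvPolynomial

namespace Groth.Agent.Lib.Helper86.SymCoc

section NT
variable (R : Type*) [CommRing R] (p : ℕ) [hp : Fact p.Prime] [CharP R p]

lemma isUnit_cast {x : ℕ} (h : ¬ p ∣ x) : IsUnit (x : R) := by
  have h1 : IsUnit ((x : ZMod p)) := by
    rw [isUnit_iff_ne_zero]
    intro h0
    exact h ((ZMod.natCast_eq_zero_iff x p).mp h0)
  have := h1.map (ZMod.castHom (dvd_refl p) R)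
  simpa using this

lemma cast_p : ((p : ℕ) : R) = 0 := CharP.cast_eq_zero R p

/-- `p ∣ n → C(n-1, p-1) ≡ 1`. -/
lemma choose_pred_pred {n : ℕ} (hn : 0 < n) (hpn : p ∣ n) :
    (((n - 1).choose (p - 1) : ℕ) : R) = 1 := by
  have hp1 := hp.out.one_lt
  obtain ⟨n', rfl⟩ := hpn
  have hn' : 0 < n' := Nat.pos_of_mul_pos_left hn
  have h1 : (p * n' - 1) % p = p - 1 := by
    have : p * n' - 1 = (p - 1) + p * (n' - 1) := by
      obtain ⟨n'', rfl⟩ : ∃ n'', n' = n'' + 1 := ⟨n' - 1, by omega⟩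
      rw [Nat.add_sub_cancel, Nat.mul_succ]
      omega
    rw [this, Nat.add_mul_mod_self_left, Nat.mod_eq_of_lt (by omega)]
  have h2 : (p - 1) % p = p - 1 := Nat.mod_eq_of_lt (by omega)
  have h3 : (p - 1) / p = 0 := Nat.div_eq_of_lt (by omega)
  have := Choose.choose_modEq_choose_mod_mul_choose_div_nat (p := p) (n := p * n' - 1) (k := p - 1)
  rw [h1, h2, h3, Nat.choose_self, Nat.choose_zero_right, mul_one] at this
  rw [CharP.natCast_eq_natCast' R p this, Nat.cast_one]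

lemma choose_mul_mul (x y : ℕ) : (((p * x).choose (p * y) : ℕ) : R) = ((x.choose y : ℕ) : R) :=
  CharP.natCast_eq_natCast' R p Choose.choose_mul_mul_modEq_choose_nat

lemma choose_eq_zero_of_dvd {n i : ℕ} (hpn : p ∣ n) (hi : ¬ p ∣ i) : ((n.choose i : ℕ) : R) = 0 := by
  have h1 : n % p = 0 := Nat.mod_eq_zero_of_dvd hpn
  have h2 : i % p ≠ 0 := fun h => hi (Nat.dvd_of_mod_eq_zero h)
  have := Choose.choose_modEq_choose_mod_mul_choose_div_nat (p := p) (n := n) (k := i)
  rw [h1, Nat.choose_eq_zero_of_lt (Nat.pos_of_ne_zero h2), zero_mul] at this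
  rw [CharP.natCast_eq_natCast' R p this, Nat.cast_zero]

end NT

section Sig
variable (R : Type*) [CommRing R] (p : ℕ) [hp : Fact p.Prime]

/-- coefficient of `X^i Y^j` in `S(X^(p^k), Y^(p^k))`. -/
noncomputable def sig (k i j : ℕ) : R :=
  ∑ m ∈ Finset.Ioo 0 p,
    if i = m * p ^ k ∧ j = (p - m) * p ^ k then ((p.choose m / p : ℕ) : R) else 0

/-- coefficient of `X^i Y^j` in `(X+Y)^n - X^n - Y^n`, `n = i + j ≥ 1`. -/
noncomputable def dc (i j : ℕ) : R := if i = 0 ∨ j = 0 then 0 else (((i + j).choose i : ℕ) : R)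

lemma sig_eq_zero_of_forall {k i j : ℕ}
    (h : ∀ m, 0 < m → m < p → i = m * p ^ k → j = (p - m) * p ^ k → False) : sig R p k i j = 0 := by
  apply Finset.sum_eq_zero
  intro m hm
  rw [Finset.mem_Ioo] at hm
  rw [if_neg]
  rintro ⟨h1, h2⟩
  exact h m hm.1 hm.2 h1 h2

lemma sig_eq_zero_of_sum_ne {k i j : ℕ} (h : i + j ≠ p ^ (k + 1)) : sig R p k i j = 0 := by
  apply sig_eq_zero_of_forall
  intro m hm0 hmp h1 h2
  apply h
  rw [h1, h2, ← add_mul, pow_succ']
  congr 1
  omega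

lemma sig_eq_zero_of_not_dvd {k i j : ℕ} (h : ¬ p ^ k ∣ i) : sig R p k i j = 0 := by
  apply sig_eq_zero_of_forall
  intro m _ _ h1 _
  exact h ⟨m, by rw [h1, mul_comm]⟩

lemma sig_zero_left (k j : ℕ) : sig R p k 0 j = 0 := by
  apply sig_eq_zero_of_forall
  intro m hm0 _ h1 _
  have hp0 := hp.out.pos
  have : 0 < m * p ^ k := Nat.mul_pos hm0 (pow_pos hp0 k)
  omega

lemma sig_zero_right (k i : ℕ) : sig R p k i 0 = 0 := by
  apply sig_eq_zero_of_forall
  intro m _ hmp _ h2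
  have hp0 := hp.out.pos
  have : 0 < (p - m) * p ^ k := Nat.mul_pos (by omega) (pow_pos hp0 k)
  omega

lemma sig_succ_mul (k i j : ℕ) : sig R p (k + 1) (p * i) (p * j) = sig R p k i j := by
  have hp0 := hp.out.pos
  apply Finset.sum_congr rfl
  intro m _
  have h1 : (p * i = m * p ^ (k + 1) ∧ p * j = (p - m) * p ^ (k + 1)) ↔
      (i = m * p ^ k ∧ j = (p - m) * p ^ k) := by
    rw [pow_succ', ← mul_assoc, mul_comm m p, mul_assoc, ← mul_assoc (p - m) p, mul_comm (p - m) p,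
      mul_assoc]
    constructor
    · rintro ⟨h1, h2⟩
      exact ⟨Nat.eq_of_mul_eq_mul_left hp0 h1, Nat.eq_of_mul_eq_mul_left hp0 h2⟩
    · rintro ⟨h1, h2⟩
      rw [h1, h2]; exact ⟨rfl, rfl⟩
  simp only [h1]

lemma sig_zero_eq {i j : ℕ} (hi0 : 0 < i) (hip : i < p) (hij : i + j = p) :
    sig R p 0 i j = ((p.choose i / p : ℕ) : R) := by
  classical
  rw [sig, Finset.sum_eq_single i]
  · rw [if_pos]
    simp only [pow_zero, mul_one, true_and]
    omega
  · intro m _ hm
    rw [if_neg]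
    rintro ⟨h1, -⟩
    apply hm
    simpa using h1.symm
  · intro h
    exfalso; apply h
    exact Finset.mem_Ioo.mpr ⟨hi0, hip⟩

/-- the sum of the `sig k i j` over a long enough range does not depend on the range. -/
lemma sum_sig_range {i j N : ℕ} (hN : i + j ≤ N) :
    ∑ k ∈ Finset.range N, sig R p k i j = ∑ k ∈ Finset.range (i + j), sig R p k i j := by
  rw [← Finset.sum_range_add_sum_Ico _ hN]
  rw [add_eq_left]
  apply Finset.sum_eq_zero
  intro k hk
  rw [Finset.mem_Ico] at hk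
  apply sig_eq_zero_of_sum_ne
  have : k + 1 < p ^ (k + 1) := Nat.lt_pow_self hp.out.one_lt
  omega

end Sig

end Groth.Agent.Lib.Helper86.SymCoc
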