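import Mathlib
import Groth.Agent.Lib.Helper86.Coc3

set_option autoImplicit false
set_option linter.unusedSectionVars false
open MvPolynomial

namespace Groth.Agent.Lib.Helper86.SymCoc

section T
variable {R : Type*} [CommRing R] (p : ℕ) [hp : Fact p.Prime] [CharP R p]

lemma IsCoc.zero_left {a : ℕ → ℕ → R} (h : IsCoc a) {n : ℕ} (hn : n ≠ 0) : a 0 n = 0 := by
  have := h.2 0 0 n
  simp only [zero_add, Nat.choose_zero_right, Nat.cast_one, mul_one, if_true, if_neg hn,
    add_zero] at this
  simpa using this

lemma IsCoc.zero_right {a : ℕ → ℕ → R} (h : IsCoc a) {n : ℕ} (hn : n ≠ 0) : a n 0 = 0 := by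
  rw [h.1]; exact h.zero_left hn

lemma IsCoc.rel {a : ℕ → ℕ → R} (h : IsCoc a) {n m : ℕ} (hm : 1 ≤ m) (hmn : m + 1 ≤ n) :
    a m (n - m) * ((n - m : ℕ) : R) = a (n - 1) 1 * (((n - 1).choose m : ℕ) : R) := by
  have := h.2 m (n - 1 - m) 1
  rw [if_neg (by omega), if_neg (by omega), add_zero, add_zero, Nat.choose_succ_self_right] at this
  have e1 : n - 1 - m + 1 = n - m := by omega
  have e2 : m + (n - 1 - m) = n - 1 := by omega
  rw [e1, e2] at this
  exact this

variable (R) in
/-- the combined `S`-coefficient in total degree `n`. -/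
noncomputable def tau (n i j : ℕ) : R := ∑ k ∈ Finset.range n, sig R p k i j

lemma caseA {a : ℕ → ℕ → R} (h : IsCoc a) {n : ℕ} (hn : 1 ≤ n) (hpn : ¬ p ∣ n) :
    ∃ g : R, ∀ i j, i + j = n → a i j = g * dc R i j := by
  obtain ⟨ν, hν⟩ := (isUnit_cast R p hpn).exists_left_inv
  set c := a (n - 1) 1 with hc
  refine ⟨ν * c, ?_⟩
  -- the main computation for `n - m` prime to `p`
  have key : ∀ m, 1 ≤ m → m + 1 ≤ n → ¬ p ∣ (n - m) →
      a m (n - m) = ν * c * ((n.choose m : ℕ) : R) := by
    intro m hm hmn hd
    have hu := isUnit_cast R p hd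
    have h1 := h.rel hm hmn
    have h2 : (n - 1).choose m * n = n.choose m * (n - m) := by
      have := Nat.choose_mul_succ_eq (n - 1) m
      rwa [show n - 1 + 1 = n by omega] at this
    have h3 : (((n - 1).choose m : ℕ) : R) * (n : R) = ((n.choose m : ℕ) : R) * ((n - m : ℕ) : R) := by
      exact_mod_cast congrArg (Nat.cast (R := R)) h2
    apply hu.mul_right_cancel
    rw [h1, ← hc]
    calc c * (((n - 1).choose m : ℕ) : R) = c * (((n - 1).choose m : ℕ) : R) * (ν * (n : R)) := by
          rw [hν, mul_one]
      _ = ν * c * ((((n - 1).choose m : ℕ) : R) * (n : R)) := by ring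
      _ = ν * c * ((n.choose m : ℕ) : R) * ((n - m : ℕ) : R) := by rw [h3]; ring
  intro i j hij
  by_cases hi : i = 0
  · subst hi
    rw [h.zero_left (by omega), dc, if_pos (Or.inl rfl), mul_zero]
  by_cases hj : j = 0
  · subst hj
    rw [h.zero_right (by omega), dc, if_pos (Or.inr rfl), mul_zero]
  have hj' : j = n - i := by omega
  rw [dc, if_neg (by tauto), hij]
  by_cases hd : p ∣ (n - i)
  · -- use symmetry
    have hd' : ¬ p ∣ (n - j) := by
      intro h'
      apply hpn
      have : n = (n - i) + (n - j) := by omega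
      rw [this]
      exact dvd_add hd h'
    rw [h.1 i j]
    have := key j (by omega) (by omega) hd'
    rw [show n - j = i by omega] at this
    rw [this]
    congr 2
    rw [← hij, Nat.add_comm i j]
    exact (Nat.choose_symm_add (a := j) (b := i))
  · have := key i (by omega) (by omega) hd
    rw [← hj'] at this
    exact this

lemma caseB {a : ℕ → ℕ → R} (h : IsCoc a) :
    ∀ i j, i + j = p → a i j = a (p - 1) 1 * sig R p 0 i j := by
  have hp2 := hp.out.two_le
  intro i j hij
  by_cases hi : i = 0
  · subst hi
    rw [h.zero_left (by omega), sig_zero_left, mul_zero]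
  by_cases hj : j = 0
  · subst hj
    rw [h.zero_right (by omega), sig_zero_right, mul_zero]
  have hip : i < p := by omega
  rw [sig_zero_eq R p (by omega) hip hij]
  have hj' : j = p - i := by omega
  have hd : ¬ p ∣ (p - i) := fun h' => by
    have := Nat.le_of_dvd (by omega) h'
    omega
  have hu := isUnit_cast R p hd
  have h1 := h.rel (n := p) (m := i) (by omega) (by omega)
  have h2 : (p - 1).choose i * p = p.choose i * (p - i) := by
    have := Nat.choose_mul_succ_eq (p - 1) i
    rwa [show p - 1 + 1 = p by omega] at this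
  obtain ⟨q, hq⟩ := hp.out.dvd_choose_self hi hip
  have h3 : p.choose i / p = q := by rw [hq, Nat.mul_div_cancel_left _ hp.out.pos]
  have h4 : (p - 1).choose i = q * (p - i) := by
    rw [hq, mul_assoc, mul_comm] at h2
    exact Nat.eq_of_mul_eq_mul_left hp.out.pos h2
  apply hu.mul_right_cancel
  rw [hj', h1, h3, h4]
  push_cast
  ring

lemma caseC_zero {a : ℕ → ℕ → R} (h : IsCoc a) {n : ℕ} (hpn : p ∣ n) (hn : p < n) :
    ∀ i j, i + j = n → ¬ p ∣ i → a i j = 0 := by
  have hp2 := hp.out.two_le
  obtain ⟨n', rfl⟩ := hpn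
  have hn' : 2 ≤ n' := by
    by_contra hlt
    have : n' ≤ 1 := by omega
    have : p * n' ≤ p * 1 := Nat.mul_le_mul_left p this
    omega
  have hnp : p * 2 ≤ p * n' := Nat.mul_le_mul_left p hn'
  -- c = 0
  have hc : a (p * n' - 1) 1 = 0 := by
    have h1 := h.rel (n := p * n') (m := p * n' - p) (by omega) (by omega)
    rw [show p * n' - (p * n' - p) = p by omega, cast_p, mul_zero,
      ← Nat.choose_symm (by omega), show p * n' - 1 - (p * n' - p) = p - 1 by omega,
      choose_pred_pred R p (by omega) ⟨n', rfl⟩, mul_one] at h1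
    exact h1.symm
  intro i j hij hi
  have hi0 : i ≠ 0 := fun h0 => hi (h0 ▸ dvd_zero p)
  have hin : i ≠ p * n' := fun h0 => hi (h0 ▸ ⟨n', rfl⟩)
  have hj' : j = p * n' - i := by omega
  have hd : ¬ p ∣ (p * n' - i) := by
    intro h'
    apply hi
    have : i = p * n' - (p * n' - i) := by omega
    rw [this]
    exact Nat.dvd_sub ⟨n', rfl⟩ h'
  have hu := isUnit_cast R p hd
  have h1 := h.rel (n := p * n') (m := i) (by omega) (by omega)
  rw [hc, zero_mul] at h1
  rw [hj']
  exact hu.mul_left_eq_zero.mp h1

lemma IsCoc.twist {a : ℕ → ℕ → R} (h : IsCoc a) : IsCoc (fun i j => a (p * i) (p * j)) := by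
  have hp0 := hp.out.pos
  refine ⟨fun i j => h.1 _ _, fun i j l => ?_⟩
  have := h.2 (p * i) (p * j) (p * l)
  rw [← mul_add, ← mul_add, choose_mul_mul, choose_mul_mul] at this
  have e1 : (p * i = 0) ↔ (i = 0) := by
    constructor
    · intro h0; rcases Nat.mul_eq_zero.mp h0 with h | h <;> omega
    · rintro rfl; simp
  have e2 : (p * l = 0) ↔ (l = 0) := by
    constructor
    · intro h0; rcases Nat.mul_eq_zero.mp h0 with h | h <;> omega
    · rintro rfl; simp
  simp only [e1, e2] at this
  exact this

lemma dc_mul_mul (i j : ℕ) : dc R (p * i) (p * j) = dc R i j := by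
  have hp0 := hp.out.pos
  unfold dc
  have e1 : (p * i = 0 ∨ p * j = 0) ↔ (i = 0 ∨ j = 0) := by
    simp only [Nat.mul_eq_zero]
    constructor
    · rintro (h | h) <;> rcases h with h | h <;> omega
    · rintro (h | h)
      · left; right; exact h
      · right; right; exact h
  simp only [e1, ← mul_add, choose_mul_mul]

lemma tau_mul_mul {n' : ℕ} (hn' : 2 ≤ n') (i j : ℕ) (hij : i + j = n') :
    tau R p (p * n') (p * i) (p * j) = tau R p n' i j := by
  have hp2 := hp.out.two_le
  unfold tau
  have hpos : 0 < p * n' := Nat.mul_pos (by omega) (by omega)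
  obtain ⟨N, hN⟩ : ∃ N, p * n' = N + 1 := ⟨p * n' - 1, by omega⟩
  rw [hN, Finset.sum_range_succ']
  have h0 : sig R p 0 (p * i) (p * j) = 0 := by
    apply sig_eq_zero_of_sum_ne
    rw [← mul_add, hij, zero_add, pow_one]
    intro h
    have : p * 2 ≤ p * n' := Nat.mul_le_mul_left p hn'
    omega
  rw [h0, add_zero]
  simp only [sig_succ_mul]
  have hle : n' ≤ N := by
    have : n' * 2 ≤ p * n' := by rw [mul_comm]; exact Nat.mul_le_mul_right n' hp2
    omega
  rw [sum_sig_range R p (hij ▸ hle), hij]

theorem structure_thm : ∀ n, 1 ≤ n → ∀ a : ℕ → ℕ → R, IsCoc a →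
    ∃ g ρ : R, ∀ i j, i + j = n → a i j = g * dc R i j + ρ * tau R p n i j := by
  have hp2 := hp.out.two_le
  intro n
  induction n using Nat.strong_induction_on with
  | _ n ih =>
    intro hn a ha
    by_cases hpn : p ∣ n
    · by_cases hnp : n = p
      · -- case B
        subst hnp
        refine ⟨0, a (n - 1) 1, fun i j hij => ?_⟩
        rw [zero_mul, zero_add, caseB n ha i j hij]
        congr 1
        unfold tau
        obtain ⟨N, hN⟩ : ∃ N, n = N + 1 := ⟨n - 1, by omega⟩
        rw [hN, Finset.sum_range_succ', ← hN]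
        rw [Finset.sum_eq_zero, zero_add]
        intro k _
        apply sig_eq_zero_of_sum_ne
        rw [hij]
        intro h
        have : n ^ 1 < n ^ (k + 1 + 1) := Nat.pow_lt_pow_right (by omega) (by omega)
        rw [pow_one] at this
        omega
      · -- case C
        have hlt : p < n := by
          have := Nat.le_of_dvd (by omega) hpn
          omega
        obtain ⟨n', rfl⟩ := hpn
        have hn' : 2 ≤ n' := by
          by_contra hlt'
          have : n' ≤ 1 := by omega
          have : p * n' ≤ p * 1 := Nat.mul_le_mul_left p this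
          omega
        have hlt' : n' < p * n' := by
          have : 2 * n' ≤ p * n' := Nat.mul_le_mul_right n' hp2
          omega
        obtain ⟨g, ρ, hgρ⟩ := ih n' hlt' (by omega) _ (ha.twist p)
        refine ⟨g, ρ, fun i j hij => ?_⟩
        by_cases hi : p ∣ i
        · obtain ⟨i', rfl⟩ := hi
          have hj : p ∣ j := by
            have : j = p * n' - p * i' := by omega
            rw [this]
            exact Nat.dvd_sub ⟨n', rfl⟩ ⟨i', rfl⟩
          obtain ⟨j', rfl⟩ := hj
          have hij' : i' + j' = n' := by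
            rw [← mul_add] at hij
            exact Nat.eq_of_mul_eq_mul_left (by omega) hij
          rw [dc_mul_mul, tau_mul_mul p hn' i' j' hij']
          exact hgρ i' j' hij'
        · rw [caseC_zero p ha ⟨n', rfl⟩ hlt i j hij hi]
          have hi0 : i ≠ 0 := fun h0 => hi (h0 ▸ dvd_zero p)
          have hj0 : j ≠ 0 := by
            rintro rfl
            apply hi
            rw [add_zero] at hij
            rw [hij]
            exact ⟨n', rfl⟩
          have h1 : dc R i j = 0 := by
            rw [dc, if_neg (by tauto), hij]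
            exact choose_eq_zero_of_dvd R p ⟨n', rfl⟩ hi
          have h2 : tau R p (p * n') i j = 0 := by
            apply Finset.sum_eq_zero
            intro k _
            rcases Nat.eq_zero_or_pos k with rfl | hk
            · apply sig_eq_zero_of_sum_ne
              rw [hij, zero_add, pow_one]
              omega
            · apply sig_eq_zero_of_not_dvd
              intro h'
              apply hi
              exact dvd_trans (dvd_pow_self p (by omega)) h'
          rw [h1, h2, mul_zero, mul_zero, add_zero]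
    · -- case A
      obtain ⟨g, hg⟩ := caseA p ha hn hpn
      refine ⟨g, 0, fun i j hij => ?_⟩
      rw [hg i j hij, zero_mul, add_zero]

end T

end Groth.Agent.Lib.Helper86.SymCoc
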