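import Mathlib
import Groth.Agent.Lib.Helper86.Coc4

set_option autoImplicit false
set_option linter.unusedSectionVars false
open MvPolynomial

namespace Groth.Agent.Lib.Helper86.SymCoc

section Lin
variable {R : Type*} [CommRing R]

/-- the cocycle defect as a linear map. -/
noncomputable def DcLin : MvPolynomial (Fin 2) R →ₗ[R] MvPolynomial (Fin 3) R :=
  (aeval ![(X 0 : MvPolynomial (Fin 3) R), X 1 + X 2]).toLinearMap
    + (aeval ![(X 1 : MvPolynomial (Fin 3) R), X 2]).toLinearMap
    - (aeval ![(X 0 : MvPolynomial (Fin 3) R) + X 1, X 2]).toLinearMap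
    - (aeval ![(X 0 : MvPolynomial (Fin 3) R), X 1]).toLinearMap

lemma DcLin_apply (F : MvPolynomial (Fin 2) R) : DcLin F = Dc F := rfl

/-- the symmetry defect as a linear map. -/
noncomputable def SwLin : MvPolynomial (Fin 2) R →ₗ[R] MvPolynomial (Fin 2) R :=
  (aeval ![(X 1 : MvPolynomial (Fin 2) R), X 0]).toLinearMap - LinearMap.id

lemma SwLin_apply (F : MvPolynomial (Fin 2) R) :
    SwLin F = aeval ![(X 1 : MvPolynomial (Fin 2) R), X 0] F - F := rfl

/-- `G(X+Y) - G(X) - G(Y)`. -/
noncomputable def delta (G : Polynomial R) : MvPolynomial (Fin 2) R :=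
  Polynomial.aeval (X 0 + X 1 : MvPolynomial (Fin 2) R) G
    - Polynomial.aeval (X 0 : MvPolynomial (Fin 2) R) G
    - Polynomial.aeval (X 1 : MvPolynomial (Fin 2) R) G

lemma Dc_delta (G : Polynomial R) : Dc (delta G) = 0 := by
  simp only [Dc, delta, map_sub, ← Polynomial.aeval_algHom_apply, map_add, aeval_X,
    Matrix.cons_val_zero, Matrix.cons_val_one]
  rw [add_assoc (X 0) (X 1) (X 2)]
  ring

lemma swap_delta (G : Polynomial R) :
    aeval ![(X 1 : MvPolynomial (Fin 2) R), X 0] (delta G) = delta G := by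
  simp only [delta, map_sub, ← Polynomial.aeval_algHom_apply, map_add, aeval_X,
    Matrix.cons_val_zero, Matrix.cons_val_one]
  rw [add_comm (X 1) (X 0)]
  ring

end Lin

section Twist
variable {R : Type*} [CommRing R] (p : ℕ) [hp : Fact p.Prime] [CharP R p]

lemma expand_X_add_X {τ : Type*} (k : ℕ) (a b : τ) :
    expand (p ^ k) ((X a : MvPolynomial τ R) + X b) = (X a + X b) ^ (p ^ k) := by
  rw [map_add, expand_X, expand_X, add_pow_char_pow]

lemma expand_comp_aeval {τ : Type*} (k : ℕ) (g : Fin 2 → MvPolynomial τ R)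
    (hg : ∀ i, expand (p ^ k) (g i) = g i ^ (p ^ k)) (F : MvPolynomial (Fin 2) R) :
    expand (p ^ k) (aeval g F) = aeval g (expand (p ^ k) F) := by
  have : (expand (p ^ k)).comp (aeval g) = (aeval g).comp (expand (p ^ k) (σ := Fin 2) (R := R)) := by
    apply MvPolynomial.algHom_ext
    intro i
    simp only [AlgHom.comp_apply, aeval_X, expand_X, map_pow, hg]
  exact DFunLike.congr_fun this F

lemma Dc_expand (k : ℕ) (F : MvPolynomial (Fin 2) R) :
    Dc (expand (p ^ k) F) = expand (p ^ k) (Dc F) := by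
  simp only [Dc, map_sub, map_add]
  rw [expand_comp_aeval p k, expand_comp_aeval p k, expand_comp_aeval p k, expand_comp_aeval p k]
  · intro i; fin_cases i
    · simp
    · simp
  · intro i; fin_cases i
    · simpa using expand_X_add_X p k (0 : Fin 3) 1
    · simp
  · intro i; fin_cases i
    · simp
    · simp
  · intro i; fin_cases i
    · simp
    · simpa using expand_X_add_X p k (1 : Fin 3) 2

lemma swap_expand (k : ℕ) (F : MvPolynomial (Fin 2) R) :
    aeval ![(X 1 : MvPolynomial (Fin 2) R), X 0] (expand (p ^ k) F) =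
      expand (p ^ k) (aeval ![(X 1 : MvPolynomial (Fin 2) R), X 0] F) := by
  rw [expand_comp_aeval p k]
  intro i; fin_cases i
  · simp
  · simp

end Twist

section S0
variable (R : Type*) [CommRing R] (p : ℕ) [hp : Fact p.Prime] [CharP R p]

/-- `S(X,Y) = Σ_{0<j<p} (C(p,j)/p) X^j Y^(p-j)`. -/
noncomputable def S0 : MvPolynomial (Fin 2) R :=
  ∑ j ∈ Finset.Ioo 0 p, C ((p.choose j / p : ℕ) : R) * X 0 ^ j * X 1 ^ (p - j)

/-- `S(X^(p^k), Y^(p^k))`. -/
noncomputable def Sk (k : ℕ) : MvPolynomial (Fin 2) R :=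
  aeval ![(X 0 : MvPolynomial (Fin 2) R) ^ p ^ k, X 1 ^ p ^ k] (S0 R p)

lemma Sk_eq_expand (k : ℕ) : Sk R p k = expand (p ^ k) (S0 R p) := by
  rw [Sk, expand, bind₁]
  congr 2
  funext i
  fin_cases i <;> rfl

lemma cf_Sk (k i j : ℕ) : cf (Sk R p k) i j = sig R p k i j := by
  classical
  rw [cf, Sk, S0, map_sum, coeff_sum, sig]
  apply Finset.sum_congr rfl
  intro m _
  have h1 : aeval ![(X 0 : MvPolynomial (Fin 2) R) ^ p ^ k, X 1 ^ p ^ k]
      (C ((p.choose m / p : ℕ) : R) * X 0 ^ m * X 1 ^ (p - m)) =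
      monomial (e2 (m * p ^ k) ((p - m) * p ^ k)) ((p.choose m / p : ℕ) : R) := by
    simp only [map_mul, map_pow, aeval_X, aeval_C, Matrix.cons_val_zero, Matrix.cons_val_one]
    rw [← pow_mul, ← pow_mul, mul_assoc, mono2, mul_comm (p ^ k) m, mul_comm (p ^ k) (p - m)]
    show C _ * _ = _
    rw [C_mul_monomial, mul_one]
  rw [h1, coeff_monomial]
  simp only [e2_inj, eq_comm]

lemma sig0_eval (i j : ℕ) :
    sig R p 0 i j = if 0 < i ∧ 0 < j ∧ i + j = p then ((p.choose i / p : ℕ) : R) else 0 := by
  split_ifs with h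
  · exact sig_zero_eq R p h.1 (by omega) h.2.2
  · by_cases hij : i + j = p
    · have : i = 0 ∨ j = 0 := by
        by_contra hc
        push Not at hc
        exact h ⟨by omega, by omega, hij⟩
      rcases this with rfl | rfl
      · exact sig_zero_left R p 0 j
      · exact sig_zero_right R p 0 i
    · apply sig_eq_zero_of_sum_ne
      simpa using hij

lemma isCoc_sig0 : IsCoc (sig R p 0 : ℕ → ℕ → R) := by
  have hp2 := hp.out.two_le
  constructor
  · intro i j
    rw [sig0_eval, sig0_eval]
    by_cases h : 0 < i ∧ 0 < j ∧ i + j = p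
    · rw [if_pos h, if_pos ⟨h.2.1, h.1, by omega⟩]
      congr 2
      rw [show j = p - i by omega, Nat.choose_symm (by omega)]
    · rw [if_neg h, if_neg (fun h' => h ⟨h'.2.1, h'.1, by omega⟩)]
  · intro i j l
    simp only [sig0_eval]
    by_cases hs : i + j + l = p
    · rcases Nat.eq_zero_or_pos i with rfl | hi
      · -- i = 0
        simp only [lt_self_iff_false, false_and, if_false, zero_mul, zero_add, if_true,
          Nat.choose_zero_right, Nat.cast_one, mul_one]
        rcases Nat.eq_zero_or_pos l with rfl | hl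
        · simp
        · rw [if_neg (by omega : ¬ l = 0), add_zero]
      · rw [if_neg (by omega : ¬ i = 0), add_zero]
        rcases Nat.eq_zero_or_pos l with rfl | hl
        · simp only [add_zero, Nat.choose_self, Nat.cast_one, mul_one, lt_self_iff_false,
            false_and, and_false, if_false, zero_mul, zero_add, if_true]
        · rw [if_neg (by omega : ¬ l = 0), add_zero,
            if_pos ⟨hi, by omega, by omega⟩, if_pos ⟨by omega, hl, by omega⟩]
          have hnat : (p.choose i / p) * (j + l).choose j = (p.choose (i + j) / p) * (i + j).choose i := by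
            obtain ⟨q1, hq1⟩ := hp.out.dvd_choose_self (k := i) (by omega) (by omega)
            obtain ⟨q2, hq2⟩ := hp.out.dvd_choose_self (k := i + j) (by omega) (by omega)
            have h1 := Nat.choose_mul (n := p) (k := i + j) (s := i) (by omega)
            rw [show p - i = j + l by omega, show i + j - i = j by omega, hq1, hq2] at h1
            rw [hq1, hq2, Nat.mul_div_cancel_left _ hp.out.pos, Nat.mul_div_cancel_left _ hp.out.pos]
            rw [mul_assoc, mul_assoc] at h1
            exact (Nat.eq_of_mul_eq_mul_left hp.out.pos h1).symm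
          exact_mod_cast congrArg (Nat.cast (R := R)) hnat
    · -- degrees do not match: everything vanishes
      have e1 : (if i = 0 then (if 0 < j ∧ 0 < l ∧ j + l = p then ((p.choose j / p : ℕ) : R) else 0)
          else 0) = 0 := by
        split_ifs with h1 h2
        · omega
        · rfl
        · rfl
      have e2 : (if l = 0 then (if 0 < i ∧ 0 < j ∧ i + j = p then ((p.choose i / p : ℕ) : R) else 0)
          else 0) = 0 := by
        split_ifs with h1 h2
        · omega
        · rfl
        · rfl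
      rw [if_neg (show ¬(0 < i ∧ 0 < j + l ∧ i + (j + l) = p) by omega),
        if_neg (show ¬(0 < i + j ∧ 0 < l ∧ i + j + l = p) by omega), e1, e2]
      simp

lemma isCoc_cf_S0 : IsCoc (cf (S0 R p)) := by
  have h : cf (S0 R p) = sig R p 0 := by
    funext i j
    have := cf_Sk R p 0 i j
    rwa [Sk_eq_expand, pow_zero, expand_one_apply] at this
  rw [h]
  exact isCoc_sig0 R p

lemma Dc_Sk (k : ℕ) : Dc (Sk R p k) = 0 := by
  rw [Sk_eq_expand, Dc_expand, ((isCoc_iff (S0 R p)).mpr (isCoc_cf_S0 R p)).2, map_zero]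

lemma swap_Sk (k : ℕ) : aeval ![(X 1 : MvPolynomial (Fin 2) R), X 0] (Sk R p k) = Sk R p k := by
  rw [Sk_eq_expand, swap_expand, ((isCoc_iff (S0 R p)).mpr (isCoc_cf_S0 R p)).1]

end S0

end Groth.Agent.Lib.Helper86.SymCoc
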