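import Mathlib
import Groth.Agent.Lib.Helper86.Coc5

set_option autoImplicit false
set_option linter.unusedSectionVars false
open MvPolynomial

namespace Groth.Agent.Lib.Helper86.SymCoc

section Q
variable {R : Type*} [CommRing R]

lemma coeff_add_pow2 (n i j : ℕ) :
    coeff (e2 i j) (((X 0 : MvPolynomial (Fin 2) R) + X 1) ^ n) =
      if n = i + j then ((n.choose i : ℕ) : R) else 0 := by
  classical
  rw [add_pow, coeff_sum]
  have hterm : ∀ m ∈ Finset.range (n + 1),
      coeff (e2 i j) ((X 0 : MvPolynomial (Fin 2) R) ^ m * X 1 ^ (n - m) *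
        (n.choose m : MvPolynomial (Fin 2) R)) =
      if (m = i ∧ n - m = j) then ((n.choose m : ℕ) : R) else 0 := by
    intro m _
    have h1 : (X 0 : MvPolynomial (Fin 2) R) ^ m * X 1 ^ (n - m) *
        (n.choose m : MvPolynomial (Fin 2) R) = monomial (e2 m (n - m)) ((n.choose m : ℕ) : R) := by
      have : ((n.choose m : ℕ) : MvPolynomial (Fin 2) R) = C ((n.choose m : ℕ) : R) := by simp
      rw [this, mono2, mul_comm, C_mul_monomial, mul_one]
    rw [h1, coeff_monomial]
    simp only [e2_inj]
  rw [Finset.sum_congr rfl hterm]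
  split_ifs with h
  · subst h
    rw [Finset.sum_eq_single i]
    · simp
    · intro m _ hm
      rw [if_neg]
      rintro ⟨h2, -⟩
      exact hm h2
    · intro h
      exfalso; apply h; simp
  · apply Finset.sum_eq_zero
    intro m hm
    rw [if_neg]
    rintro ⟨h1, h2⟩
    apply h
    have := Finset.mem_range.mp hm
    omega

lemma cf_aeval_add (G : Polynomial R) (i j : ℕ) :
    cf (Polynomial.aeval ((X 0 : MvPolynomial (Fin 2) R) + X 1) G) i j =
      (((i + j).choose i : ℕ) : R) * G.coeff (i + j) := by
  classical
  rw [cf, Polynomial.aeval_eq_sum_range, coeff_sum]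
  simp only [coeff_smul, coeff_add_pow2, smul_eq_mul]
  by_cases h : i + j ∈ Finset.range (G.natDegree + 1)
  · rw [Finset.sum_eq_single (i + j)]
    · rw [if_pos rfl, mul_comm]
    · intro m _ hm
      rw [if_neg hm, mul_zero]
    · intro h'; exact absurd h h'
  · have h0 : G.coeff (i + j) = 0 := by
      apply Polynomial.coeff_eq_zero_of_natDegree_lt
      rw [Finset.mem_range] at h
      omega
    rw [h0, mul_zero]
    apply Finset.sum_eq_zero
    intro m hm
    rw [if_neg, mul_zero]
    rintro rfl
    exact h hm

lemma cf_aeval_X0 (G : Polynomial R) (i j : ℕ) :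
    cf (Polynomial.aeval (X 0 : MvPolynomial (Fin 2) R) G) i j =
      if j = 0 then G.coeff i else 0 := by
  classical
  rw [cf, Polynomial.aeval_eq_sum_range, coeff_sum]
  have hterm : ∀ m ∈ Finset.range (G.natDegree + 1),
      coeff (e2 i j) (G.coeff m • (X 0 : MvPolynomial (Fin 2) R) ^ m) =
        if (m = i ∧ j = 0) then G.coeff m else 0 := by
    intro m _
    have : (X 0 : MvPolynomial (Fin 2) R) ^ m = monomial (e2 m 0) 1 := by
      rw [← mono2, pow_zero, mul_one]
    rw [coeff_smul, this, coeff_monomial, smul_eq_mul]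
    simp only [e2_inj, eq_comm (a := 0)]
    split_ifs <;> simp
  rw [Finset.sum_congr rfl hterm]
  by_cases hj : j = 0
  · subst hj
    simp only [and_true, if_true]
    by_cases h : i ∈ Finset.range (G.natDegree + 1)
    · rw [Finset.sum_eq_single i]
      · rw [if_pos rfl]
      · intro m _ hm; rw [if_neg hm]
      · intro h'; exact absurd h h'
    · have h0 : G.coeff i = 0 := by
        apply Polynomial.coeff_eq_zero_of_natDegree_lt
        rw [Finset.mem_range] at h
        omega
      rw [h0]
      apply Finset.sum_eq_zero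
      intro m hm
      rw [if_neg]
      rintro rfl
      exact h hm
  · rw [if_neg hj]
    apply Finset.sum_eq_zero
    intro m _
    rw [if_neg (fun h => hj h.2)]

lemma cf_aeval_X1 (G : Polynomial R) (i j : ℕ) :
    cf (Polynomial.aeval (X 1 : MvPolynomial (Fin 2) R) G) i j =
      if i = 0 then G.coeff j else 0 := by
  classical
  rw [cf, Polynomial.aeval_eq_sum_range, coeff_sum]
  have hterm : ∀ m ∈ Finset.range (G.natDegree + 1),
      coeff (e2 i j) (G.coeff m • (X 1 : MvPolynomial (Fin 2) R) ^ m) =
        if (m = j ∧ i = 0) then G.coeff m else 0 := by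
    intro m _
    have : (X 1 : MvPolynomial (Fin 2) R) ^ m = monomial (e2 0 m) 1 := by
      rw [← mono2, pow_zero, one_mul]
    rw [coeff_smul, this, coeff_monomial, smul_eq_mul]
    simp only [e2_inj, eq_comm (a := 0)]
    split_ifs with h1 h2 h2
    · simp
    · exact absurd ⟨h1.2, h1.1⟩ h2
    · exact absurd ⟨h2.2, h2.1⟩ h1
    · simp
  rw [Finset.sum_congr rfl hterm]
  by_cases hi : i = 0
  · subst hi
    simp only [and_true, if_true]
    by_cases h : j ∈ Finset.range (G.natDegree + 1)
    · rw [Finset.sum_eq_single j]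
      · rw [if_pos rfl]
      · intro m _ hm; rw [if_neg hm]
      · intro h'; exact absurd h h'
    · have h0 : G.coeff j = 0 := by
        apply Polynomial.coeff_eq_zero_of_natDegree_lt
        rw [Finset.mem_range] at h
        omega
      rw [h0]
      apply Finset.sum_eq_zero
      intro m hm
      rw [if_neg]
      rintro rfl
      exact h hm
  · rw [if_neg hi]
    apply Finset.sum_eq_zero
    intro m _
    rw [if_neg (fun h => hi h.2)]

lemma cf_delta (G : Polynomial R) (i j : ℕ) :
    cf (delta G) i j = (((i + j).choose i : ℕ) : R) * G.coeff (i + j)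
      - (if j = 0 then G.coeff i else 0) - (if i = 0 then G.coeff j else 0) := by
  rw [← cf_aeval_add, ← cf_aeval_X0, ← cf_aeval_X1]
  simp only [cf, delta, coeff_sub]

end Q

end Groth.Agent.Lib.Helper86.SymCoc
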