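import Mathlib
import Groth.Prelude.Def_GLin
import Groth.Agent.Lib.Helper86.HopfInv
import Groth.Agent.Lib.Helper86.HopfInv2

set_option autoImplicit false
set_option linter.unusedSectionVars false
universe u v w w'

open TensorProduct Algebra Coalgebra Bialgebra HopfAlgebra

namespace Groth.Agent.Lib.Helper86.HopfInv

section Torsor

variable (k : Type u) [CommRing k] (A : Type v) [CommRing A] [HopfAlgebra k A]
  (R : Type w) [CommRing R] [Algebra k R] [HopfRep.Comod k A R] [GLin.IsCoactAlg k A R]
  {ι : Type w'} [Fintype ι] [DecidableEq ι] (e : Module.Basis ι k A)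

local notation "ρ" => GLin.coactAlgHom k A R
local notation "ιL" => (Algebra.TensorProduct.includeLeft : R →ₐ[k] R ⊗[k] A)
local notation "jR" => (Algebra.TensorProduct.includeRight : A →ₐ[k] R ⊗[k] A)

/-- coefficient matrix of the coaction on a family `a`, w.r.t. a `k`-basis `e` of `A`. -/
noncomputable def coactMatrix (a : ι → R) : Matrix ι ι R :=
  fun i l => (Algebra.TensorProduct.basis R e).repr (ρ (a i)) l

lemma tmul_one_mul (c : R) (x : R ⊗[k] A) : (c ⊗ₜ[k] (1 : A)) * x = c • x := by
  rw [Algebra.smul_def]; rfl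

lemma repr_coact_sum (a : ι → R) (c : ι → R) (l : ι) :
    (Algebra.TensorProduct.basis R e).repr (∑ i, c i • ρ (a i)) l =
      (Matrix.vecMul c (coactMatrix k A R e a)) l := by
  simp only [map_sum, map_smul, Finsupp.coe_finsetSum, Finsupp.coe_smul, Finset.sum_apply,
    Pi.smul_apply, smul_eq_mul, Matrix.vecMul, dotProduct, coactMatrix]

theorem linearIndependent_of_isUnit_det (B : Subalgebra k R)
    (hB : ∀ x, x ∈ B ↔ ρ x = x ⊗ₜ[k] (1 : A)) (a : ι → R)
    (hM : IsUnit (coactMatrix k A R e a).det) : LinearIndependent B a := by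
  rw [Fintype.linearIndependent_iff]
  intro g hg
  have h1 : ∑ i, (g i : R) • ρ (a i) = 0 := by
    have := congrArg ρ hg
    rw [map_sum, map_zero] at this
    rw [← this]
    refine Finset.sum_congr rfl fun i _ => ?_
    rw [Subalgebra.smul_def, smul_eq_mul, map_mul, (hB _).1 (g i).2, tmul_one_mul]
  have h2 : Matrix.vecMul (fun i => (g i : R)) (coactMatrix k A R e a) = 0 := by
    funext l
    rw [← repr_coact_sum, h1]
    simp
  have h3 := Matrix.eq_zero_of_det_mem_nonZeroDivisors_of_vecMul_eq_zero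
    hM.mem_nonZeroDivisors h2
  intro i
  exact Subtype.ext (congrFun h3 i)

lemma map_incl_smul (f : R →ₐ[k] R ⊗[k] A) (c : R) (x : R ⊗[k] A) :
    Algebra.TensorProduct.map f (AlgHom.id k A) (c • x) =
      f c • Algebra.TensorProduct.map f (AlgHom.id k A) x := by
  rw [← tmul_one_mul, map_mul, Algebra.TensorProduct.map_tmul, map_one]
  rw [Algebra.smul_def]; rfl

theorem exists_coeffs (a : ι → R)
    (hM : IsUnit (coactMatrix k A R e a).det) (r : R) :
    ∃ c : ι → R, ρ r = ∑ i, c i • ρ (a i) := by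
  set M := coactMatrix k A R e a with hMdef
  refine ⟨Matrix.vecMul (fun l => (Algebra.TensorProduct.basis R e).repr (ρ r) l) M⁻¹, ?_⟩
  apply (Algebra.TensorProduct.basis R e).repr.injective
  ext l
  rw [repr_coact_sum, Matrix.vecMul_vecMul, Matrix.nonsing_inv_mul _ hM, Matrix.vecMul_one]

theorem coeffs_mem (B : Subalgebra k R)
    (hB : ∀ x, x ∈ B ↔ ρ x = x ⊗ₜ[k] (1 : A)) (a : ι → R)
    (hM : IsUnit (coactMatrix k A R e a).det) (r : R) (c : ι → R)
    (hc : ρ r = ∑ i, c i • ρ (a i)) (i : ι) : c i ∈ B := by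
  set M := coactMatrix k A R e a with hMdef
  have hMρ : IsUnit (M.map ρ).det := by
    have : (M.map ρ).det = ρ M.det := by
      rw [← AlgHom.coe_toRingHom, ← RingHom.mapMatrix_apply, ← RingHom.map_det]
    rw [this]
    exact hM.map ρ
  -- the two expansions
  have e1 : ∀ l, (Algebra.TensorProduct.basis (R ⊗[k] A) e).repr
      (Algebra.TensorProduct.map ρ (AlgHom.id k A) (ρ r)) l = ∑ i, ρ (c i) * ρ (M i l) := by
    intro l
    rw [hc, map_sum, map_sum]
    simp only [map_incl_smul, map_smul, Finsupp.coe_finsetSum, Finsupp.coe_smul,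
      Finset.sum_apply, Pi.smul_apply, smul_eq_mul]
    refine Finset.sum_congr rfl fun i _ => ?_
    rw [repr_map]; rfl
  have e2 : ∀ l, (Algebra.TensorProduct.basis (R ⊗[k] A) e).repr
      (gshear k A (R ⊗[k] A) jR (Algebra.TensorProduct.map ιL (AlgHom.id k A) (ρ r))) l =
        ∑ i, ιL (c i) * ρ (M i l) := by
    intro l
    rw [hc, map_sum, map_sum, map_sum]
    simp only [map_incl_smul, map_smul, Finsupp.coe_finsetSum, Finsupp.coe_smul,
      Finset.sum_apply, Pi.smul_apply, smul_eq_mul]
    refine Finset.sum_congr rfl fun i _ => ?_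
    rw [← map_coact_coact, repr_map]; rfl
  have e3 : Matrix.vecMul (fun i => ρ (c i) - ιL (c i)) (M.map ρ) = 0 := by
    funext l
    simp only [Matrix.vecMul, dotProduct, Matrix.map_apply, sub_mul, Finset.sum_sub_distrib,
      Pi.zero_apply]
    rw [← e1, ← e2, map_coact_coact, sub_self]
  have h3 := Matrix.eq_zero_of_det_mem_nonZeroDivisors_of_vecMul_eq_zero
    hMρ.mem_nonZeroDivisors e3
  rw [hB]
  have := congrFun h3 i
  simp only [Pi.zero_apply, sub_eq_zero] at this
  rw [this]; rfl

theorem eq_sum_of_coeffs (a : ι → R) (r : R) (c : ι → R)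
    (hc : ρ r = ∑ i, c i • ρ (a i)) : r = ∑ i, c i * a i := by
  have := congrArg (counitProj k A R) hc
  rw [counitProj_coact, map_sum] at this
  rw [this]
  refine Finset.sum_congr rfl fun i _ => ?_
  rw [map_smul, counitProj_coact, smul_eq_mul]

/-- **Torsor basis criterion.** If the coefficient matrix of the coaction on `a` is invertible,
then `a` is a basis of `R` over the invariants. -/
theorem exists_basis_of_isUnit_det (B : Subalgebra k R)
    (hB : ∀ x, x ∈ B ↔ ρ x = x ⊗ₜ[k] (1 : A)) (a : ι → R)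
    (hM : IsUnit (coactMatrix k A R e a).det) :
    ∃ b : Module.Basis ι B R, ∀ i, b i = a i := by
  have hli := linearIndependent_of_isUnit_det k A R e B hB a hM
  have hsp : ⊤ ≤ Submodule.span B (Set.range a) := by
    intro r _
    obtain ⟨c, hc⟩ := exists_coeffs k A R e a hM r
    have hmem := coeffs_mem k A R e B hB a hM r c hc
    rw [eq_sum_of_coeffs k A R a r c hc]
    refine Submodule.sum_mem _ fun i _ => ?_
    have : c i * a i = (⟨c i, hmem i⟩ : B) • a i := by
      rw [Subalgebra.smul_def]; rfl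
    rw [this]
    exact Submodule.smul_mem _ _ (Submodule.subset_span ⟨i, rfl⟩)
  exact ⟨Module.Basis.mk hli hsp, fun i => by simp⟩

end Torsor

end Groth.Agent.Lib.Helper86.HopfInv
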