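import Mathlib
import Groth.Prelude.Def_GLin
import Groth.Agent.H40.ComodRestrict
import Groth.Agent.Lib.Helper86.HopfInv
import Groth.Agent.Lib.Helper86.HopfInv2
import Groth.Agent.Lib.Helper86.HopfTorsor

set_option autoImplicit false
set_option linter.unusedSectionVars false
universe u v w w'

open TensorProduct Algebra Coalgebra Bialgebra HopfAlgebra Matrix

namespace Groth.Agent.Lib.Helper86.HopfQuot

open Groth.Agent.Lib.Helper86.HopfInv

section LinAlg
open Module

/-- simultaneous general position: finitely many surjections `T j : V → W` over an infinite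
field admit a common family mapping to linearly independent families. -/
theorem exists_family_linearIndependent {k : Type u} {V : Type v} {W : Type w}
    [Field k] [Infinite k] [AddCommGroup V] [Module k V] [AddCommGroup W] [Module k W]
    [FiniteDimensional k W] {J : Type w'} [Finite J] (T : J → V →ₗ[k] W)
    (hT : ∀ j, Function.Surjective (T j)) :
    ∀ n ≤ Module.finrank k W, ∃ a : Fin n → V, ∀ j, LinearIndependent k (fun i => T j (a i)) := by
  intro n
  induction n with
  | zero =>
    intro _
    exact ⟨Fin.elim0, fun j => linearIndependent_empty_type⟩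
  | succ n ih =>
    intro hn
    obtain ⟨a, ha⟩ := ih (by omega)
    let U : J → Subspace k V := fun j =>
      Submodule.comap (T j) (Submodule.span k (Set.range (fun i => T j (a i))))
    have hU : ∀ j, U j ≠ ⊤ := by
      intro j hj
      have h1 : Submodule.span k (Set.range (fun i => T j (a i))) = ⊤ := by
        have := congrArg (Submodule.map (T j)) hj
        rw [Submodule.map_comap_eq_of_surjective (hT j), Submodule.map_top,
          LinearMap.range_eq_top.2 (hT j)] at this
        exact this
      have h2 := finrank_range_le_card (R := k) (fun i => T j (a i))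
      rw [Set.finrank, h1, finrank_top, Fintype.card_fin] at h2
      omega
    have hne : ⋃ j, (U j : Set V) ≠ Set.univ := by
      intro h
      obtain ⟨j, hj⟩ := Subspace.exists_eq_top_of_iUnion_eq_univ h
      exact hU j hj
    obtain ⟨v, hv⟩ : ∃ v, v ∉ ⋃ j, (U j : Set V) := by
      by_contra hcon
      push Not at hcon
      exact hne (Set.eq_univ_of_forall hcon)
    refine ⟨Fin.cons v a, fun j => ?_⟩
    have : (fun i => T j ((Fin.cons v a : Fin (n + 1) → V) i)) =
        Fin.cons (T j v) (fun i => T j (a i)) := by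
      funext i
      refine Fin.cases ?_ (fun i => ?_) i <;> simp
    rw [this, linearIndependent_finCons]
    refine ⟨ha j, fun hmem => hv ?_⟩
    simp only [Set.mem_iUnion, SetLike.mem_coe]
    exact ⟨j, hmem⟩

/-- over an algebraically closed field, an element of a finite algebra on which no character
vanishes is a unit. -/
theorem isUnit_of_forall_algHom_ne_zero {k : Type u} {A : Type v} [Field k] [IsAlgClosed k]
    [CommRing A] [Algebra k A] [Module.Finite k A] (d : A)
    (h : ∀ χ : A →ₐ[k] k, χ d ≠ 0) : IsUnit d := by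
  by_contra hd
  obtain ⟨m, hmax, hmem⟩ := exists_max_ideal_of_mem_nonunits (show d ∈ nonunits A from hd)
  let _ := Ideal.Quotient.field m
  have hbij : Function.Bijective (algebraMap k (A ⧸ m)) :=
    IsAlgClosed.algebraMap_bijective_of_isIntegral
  let e : k ≃ₐ[k] (A ⧸ m) := AlgEquiv.ofBijective (Algebra.ofId k (A ⧸ m)) hbij
  let χ : A →ₐ[k] k := (e.symm : (A ⧸ m) →ₐ[k] k).comp (Ideal.Quotient.mkₐ k m)
  apply h χ
  have : Ideal.Quotient.mkₐ k m d = 0 := by
    rw [Ideal.Quotient.mkₐ_eq_mk]
    exact Ideal.Quotient.eq_zero_iff_mem.2 hmem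
  simp only [χ, AlgHom.comp_apply, this, map_zero]

end LinAlg

section Setting

variable (k : Type u) [CommRing k] (A : Type v) [CommRing A] [HopfAlgebra k A]
  (I : Ideal A) [I.IsHopfIdeal k]

/-- `A` as a right comodule over the quotient Hopf algebra `A ⧸ I`. -/
@[reducible] noncomputable def quotComod : HopfRep.Comod k (A ⧸ I) A :=
  Groth.Agent.H40.comodAlong (B := A) (V := A) (Bialgebra.Quotient.mkBialgHom I).toCoalgHom

attribute [local instance] quotComod

lemma quot_coact_apply (x : A) :
    HopfRep.Comod.coact (k := k) (A := A ⧸ I) x =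
      Algebra.TensorProduct.map (AlgHom.id k A) (Ideal.Quotient.mkₐ k I)
        (comulAlgHom k A x) := rfl

instance quotIsCoactAlg : GLin.IsCoactAlg k (A ⧸ I) A where
  coact_one := by rw [quot_coact_apply, map_one, map_one]
  coact_mul f g := by simp only [quot_coact_apply, map_mul]

lemma quot_coactAlgHom :
    GLin.coactAlgHom k (A ⧸ I) A =
      (Algebra.TensorProduct.map (AlgHom.id k A) (Ideal.Quotient.mkₐ k I)).comp
        (comulAlgHom k A) := rfl

/-- left translation by a point `χ`. -/
noncomputable def ltrans (χ : A →ₐ[k] k) : A →ₐ[k] A :=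
  (Algebra.TensorProduct.lid k A).toAlgHom.comp
    ((Algebra.TensorProduct.map χ (AlgHom.id k A)).comp (comulAlgHom k A))

lemma ltrans_eq (χ : A →ₐ[k] k) (a : A) :
    ltrans k A χ a = Algebra.TensorProduct.lid k A (gshear k A k χ ((1 : k) ⊗ₜ[k] a)) := by
  rw [gshear_tmul, ← Algebra.TensorProduct.one_def, one_mul]
  rfl

lemma ltrans_surjective (χ : A →ₐ[k] k) : Function.Surjective (ltrans k A χ) := by
  intro a
  set y := (gshearEquiv k A k χ).symm ((Algebra.TensorProduct.lid k A).symm a) with hy
  refine ⟨Algebra.TensorProduct.lid k A y, ?_⟩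
  have h1 : (1 : k) ⊗ₜ[k] (Algebra.TensorProduct.lid k A y) = y := by
    have := (Algebra.TensorProduct.lid k A).symm_apply_apply y
    rwa [Algebra.TensorProduct.lid_symm_apply] at this
  rw [ltrans_eq, h1, hy, ← gshearEquiv_apply, AlgEquiv.apply_symm_apply,
    AlgEquiv.apply_symm_apply]

lemma orbitHom_eq (χ : A →ₐ[k] k) (a : A) :
    GLin.orbitHom k (A ⧸ I) χ a = Ideal.Quotient.mk I (ltrans k A χ a) := by
  have h : ∀ x : A ⊗[k] A, Algebra.TensorProduct.lid k (A ⧸ I)
      (Algebra.TensorProduct.map χ (AlgHom.id k (A ⧸ I))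
        (Algebra.TensorProduct.map (AlgHom.id k A) (Ideal.Quotient.mkₐ k I) x)) =
      Ideal.Quotient.mk I (Algebra.TensorProduct.lid k A
        (Algebra.TensorProduct.map χ (AlgHom.id k A) x)) := by
    intro x
    induction x using TensorProduct.induction_on with
    | zero => simp
    | tmul a b => simp [Algebra.smul_def]
    | add x y hx hy => simp only [map_add, hx, hy]
  exact h _

lemma orbitHom_surjective (χ : A →ₐ[k] k) :
    Function.Surjective (GLin.orbitHom k (A ⧸ I) χ) := by
  intro y
  obtain ⟨a', rfl⟩ := Ideal.Quotient.mk_surjective y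
  obtain ⟨a, rfl⟩ := ltrans_surjective k A χ a'
  exact ⟨a, orbitHom_eq k A I χ a⟩

lemma repr_lid {H : Type w} [CommRing H] [Algebra k H] {ι : Type w'} [Fintype ι] [DecidableEq ι]
    (e : Module.Basis ι k H) (y : k ⊗[k] H) (l : ι) :
    e.repr (Algebra.TensorProduct.lid k H y) l = (Algebra.TensorProduct.basis k e).repr y l := by
  induction y using TensorProduct.induction_on with
  | zero => simp
  | tmul c h => simp [Algebra.TensorProduct.basis_repr_tmul]
  | add x y hx hy => simp only [map_add, Finsupp.coe_add, Pi.add_apply, hx, hy]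

lemma repr_orbitHom {ι : Type w'} [Fintype ι] [DecidableEq ι]
    (e : Module.Basis ι k (A ⧸ I)) (χ : A →ₐ[k] k) (a : A) (l : ι) :
    e.repr (GLin.orbitHom k (A ⧸ I) χ a) l =
      χ ((Algebra.TensorProduct.basis A e).repr (GLin.coactAlgHom k (A ⧸ I) A a) l) := by
  rw [← repr_map, ← repr_lid]
  rfl

end Setting

section Main

variable (k : Type u) [Field k] [IsAlgClosed k] (A : Type v) [CommRing A] [HopfAlgebra k A]
  [Module.Finite k A] (I : Ideal A) [I.IsHopfIdeal k]

attribute [local instance] quotComod

theorem exists_basis_quot (B : Subalgebra k A)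
    (hB : ∀ x, x ∈ B ↔ GLin.coactAlgHom k (A ⧸ I) A x = x ⊗ₜ[k] (1 : A ⧸ I)) :
    Nonempty (Module.Basis (Fin (Module.finrank k (A ⧸ I))) B A) := by
  classical
  set h := Module.finrank k (A ⧸ I) with hh
  let e : Module.Basis (Fin h) k (A ⧸ I) := Module.finBasis k (A ⧸ I)
  have : Finite (A →ₐ[k] k) := inferInstance
  obtain ⟨a, ha⟩ := exists_family_linearIndependent
    (T := fun χ : A →ₐ[k] k => (GLin.orbitHom k (A ⧸ I) χ).toLinearMap)
    (fun χ => orbitHom_surjective k A I χ) h le_rfl
  have hdet : IsUnit (coactMatrix k (A ⧸ I) A e a).det := by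
    refine isUnit_of_forall_algHom_ne_zero (k := k) _ (fun χ => ?_)
    have hli := ha χ
    have hsp := hli.span_eq_top_of_card_eq_finrank' (by simp [hh])
    have hu := (e.is_basis_iff_det).1 ⟨hli, hsp⟩
    rw [Module.Basis.det_apply] at hu
    have hmat : e.toMatrix (fun i => (GLin.orbitHom k (A ⧸ I) χ).toLinearMap (a i)) =
        ((coactMatrix k (A ⧸ I) A e a).map χ)ᵀ := by
      ext l i
      simp only [Module.Basis.toMatrix_apply, AlgHom.toLinearMap_apply, repr_orbitHom,
        Matrix.transpose_apply, Matrix.map_apply, coactMatrix]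
    rw [hmat, Matrix.det_transpose] at hu
    have hd : ((coactMatrix k (A ⧸ I) A e a).map χ).det = χ (coactMatrix k (A ⧸ I) A e a).det := by
      rw [AlgHom.map_det]; rfl
    rw [hd] at hu
    exact hu.ne_zero
  obtain ⟨b, -⟩ := exists_basis_of_isUnit_det k (A ⧸ I) A e B hB a hdet
  exact ⟨b⟩

end Main

end Groth.Agent.Lib.Helper86.HopfQuot
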