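import Mathlib
import Groth.Prelude.Def_Smoothing
import Groth.Agent.Lib.Helper81.PopBAlg

/-! (E) for helper81's Popescu char p case: naturality of the lift `PhiC` (helper86). -/

set_option autoImplicit false
universe u

namespace Groth.Agent.Lib.Helper86.PhiNat

open MvPolynomial Smoothing TensorProduct Groth.Agent.Lib.Helper81.Pop

section beta

variable {k : Type u} [CommRing k] {R₁ : Type u} [CommRing R₁] [Algebra k R₁] {d : ℕ}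
  (x : Fin d → R₁) {A : Type u} [CommRing A] [Algebra k A] {r : ℕ} (a : Fin r → A) (N : ℕ)

/-- naturality of `τB` -/
theorem τB_natural {Λ₁ Λ₂ : Type u} [CommRing Λ₁] [Algebra k Λ₁] [Algebra R₁ Λ₁]
    [IsScalarTower k R₁ Λ₁] [CommRing Λ₂] [Algebra k Λ₂] [Algebra R₁ Λ₂] [IsScalarTower k R₁ Λ₂]
    (φ₁ : A →ₐ[k] Λ₁) (φ₂ : A →ₐ[k] Λ₂) (θ : Λ₁ →+* Λ₂)
    (hθR : ∀ t : R₁, θ (algebraMap R₁ Λ₁ t) = algebraMap R₁ Λ₂ t)
    (hθφ : ∀ y, θ (φ₁ y) = φ₂ y) (s : R₁ ⊗[k] A) :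
    θ (τB (R := R₁) φ₁ s) = τB (R := R₁) φ₂ s := by
  induction s using TensorProduct.induction_on with
  | zero => simp
  | tmul t y =>
    simp only [τB, Algebra.TensorProduct.lift_tmul, Algebra.ofId_apply, map_mul, hθR, hθφ]
  | add s₁ s₂ h₁ h₂ => simp only [map_add, h₁, h₂]

/-- naturality of `βB` -/
theorem βB_natural {Λ₁ Λ₂ : Type u} [CommRing Λ₁] [Algebra k Λ₁] [Algebra R₁ Λ₁]
    [IsScalarTower k R₁ Λ₁] [CommRing Λ₂] [Algebra k Λ₂] [Algebra R₁ Λ₂] [IsScalarTower k R₁ Λ₂]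
    (φ₁ : A →ₐ[k] Λ₁) (lam₁ : Fin d → Fin r → Λ₁)
    (hlam₁ : ∀ i, algebraMap R₁ Λ₁ (x i) ^ N = ∑ j, φ₁ (a j) * lam₁ i j)
    (φ₂ : A →ₐ[k] Λ₂) (lam₂ : Fin d → Fin r → Λ₂)
    (hlam₂ : ∀ i, algebraMap R₁ Λ₂ (x i) ^ N = ∑ j, φ₂ (a j) * lam₂ i j)
    (θ : Λ₁ →+* Λ₂) (hθR : ∀ t : R₁, θ (algebraMap R₁ Λ₁ t) = algebraMap R₁ Λ₂ t)
    (hθφ : ∀ y, θ (φ₁ y) = φ₂ y) (hθlam : ∀ i j, θ (lam₁ i j) = lam₂ i j)
    (b : BAlg (k := k) x a N) :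
    θ (βB (k := k) x a N φ₁ lam₁ hlam₁ b) = βB (k := k) x a N φ₂ lam₂ hlam₂ b := by
  obtain ⟨p, rfl⟩ := mkB_surjective (k := k) x a N b
  rw [βB_mkB, βB_mkB]
  induction p using MvPolynomial.induction_on with
  | C s =>
    rw [aevalTower_C, aevalTower_C]
    exact τB_natural φ₁ φ₂ θ hθR hθφ s
  | add p q hp hq => simp only [map_add, hp, hq]
  | mul_X p i hp =>
    simp only [map_mul, aevalTower_X, hp, hθlam]

end beta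

variable {k : Type u} [CommRing k] {R₁ : Type u} [CommRing R₁] [Algebra k R₁] {d : ℕ}
  (x : Fin d → R₁) {A : Type u} [CommRing A] [Algebra k A] {r : ℕ} (a : Fin r → A) (N : ℕ)
  {C : Type u} [CommRing C] [Algebra R₁ C] [Algebra (BAlg (k := k) x a N) C]
  [IsScalarTower R₁ (BAlg (k := k) x a N) C]
  (ρ : C →ₐ[BAlg (k := k) x a N] BAlg (k := k) x a N) (R : Type u) [CommRing R] [Algebra R₁ R]

/-- the map `R ⊗[R₁] C → Λ` induced by `βB ∘ ρ` -/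
noncomputable def PhiC {Λ : Type u} [CommRing Λ] [Algebra k Λ] [Algebra R₁ Λ]
    [IsScalarTower k R₁ Λ] [Algebra R Λ] [IsScalarTower R₁ R Λ] (φ : A →ₐ[k] Λ)
    (lam : Fin d → Fin r → Λ) (hlam : ∀ i, algebraMap R₁ Λ (x i) ^ N = ∑ j, φ (a j) * lam i j) :
    R ⊗[R₁] C →ₐ[R] Λ :=
  Algebra.TensorProduct.lift (Algebra.ofId R Λ)
    ((βB (k := k) x a N φ lam hlam).comp (ρ.restrictScalars R₁)) (fun _ _ => Commute.all _ _)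

theorem PhiC_tmul {Λ : Type u} [CommRing Λ] [Algebra k Λ] [Algebra R₁ Λ]
    [IsScalarTower k R₁ Λ] [Algebra R Λ] [IsScalarTower R₁ R Λ] (φ : A →ₐ[k] Λ)
    (lam : Fin d → Fin r → Λ) (hlam : ∀ i, algebraMap R₁ Λ (x i) ^ N = ∑ j, φ (a j) * lam i j)
    (t : R) (c' : C) :
    PhiC x a N ρ R φ lam hlam (t ⊗ₜ[R₁] c') =
      algebraMap R Λ t * βB (k := k) x a N φ lam hlam (ρ c') := by
  simp only [PhiC, Algebra.TensorProduct.lift_tmul, Algebra.ofId_apply, AlgHom.comp_apply,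
    AlgHom.coe_restrictScalars']

theorem PhiC_one_tmul_algebraMap {Λ : Type u} [CommRing Λ] [Algebra k Λ] [Algebra R₁ Λ]
    [IsScalarTower k R₁ Λ] [Algebra R Λ] [IsScalarTower R₁ R Λ] (φ : A →ₐ[k] Λ)
    (lam : Fin d → Fin r → Λ) (hlam : ∀ i, algebraMap R₁ Λ (x i) ^ N = ∑ j, φ (a j) * lam i j)
    (b : BAlg (k := k) x a N) :
    PhiC x a N ρ R φ lam hlam ((1 : R) ⊗ₜ[R₁] algebraMap (BAlg (k := k) x a N) C b) =
      βB (k := k) x a N φ lam hlam b := by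
  rw [PhiC_tmul, map_one, one_mul, ρ.commutes]
  rfl

theorem PhiC_one_tmul_ιB {Λ : Type u} [CommRing Λ] [Algebra k Λ] [Algebra R₁ Λ]
    [IsScalarTower k R₁ Λ] [Algebra R Λ] [IsScalarTower R₁ R Λ] (φ : A →ₐ[k] Λ)
    (lam : Fin d → Fin r → Λ) (hlam : ∀ i, algebraMap R₁ Λ (x i) ^ N = ∑ j, φ (a j) * lam i j)
    (y : A) :
    PhiC x a N ρ R φ lam hlam
      ((1 : R) ⊗ₜ[R₁] algebraMap (BAlg (k := k) x a N) C (ιB (k := k) x a N y)) = φ y := by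
  rw [PhiC_one_tmul_algebraMap, βB_ιB]

theorem PhiC_natural {Λ₁ Λ₂ : Type u} [CommRing Λ₁] [Algebra k Λ₁] [Algebra R₁ Λ₁]
    [IsScalarTower k R₁ Λ₁] [Algebra R Λ₁] [IsScalarTower R₁ R Λ₁] [CommRing Λ₂] [Algebra k Λ₂]
    [Algebra R₁ Λ₂] [IsScalarTower k R₁ Λ₂] [Algebra R Λ₂] [IsScalarTower R₁ R Λ₂]
    (φ₁ : A →ₐ[k] Λ₁) (lam₁ : Fin d → Fin r → Λ₁)
    (hlam₁ : ∀ i, algebraMap R₁ Λ₁ (x i) ^ N = ∑ j, φ₁ (a j) * lam₁ i j)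
    (φ₂ : A →ₐ[k] Λ₂) (lam₂ : Fin d → Fin r → Λ₂)
    (hlam₂ : ∀ i, algebraMap R₁ Λ₂ (x i) ^ N = ∑ j, φ₂ (a j) * lam₂ i j)
    (θ : Λ₁ →+* Λ₂) (hθR : ∀ t : R, θ (algebraMap R Λ₁ t) = algebraMap R Λ₂ t)
    (hθφ : ∀ y, θ (φ₁ y) = φ₂ y) (hθlam : ∀ i j, θ (lam₁ i j) = lam₂ i j) (c : R ⊗[R₁] C) :
    θ (PhiC x a N ρ R φ₁ lam₁ hlam₁ c) = PhiC x a N ρ R φ₂ lam₂ hlam₂ c := by
  have hθR₁ : ∀ t : R₁, θ (algebraMap R₁ Λ₁ t) = algebraMap R₁ Λ₂ t := by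
    intro t
    rw [IsScalarTower.algebraMap_apply R₁ R Λ₁, IsScalarTower.algebraMap_apply R₁ R Λ₂, hθR]
  induction c using TensorProduct.induction_on with
  | zero => simp
  | tmul t c' =>
    rw [PhiC_tmul, PhiC_tmul, map_mul, hθR,
      βB_natural x a N φ₁ lam₁ hlam₁ φ₂ lam₂ hlam₂ θ hθR₁ hθφ hθlam]
  | add c₁ c₂ h₁ h₂ => simp only [map_add, h₁, h₂]

end Groth.Agent.Lib.Helper86.PhiNat

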