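import Mathlib
import Groth.Prelude.Def_Smoothing
import Groth.Agent.Lib.Helper81.PopLocal

/-! Base change of the singular ideal (helper86, for helper81's Popescu char p case). -/

set_option autoImplicit false
universe u
open TensorProduct

namespace Groth.Agent.Lib.Helper86.SingBC

open Groth.Agent.Lib.Helper81.Pop

/-- **Base change of the singular ideal**: if `y ∈ H_{C/R₁}` then `1 ⊗ y ∈ H_{R₂ ⊗ C / R₂}`. -/
theorem tmul_mem_singularIdeal {R₁ R₂ C : Type u} [CommRing R₁] [CommRing R₂] [Algebra R₁ R₂]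
    [CommRing C] [Algebra R₁ C] [Algebra.FinitePresentation R₁ C] (y : C)
    (hy : y ∈ Smoothing.singularIdeal R₁ C) :
    ((1 : R₂) ⊗ₜ[R₁] y) ∈ Smoothing.singularIdeal R₂ (R₂ ⊗[R₁] C) := by
  have h1 : Algebra.Smooth R₁ (Localization.Away y) := smooth_away_of_mem_singularIdeal hy
  have h2 : Algebra.Smooth R₂ (R₂ ⊗[R₁] Localization.Away y) := inferInstance
  let e := IsLocalization.Away.tensorProductEquivTMulRight R₁ R₂ y (Localization.Away y)
  have h3 : Algebra.Smooth R₂ (Localization.Away ((1 : R₂) ⊗ₜ[R₁] y)) := Algebra.Smooth.of_equiv e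
  exact mem_singularIdeal_of_smooth_away

/-- The extension of the singular ideal along `C → R₂ ⊗ C` lies in the singular ideal. -/
theorem map_singularIdeal_le {R₁ R₂ C : Type u} [CommRing R₁] [CommRing R₂] [Algebra R₁ R₂]
    [CommRing C] [Algebra R₁ C] [Algebra.FinitePresentation R₁ C] :
    (Smoothing.singularIdeal R₁ C).map
      (Algebra.TensorProduct.includeRight : C →ₐ[R₁] R₂ ⊗[R₁] C) ≤
      Smoothing.singularIdeal R₂ (R₂ ⊗[R₁] C) := by
  rw [Ideal.map_le_iff_le_comap]
  intro y hy
  exact tmul_mem_singularIdeal y hy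

end Groth.Agent.Lib.Helper86.SingBC

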