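import Mathlib
import Groth.Prelude
import Groth.Agent.Lib.Helper50.IndSmooth

/-! Base change of ind-smooth algebras (helper86, for helper81's Popescu char p case). -/

set_option autoImplicit false
universe u v
open TensorProduct

namespace Groth.Agent.Lib.Helper86.IndSmoothBC

/-- Finite stage lemma for finitely many tensors (iterating helper50's lemma). -/
theorem exists_fp_factor_rTensor_eq_zero_fin
    {R : Type u} [CommRing R] {S : Type u} [CommRing S] [Algebra R S]
    {B : Type v} [AddCommGroup B] [Module R B] :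
    ∀ (n : ℕ) (A₀ : Type u) [CommRing A₀] [Algebra R A₀] [Algebra.FinitePresentation R A₀]
      (f : A₀ →ₐ[R] S) (w : Fin n → A₀ ⊗[R] B) (_ : ∀ i, f.toLinearMap.rTensor B (w i) = 0),
    ∃ (A₁ : Type u) (_ : CommRing A₁) (_ : Algebra R A₁), Algebra.FinitePresentation R A₁ ∧
      ∃ (g : A₀ →ₐ[R] A₁) (h : A₁ →ₐ[R] S), h.comp g = f ∧
        ∀ i, g.toLinearMap.rTensor B (w i) = 0 := by
  intro n
  induction n with
  | zero =>
    intro A₀ _ _ _ f w _
    exact ⟨A₀, inferInstance, inferInstance, inferInstance, AlgHom.id R A₀, f, by ext; rfl,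
      fun i => i.elim0⟩
  | succ n ih =>
    intro A₀ _ _ _ f w hw
    obtain ⟨A₁, _, _, hfp, g, h, hgh, hg0⟩ :=
      Groth.Agent.Lib.Helper50.exists_finitePresentation_factor_rTensor_eq_zero f (w 0) (hw 0)
    have hw' : ∀ i : Fin n, h.toLinearMap.rTensor B (g.toLinearMap.rTensor B (w i.succ)) = 0 := by
      intro i
      rw [← LinearMap.rTensor_comp_apply]
      have : h.toLinearMap ∘ₗ g.toLinearMap = f.toLinearMap := by rw [← hgh]; rfl
      rw [this]; exact hw _
    obtain ⟨A₂, _, _, hfp2, g', h', hgh', hg0'⟩ :=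
      ih A₁ h (fun i => g.toLinearMap.rTensor B (w i.succ)) hw'
    refine ⟨A₂, inferInstance, inferInstance, hfp2, g'.comp g, h', ?_, ?_⟩
    · rw [← AlgHom.comp_assoc, hgh', hgh]
    · intro i
      have hc : (g'.comp g).toLinearMap = g'.toLinearMap ∘ₗ g.toLinearMap := rfl
      rw [hc, LinearMap.rTensor_comp_apply]
      refine Fin.cases ?_ (fun j => ?_) i
      · rw [hg0, map_zero]
      · exact hg0' j

/-- Left-handed version of the finite stage lemma. -/
theorem exists_fp_factor_lTensor_eq_zero_fin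
    {R : Type u} [CommRing R] {S : Type u} [CommRing S] [Algebra R S]
    {B : Type v} [AddCommGroup B] [Module R B]
    (n : ℕ) (A₀ : Type u) [CommRing A₀] [Algebra R A₀] [Algebra.FinitePresentation R A₀]
    (f : A₀ →ₐ[R] S) (w : Fin n → B ⊗[R] A₀) (hw : ∀ i, f.toLinearMap.lTensor B (w i) = 0) :
    ∃ (A₁ : Type u) (_ : CommRing A₁) (_ : Algebra R A₁), Algebra.FinitePresentation R A₁ ∧
      ∃ (g : A₀ →ₐ[R] A₁) (h : A₁ →ₐ[R] S), h.comp g = f ∧
        ∀ i, g.toLinearMap.lTensor B (w i) = 0 := by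
  obtain ⟨A₁, _, _, hfp, g, h, hgh, hg0⟩ :=
    exists_fp_factor_rTensor_eq_zero_fin (B := B) n A₀ f
      (fun i => TensorProduct.comm R B A₀ (w i)) (fun i => by
        rw [LinearMap.rTensor_comm, hw i, map_zero])
  refine ⟨A₁, inferInstance, inferInstance, hfp, g, h, hgh, fun i => ?_⟩
  have := hg0 i
  rw [LinearMap.rTensor_comm] at this
  exact (LinearEquiv.map_eq_zero_iff _).mp this

theorem map_id_eq_lTensor {R R' : Type u} [CommRing R] [CommRing R'] [Algebra R R']
    {A₀ S : Type u} [CommRing A₀] [Algebra R A₀] [CommRing S] [Algebra R S]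
    (g : A₀ →ₐ[R] S) (y : R' ⊗[R] A₀) :
    Algebra.TensorProduct.map (AlgHom.id R' R') g y = g.toLinearMap.lTensor R' y := by
  induction y using TensorProduct.induction_on with
  | zero => simp
  | tmul a b => simp
  | add a b ha hb => simp only [map_add, ha, hb]

/-- **Base change of ind-smooth algebras**: if `L` is ind-smooth over `R` then `R' ⊗[R] L` is
ind-smooth over `R'`. -/
theorem indSmooth_baseChange {R R' L : Type u} [CommRing R] [CommRing R'] [Algebra R R']
    [CommRing L] [Algebra R L] (h : Smoothing.IndSmooth R L) :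
    Smoothing.IndSmooth R' (R' ⊗[R] L) := by
  classical
  intro A' _ _ hfp f
  obtain ⟨n, π, hπ, gens, hgens⟩ := hfp.out
  have hx : ∀ i : Fin n, ∃ T : Finset (R' × L),
      f (π (MvPolynomial.X i)) = T.sum fun p => p.1 ⊗ₜ[R] p.2 :=
    fun i => TensorProduct.exists_finset _
  choose T hT using hx
  let σ : Finset L := Finset.univ.biUnion (fun i => (T i).image Prod.snd)
  have hmem : ∀ i, ∀ p ∈ T i, p.2 ∈ σ := by
    intro i p hp
    exact Finset.mem_biUnion.mpr ⟨i, Finset.mem_univ _, Finset.mem_image_of_mem _ hp⟩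
  let φ₀ : MvPolynomial σ R →ₐ[R] L := MvPolynomial.aeval (fun s => (s : L))
  let ξ : Fin n → R' ⊗[R] MvPolynomial σ R := fun i =>
    ∑ p ∈ (T i).attach, p.1.1 ⊗ₜ[R] MvPolynomial.X ⟨p.1.2, hmem i p.1 p.2⟩
  let ψ₀ : MvPolynomial (Fin n) R' →ₐ[R'] R' ⊗[R] MvPolynomial σ R := MvPolynomial.aeval ξ
  have hcomp : (Algebra.TensorProduct.map (AlgHom.id R' R') φ₀).comp ψ₀ = f.comp π := by
    apply MvPolynomial.algHom_ext
    intro i
    simp only [AlgHom.comp_apply, ψ₀, MvPolynomial.aeval_X, ξ, map_sum,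
      Algebra.TensorProduct.map_tmul, AlgHom.id_apply, φ₀]
    rw [hT i, ← Finset.sum_attach (T i)]
  -- the generators of the kernel
  let gk : Fin gens.card → MvPolynomial (Fin n) R' := fun k => (gens.equivFin.symm k).1
  have hgk : ∀ k, π (gk k) = 0 := by
    intro k
    have : gk k ∈ RingHom.ker π.toRingHom := by
      rw [← hgens]; exact Ideal.subset_span (gens.equivFin.symm k).2
    exact this
  have hw : ∀ k, φ₀.toLinearMap.lTensor R' (ψ₀ (gk k)) = 0 := by
    intro k
    rw [← map_id_eq_lTensor]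
    have := congrArg (fun F => F (gk k)) hcomp
    simp only [AlgHom.comp_apply] at this
    rw [this, hgk k, map_zero]
  obtain ⟨A₁, _, _, hfp1, g, h₁, hgh, hg0⟩ :=
    exists_fp_factor_lTensor_eq_zero_fin (B := R') gens.card (MvPolynomial σ R) φ₀
      (fun k => ψ₀ (gk k)) hw
  obtain ⟨B, _, _, hsm, g₂, h₂, hgh₂⟩ := h A₁ hfp1 h₁
  let Θ₁ : R' ⊗[R] MvPolynomial σ R →ₐ[R'] R' ⊗[R] A₁ :=
    Algebra.TensorProduct.map (AlgHom.id R' R') g
  let Θ₂ : R' ⊗[R] A₁ →ₐ[R'] R' ⊗[R] B := Algebra.TensorProduct.map (AlgHom.id R' R') g₂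
  let Θ₃ : R' ⊗[R] B →ₐ[R'] R' ⊗[R] L := Algebra.TensorProduct.map (AlgHom.id R' R') h₂
  let ψ : MvPolynomial (Fin n) R' →ₐ[R'] R' ⊗[R] B := (Θ₂.comp Θ₁).comp ψ₀
  have hker : ∀ a ∈ RingHom.ker π, ψ a = 0 := by
    intro a ha
    change a ∈ RingHom.ker ψ.toRingHom
    revert a
    change RingHom.ker π.toRingHom ≤ _
    rw [← hgens, Ideal.span_le]
    intro a ha
    have : a = gk (gens.equivFin ⟨a, ha⟩) := by simp [gk]
    change ψ a = 0
    rw [this]
    change Θ₂ (Θ₁ (ψ₀ (gk _))) = 0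
    have h0 : Θ₁ (ψ₀ (gk (gens.equivFin ⟨a, ha⟩))) = 0 := by
      change Algebra.TensorProduct.map (AlgHom.id R' R') g _ = 0
      rw [map_id_eq_lTensor]; exact hg0 _
    rw [h0, map_zero]
  let e := Ideal.quotientKerAlgEquivOfSurjective hπ
  let g' : A' →ₐ[R'] R' ⊗[R] B :=
    (Ideal.Quotient.liftₐ (RingHom.ker π) ψ hker).comp (e.symm : A' →ₐ[R'] _)
  have hg'π : ∀ x, g' (π x) = ψ x := by
    intro x
    have : e.symm (π x) = Ideal.Quotient.mk _ x := by
      rw [AlgEquiv.symm_apply_eq]; rfl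
    change Ideal.Quotient.liftₐ (RingHom.ker π) ψ hker (e.symm (π x)) = ψ x
    rw [this]; rfl
  refine ⟨R' ⊗[R] B, inferInstance, inferInstance, inferInstance, g', Θ₃, ?_⟩
  -- check on the presentation
  apply AlgHom.ext
  intro a
  obtain ⟨x, rfl⟩ := hπ a
  change Θ₃ (g' (π x)) = f (π x)
  rw [hg'π]
  have h3 : (Θ₃.comp (Θ₂.comp Θ₁)) = Algebra.TensorProduct.map (AlgHom.id R' R') φ₀ := by
    apply Algebra.TensorProduct.ext'
    intro a b
    simp only [Θ₁, Θ₂, Θ₃, AlgHom.comp_apply, Algebra.TensorProduct.map_tmul, AlgHom.id_apply]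
    rw [← hgh, ← hgh₂]; rfl
  have := congrArg (fun F => F x) hcomp
  simp only [AlgHom.comp_apply] at this
  rw [← this, ← h3]; rfl

end Groth.Agent.Lib.Helper86.IndSmoothBC
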