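import Mathlib
import Groth.Prelude.Def_Smoothing
import Groth.Agent.S2034
import Groth.Agent.Lib.Helper81.PopFinalStep

/-! (H3) for helper81's Popescu char p case: resolving a local problem of dimension zero through an
ind-smooth algebra over the localized base (helper86). -/

set_option autoImplicit false
universe u

namespace Groth.Agent.Lib.Helper86.PopH3

open Smoothing IsLocalRing TensorProduct Groth.Agent.Lib.Helper81.Pop

theorem resolvable_of_factor_indSmooth {R₀ A₀ Λ₀ : Type u} [CommRing R₀] [IsNoetherianRing R₀]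
    [CommRing A₀] [Algebra R₀ A₀] [Algebra.FinitePresentation R₀ A₀] [CommRing Λ₀] [Algebra R₀ Λ₀]
    (φ₀ : A₀ →ₐ[R₀] Λ₀) (𝔮₀ : Ideal Λ₀) [𝔮₀.IsPrime]
    (Rp : Type u) [CommRing Rp] [Algebra R₀ Rp]
    [IsLocalization.AtPrime Rp (𝔮₀.comap (algebraMap R₀ Λ₀))]
    (Λq : Type u) [CommRing Λq] [Algebra Λ₀ Λq] [IsLocalization.AtPrime Λq 𝔮₀] [Algebra R₀ Λq]
    [IsScalarTower R₀ Λ₀ Λq] [Algebra Rp Λq] [IsScalarTower R₀ Rp Λq]
    (hdim : ringKrullDim Λq = 0)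
    (T : Type u) [CommRing T] [Algebra Rp T] [Algebra R₀ T] [IsScalarTower R₀ Rp T]
    (hT : Smoothing.IndSmooth Rp T) (τ : T →ₐ[Rp] Λq) (ε : A₀ →ₐ[R₀] T)
    (hτε : ∀ a, τ (ε a) = algebraMap Λ₀ Λq (φ₀ a)) : Smoothing.Resolvable R₀ φ₀ 𝔮₀ := by
  by_cases hle : singRad R₀ φ₀ ≤ 𝔮₀
  swap
  · exact ⟨A₀, inferInstance, inferInstance, inferInstance, AlgHom.id R₀ A₀, φ₀,
      AlgHom.comp_id φ₀, le_rfl, hle⟩
  have : IsLocalRing Λq := IsLocalization.AtPrime.isLocalRing Λq 𝔮₀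
  have : Ring.KrullDimLE 0 Λq := ringKrullDimZero_iff_ringKrullDim_eq_zero.2 hdim
  -- `𝔮₀` is a minimal prime
  have hmin : 𝔮₀ ∈ (singRad R₀ φ₀).minimalPrimes := by
    refine ⟨⟨inferInstance, hle⟩, ?_⟩
    rintro P ⟨hP, -⟩ hPq
    have hdisj : Disjoint (𝔮₀.primeCompl : Set Λ₀) (P : Set Λ₀) := by
      rw [Set.disjoint_left]
      intro x hx hxP
      exact hx (hPq hxP)
    have hPmap : (P.map (algebraMap Λ₀ Λq)).IsPrime :=
      IsLocalization.isPrime_of_isPrime_disjoint 𝔮₀.primeCompl Λq P hP hdisj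
    have hmax : (P.map (algebraMap Λ₀ Λq)).IsMaximal := hPmap.isMaximal'
    have heq : P.map (algebraMap Λ₀ Λq) = 𝔮₀.map (algebraMap Λ₀ Λq) := by
      rw [IsLocalization.AtPrime.map_eq_maximalIdeal 𝔮₀ Λq]
      exact IsLocalRing.eq_maximalIdeal hmax
    have h1 := IsLocalization.under_map_of_isPrime_disjoint 𝔮₀.primeCompl Λq hP hdisj
    have h2 := IsLocalization.under_map_of_isPrime_disjoint 𝔮₀.primeCompl Λq
      (inferInstance : 𝔮₀.IsPrime) (by
        rw [Set.disjoint_left]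
        intro x hx hxq
        exact hx hxq)
    rw [heq, h2] at h1
    exact h1.le
  refine Groth.Agent.S2034.result (Rₚ := Rp) (Λq := Λq) φ₀ 𝔮₀ hmin hdim ?_
  -- the map `Rp ⊗ A₀ → T`
  let E : Rp ⊗[R₀] A₀ →ₐ[Rp] T :=
    Algebra.TensorProduct.lift (Algebra.ofId Rp T) ε (fun _ _ => Commute.all _ _)
  have hΦ : (Algebra.TensorProduct.lift (Algebra.ofId Rp Λq)
      ((IsScalarTower.toAlgHom R₀ Λ₀ Λq).comp φ₀) (fun _ _ => Commute.all _ _) :
      Rp ⊗[R₀] A₀ →ₐ[Rp] Λq) = τ.comp E := by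
    apply Algebra.TensorProduct.ext'
    intro r a
    simp only [E, Algebra.TensorProduct.lift_tmul, AlgHom.comp_apply, map_mul,
      IsScalarTower.coe_toAlgHom', Algebra.ofId_apply, AlgHom.commutes, hτε]
  obtain ⟨B, _, _, hsm, g, h, hgh⟩ := hT (Rp ⊗[R₀] A₀) inferInstance E
  have : (𝔮₀.map (algebraMap Λ₀ Λq)).IsPrime :=
    (IsLocalization.AtPrime.isMaximal_map 𝔮₀ Λq).isPrime
  refine resolvable_of_factor_smooth _ _ g (τ.comp h) ?_
  rw [hΦ, AlgHom.comp_assoc, hgh]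

end Groth.Agent.Lib.Helper86.PopH3

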