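import Mathlib
import Groth.Prelude.Def_Smoothing
import Groth.Agent.Lib.Helper86.PhiNat
import Groth.Agent.Lib.Helper86.PopH3
import Groth.Agent.Lib.Helper86.IndSmoothBC

/-! (CH2) for helper81's Popescu char p case (helper86). -/

set_option autoImplicit false
universe u

namespace Groth.Agent.Lib.Helper86.PopCH2

open MvPolynomial Smoothing TensorProduct Groth.Agent.Lib.Helper81.Pop Groth.Agent.Lib.Helper86.PhiNat

theorem resolvable_of_descent_data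
    {k : Type u} [CommRing k] {R₁ : Type u} [CommRing R₁] [Algebra k R₁] {d : ℕ} (x : Fin d → R₁)
    {A : Type u} [CommRing A] [Algebra k A] {r : ℕ} (a : Fin r → A) (N : ℕ)
    {C : Type u} [CommRing C] [Algebra R₁ C] [Algebra (BAlg (k := k) x a N) C]
    [IsScalarTower R₁ (BAlg (k := k) x a N) C]
    (ρ : C →ₐ[BAlg (k := k) x a N] BAlg (k := k) x a N)
    (R : Type u) [CommRing R] [IsNoetherianRing R] [Algebra k R] [Algebra R₁ R]
    [IsScalarTower k R₁ R]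
    {Λ : Type u} [CommRing Λ] [Algebra k Λ] [Algebra R₁ Λ] [IsScalarTower k R₁ Λ] [Algebra R Λ]
    [IsScalarTower R₁ R Λ]
    (φ : A →ₐ[k] Λ) (lam : Fin d → Fin r → Λ)
    (hlam : ∀ i, algebraMap R₁ Λ (x i) ^ N = ∑ j, φ (a j) * lam i j)
    (K : Ideal R)
    [Algebra.FinitePresentation (R ⧸ K) ((R ⊗[R₁] C) ⧸ K.map (algebraMap R (R ⊗[R₁] C)))]
    (φK : ((R ⊗[R₁] C) ⧸ K.map (algebraMap R (R ⊗[R₁] C))) →ₐ[R ⧸ K]
      (Λ ⧸ K.map (algebraMap R Λ)))
    (hφK : ∀ t, φK (Ideal.Quotient.mk _ t) = Ideal.Quotient.mk _ (PhiC x a N ρ R φ lam hlam t))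
    (𝔮₀ : Ideal (Λ ⧸ K.map (algebraMap R Λ))) [𝔮₀.IsPrime]
    (Rp : Type u) [CommRing Rp] [Algebra (R ⧸ K) Rp]
    [IsLocalization.AtPrime Rp (𝔮₀.comap (algebraMap (R ⧸ K) (Λ ⧸ K.map (algebraMap R Λ))))]
    (Λq : Type u) [CommRing Λq] [Algebra (Λ ⧸ K.map (algebraMap R Λ)) Λq]
    [IsLocalization.AtPrime Λq 𝔮₀]
    [Algebra (R ⧸ K) Λq] [IsScalarTower (R ⧸ K) (Λ ⧸ K.map (algebraMap R Λ)) Λq]
    [Algebra Rp Λq] [IsScalarTower (R ⧸ K) Rp Λq] (hdim : ringKrullDim Λq = 0)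
    (T : Type u) [CommRing T] [Algebra Rp T] (hT : Smoothing.IndSmooth Rp T) (τ : T →ₐ[Rp] Λq)
    (φT : A →+* T)
    (hφTk : ∀ c : k, φT (algebraMap k A c) =
      algebraMap Rp T (algebraMap (R ⧸ K) Rp (Ideal.Quotient.mk K (algebraMap k R c))))
    (lamT : Fin d → Fin r → T)
    (hlamT : ∀ i, algebraMap Rp T (algebraMap (R ⧸ K) Rp
      (Ideal.Quotient.mk K (algebraMap R₁ R (x i)))) ^ N = ∑ j, φT (a j) * lamT i j)
    (hτφ : ∀ y : A, τ (φT y) =
      algebraMap (Λ ⧸ K.map (algebraMap R Λ)) Λq (Ideal.Quotient.mk _ (φ y)))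
    (hτlam : ∀ i j, τ (lamT i j) =
      algebraMap (Λ ⧸ K.map (algebraMap R Λ)) Λq (Ideal.Quotient.mk _ (lam i j))) :
    Smoothing.Resolvable (R ⧸ K) φK 𝔮₀ := by
  classical
  -- algebra structures on `T`
  let algRKT : Algebra (R ⧸ K) T := ((algebraMap Rp T).comp (algebraMap (R ⧸ K) Rp)).toAlgebra
  have towRKT : IsScalarTower (R ⧸ K) Rp T := IsScalarTower.of_algebraMap_eq (fun _ => rfl)
  let algRT : Algebra R T := ((algebraMap (R ⧸ K) T).comp (Ideal.Quotient.mk K)).toAlgebra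
  have towRT : IsScalarTower R (R ⧸ K) T := IsScalarTower.of_algebraMap_eq (fun _ => rfl)
  let algR₁T : Algebra R₁ T := ((algebraMap R T).comp (algebraMap R₁ R)).toAlgebra
  have towR₁T : IsScalarTower R₁ R T := IsScalarTower.of_algebraMap_eq (fun _ => rfl)
  let algkT : Algebra k T := ((algebraMap R T).comp (algebraMap k R)).toAlgebra
  have towkT : IsScalarTower k R₁ T := IsScalarTower.of_algebraMap_eq (fun c => by
    show algebraMap R T (algebraMap k R c) = algebraMap R T (algebraMap R₁ R (algebraMap k R₁ c))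
    rw [← IsScalarTower.algebraMap_apply k R₁ R])
  -- algebra structures on `Λq`
  let algRΛq : Algebra R Λq := ((algebraMap (R ⧸ K) Λq).comp (Ideal.Quotient.mk K)).toAlgebra
  have towRΛq : IsScalarTower R (R ⧸ K) Λq := IsScalarTower.of_algebraMap_eq (fun _ => rfl)
  let algR₁Λq : Algebra R₁ Λq := ((algebraMap R Λq).comp (algebraMap R₁ R)).toAlgebra
  have towR₁Λq : IsScalarTower R₁ R Λq := IsScalarTower.of_algebraMap_eq (fun _ => rfl)
  let algkΛq : Algebra k Λq := ((algebraMap R Λq).comp (algebraMap k R)).toAlgebra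
  have towkΛq : IsScalarTower k R₁ Λq := IsScalarTower.of_algebraMap_eq (fun c => by
    show algebraMap R Λq (algebraMap k R c) = algebraMap R Λq (algebraMap R₁ R (algebraMap k R₁ c))
    rw [← IsScalarTower.algebraMap_apply k R₁ R])
  -- `φT` as a `k`-algebra map
  let φT' : A →ₐ[k] T := { φT with commutes' := fun c => hφTk c }
  have hlamT' : ∀ i, algebraMap R₁ T (x i) ^ N = ∑ j, φT' (a j) * lamT i j := fun i => hlamT i
  let ε' : R ⊗[R₁] C →ₐ[R] T := PhiC x a N ρ R φT' lamT hlamT'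
  have hε'K : ∀ t ∈ K.map (algebraMap R (R ⊗[R₁] C)), ε'.toRingHom t = 0 := by
    have : K.map (algebraMap R (R ⊗[R₁] C)) ≤ RingHom.ker ε'.toRingHom := by
      rw [Ideal.map_le_iff_le_comap]
      intro t ht
      rw [Ideal.mem_comap, RingHom.mem_ker]
      show ε' (algebraMap R _ t) = 0
      rw [ε'.commutes]
      show algebraMap (R ⧸ K) T (Ideal.Quotient.mk K t) = 0
      rw [Ideal.Quotient.eq_zero_iff_mem.2 ht, map_zero]
    exact this
  let ε : ((R ⊗[R₁] C) ⧸ K.map (algebraMap R (R ⊗[R₁] C))) →ₐ[R ⧸ K] T :=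
    { Ideal.Quotient.lift _ ε'.toRingHom hε'K with
      commutes' := fun c => by
        obtain ⟨t, rfl⟩ := Ideal.Quotient.mk_surjective c
        show Ideal.Quotient.lift _ ε'.toRingHom hε'K
          (Ideal.Quotient.mk _ (algebraMap R (R ⊗[R₁] C) t)) = _
        rw [Ideal.Quotient.lift_mk]
        show ε' (algebraMap R _ t) = _
        rw [ε'.commutes]
        rfl }
  have hε : ∀ t, ε (Ideal.Quotient.mk _ t) = ε' t := fun t => rfl
  -- the map `Λ → Λq`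
  let θ₁ : Λ →+* Λq :=
    (algebraMap (Λ ⧸ K.map (algebraMap R Λ)) Λq).comp (Ideal.Quotient.mk _)
  have hθ₁R : ∀ t : R, θ₁ (algebraMap R Λ t) = algebraMap R Λq t := by
    intro t
    show algebraMap (Λ ⧸ K.map (algebraMap R Λ)) Λq (Ideal.Quotient.mk _ (algebraMap R Λ t)) =
      algebraMap (R ⧸ K) Λq (Ideal.Quotient.mk K t)
    rw [IsScalarTower.algebraMap_apply (R ⧸ K) (Λ ⧸ K.map (algebraMap R Λ)) Λq]
    rfl
  have hkΛ : ∀ c : k, algebraMap k Λ c = algebraMap R Λ (algebraMap k R c) := by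
    intro c
    rw [IsScalarTower.algebraMap_apply k R₁ Λ, IsScalarTower.algebraMap_apply R₁ R Λ,
      ← IsScalarTower.algebraMap_apply k R₁ R]
  let φq : A →ₐ[k] Λq :=
    { θ₁.comp φ.toRingHom with
      commutes' := fun c => by
        show θ₁ (φ (algebraMap k A c)) = algebraMap R Λq (algebraMap k R c)
        rw [φ.commutes, hkΛ, hθ₁R] }
  let lamq : Fin d → Fin r → Λq := fun i j => θ₁ (lam i j)
  have hlamq : ∀ i, algebraMap R₁ Λq (x i) ^ N = ∑ j, φq (a j) * lamq i j := by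
    intro i
    have h1 := congrArg θ₁ (hlam i)
    rw [map_pow, map_sum, IsScalarTower.algebraMap_apply R₁ R Λ, hθ₁R] at h1
    simp only [map_mul] at h1
    exact h1
  have hnat₁ : ∀ t, θ₁ (PhiC x a N ρ R φ lam hlam t) = PhiC x a N ρ R φq lamq hlamq t :=
    fun t => PhiC_natural x a N ρ R φ lam hlam φq lamq hlamq θ₁ hθ₁R (fun _ => rfl)
      (fun _ _ => rfl) t
  have hτR : ∀ t : R, τ.toRingHom (algebraMap R T t) = algebraMap R Λq t := by
    intro t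
    show τ (algebraMap Rp T (algebraMap (R ⧸ K) Rp (Ideal.Quotient.mk K t))) =
      algebraMap (R ⧸ K) Λq (Ideal.Quotient.mk K t)
    rw [τ.commutes, ← IsScalarTower.algebraMap_apply (R ⧸ K) Rp Λq]
  have hnat₂ : ∀ t, τ (PhiC x a N ρ R φT' lamT hlamT' t) = PhiC x a N ρ R φq lamq hlamq t :=
    fun t => PhiC_natural x a N ρ R φT' lamT hlamT' φq lamq hlamq τ.toRingHom hτR
      (fun y => hτφ y) (fun i j => hτlam i j) t
  have hτε : ∀ a', τ (ε a') = algebraMap (Λ ⧸ K.map (algebraMap R Λ)) Λq (φK a') := by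
    intro a'
    obtain ⟨t, rfl⟩ := Ideal.Quotient.mk_surjective a'
    rw [hε, hφK]
    show τ (PhiC x a N ρ R φT' lamT hlamT' t) = θ₁ (PhiC x a N ρ R φ lam hlam t)
    rw [hnat₁, hnat₂]
  exact Groth.Agent.Lib.Helper86.PopH3.resolvable_of_factor_indSmooth φK 𝔮₀ Rp Λq hdim T hT τ ε hτε


theorem resolvable_of_artinian_descent
    {k : Type u} [CommRing k] {R₁ : Type u} [CommRing R₁] [Algebra k R₁] {d : ℕ} (x : Fin d → R₁)
    {A : Type u} [CommRing A] [Algebra k A] {r : ℕ} (a : Fin r → A) (N : ℕ)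
    {C : Type u} [CommRing C] [Algebra R₁ C] [Algebra (BAlg (k := k) x a N) C]
    [IsScalarTower R₁ (BAlg (k := k) x a N) C]
    (ρ : C →ₐ[BAlg (k := k) x a N] BAlg (k := k) x a N)
    (R : Type u) [CommRing R] [IsNoetherianRing R] [Algebra k R] [Algebra R₁ R]
    [IsScalarTower k R₁ R]
    {Λ : Type u} [CommRing Λ] [Algebra k Λ] [Algebra R₁ Λ] [IsScalarTower k R₁ Λ] [Algebra R Λ]
    [IsScalarTower R₁ R Λ]
    (φ : A →ₐ[k] Λ) (lam : Fin d → Fin r → Λ)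
    (hlam : ∀ i, algebraMap R₁ Λ (x i) ^ N = ∑ j, φ (a j) * lam i j)
    (K : Ideal R)
    [Algebra.FinitePresentation (R ⧸ K) ((R ⊗[R₁] C) ⧸ K.map (algebraMap R (R ⊗[R₁] C)))]
    (φK : ((R ⊗[R₁] C) ⧸ K.map (algebraMap R (R ⊗[R₁] C))) →ₐ[R ⧸ K]
      (Λ ⧸ K.map (algebraMap R Λ)))
    (hφK : ∀ t, φK (Ideal.Quotient.mk _ t) = Ideal.Quotient.mk _ (PhiC x a N ρ R φ lam hlam t))
    (𝔮₀ : Ideal (Λ ⧸ K.map (algebraMap R Λ))) [𝔮₀.IsPrime]
    (Rp : Type u) [CommRing Rp] [Algebra (R ⧸ K) Rp]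
    [IsLocalization.AtPrime Rp (𝔮₀.comap (algebraMap (R ⧸ K) (Λ ⧸ K.map (algebraMap R Λ))))]
    (Λq : Type u) [CommRing Λq] [Algebra (Λ ⧸ K.map (algebraMap R Λ)) Λq]
    [IsLocalization.AtPrime Λq 𝔮₀]
    [Algebra (R ⧸ K) Λq] [IsScalarTower (R ⧸ K) (Λ ⧸ K.map (algebraMap R Λ)) Λq]
    [Algebra Rp Λq] [IsScalarTower (R ⧸ K) Rp Λq] (hdim : ringKrullDim Λq = 0)
    {S₀ D : Type u} [CommRing S₀] [CommRing D] [Algebra S₀ D] [Algebra k S₀] [Algebra k D]
    [IsScalarTower k S₀ D] (hind : Smoothing.IndSmooth S₀ D)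
    [Algebra S₀ Rp]
    (hι₀k : ∀ c : k, algebraMap S₀ Rp (algebraMap k S₀ c) =
      algebraMap (R ⧸ K) Rp (Ideal.Quotient.mk K (algebraMap k R c)))
    (τD : D →+* Λq)
    (hτD : ∀ s : S₀, τD (algebraMap S₀ D s) = algebraMap Rp Λq (algebraMap S₀ Rp s))
    (φD : A →ₐ[k] D)
    (hφD : ∀ y, τD (φD y) =
      algebraMap (Λ ⧸ K.map (algebraMap R Λ)) Λq (Ideal.Quotient.mk _ (φ y)))
    (πS : Fin d → S₀) (u : Fin d → R)
    (hγ : ∀ i, algebraMap (R ⧸ K) Rp (Ideal.Quotient.mk K (algebraMap R₁ R (x i))) =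
      algebraMap S₀ Rp (πS i) * algebraMap (R ⧸ K) Rp (Ideal.Quotient.mk K (u i)))
    (μ : Fin d → Fin r → D)
    (hμ : ∀ i, algebraMap S₀ D (πS i) ^ N = ∑ j, φD (a j) * μ i j)
    (hlamμ : ∀ i j, algebraMap Rp Λq (algebraMap (R ⧸ K) Rp (Ideal.Quotient.mk K (u i))) ^ N *
      τD (μ i j) =
      algebraMap (Λ ⧸ K.map (algebraMap R Λ)) Λq (Ideal.Quotient.mk _ (lam i j))) :
    Smoothing.Resolvable (R ⧸ K) φK 𝔮₀ := by
  classical
  have hT : Smoothing.IndSmooth Rp (Rp ⊗[S₀] D) :=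
    Groth.Agent.Lib.Helper86.IndSmoothBC.indSmooth_baseChange hind (R' := Rp)
  let algS₀Λq : Algebra S₀ Λq := ((algebraMap Rp Λq).comp (algebraMap S₀ Rp)).toAlgebra
  have towS₀ : IsScalarTower S₀ Rp Λq := IsScalarTower.of_algebraMap_eq (fun _ => rfl)
  let τD' : D →ₐ[S₀] Λq := { τD with commutes' := fun s => hτD s }
  let τ : Rp ⊗[S₀] D →ₐ[Rp] Λq :=
    Algebra.TensorProduct.lift (Algebra.ofId Rp Λq) τD' (fun _ _ => Commute.all _ _)
  have hτ : ∀ (z : Rp) (w : D), τ (z ⊗ₜ[S₀] w) = algebraMap Rp Λq z * τD w := by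
    intro z w
    simp only [τ, Algebra.TensorProduct.lift_tmul, Algebra.ofId_apply]
    rfl
  let φT : A →+* Rp ⊗[S₀] D :=
    (Algebra.TensorProduct.includeRight : D →ₐ[S₀] Rp ⊗[S₀] D).toRingHom.comp φD.toRingHom
  have hφT : ∀ y, φT y = (1 : Rp) ⊗ₜ[S₀] φD y := fun y => rfl
  have hmove : ∀ s : S₀, (algebraMap S₀ Rp s) ⊗ₜ[S₀] (1 : D) =
      (1 : Rp) ⊗ₜ[S₀] algebraMap S₀ D s := by
    intro s
    rw [Algebra.algebraMap_eq_smul_one, Algebra.algebraMap_eq_smul_one, TensorProduct.smul_tmul]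
  have hφTk : ∀ c : k, φT (algebraMap k A c) =
      algebraMap Rp (Rp ⊗[S₀] D) (algebraMap (R ⧸ K) Rp (Ideal.Quotient.mk K (algebraMap k R c))) := by
    intro c
    rw [hφT, φD.commutes, IsScalarTower.algebraMap_apply k S₀ D, ← hmove, hι₀k]
    rfl
  let lamT : Fin d → Fin r → Rp ⊗[S₀] D := fun i j =>
    (algebraMap (R ⧸ K) Rp (Ideal.Quotient.mk K (u i)) ^ N) ⊗ₜ[S₀] μ i j
  have hlamT : ∀ i, algebraMap Rp (Rp ⊗[S₀] D) (algebraMap (R ⧸ K) Rp
      (Ideal.Quotient.mk K (algebraMap R₁ R (x i)))) ^ N = ∑ j, φT (a j) * lamT i j := by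
    intro i
    rw [hγ, Algebra.TensorProduct.algebraMap_apply, Algebra.algebraMap_self, RingHom.id_apply,
      Algebra.TensorProduct.tmul_pow, one_pow, mul_pow]
    have h1 : (algebraMap S₀ Rp (πS i) ^ N * algebraMap (R ⧸ K) Rp (Ideal.Quotient.mk K (u i)) ^ N)
        ⊗ₜ[S₀] (1 : D) =
        (algebraMap (R ⧸ K) Rp (Ideal.Quotient.mk K (u i)) ^ N) ⊗ₜ[S₀]
          (algebraMap S₀ D (πS i) ^ N) := by
      rw [← map_pow, ← map_pow (algebraMap S₀ D), Algebra.algebraMap_eq_smul_one (πS i ^ N),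
        Algebra.algebraMap_eq_smul_one (A := D) (πS i ^ N), smul_mul_assoc, one_mul,
        TensorProduct.smul_tmul]
    rw [h1, hμ, TensorProduct.tmul_sum]
    refine Finset.sum_congr rfl (fun j _ => ?_)
    rw [hφT, Algebra.TensorProduct.tmul_mul_tmul, one_mul]
  have hτφ : ∀ y : A, τ (φT y) =
      algebraMap (Λ ⧸ K.map (algebraMap R Λ)) Λq (Ideal.Quotient.mk _ (φ y)) := by
    intro y
    rw [hφT, hτ, map_one, one_mul, hφD]
  have hτlam : ∀ i j, τ (lamT i j) =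
      algebraMap (Λ ⧸ K.map (algebraMap R Λ)) Λq (Ideal.Quotient.mk _ (lam i j)) := by
    intro i j
    rw [hτ, map_pow, hlamμ]
  exact resolvable_of_descent_data x a N ρ R φ lam hlam K φK hφK 𝔮₀ Rp Λq hdim (Rp ⊗[S₀] D) hT τ
    φT hφTk lamT hlamT hτφ hτlam

end Groth.Agent.Lib.Helper86.PopCH2
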