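import Mathlib
import Groth.Prelude.Def_Dieu

set_option autoImplicit false
set_option linter.unusedSectionVars false
universe u v

namespace Groth.Agent.Lib.Helper86.BCRank

open Dieu

section General

variable {A : Type u} [CommRing A]

/-- A surjection of finite projective modules with equal rank functions is injective. -/
theorem injective_of_surjective_of_rankAtStalk_eq {N P : Type*} [AddCommGroup N] [Module A N]
    [AddCommGroup P] [Module A P] [Module.Finite A N] [Module.Projective A N]
    [Module.Finite A P] [Module.Projective A P] (f : N →ₗ[A] P) (hf : Function.Surjective f)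
    (h : ∀ 𝔮 : PrimeSpectrum A, Module.rankAtStalk (R := A) N 𝔮 = Module.rankAtStalk (R := A) P 𝔮) :
    Function.Injective f := by
  obtain ⟨s, hs⟩ := Module.projective_lifting_property f LinearMap.id hf
  have hs' : ∀ x, f (s x) = x := fun x => congr($hs x)
  let K := LinearMap.ker f
  let π : N →ₗ[A] K := (LinearMap.id - s ∘ₗ f).codRestrict K (fun z => by
    simp [K, hs'])
  have hπ : ∀ k : K, π k.1 = k := by
    intro k
    apply Subtype.ext
    have : f k.1 = 0 := k.2
    simp [π, this]
  have : Module.Finite A K := Module.Finite.of_surjective π (fun k => ⟨k.1, hπ k⟩)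
  have : Module.Projective A K :=
    Module.Projective.of_split K.subtype π (LinearMap.ext fun k => hπ k)
  let e : N ≃ₗ[A] P × K :=
    { toFun := fun z => (f z, π z)
      map_add' := fun z z' => by simp
      map_smul' := fun a z => by simp
      invFun := fun x => s x.1 + x.2.1
      left_inv := fun z => by
        simp [π]
      right_inv := fun x => by
        obtain ⟨x, k⟩ := x
        have hk : f k.1 = 0 := k.2
        ext
        · simp [hs', hk]
        · simp [π, hs', hk] }
  have hrank : Module.rankAtStalk (R := A) N = Module.rankAtStalk P + Module.rankAtStalk K := by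
    rw [Module.rankAtStalk_eq_of_equiv e, Module.rankAtStalk_prod]
  have hK : Module.rankAtStalk (R := A) K = 0 := by
    ext 𝔮
    have := congrFun hrank 𝔮
    rw [h 𝔮] at this
    simpa using this
  have := Module.rankAtStalk_eq_zero_iff_subsingleton.mp hK
  rw [← LinearMap.ker_eq_bot]
  exact Submodule.eq_bot_of_subsingleton

end General

section BaseChange

variable {A : Type u} [CommRing A] (g : A →+* A) (P : Type v) [AddCommGroup P] [Module A P]

/-- A copy of `A`, viewed as an `A`-algebra through `g`. -/
def Tw (_g : A →+* A) : Type u := A

instance : CommRing (Tw g) := inferInstanceAs (CommRing A)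

/-- `g` as a ring hom into the copy. -/
def toTw : A →+* Tw g := g

noncomputable instance : Algebra A (Tw g) := (toTw g).toAlgebra

lemma algebraMap_Tw (a : A) : algebraMap A (Tw g) a = g a := rfl

/-- A copy of `BC g P`, as a module over `Tw g` and over `A` (through `g`). -/
def BCt : Type (max u v) := BC g P

noncomputable instance : AddCommGroup (BCt g P) := inferInstanceAs (AddCommGroup (BC g P))

noncomputable instance : Module (Tw g) (BCt g P) := inferInstanceAs (Module A (BC g P))

noncomputable instance instModA : Module A (BCt g P) := Module.compHom (BC g P) g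

lemma smulA_def (a : A) (z : BCt g P) : a • z = (toTw g a) • z := by
  with_unfolding_all rfl

instance : IsScalarTower A (Tw g) (BCt g P) :=
  ⟨fun a b z => by
    rw [smulA_def, Algebra.smul_def, mul_smul]
    rfl⟩

/-- `x ↦ 1 ⊗ x` as an `A`-linear map into the copy. -/
noncomputable def ιt : P →ₗ[A] BCt g P where
  toFun x := BC.tmul g 1 x
  map_add' x y := BC.tmul_add g 1 x y
  map_smul' a x :=
    ((BC.tmul_apply_eq g a x).symm.trans (BC.tmul_eq_smul_tmul_one g (g a) x))

/-- The identity, as a ring isomorphism onto the copy. -/
def idT : A ≃+* Tw g := RingEquiv.refl A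

lemma idT_apply_g (a : A) : idT g (g a) = algebraMap A (Tw g) a := rfl

/-- pure tensors in the copy -/
def tmulT (b : A) (x : P) : BCt g P := BC.tmul g b x

variable {P} in
lemma smul_tmulT (c b : A) (x : P) : idT g c • tmulT g P b x = tmulT g P (c * b) x := rfl

variable {P} in
lemma ιt_apply (x : P) : ιt g P x = tmulT g P 1 x := rfl

variable {P} in
@[elab_as_elim]
lemma inductionT {motive : BCt g P → Prop} (z : BCt g P) (zero : motive 0)
    (tmul : ∀ (b : A) (x : P), motive (tmulT g P b x))
    (add : ∀ z₁ z₂, motive z₁ → motive z₂ → motive (z₁ + z₂)) : motive z :=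
  BC.induction_on g (motive := motive) z zero tmul add

theorem isBaseChange : IsBaseChange (Tw g) (ιt g P) := by
  refine IsBaseChange.of_lift_unique _ (fun Q _ _ _ _ f => ?_)
  let bil : Res g →ₗ[A] P →ₗ[A] Q :=
    { toFun := fun t =>
        { toFun := fun x => idT g t.val • f x
          map_add' := fun x y => by rw [map_add, smul_add]
          map_smul' := fun a x => by rw [map_smul, smul_comm, RingHom.id_apply] }
      map_add' := fun s t => by
        ext x
        change idT g (s + t).val • f x = idT g s.val • f x + idT g t.val • f x
        rw [← add_smul, Res.val_add, map_add]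
      map_smul' := fun a t => by
        ext x
        change idT g (a • t).val • f x = a • (idT g t.val • f x)
        rw [Res.val_smul, map_mul, idT_apply_g, mul_smul, algebraMap_smul] }
  let g₀ : BCt g P → Q := fun z => TensorProduct.lift bil z
  have g₀_tmul : ∀ (b : A) (x : P), g₀ (tmulT g P b x) = idT g b • f x := fun b x => rfl
  have g₀_add : ∀ z₁ z₂, g₀ (z₁ + z₂) = g₀ z₁ + g₀ z₂ := fun z₁ z₂ =>
    map_add (TensorProduct.lift bil) z₁ z₂
  have g₀_zero : g₀ 0 = 0 := map_zero (TensorProduct.lift bil)
  let g' : BCt g P →ₗ[Tw g] Q :=
    { toFun := g₀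
      map_add' := g₀_add
      map_smul' := fun c z => by
        rw [RingHom.id_apply]
        obtain ⟨c, rfl⟩ := (idT g).surjective c
        induction z using inductionT g with
        | zero => rw [smul_zero, g₀_zero, smul_zero]
        | tmul b x => rw [smul_tmulT, g₀_tmul, g₀_tmul, map_mul, mul_smul]
        | add z₁ z₂ h₁ h₂ => rw [smul_add, g₀_add, g₀_add, h₁, h₂, smul_add] }
  refine ⟨g', ?_, ?_⟩
  · ext x
    change g₀ (tmulT g P 1 x) = f x
    rw [g₀_tmul, map_one, one_smul]
  · intro g'' hg''
    ext z
    induction z using inductionT g with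
    | zero => rw [map_zero, map_zero]
    | tmul b x =>
      have hb : tmulT g P b x = idT g b • ιt g P x := by
        rw [ιt_apply, smul_tmulT, mul_one]
      have h2 : g'' (ιt g P x) = f x := congr($hg'' x)
      change g'' (tmulT g P b x) = g₀ (tmulT g P b x)
      rw [g₀_tmul, hb, map_smul, h2]
    | add z₁ z₂ h₁ h₂ => rw [map_add, map_add, h₁, h₂]


section Consequences

variable [Module.Finite A P] [Module.Projective A P]

theorem finite_BC : Module.Finite A (BC g P) := by
  have : Module.Finite (Tw g) (BCt g P) := Module.Finite.equiv (isBaseChange g P).equiv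
  exact this

theorem projective_BC : Module.Projective A (BC g P) := by
  have : Module.Projective (Tw g) (BCt g P) :=
    Module.Projective.of_equiv (isBaseChange g P).equiv
  exact this

theorem rankAtStalk_BC (𝔮 : PrimeSpectrum A) :
    Module.rankAtStalk (R := A) (BC g P) 𝔮 =
      Module.rankAtStalk (R := A) P (PrimeSpectrum.comap g 𝔮) := by
  have := Module.rankAtStalk_isBaseChange (isBaseChange g P) (show PrimeSpectrum (Tw g) from 𝔮)
  exact this

end Consequences

end BaseChange

end Groth.Agent.Lib.Helper86.BCRank
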