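import Mathlib

/-! Bridge between Mathlib's `Pseudofunctor.DescentData` for the pseudofunctor of modules with
extension of scalars, and concrete statements on elements. -/

set_option autoImplicit false

open CategoryTheory Opposite ModuleCat

universe u

namespace Groth.Agent.Lib.Helper86.DescBridge

section Tm

variable {A B : Type u} [CommRing A] [CommRing B] (f : A →+* B)

open ChangeOfRings in
/-- pure tensors in an extension of scalars -/
noncomputable def tm {M : ModuleCat.{u} A} (s : B) (m : M) : (extendScalars f).obj M :=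
  s ⊗ₜ[A,f] m

lemma eqToHom_tm (f f' : A →+* B) (h : f = f') (M : ModuleCat.{u} A) (s : B) (m : M) :
    (eqToHom (by rw [h]) : (extendScalars f).obj M ⟶ (extendScalars f').obj M) (tm f s m) =
      tm f' s m := by
  subst h
  rfl

lemma smul_tm {M : ModuleCat.{u} A} (s s' : B) (m : M) : s • tm f s' m = tm f (s * s') m := rfl

lemma tm_add {M : ModuleCat.{u} A} (s : B) (m m' : M) :
    tm f s (m + m') = tm f s m + tm f s m' := TensorProduct.tmul_add _ _ _

lemma add_tm {M : ModuleCat.{u} A} (s s' : B) (m : M) :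
    tm f (s + s') m = tm f s m + tm f s' m := TensorProduct.add_tmul _ _ _

lemma tm_zero {M : ModuleCat.{u} A} (s : B) : tm f s (0 : M) = 0 := TensorProduct.tmul_zero _ _

lemma tm_smul {M : ModuleCat.{u} A} (s : B) (a : A) (m : M) :
    tm f s (a • m) = tm f (f a * s) m := by
  unfold tm
  let _ : Module A B := Module.compHom B f
  have : IsScalarTower A A B := inferInstance
  have : IsScalarTower A A M := inferInstance
  exact (TensorProduct.smul_tmul (R := A) (R' := A) a s m).symm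

lemma map_tm {M M' : ModuleCat.{u} A} (g : M ⟶ M') (s : B) (m : M) :
    (extendScalars f).map g (tm f s m) = tm f s (g m) := rfl

lemma hom_ext_tm {M : ModuleCat.{u} A} {N : ModuleCat.{u} B}
    {α β : (extendScalars f).obj M ⟶ N} (h : ∀ m : M, α (tm f 1 m) = β (tm f 1 m)) : α = β :=
  ExtendScalars.hom_ext h

lemma tm_induction {M : ModuleCat.{u} A} {P : (extendScalars f).obj M → Prop}
    (h0 : P 0) (h1 : ∀ s m, P (tm f s m)) (h2 : ∀ x y, P x → P y → P (x + y))
    (x : (extendScalars f).obj M) : P x :=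
  TensorProduct.induction_on x h0 h1 h2

end Tm

variable {D : Type*} [Category D] (Φ : D ⥤ CommRingCat.{u})

/-- the pseudofunctor of modules with extension of scalars, along `Φ` -/
noncomputable abbrev PF : Pseudofunctor (LocallyDiscrete D) Cat.{u, u + 1} :=
  Φ.toPseudofunctor.comp CommRingCat.moduleCatExtendScalarsPseudofunctor.{u}

set_option backward.isDefEq.respectTransparency false in
lemma mapComp_hom_app_tm {b₀ b₁ b₂ : LocallyDiscrete D} (f : b₀ ⟶ b₁) (g : b₁ ⟶ b₂)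
    (M : ModuleCat.{u} (Φ.obj b₀.as)) (m : M) :
    ModuleCat.Hom.hom (show (extendScalars (Φ.map (f ≫ g).as).hom).obj M ⟶
        (extendScalars (Φ.map g.as).hom).obj ((extendScalars (Φ.map f.as).hom).obj M) from
        ((PF Φ).mapComp f g).hom.toNatTrans.app M)
      (tm (Φ.map (f ≫ g).as).hom 1 m) =
    tm (Φ.map g.as).hom 1 (tm (Φ.map f.as).hom 1 m) := by
  obtain ⟨f⟩ := f
  obtain ⟨g⟩ := g
  simp only [PF, Pseudofunctor.comp_mapComp, Iso.trans_hom, Cat.Hom₂.comp_app,
    CommRingCat.moduleCatExtendScalarsPseudofunctor_mapComp, Functor.toPseudofunctor_mapComp,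
    Cat.Hom.isoMk_hom]
  rw [PrelaxFunctor.map₂Iso_eqToIso]
  simp only [eqToIso.hom, Cat.eqToHom_app]
  rw [ModuleCat.hom_comp, LinearMap.comp_apply]
  erw [eqToHom_tm (f := (Φ.map (f ≫ g)).hom) (f' := ((Φ.map g).hom.comp (Φ.map f).hom))
    (h := by rw [Φ.map_comp]; rfl)]
  exact extendScalarsComp_hom_app_one_tmul _ _ M m

set_option backward.isDefEq.respectTransparency false in
lemma mapComp'_hom_app_tm_one {b₀ b₁ b₂ : LocallyDiscrete D} (f : b₀ ⟶ b₁) (g : b₁ ⟶ b₂)
    (fg : b₀ ⟶ b₂) (h : f ≫ g = fg)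
    (M : ModuleCat.{u} (Φ.obj b₀.as)) (m : M) :
    ModuleCat.Hom.hom (show (extendScalars (Φ.map fg.as).hom).obj M ⟶
        (extendScalars (Φ.map g.as).hom).obj ((extendScalars (Φ.map f.as).hom).obj M) from
        ((PF Φ).mapComp' f g fg h).hom.toNatTrans.app M)
      (tm (Φ.map fg.as).hom 1 m) =
    tm (Φ.map g.as).hom 1 (tm (Φ.map f.as).hom 1 m) := by
  subst h
  rw [Pseudofunctor.mapComp'_eq_mapComp]
  exact mapComp_hom_app_tm Φ f g M m

set_option backward.isDefEq.respectTransparency false in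
lemma mapComp'_hom_app_tm {b₀ b₁ b₂ : LocallyDiscrete D} (f : b₀ ⟶ b₁) (g : b₁ ⟶ b₂)
    (fg : b₀ ⟶ b₂) (h : f ≫ g = fg)
    (M : ModuleCat.{u} (Φ.obj b₀.as)) (s : Φ.obj b₂.as) (m : M) :
    ModuleCat.Hom.hom (show (extendScalars (Φ.map fg.as).hom).obj M ⟶
        (extendScalars (Φ.map g.as).hom).obj ((extendScalars (Φ.map f.as).hom).obj M) from
        ((PF Φ).mapComp' f g fg h).hom.toNatTrans.app M)
      (tm (Φ.map fg.as).hom s m) =
    tm (Φ.map g.as).hom s (tm (Φ.map f.as).hom 1 m) := by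
  have h1 : tm (Φ.map fg.as).hom s m = s • tm (Φ.map fg.as).hom 1 m := by
    rw [smul_tm, mul_one]
  rw [h1, map_smul, mapComp'_hom_app_tm_one, smul_tm, mul_one]

section GLin

variable {A B C : Type u} [CommRing A] [CommRing B] [CommRing C]
  (α : A →+* B) (γ : B →+* C) (κ : A →+* C) (h : γ.comp α = κ)

/-- `γ` as an `A`-linear map `B → C` -/
noncomputable def gLin :
    letI := Module.compHom B α
    letI := Module.compHom C κ
    B →ₗ[A] C :=
  letI := Module.compHom B α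
  letI := Module.compHom C κ
  { toFun := γ
    map_add' := map_add γ
    map_smul' := fun a b => by
      show γ (α a * b) = κ a * γ b
      rw [map_mul, ← h]
      rfl }

/-- `γ ⊗ N` -/
noncomputable def U (N : ModuleCat.{u} A) :
    (extendScalars α).obj N → (extendScalars κ).obj N :=
  letI := Module.compHom B α
  letI := Module.compHom C κ
  fun y => (LinearMap.rTensor N (gLin α γ κ h) : TensorProduct A B N →ₗ[A] TensorProduct A C N) y

lemma U_tm (N : ModuleCat.{u} A) (b : B) (n : N) : U α γ κ h N (tm α b n) = tm κ (γ b) n := rfl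

lemma U_add (N : ModuleCat.{u} A) (y y' : (extendScalars α).obj N) :
    U α γ κ h N (y + y') = U α γ κ h N y + U α γ κ h N y' := by
  let _ := Module.compHom B α
  let _ := Module.compHom C κ
  exact map_add (LinearMap.rTensor N (gLin α γ κ h) :
    TensorProduct A B N →ₗ[A] TensorProduct A C N) y y'

lemma U_zero (N : ModuleCat.{u} A) : U α γ κ h N 0 = 0 := by
  let _ := Module.compHom B α
  let _ := Module.compHom C κ
  exact map_zero (LinearMap.rTensor N (gLin α γ κ h) :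
    TensorProduct A B N →ₗ[A] TensorProduct A C N)

end GLin

set_option backward.isDefEq.respectTransparency false in
lemma mapComp'_hom_app_U {b₀ b₁ b₂ : LocallyDiscrete D} (f : b₀ ⟶ b₁) (g : b₁ ⟶ b₂)
    (fg : b₀ ⟶ b₂) (h : f ≫ g = fg)
    (N : ModuleCat.{u} (Φ.obj b₀.as)) (y : (extendScalars (Φ.map f.as).hom).obj N) :
    ModuleCat.Hom.hom (show (extendScalars (Φ.map fg.as).hom).obj N ⟶
        (extendScalars (Φ.map g.as).hom).obj ((extendScalars (Φ.map f.as).hom).obj N) from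
        ((PF Φ).mapComp' f g fg h).hom.toNatTrans.app N)
      (U (Φ.map f.as).hom (Φ.map g.as).hom (Φ.map fg.as).hom
        (by subst h; show _ = (Φ.map (f.as ≫ g.as)).hom; rw [Φ.map_comp]; rfl) N y) =
    tm (Φ.map g.as).hom 1 y := by
  induction y using tm_induction with
  | h0 => rw [U_zero, map_zero, tm_zero]
  | h1 s n =>
    rw [U_tm, mapComp'_hom_app_tm]
    have : tm (Φ.map f.as).hom s n = s • tm (Φ.map f.as).hom 1 n := by rw [smul_tm, mul_one]
    rw [this, tm_smul, mul_one]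
  | h2 x y hx hy => rw [U_add, map_add, hx, hy, tm_add]

section Mc

variable {b₀ b₁ b₂ : LocallyDiscrete D} (f : b₀ ⟶ b₁) (g : b₁ ⟶ b₂) (fg : b₀ ⟶ b₂)
  (h : f ≫ g = fg) (M : ModuleCat.{u} (Φ.obj b₀.as))

/-- the composition isomorphism, as a morphism of modules -/
noncomputable def mcHom : (extendScalars (Φ.map fg.as).hom).obj M ⟶
    (extendScalars (Φ.map g.as).hom).obj ((extendScalars (Φ.map f.as).hom).obj M) :=
  ((PF Φ).mapComp' f g fg h).hom.toNatTrans.app M

/-- the inverse of the composition isomorphism, as a morphism of modules -/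
noncomputable def mcInv : (extendScalars (Φ.map g.as).hom).obj
    ((extendScalars (Φ.map f.as).hom).obj M) ⟶ (extendScalars (Φ.map fg.as).hom).obj M :=
  ((PF Φ).mapComp' f g fg h).inv.toNatTrans.app M

set_option backward.isDefEq.respectTransparency false in
lemma mcHom_mcInv : mcHom Φ f g fg h M ≫ mcInv Φ f g fg h M = 𝟙 _ :=
  Cat.Hom.hom_inv_id_toNatTrans_app ((PF Φ).mapComp' f g fg h) M

set_option backward.isDefEq.respectTransparency false in
lemma mcInv_mcHom : mcInv Φ f g fg h M ≫ mcHom Φ f g fg h M = 𝟙 _ :=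
  Cat.Hom.inv_hom_id_toNatTrans_app ((PF Φ).mapComp' f g fg h) M

lemma mcInv_mcHom_apply (x) : mcHom Φ f g fg h M (mcInv Φ f g fg h M x) = x := by
  have := congrArg (fun φ => ModuleCat.Hom.hom φ x) (mcInv_mcHom Φ f g fg h M)
  simpa using this

lemma mcHom_mcInv_apply (x) : mcInv Φ f g fg h M (mcHom Φ f g fg h M x) = x := by
  have := congrArg (fun φ => ModuleCat.Hom.hom φ x) (mcHom_mcInv Φ f g fg h M)
  simpa using this

lemma mcHom_tm (s : Φ.obj b₂.as) (m : M) :
    mcHom Φ f g fg h M (tm (Φ.map fg.as).hom s m) =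
      tm (Φ.map g.as).hom s (tm (Φ.map f.as).hom 1 m) :=
  mapComp'_hom_app_tm Φ f g fg h M s m

lemma mcInv_tm (m : M) :
    mcInv Φ f g fg h M (tm (Φ.map g.as).hom 1 (tm (Φ.map f.as).hom 1 m)) =
      tm (Φ.map fg.as).hom 1 m := by
  rw [← mcHom_tm Φ f g fg h, mcHom_mcInv_apply]

lemma mcHom_U (y : (extendScalars (Φ.map f.as).hom).obj M) :
    mcHom Φ f g fg h M (U (Φ.map f.as).hom (Φ.map g.as).hom (Φ.map fg.as).hom
        (by subst h; show _ = (Φ.map (f.as ≫ g.as)).hom; rw [Φ.map_comp]; rfl) M y) =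
      tm (Φ.map g.as).hom 1 y :=
  mapComp'_hom_app_U Φ f g fg h M y

lemma mcInv_tm_one (y : (extendScalars (Φ.map f.as).hom).obj M) :
    mcInv Φ f g fg h M (tm (Φ.map g.as).hom 1 y) =
      U (Φ.map f.as).hom (Φ.map g.as).hom (Φ.map fg.as).hom
        (by subst h; show _ = (Φ.map (f.as ≫ g.as)).hom; rw [Φ.map_comp]; rfl) M y := by
  rw [← mcHom_U Φ f g fg h, mcHom_mcInv_apply]

end Mc

section CommGen

variable {b₀ b₁ b₂ : LocallyDiscrete D} (f : b₀ ⟶ b₁) (g₁ g₂ : b₁ ⟶ b₂) (fg : b₀ ⟶ b₂)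
  (h₁ : f ≫ g₁ = fg) (h₂ : f ≫ g₂ = fg) (M N : ModuleCat.{u} (Φ.obj b₀.as))

lemma ringComp_eq {b₀ b₁ b₂ : LocallyDiscrete D} (f : b₀ ⟶ b₁) (g : b₁ ⟶ b₂) (fg : b₀ ⟶ b₂)
    (h : f ≫ g = fg) : (Φ.map g.as).hom.comp (Φ.map f.as).hom = (Φ.map fg.as).hom := by
  subst h; show _ = (Φ.map (f.as ≫ g.as)).hom; rw [Φ.map_comp]; rfl

theorem comm_apply_gen
    (ψ₀ : (extendScalars (Φ.map f.as).hom).obj M ⟶ (extendScalars (Φ.map f.as).hom).obj N)
    (comm : (extendScalars (Φ.map g₁.as).hom).map ψ₀ ≫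
      mcInv Φ f g₁ fg h₁ N ≫ mcHom Φ f g₂ fg h₂ N =
      (mcInv Φ f g₁ fg h₁ M ≫ mcHom Φ f g₂ fg h₂ M) ≫
          (extendScalars (Φ.map g₂.as).hom).map ψ₀) (m : M) :
    U (Φ.map f.as).hom (Φ.map g₁.as).hom (Φ.map fg.as).hom (ringComp_eq Φ f g₁ fg h₁) N
        (ψ₀ (tm (Φ.map f.as).hom 1 m)) =
      U (Φ.map f.as).hom (Φ.map g₂.as).hom (Φ.map fg.as).hom (ringComp_eq Φ f g₂ fg h₂) N
        (ψ₀ (tm (Φ.map f.as).hom 1 m)) := by
  have e := congrArg (fun φ => ModuleCat.Hom.hom φ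
    (tm (Φ.map g₁.as).hom 1 (tm (Φ.map f.as).hom 1 m))) comm
  simp only [ModuleCat.hom_comp, LinearMap.comp_apply] at e
  rw [map_tm] at e
  rw [mcInv_tm_one Φ f g₁ fg h₁ N,
    mcInv_tm Φ f g₁ fg h₁ M,
    mcHom_tm Φ f g₂ fg h₂ M, map_tm,
    ← mcHom_U Φ f g₂ fg h₂ N] at e
  have e2 := congrArg (fun x => mcInv Φ f g₂ fg h₂ N x) e
  simp only [mcHom_mcInv_apply] at e2
  exact e2

end CommGen

end Groth.Agent.Lib.Helper86.DescBridge
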