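import Mathlib
import Groth.Agent.Lib.Helper86.DescBridge

/-! Pushout base change, in the `tm` language. -/

set_option autoImplicit false

open CategoryTheory ModuleCat TensorProduct
open Groth.Agent.Lib.Helper86.DescBridge

universe u

namespace Groth.Agent.Lib.Helper86.DescPB

section PB

variable {A B C : Type u} [CommRing A] [CommRing B] [CommRing C] [Algebra A B] [Algebra A C]

/-- `includeRight` as a ring homomorphism -/
noncomputable def incR : C →+* B ⊗[A] C :=
  ((Algebra.TensorProduct.includeRight : C →ₐ[A] B ⊗[A] C) : C →+* B ⊗[A] C)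

/-- `includeLeft` as a ring homomorphism -/
noncomputable def incL : B →+* B ⊗[A] C := Algebra.TensorProduct.includeLeftRingHom

lemma incR_apply (c : C) : (incR : C →+* B ⊗[A] C) c = 1 ⊗ₜ c := rfl
lemma incL_apply (b : B) : (incL : B →+* B ⊗[A] C) b = b ⊗ₜ 1 := rfl

lemma incL_comp_algebraMap :
    (incL : B →+* B ⊗[A] C).comp (algebraMap A B) = (incR : C →+* B ⊗[A] C).comp (algebraMap A C) := by
  ext a
  show (algebraMap A B a) ⊗ₜ[A] (1 : C) = (1 : B) ⊗ₜ[A] (algebraMap A C a)
  rw [Algebra.algebraMap_eq_smul_one, Algebra.algebraMap_eq_smul_one, TensorProduct.smul_tmul]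

lemma compHom_eq : (Module.compHom B (algebraMap A B) : Module A B) = Algebra.toModule :=
  Module.ext' _ _ (fun a b => (Algebra.smul_def a b).symm)

omit [Algebra A B] in
lemma exists_addEquiv_of_eq (M : Type u) [AddCommGroup M] [Module A M]
    (inst₁ inst₂ : Module A B) (h : inst₁ = inst₂) :
    ∃ e : @TensorProduct A _ B M _ _ inst₁ _ ≃+ @TensorProduct A _ B M _ _ inst₂ _,
      ∀ b m, e (@TensorProduct.tmul A _ B M _ _ inst₁ _ b m) =
        @TensorProduct.tmul A _ B M _ _ inst₂ _ b m := by
  subst h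
  exact ⟨AddEquiv.refl _, fun _ _ => rfl⟩

/-- the tensor product with the `Module.compHom` structure on `B` is the usual one -/
theorem exists_congrB (M : ModuleCat.{u} A) :
    ∃ e : (extendScalars (algebraMap A B)).obj M ≃+ B ⊗[A] M,
      ∀ (b : B) (m : M), e (tm (algebraMap A B) b m) = b ⊗ₜ m :=
  exists_addEquiv_of_eq (A := A) (B := B) M (Module.compHom B (algebraMap A B)) Algebra.toModule
    compHom_eq

attribute [local instance] Algebra.TensorProduct.rightAlgebra in
theorem exists_addEquiv' (N : ModuleCat.{u} C) :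
    letI : Module A N := Module.compHom N (algebraMap A C)
    ∃ κ : B ⊗[A] N ≃+ (extendScalars (incR : C →+* B ⊗[A] C)).obj N,
      ∀ (b : B) (n : N), κ (b ⊗ₜ n) = tm incR (b ⊗ₜ 1) n := by
  let _ : Module A N := Module.compHom N (algebraMap A C)
  have : IsScalarTower A C N := ⟨fun a c n => by
    show (a • c) • n = (algebraMap A C a) • (c • n)
    rw [Algebra.smul_def, mul_smul]⟩
  let e := Algebra.IsPushout.cancelBaseChange A B C (B ⊗[A] C) N
  refine ⟨e.symm.toAddEquiv, fun b n => ?_⟩
  exact Algebra.IsPushout.cancelBaseChange_symm_tmul A B C (B ⊗[A] C) N b n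

/-- pushout base change: `B ⊗_A N ≃ (B ⊗_A C) ⊗_C N` -/
theorem exists_addEquiv (N : ModuleCat.{u} C) :
    ∃ κ : (extendScalars (algebraMap A B)).obj ((restrictScalars (algebraMap A C)).obj N) ≃+
        (extendScalars (incR : C →+* B ⊗[A] C)).obj N,
      ∀ (b : B) (n : N), κ (tm (algebraMap A B) b (n : (restrictScalars (algebraMap A C)).obj N)) =
        tm incR (b ⊗ₜ 1) n := by
  obtain ⟨κ, hκ⟩ := exists_addEquiv' (A := A) (B := B) N
  obtain ⟨e, he⟩ := exists_congrB (B := B) ((restrictScalars (algebraMap A C)).obj N)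
  refine ⟨e.trans κ, fun b n => ?_⟩
  show κ (e (tm (algebraMap A B) b _)) = _
  rw [he]
  exact hκ b n

end PB

end Groth.Agent.Lib.Helper86.DescPB
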