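import Mathlib
import Groth.Agent.Lib.Helper86.DescBridge
import Groth.Agent.Lib.Helper86.DescPB

/-! Effectivity of module-level descent data along a flat ring map. -/

set_option autoImplicit false

open CategoryTheory ModuleCat TensorProduct
open Groth.Agent.Lib.Helper86.DescBridge Groth.Agent.Lib.Helper86.DescPB

universe u

namespace Groth.Agent.Lib.Helper86.DescEff

section Basic

variable {A B C : Type u} [CommRing A] [CommRing B] [CommRing C]
  (α : A →+* B) (γ : B →+* C) (κ : A →+* C) (h : γ.comp α = κ)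

lemma tm_eq_smul {M : ModuleCat.{u} A} (s : B) (m : M) : tm α s m = s • tm α 1 m := by
  rw [smul_tm, mul_one]

lemma U_smul (N : ModuleCat.{u} A) (b : B) (y : (extendScalars α).obj N) :
    U α γ κ h N (b • y) = γ b • U α γ κ h N y := by
  induction y using tm_induction with
  | h0 => rw [smul_zero, U_zero, smul_zero]
  | h1 s n => rw [smul_tm, U_tm, U_tm, smul_tm, map_mul]
  | h2 x y hx hy => rw [smul_add, U_add, U_add, hx, hy, smul_add]

/-- the counit `B ⊗_A Y → Y` -/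
noncomputable def eps (Y : ModuleCat.{u} B) :
    (extendScalars α).obj ((restrictScalars α).obj Y) ⟶ Y :=
  ExtendRestrictScalarsAdj.Counit.map α

lemma eps_tm (Y : ModuleCat.{u} B) (s : B) (y : Y) :
    eps α Y (tm α s (y : (restrictScalars α).obj Y)) = s • y := rfl

lemma tm_id_injective (N : ModuleCat.{u} B) :
    Function.Injective (fun n : N => tm (RingHom.id B) 1 n) := by
  intro n n' hnn
  have e1 := eps_tm (RingHom.id B) N 1 n
  have e2 := eps_tm (RingHom.id B) N 1 n'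
  rw [one_smul] at e1 e2
  rw [← e1, ← e2]
  exact congrArg (fun y => eps (RingHom.id B) N y) hnn

end Basic

/-- a module-level descent datum on the `B`-module `N`, relative to `α : A → B` -/
structure ModDD {A B : Type u} [CommRing A] [CommRing B] (α : A →+* B) (N : ModuleCat.{u} B) where
  /-- the comparison maps -/
  hom : ∀ (T' : Type u) [CommRing T'] (f₁ f₂ : B →+* T'), f₁.comp α = f₂.comp α →
    ((extendScalars f₁).obj N ⟶ (extendScalars f₂).obj N)
  self : ∀ (T' : Type u) [CommRing T'] (f : B →+* T') (h : f.comp α = f.comp α) (x : N),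
    hom T' f f h (tm f 1 x) = tm f 1 x
  comp : ∀ (T' : Type u) [CommRing T'] (f₁ f₂ f₃ : B →+* T') (h₁₂ : f₁.comp α = f₂.comp α)
    (h₂₃ : f₂.comp α = f₃.comp α) (h₁₃ : f₁.comp α = f₃.comp α) (x : N),
    hom T' f₂ f₃ h₂₃ (hom T' f₁ f₂ h₁₂ (tm f₁ 1 x)) = hom T' f₁ f₃ h₁₃ (tm f₁ 1 x)
  pull : ∀ (T' T'' : Type u) [CommRing T'] [CommRing T''] (g : T' →+* T'') (f₁ f₂ : B →+* T')
    (h : f₁.comp α = f₂.comp α) (f₁' f₂' : B →+* T'') (_e₁ : g.comp f₁ = f₁')
    (e₂ : g.comp f₂ = f₂') (h' : f₁'.comp α = f₂'.comp α) (x : N),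
    hom T'' f₁' f₂' h' (tm f₁' 1 x) = U f₂ g f₂' e₂ N (hom T' f₁ f₂ h (tm f₁ 1 x))

namespace ModDD

variable {A B : Type u} [CommRing A] [CommRing B] {α : A →+* B} {N : ModuleCat.{u} B}
  (dd : ModDD α N)

/-- the image of `1 ⊗ x` -/
noncomputable def rho (T' : Type u) [CommRing T'] (f₁ f₂ : B →+* T') (h : f₁.comp α = f₂.comp α)
    (x : N) : (extendScalars f₂).obj N :=
  dd.hom T' f₁ f₂ h (tm f₁ 1 x)

variable (T' : Type u) [CommRing T'] (f₁ f₂ : B →+* T') (h : f₁.comp α = f₂.comp α)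

lemma hom_tm (t : T') (x : N) : dd.hom T' f₁ f₂ h (tm f₁ t x) = t • dd.rho T' f₁ f₂ h x := by
  rw [tm_eq_smul, map_smul]
  rfl

lemma rho_add (x y : N) : dd.rho T' f₁ f₂ h (x + y) = dd.rho T' f₁ f₂ h x + dd.rho T' f₁ f₂ h y := by
  unfold rho
  rw [tm_add, map_add]

lemma rho_zero : dd.rho T' f₁ f₂ h 0 = 0 := by
  unfold rho
  rw [tm_zero, map_zero]

lemma rho_smul (b : B) (x : N) : dd.rho T' f₁ f₂ h (b • x) = f₁ b • dd.rho T' f₁ f₂ h x := by
  unfold rho
  rw [tm_smul, mul_one, tm_eq_smul, map_smul]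

end ModDD

section Flat

variable {A B : Type u} [CommRing A] [CommRing B] (α : A →+* B)

lemma map_eq_lTensor {M M' : ModuleCat.{u} A} (g : M ⟶ M') (x : (extendScalars α).obj M) :
    (extendScalars α).map g x =
      (letI := Module.compHom B α
       (LinearMap.lTensor B g.hom : TensorProduct A B M →ₗ[A] TensorProduct A B M') x) := by
  induction x using tm_induction with
  | h0 =>
    let _ := Module.compHom B α
    rw [map_zero]
    exact (map_zero (LinearMap.lTensor B g.hom : TensorProduct A B M →ₗ[A] TensorProduct A B M')).symm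
  | h1 s m => rfl
  | h2 x y hx hy =>
    let _ := Module.compHom B α
    rw [map_add, hx, hy]
    exact (map_add (LinearMap.lTensor B g.hom : TensorProduct A B M →ₗ[A] TensorProduct A B M') x y).symm

lemma map_injective_of_flat (hflat : @Module.Flat A B _ _ (Module.compHom B α))
    {M M' : ModuleCat.{u} A} (g : M ⟶ M') (hg : Function.Injective g) :
    Function.Injective ((extendScalars α).map g) := by
  let _ := Module.compHom B α
  have h1 : Function.Injective (LinearMap.lTensor B g.hom) :=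
    Module.Flat.lTensor_preserves_injective_linearMap g.hom hg
  intro x y hxy
  apply h1
  rw [← map_eq_lTensor, ← map_eq_lTensor]
  exact hxy

lemma exists_of_map_eq_zero_of_flat (hflat : @Module.Flat A B _ _ (Module.compHom B α))
    {M M' M'' : ModuleCat.{u} A} (g : M ⟶ M') (g' : M' ⟶ M'')
    (hex : Function.Exact g g') (x : (extendScalars α).obj M')
    (hx : (extendScalars α).map g' x = 0) :
    ∃ z : (extendScalars α).obj M, (extendScalars α).map g z = x := by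
  let _ := Module.compHom B α
  have h1 : Function.Exact (LinearMap.lTensor B g.hom) (LinearMap.lTensor B g'.hom) :=
    Module.Flat.lTensor_exact B hex
  have h2 : (LinearMap.lTensor B g'.hom) x = 0 := by
    rw [← map_eq_lTensor]; exact hx
  obtain ⟨z, hz⟩ := (h1 x).mp h2
  exact ⟨z, by rw [map_eq_lTensor]; exact hz⟩

end Flat

section Rings

variable (A B : Type u) [CommRing A] [CommRing B] [Algebra A B]

/-- first inclusion `B → B ⊗ B` -/
noncomputable abbrev g₁ : B →+* B ⊗[A] B := incL (A := A) (B := B) (C := B)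
/-- second inclusion `B → B ⊗ B` -/
noncomputable abbrev g₂ : B →+* B ⊗[A] B := incR (A := A) (B := B) (C := B)

lemma hg : (g₁ A B).comp (algebraMap A B) = (g₂ A B).comp (algebraMap A B) :=
  incL_comp_algebraMap

/-- multiplication `B ⊗ B → B` -/
noncomputable def mu : B ⊗[A] B →+* B := (Algebra.TensorProduct.lmul' A : B ⊗[A] B →ₐ[A] B)

lemma mu_comp_g₁ : (mu A B).comp (g₁ A B) = RingHom.id B := by
  ext b
  show Algebra.TensorProduct.lmul' A (b ⊗ₜ[A] (1 : B)) = b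
  rw [Algebra.TensorProduct.lmul'_apply_tmul, mul_one]

lemma mu_comp_g₂ : (mu A B).comp (g₂ A B) = RingHom.id B := by
  ext b
  show Algebra.TensorProduct.lmul' A ((1 : B) ⊗ₜ[A] b) = b
  rw [Algebra.TensorProduct.lmul'_apply_tmul, one_mul]

/-- the triple tensor product -/
abbrev T₃ : Type u := B ⊗[A] (B ⊗[A] B)

/-- `b ↦ b ⊗ 1 ⊗ 1` -/
noncomputable abbrev h₁ : B →+* T₃ A B := incL (A := A) (B := B) (C := B ⊗[A] B)
/-- `t ↦ 1 ⊗ t` -/
noncomputable abbrev j₃ : B ⊗[A] B →+* T₃ A B := incR (A := A) (B := B) (C := B ⊗[A] B)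
/-- `b ↦ 1 ⊗ b ⊗ 1` -/
noncomputable abbrev h₂ : B →+* T₃ A B := (j₃ A B).comp (g₁ A B)
/-- `b ↦ 1 ⊗ 1 ⊗ b` -/
noncomputable abbrev h₃ : B →+* T₃ A B := (j₃ A B).comp (g₂ A B)

/-- `b ⊗ b' ↦ b ⊗ b' ⊗ 1` -/
noncomputable def p₁₂ : B ⊗[A] B →+* T₃ A B :=
  (Algebra.TensorProduct.map (AlgHom.id A B)
    (Algebra.TensorProduct.includeLeft : B →ₐ[A] B ⊗[A] B) : B ⊗[A] B →ₐ[A] T₃ A B)

/-- `b ⊗ b' ↦ b ⊗ 1 ⊗ b'` -/
noncomputable def p₁₃ : B ⊗[A] B →+* T₃ A B :=
  (Algebra.TensorProduct.map (AlgHom.id A B)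
    (Algebra.TensorProduct.includeRight : B →ₐ[A] B ⊗[A] B) : B ⊗[A] B →ₐ[A] T₃ A B)

lemma p₁₂_tmul (b b' : B) : p₁₂ A B (b ⊗ₜ b') = b ⊗ₜ (b' ⊗ₜ 1) := rfl
lemma p₁₃_tmul (b b' : B) : p₁₃ A B (b ⊗ₜ b') = b ⊗ₜ (1 ⊗ₜ b') := rfl

lemma p₁₂_comp_g₁ : (p₁₂ A B).comp (g₁ A B) = h₁ A B := by
  ext b
  show p₁₂ A B (b ⊗ₜ 1) = b ⊗ₜ 1
  rw [p₁₂_tmul]; rfl

lemma p₁₂_comp_g₂ : (p₁₂ A B).comp (g₂ A B) = h₂ A B := by
  ext b
  show p₁₂ A B (1 ⊗ₜ b) = 1 ⊗ₜ (b ⊗ₜ 1)
  rw [p₁₂_tmul]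

lemma p₁₃_comp_g₁ : (p₁₃ A B).comp (g₁ A B) = h₁ A B := by
  ext b
  show p₁₃ A B (b ⊗ₜ 1) = b ⊗ₜ 1
  rw [p₁₃_tmul]; rfl

lemma p₁₃_comp_g₂ : (p₁₃ A B).comp (g₂ A B) = h₃ A B := by
  ext b
  show p₁₃ A B (1 ⊗ₜ b) = 1 ⊗ₜ (1 ⊗ₜ b)
  rw [p₁₃_tmul]

lemma h₁₂ : (h₁ A B).comp (algebraMap A B) = (h₂ A B).comp (algebraMap A B) := by
  rw [← p₁₂_comp_g₁, ← p₁₂_comp_g₂, RingHom.comp_assoc, RingHom.comp_assoc, hg]

lemma h₂₃ : (h₂ A B).comp (algebraMap A B) = (h₃ A B).comp (algebraMap A B) := by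
  show ((j₃ A B).comp (g₁ A B)).comp _ = ((j₃ A B).comp (g₂ A B)).comp _
  rw [RingHom.comp_assoc, RingHom.comp_assoc, hg]

lemma h₁₃ : (h₁ A B).comp (algebraMap A B) = (h₃ A B).comp (algebraMap A B) :=
  (h₁₂ A B).trans (h₂₃ A B)

variable {A B}

/-- the map `B ⊗ B → T'` induced by a pair of maps agreeing on `A` -/
noncomputable def pairHom {T' : Type u} [CommRing T'] (f₁ f₂ : B →+* T')
    (h : f₁.comp (algebraMap A B) = f₂.comp (algebraMap A B)) : B ⊗[A] B →+* T' :=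
  letI : Algebra A T' := (f₁.comp (algebraMap A B)).toAlgebra
  (Algebra.TensorProduct.lift (⟨f₁, fun _ => rfl⟩ : B →ₐ[A] T')
    (⟨f₂, fun a => (RingHom.congr_fun h a).symm⟩ : B →ₐ[A] T') (fun _ _ => Commute.all _ _) :
      B ⊗[A] B →ₐ[A] T')

lemma pairHom_tmul {T' : Type u} [CommRing T'] (f₁ f₂ : B →+* T')
    (h : f₁.comp (algebraMap A B) = f₂.comp (algebraMap A B)) (b b' : B) :
    pairHom f₁ f₂ h (b ⊗ₜ b') = f₁ b * f₂ b' := rfl

lemma pairHom_comp_g₁ {T' : Type u} [CommRing T'] (f₁ f₂ : B →+* T')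
    (h : f₁.comp (algebraMap A B) = f₂.comp (algebraMap A B)) :
    (pairHom f₁ f₂ h).comp (g₁ A B) = f₁ := by
  ext b
  show pairHom f₁ f₂ h (b ⊗ₜ 1) = f₁ b
  rw [pairHom_tmul, map_one, mul_one]

lemma pairHom_comp_g₂ {T' : Type u} [CommRing T'] (f₁ f₂ : B →+* T')
    (h : f₁.comp (algebraMap A B) = f₂.comp (algebraMap A B)) :
    (pairHom f₁ f₂ h).comp (g₂ A B) = f₂ := by
  ext b
  show pairHom f₁ f₂ h (1 ⊗ₜ b) = f₂ b
  rw [pairHom_tmul, map_one, one_mul]

end Rings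

section Eff

variable (A : Type u) {B : Type u} [CommRing A] [CommRing B] [Algebra A B] {N : ModuleCat.{u} B}
  (dd : ModDD (algebraMap A B) N)

/-- `N` as an `A`-module -/
noncomputable abbrev NA (N : ModuleCat.{u} B) : ModuleCat.{u} A := (restrictScalars (algebraMap A B)).obj N

/-- `(B ⊗ B) ⊗_{g₂} N` -/
noncomputable abbrev N' (N : ModuleCat.{u} B) : ModuleCat.{u} (B ⊗[A] B) := (extendScalars (g₂ A B)).obj N

/-- `(B ⊗ B) ⊗_{g₂} N` as an `A`-module -/
noncomputable abbrev N'A (N : ModuleCat.{u} B) : ModuleCat.{u} A :=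
  (restrictScalars (algebraMap A (B ⊗[A] B))).obj (N' A N)

lemma algebraMap_T (a : A) : algebraMap A (B ⊗[A] B) a = g₁ A B (algebraMap A B a) := rfl

lemma algebraMap_T' (a : A) : algebraMap A (B ⊗[A] B) a = g₂ A B (algebraMap A B a) :=
  (algebraMap_T A a).trans (RingHom.congr_fun (hg A B) a)

/-- the universal value of the descent datum on `1 ⊗ x` -/
noncomputable abbrev rho₀ (x : N) : N' A N := dd.rho (B ⊗[A] B) (g₁ A B) (g₂ A B) (hg A B) x

lemma rho₀_smul (a : A) (n : N) :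
    rho₀ A dd (algebraMap A B a • n) = algebraMap A (B ⊗[A] B) a • rho₀ A dd n := by
  show dd.rho (B ⊗[A] B) (g₁ A B) (g₂ A B) (hg A B) (algebraMap A B a • n) = _
  rw [ModDD.rho_smul, algebraMap_T]

lemma tm_g₂_smul (a : A) (n : N) :
    tm (g₂ A B) 1 (algebraMap A B a • n) = algebraMap A (B ⊗[A] B) a • tm (g₂ A B) 1 n := by
  rw [tm_smul, smul_tm, algebraMap_T']

/-- `n ↦ ρ(n)` as an `A`-linear map -/
noncomputable def d₁ : NA A N ⟶ N'A A N :=
  (ModuleCat.ofHom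
    ({ toFun := fun n => rho₀ A dd (show N from n)
       map_add' := fun x y => dd.rho_add _ _ _ _ (show N from x) (show N from y)
       map_smul' := fun a n => rho₀_smul A dd a (show N from n) } : (NA A N) →ₗ[A] (N'A A N)) :)

/-- `n ↦ 1 ⊗ n` as an `A`-linear map -/
noncomputable def d₂ : NA A N ⟶ N'A A N :=
  (ModuleCat.ofHom
    ({ toFun := fun n => tm (g₂ A B) 1 (show N from n)
       map_add' := fun x y => tm_add (g₂ A B) 1 (show N from x) (show N from y)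
       map_smul' := fun a n => tm_g₂_smul A a (show N from n) } : (NA A N) →ₗ[A] (N'A A N)) :)

lemma d₁_apply (n : NA A N) : d₁ A dd n = rho₀ A dd (show N from n) := rfl
lemma d₂_apply (n : NA A N) : d₂ A (N := N) n = tm (g₂ A B) 1 (show N from n) := rfl

/-- the descended module, as a submodule of `N` -/
noncomputable def Msub : Submodule A (NA A N) :=
  LinearMap.ker ((d₁ A dd).hom - (d₂ A (N := N)).hom)

lemma mem_Msub (n : NA A N) :
    n ∈ Msub A dd ↔ rho₀ A dd (show N from n) = tm (g₂ A B) 1 (show N from n) := by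
  unfold Msub
  rw [LinearMap.mem_ker, LinearMap.sub_apply, sub_eq_zero]
  rfl

/-- the descended module -/
noncomputable abbrev MM : ModuleCat.{u} A := ModuleCat.of A (Msub A dd)

/-- the inclusion `M → N` -/
noncomputable def incl : MM A dd ⟶ NA A N := (ModuleCat.ofHom (Msub A dd).subtype :)

/-- the canonical map `B ⊗_A M → N` -/
noncomputable def theta : (extendScalars (algebraMap A B)).obj (MM A dd) ⟶ N :=
  (extendScalars (algebraMap A B)).map (incl A dd) ≫ eps (algebraMap A B) N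

lemma theta_tm (b : B) (m : MM A dd) :
    theta A dd (tm (algebraMap A B) b m) = b • (show N from (m : NA A N)) := rfl

lemma U_mu_rho₀ (x : N) :
    U (g₂ A B) (mu A B) (RingHom.id B) (mu_comp_g₂ A B) N (rho₀ A dd x) = tm (RingHom.id B) 1 x := by
  rw [← dd.self B (RingHom.id B) rfl x]
  exact (dd.pull (B ⊗[A] B) B (mu A B) (g₁ A B) (g₂ A B) (hg A B) (RingHom.id B) (RingHom.id B)
    (mu_comp_g₁ A B) (mu_comp_g₂ A B) rfl x).symm

lemma rho₀_injective : Function.Injective (rho₀ A dd) := by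
  intro x x' hxx
  apply tm_id_injective N
  show tm (RingHom.id B) 1 x = tm (RingHom.id B) 1 x'
  rw [← U_mu_rho₀ A dd x, ← U_mu_rho₀ A dd x', hxx]

lemma hom_of_rho₀_eq (m : N) (hm : rho₀ A dd m = tm (g₂ A B) 1 m)
    (T' : Type u) [CommRing T'] (f₁ f₂ : B →+* T')
    (h : f₁.comp (algebraMap A B) = f₂.comp (algebraMap A B)) :
    dd.hom T' f₁ f₂ h (tm f₁ 1 m) = tm f₂ 1 m := by
  rw [dd.pull (B ⊗[A] B) T' (pairHom f₁ f₂ h) (g₁ A B) (g₂ A B) (hg A B) f₁ f₂
    (pairHom_comp_g₁ f₁ f₂ h) (pairHom_comp_g₂ f₁ f₂ h) h m]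
  have : dd.hom (B ⊗[A] B) (g₁ A B) (g₂ A B) (hg A B) (tm (g₁ A B) 1 m) = rho₀ A dd m := rfl
  rw [this, hm, U_tm, map_one]

lemma rho₀_add (x y : N) : rho₀ A dd (x + y) = rho₀ A dd x + rho₀ A dd y :=
  dd.rho_add _ _ _ _ x y

lemma rho₀_zero : rho₀ A dd 0 = 0 := dd.rho_zero _ _ _ _

lemma rho₀_smul' (b : B) (x : N) : rho₀ A dd (b • x) = g₁ A B b • rho₀ A dd x :=
  dd.rho_smul _ _ _ _ b x

lemma rho₀_mem (m : MM A dd) :
    rho₀ A dd (show N from (m : NA A N)) = tm (g₂ A B) 1 (show N from (m : NA A N)) :=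
  (mem_Msub A dd (m : NA A N)).mp m.2

lemma rho_theta
    (κ : (extendScalars (algebraMap A B)).obj (NA A N) ≃+ N' A N)
    (hκ : ∀ (b : B) (n : N), κ (tm (algebraMap A B) b (n : NA A N)) = tm (g₂ A B) (b ⊗ₜ 1) n)
    (z : (extendScalars (algebraMap A B)).obj (MM A dd)) :
    rho₀ A dd (theta A dd z) = κ ((extendScalars (algebraMap A B)).map (incl A dd) z) := by
  induction z using tm_induction with
  | h0 => rw [map_zero, map_zero, map_zero, rho₀_zero]
  | h1 b m =>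
    rw [theta_tm, rho₀_smul', rho₀_mem, smul_tm, mul_one, map_tm]
    exact (hκ b _).symm
  | h2 x y hx hy => rw [map_add, map_add, map_add, rho₀_add, hx, hy]

lemma theta_injective (hflat : @Module.Flat A B _ _ (Module.compHom B (algebraMap A B)))
    (κ : (extendScalars (algebraMap A B)).obj (NA A N) ≃+ N' A N)
    (hκ : ∀ (b : B) (n : N), κ (tm (algebraMap A B) b (n : NA A N)) = tm (g₂ A B) (b ⊗ₜ 1) n) :
    Function.Injective (theta A dd) := by
  intro z z' hzz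
  have h1 := rho_theta A dd κ hκ z
  have h2 := rho_theta A dd κ hκ z'
  rw [hzz] at h1
  have h3 := κ.injective (h1.symm.trans h2)
  refine map_injective_of_flat (algebraMap A B) hflat (incl A dd) ?_ h3
  exact Subtype.val_injective

/-- the composition isomorphism `T₃ ⊗_{h₃} N → T₃ ⊗_{j₃} (T ⊗_{g₂} N)` -/
noncomputable def nu : (extendScalars (h₃ A B)).obj N ⟶ (extendScalars (j₃ A B)).obj (N' A N) :=
  (extendScalarsComp (g₂ A B) (j₃ A B)).hom.app N

lemma nu_tm (s : T₃ A B) (n : N) :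
    nu A (N := N) (tm (h₃ A B) s n) = tm (j₃ A B) s (tm (g₂ A B) 1 n) := by
  rw [tm_eq_smul, map_smul, tm_eq_smul (j₃ A B) s]
  congr 1
  exact extendScalarsComp_hom_app_one_tmul (g₂ A B) (j₃ A B) N n

lemma nu_injective : Function.Injective (nu A (N := N)) := by
  have : IsIso (nu A (N := N)) := by unfold nu; infer_instance
  exact ((ConcreteCategory.isIso_iff_bijective (nu A (N := N))).mp this).1

lemma nu_U (y : N' A N) :
    nu A (N := N) (U (g₂ A B) (j₃ A B) (h₃ A B) rfl N y) = tm (j₃ A B) 1 y := by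
  induction y using tm_induction with
  | h0 => rw [U_zero, map_zero, tm_zero]
  | h1 s n =>
    rw [U_tm, nu_tm, tm_eq_smul (g₂ A B) s, tm_smul, mul_one]
  | h2 x y hx hy => rw [U_add, map_add, hx, hy, tm_add]

lemma rho_h₂_h₃ (n : N) :
    dd.rho (T₃ A B) (h₂ A B) (h₃ A B) (h₂₃ A B) n =
      U (g₂ A B) (j₃ A B) (h₃ A B) rfl N (rho₀ A dd n) :=
  dd.pull (B ⊗[A] B) (T₃ A B) (j₃ A B) (g₁ A B) (g₂ A B) (hg A B) (h₂ A B) (h₃ A B) rfl rfl
    (h₂₃ A B) n

lemma rho_h₁_h₂ (n : N) :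
    dd.rho (T₃ A B) (h₁ A B) (h₂ A B) (h₁₂ A B) n =
      U (g₂ A B) (p₁₂ A B) (h₂ A B) (p₁₂_comp_g₂ A B) N (rho₀ A dd n) :=
  dd.pull (B ⊗[A] B) (T₃ A B) (p₁₂ A B) (g₁ A B) (g₂ A B) (hg A B) (h₁ A B) (h₂ A B)
    (p₁₂_comp_g₁ A B) (p₁₂_comp_g₂ A B) (h₁₂ A B) n

lemma rho_h₁_h₃ (n : N) :
    dd.rho (T₃ A B) (h₁ A B) (h₃ A B) (h₁₃ A B) n =
      U (g₂ A B) (p₁₃ A B) (h₃ A B) (p₁₃_comp_g₂ A B) N (rho₀ A dd n) :=
  dd.pull (B ⊗[A] B) (T₃ A B) (p₁₃ A B) (g₁ A B) (g₂ A B) (hg A B) (h₁ A B) (h₃ A B)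
    (p₁₃_comp_g₁ A B) (p₁₃_comp_g₂ A B) (h₁₃ A B) n

section Key

variable (κ : (extendScalars (algebraMap A B)).obj (NA A N) ≃+ N' A N)
  (hκ : ∀ (b : B) (n : N), κ (tm (algebraMap A B) b (n : NA A N)) = tm (g₂ A B) (b ⊗ₜ 1) n)
  (κ₃ : (extendScalars (algebraMap A B)).obj (N'A A N) ≃+
    (extendScalars (j₃ A B)).obj (N' A N))
  (hκ₃ : ∀ (b : B) (y : N' A N),
    κ₃ (tm (algebraMap A B) b (y : N'A A N)) = tm (j₃ A B) (b ⊗ₜ 1) y)

include hκ hκ₃ in
lemma key₁ (w : (extendScalars (algebraMap A B)).obj (NA A N)) :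
    κ₃ ((extendScalars (algebraMap A B)).map (d₁ A dd) w) =
      nu A (N := N) (dd.hom (T₃ A B) (h₂ A B) (h₃ A B) (h₂₃ A B)
        (U (g₂ A B) (p₁₂ A B) (h₂ A B) (p₁₂_comp_g₂ A B) N (κ w))) := by
  induction w using tm_induction with
  | h0 => rw [map_zero, map_zero, map_zero, U_zero, map_zero, map_zero]
  | h1 b n =>
    rw [map_tm, d₁_apply]
    rw [hκ₃ b (rho₀ A dd n), hκ b n, U_tm, dd.hom_tm, rho_h₂_h₃, map_smul, nu_U, smul_tm, mul_one]
    rfl
  | h2 x y hx hy => rw [map_add, map_add, map_add, hx, hy, U_add, map_add, map_add]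

include hκ hκ₃ in
lemma key₂ (w : (extendScalars (algebraMap A B)).obj (NA A N)) :
    κ₃ ((extendScalars (algebraMap A B)).map (d₂ A (N := N)) w) =
      nu A (N := N) (U (g₂ A B) (p₁₃ A B) (h₃ A B) (p₁₃_comp_g₂ A B) N (κ w)) := by
  induction w using tm_induction with
  | h0 => rw [map_zero, map_zero, map_zero, U_zero, map_zero]
  | h1 b n =>
    rw [map_tm, d₂_apply]
    rw [hκ₃ b (tm (g₂ A B) 1 n), hκ b n, U_tm, nu_tm]
    rfl
  | h2 x y hx hy => rw [map_add, map_add, map_add, hx, hy, U_add, map_add]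

end Key

/-- the difference `d₁ - d₂` -/
noncomputable def dD : NA A N ⟶ N'A A N :=
  (ModuleCat.ofHom ((d₁ A dd).hom - (d₂ A (N := N)).hom) :)

lemma dD_apply (n : NA A N) : dD A dd n = d₁ A dd n - d₂ A (N := N) n := rfl

lemma map_dD (w : (extendScalars (algebraMap A B)).obj (NA A N)) :
    (extendScalars (algebraMap A B)).map (dD A dd) w =
      (extendScalars (algebraMap A B)).map (d₁ A dd) w -
        (extendScalars (algebraMap A B)).map (d₂ A (N := N)) w := by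
  induction w using tm_induction with
  | h0 => rw [map_zero, map_zero, map_zero, sub_zero]
  | h1 b n =>
    rw [map_tm, map_tm, map_tm, dD_apply]
    exact TensorProduct.tmul_sub _ _ _
  | h2 x y hx hy => rw [map_add, map_add, map_add, hx, hy]; abel

lemma exact_incl_dD : Function.Exact (incl A dd) (dD A dd) :=
  LinearMap.exact_subtype_ker_map ((d₁ A dd).hom - (d₂ A (N := N)).hom)

theorem theta_surjective (hflat : @Module.Flat A B _ _ (Module.compHom B (algebraMap A B)))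
    (κ : (extendScalars (algebraMap A B)).obj (NA A N) ≃+ N' A N)
    (hκ : ∀ (b : B) (n : N), κ (tm (algebraMap A B) b (n : NA A N)) = tm (g₂ A B) (b ⊗ₜ 1) n)
    (κ₃ : (extendScalars (algebraMap A B)).obj (N'A A N) ≃+
      (extendScalars (j₃ A B)).obj (N' A N))
    (hκ₃ : ∀ (b : B) (y : N' A N),
      κ₃ (tm (algebraMap A B) b (y : N'A A N)) = tm (j₃ A B) (b ⊗ₜ 1) y) :
    Function.Surjective (theta A dd) := by
  intro n
  set w := κ.symm (rho₀ A dd n) with hw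
  have hκw : κ w = rho₀ A dd n := κ.apply_symm_apply _
  have h1 := key₁ A dd κ hκ κ₃ hκ₃ w
  have h2 := key₂ A κ hκ κ₃ hκ₃ w
  rw [hκw] at h1 h2
  rw [← rho_h₁_h₂] at h1
  rw [← rho_h₁_h₃] at h2
  have h3 : dd.hom (T₃ A B) (h₂ A B) (h₃ A B) (h₂₃ A B)
      (dd.rho (T₃ A B) (h₁ A B) (h₂ A B) (h₁₂ A B) n) =
      dd.rho (T₃ A B) (h₁ A B) (h₃ A B) (h₁₃ A B) n :=
    dd.comp (T₃ A B) (h₁ A B) (h₂ A B) (h₃ A B) (h₁₂ A B) (h₂₃ A B) (h₁₃ A B) n
  rw [h3] at h1
  have h4 : (extendScalars (algebraMap A B)).map (d₁ A dd) w =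
      (extendScalars (algebraMap A B)).map (d₂ A (N := N)) w :=
    κ₃.injective (h1.trans h2.symm)
  have h5 : (extendScalars (algebraMap A B)).map (dD A dd) w = 0 := by
    rw [map_dD, h4, sub_self]
  obtain ⟨z, hz⟩ := exists_of_map_eq_zero_of_flat (algebraMap A B) hflat (incl A dd) (dD A dd)
    (exact_incl_dD A dd) w h5
  refine ⟨z, ?_⟩
  apply rho₀_injective A dd
  rw [rho_theta A dd κ hκ z, hz, hκw]

lemma flat_compHom [Module.Flat A B] :
    @Module.Flat A B _ _ (Module.compHom B (algebraMap A B)) := by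
  rw [compHom_eq]
  infer_instance

/-- effectivity of module-level descent data along a flat ring map -/
theorem effective [Module.Flat A B] :
    ∃ (M : ModuleCat.{u} A) (θ : (extendScalars (algebraMap A B)).obj M ⟶ N), IsIso θ ∧
      ∀ (T' : Type u) [CommRing T'] (f₁ f₂ : B →+* T')
        (h : f₁.comp (algebraMap A B) = f₂.comp (algebraMap A B)) (m : M),
        dd.hom T' f₁ f₂ h (tm f₁ 1 (θ (tm (algebraMap A B) 1 m))) =
          tm f₂ 1 (θ (tm (algebraMap A B) 1 m)) := by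
  have hflat := flat_compHom A (B := B)
  obtain ⟨κ, hκ⟩ := exists_addEquiv (A := A) (B := B) (C := B) N
  obtain ⟨κ₃, hκ₃⟩ := exists_addEquiv (A := A) (B := B) (C := B ⊗[A] B) (N' A N)
  refine ⟨MM A dd, theta A dd, ?_, ?_⟩
  · rw [ConcreteCategory.isIso_iff_bijective]
    exact ⟨theta_injective A dd hflat κ hκ, theta_surjective A dd hflat κ hκ κ₃ hκ₃⟩
  · intro T' _ f₁ f₂ h m
    have e : theta A dd (tm (algebraMap A B) 1 m) = (show N from (m : NA A N)) := by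
      rw [theta_tm, one_smul]
    rw [e]
    exact hom_of_rho₀_eq A dd _ (rho₀_mem A dd m) T' f₁ f₂ h

end Eff

end Groth.Agent.Lib.Helper86.DescEff
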