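import Mathlib
import Groth.Agent.Lib.Helper86.DescBridge

/-! Semilinear maps between extensions of scalars. -/

set_option autoImplicit false

open CategoryTheory ModuleCat
open Groth.Agent.Lib.Helper86.DescBridge

universe u

namespace Groth.Agent.Lib.Helper86.SemiMap

section Tm

variable {A B : Type u} [CommRing A] [CommRing B] (f : A →+* B)

lemma zero_tm {M : ModuleCat.{u} A} (m : M) : tm f 0 m = 0 := TensorProduct.zero_tmul _ _

lemma tm_neg {M : ModuleCat.{u} A} (s : B) (m : M) : tm f s (-m) = -tm f s m :=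
  TensorProduct.tmul_neg _ _

lemma tm_sub {M : ModuleCat.{u} A} (s : B) (m m' : M) : tm f s (m - m') = tm f s m - tm f s m' :=
  TensorProduct.tmul_sub _ _ _

lemma tm_eq_smul_one {M : ModuleCat.{u} A} (s : B) (m : M) : tm f s m = s • tm f 1 m := by
  rw [smul_tm, mul_one]

lemma tm_one_smul {M : ModuleCat.{u} A} (a : A) (m : M) : tm f 1 (a • m) = f a • tm f 1 m := by
  rw [tm_smul, smul_tm]

/-- two additive maps out of an extension of scalars agreeing on pure tensors are equal -/
lemma addHom_ext {M : ModuleCat.{u} A} {X : Type*} [AddCommMonoid X]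
    {φ ψ : (extendScalars f).obj M →+ X} (h : ∀ s m, φ (tm f s m) = ψ (tm f s m)) : φ = ψ := by
  ext x
  induction x using tm_induction with
  | h0 => rw [map_zero, map_zero]
  | h1 s m => exact h s m
  | h2 x y hx hy => rw [map_add, map_add, hx, hy]

end Tm

section Semi

variable {S S' B B' : Type u} [CommRing S] [CommRing S'] [CommRing B] [CommRing B']
  (β : S →+* B) (β' : S' →+* B') (σ : S →+* S') (τ : B →+* B') (hc : τ.comp β = β'.comp σ)
  {Q : ModuleCat.{u} S} {Q' : ModuleCat.{u} S'} (Φ : Q →ₛₗ[σ] Q')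

/-- auxiliary: `q ↦ τ b ⊗ Φ q` -/
noncomputable def aux₁ (b : B) : Q →+ (extendScalars β').obj Q' where
  toFun q := tm β' (τ b) (Φ q)
  map_zero' := by rw [map_zero, tm_zero]
  map_add' q q' := by rw [map_add, tm_add]

/-- auxiliary: `b ↦ q ↦ τ b ⊗ Φ q` -/
noncomputable def aux₂ : B →+ (Q →+ (extendScalars β').obj Q') where
  toFun b := aux₁ β' σ τ Φ b
  map_zero' := by
    ext q
    show tm β' (τ 0) (Φ q) = 0
    rw [map_zero, zero_tm]
  map_add' b b' := by
    ext q
    show tm β' (τ (b + b')) (Φ q) = tm β' (τ b) (Φ q) + tm β' (τ b') (Φ q)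
    rw [map_add, add_tm]

include hc in
lemma aux_balanced (s : S) (b : B) (q : Q) :
    aux₂ β' σ τ Φ (β s * b) q = aux₂ β' σ τ Φ b (s • q) := by
  show tm β' (τ (β s * b)) (Φ q) = tm β' (τ b) (Φ (s • q))
  have h1 : τ (β s) = β' (σ s) := RingHom.congr_fun hc s
  rw [map_smulₛₗ, tm_smul, map_mul, h1]

/-- `τ ⊗ Φ : B ⊗_S Q → B' ⊗_{S'} Q'` -/
noncomputable def semiMap : (extendScalars β).obj Q →+ (extendScalars β').obj Q' :=
  letI := Module.compHom B β
  TensorProduct.liftAddHom (aux₂ β' σ τ Φ) (fun s b q => aux_balanced β β' σ τ hc Φ s b q)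

lemma semiMap_tm (b : B) (q : Q) :
    semiMap β β' σ τ hc Φ (tm β b q) = tm β' (τ b) (Φ q) := rfl

lemma semiMap_smul (b : B) (z : (extendScalars β).obj Q) :
    semiMap β β' σ τ hc Φ (b • z) = τ b • semiMap β β' σ τ hc Φ z := by
  induction z using tm_induction with
  | h0 => rw [smul_zero, map_zero, smul_zero]
  | h1 s q => rw [smul_tm, semiMap_tm, semiMap_tm, smul_tm, map_mul]
  | h2 x y hx hy => rw [smul_add, map_add, hx, hy, map_add, smul_add]

end Semi

end Groth.Agent.Lib.Helper86.SemiMap
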