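import Mathlib
import Groth.Agent.Lib.Helper86.DescEff
import Groth.Agent.Lib.Helper86.SemiMap
import Groth.Agent.S12421

/-! Vanishing of the first Čech cohomology of a module-level descent datum along a faithfully
flat ring map. -/

set_option autoImplicit false

open CategoryTheory ModuleCat TensorProduct
open Groth.Agent.Lib.Helper86.DescBridge Groth.Agent.Lib.Helper86.DescPB
  Groth.Agent.Lib.Helper86.DescEff Groth.Agent.Lib.Helper86.SemiMap

universe u

namespace Groth.Agent.Lib.Helper86.ClassH1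

section Theta

variable {A B : Type u} [CommRing A] [CommRing B]

theorem exists_Theta' (α : A →+* B) {M : ModuleCat.{u} A} {N : ModuleCat.{u} B}
    (θ : (extendScalars α).obj M ⟶ N) [IsIso θ]
    {T' : Type u} [CommRing T'] (f : B →+* T') (κ : A →+* T') (hκ : f.comp α = κ) :
    ∃ Θ : (extendScalars κ).obj M ≃+ (extendScalars f).obj N,
      ∀ (t : T') (m : M), Θ (tm κ t m) = tm f t (θ (tm α 1 m)) := by
  subst hκ
  let e₃ := ((extendScalarsComp α f).app M).toLinearEquiv.toAddEquiv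
  let e₄ := ((extendScalars f).mapIso (asIso θ)).toLinearEquiv.toAddEquiv
  refine ⟨e₃.trans e₄, fun t m => ?_⟩
  show (extendScalars f).map θ (((extendScalarsComp α f).app M).hom (tm (f.comp α) t m)) = _
  have : ((extendScalarsComp α f).app M).hom (tm (f.comp α) t m) = tm f t (tm α 1 m) := by
    rw [tm_eq_smul_one, map_smul, tm_eq_smul_one f t]
    congr 1
    exact extendScalarsComp_hom_app_one_tmul α f M m
  rw [this, map_tm]

variable [Algebra A B] {M : ModuleCat.{u} A} {N : ModuleCat.{u} B}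
  (θ : (extendScalars (algebraMap A B)).obj M ⟶ N) [IsIso θ]

theorem exists_Theta {T' : Type u} [CommRing T'] [Algebra A T'] (f : B →+* T')
    (hf : f.comp (algebraMap A B) = algebraMap A T') :
    ∃ Θ : M ⊗[A] T' ≃+ (extendScalars f).obj N,
      ∀ (m : M) (t : T'), Θ (m ⊗ₜ t) = tm f t (θ (tm (algebraMap A B) 1 m)) := by
  obtain ⟨Θ', hΘ'⟩ := exists_Theta' (algebraMap A B) θ f (algebraMap A T') hf
  obtain ⟨e, he⟩ := exists_congrB (A := A) (B := T') M
  refine ⟨((TensorProduct.comm A M T').toAddEquiv.trans e.symm).trans Θ', fun m t => ?_⟩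
  show Θ' (e.symm (TensorProduct.comm A M T' (m ⊗ₜ t))) = _
  rw [TensorProduct.comm_tmul, ← he t m, AddEquiv.symm_apply_apply, hΘ']

theorem exists_Theta₁ :
    ∃ Θ : M ⊗[A] B ≃+ N, ∀ (m : M) (b : B), Θ (m ⊗ₜ b) = b • θ (tm (algebraMap A B) 1 m) := by
  obtain ⟨e, he⟩ := exists_congrB (A := A) (B := B) M
  refine ⟨((TensorProduct.comm A M B).toAddEquiv.trans e.symm).trans
    (asIso θ).toLinearEquiv.toAddEquiv, fun m b => ?_⟩
  show θ (e.symm (TensorProduct.comm A M B (m ⊗ₜ b))) = _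
  rw [TensorProduct.comm_tmul, ← he b m, AddEquiv.symm_apply_apply, tm_eq_smul_one, map_smul]

end Theta

section Main

variable (A : Type u) {B : Type u} [CommRing A] [CommRing B] [Algebra A B]
  {N : ModuleCat.{u} B} (dd : ModDD (algebraMap A B) N)

/-- the Čech differential in degree one -/
noncomputable def D1 (c : N' A N) : (extendScalars (h₃ A B)).obj N :=
  U (g₂ A B) (j₃ A B) (h₃ A B) rfl N c - U (g₂ A B) (p₁₃ A B) (h₃ A B) (p₁₃_comp_g₂ A B) N c +
    dd.hom (T₃ A B) (h₂ A B) (h₃ A B) (h₂₃ A B)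
      (U (g₂ A B) (p₁₂ A B) (h₂ A B) (p₁₂_comp_g₂ A B) N c)

lemma D1_add (c c' : N' A N) : D1 A dd (c + c') = D1 A dd c + D1 A dd c' := by
  unfold D1
  rw [U_add, U_add, U_add, map_add]
  abel

lemma D1_zero : D1 A dd 0 = 0 := by
  unfold D1
  rw [U_zero, U_zero, U_zero, map_zero, sub_zero, add_zero]

lemma rho₀_neg (x : N) : rho₀ A dd (-x) = -rho₀ A dd x := by
  have h := rho₀_add A dd x (-x)
  rw [add_neg_cancel, rho₀_zero] at h
  exact (neg_eq_of_add_eq_zero_right h.symm).symm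

lemma algebraMap_T₂ : (g₂ A B).comp (algebraMap A B) = algebraMap A (B ⊗[A] B) :=
  (hg A B).symm.trans (RingHom.ext fun _ => rfl)

lemma algebraMap_T₃ : (h₃ A B).comp (algebraMap A B) = algebraMap A (T₃ A B) :=
  (h₁₃ A B).symm.trans (RingHom.ext fun _ => rfl)

theorem exists_of_D1_eq_zero [Module.FaithfullyFlat A B] (c : N' A N) (hc : D1 A dd c = 0) :
    ∃ y : N, c = rho₀ A dd y - tm (g₂ A B) 1 y := by
  obtain ⟨M, θ, hθ, hprop⟩ := effective A dd
  obtain ⟨Θ₁, hΘ₁⟩ := exists_Theta₁ θ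
  obtain ⟨Θ₂, hΘ₂⟩ := exists_Theta (T' := B ⊗[A] B) θ (g₂ A B) (algebraMap_T₂ A)
  obtain ⟨Θ₃, hΘ₃⟩ := exists_Theta (T' := T₃ A B) θ (h₃ A B) (algebraMap_T₃ A)
  -- invariance
  have hinv : ∀ m : M, rho₀ A dd (θ (tm (algebraMap A B) 1 m)) =
      tm (g₂ A B) 1 (θ (tm (algebraMap A B) 1 m)) :=
    fun m => hprop (B ⊗[A] B) (g₁ A B) (g₂ A B) (hg A B) m
  set δ₁ : M ⊗[A] B →ₗ[A] M ⊗[A] (B ⊗[A] B) :=
    LinearMap.lTensor M (Algebra.TensorProduct.includeRight : B →ₐ[A] B ⊗[A] B).toLinearMap -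
      LinearMap.lTensor M (Algebra.TensorProduct.includeLeft : B →ₐ[A] B ⊗[A] B).toLinearMap
    with hδ₁
  set δ₂ : M ⊗[A] (B ⊗[A] B) →ₗ[A] M ⊗[A] (B ⊗[A] (B ⊗[A] B)) :=
    LinearMap.lTensor M
        (Algebra.TensorProduct.includeRight : B ⊗[A] B →ₐ[A] B ⊗[A] (B ⊗[A] B)).toLinearMap -
      LinearMap.lTensor M
        (Algebra.TensorProduct.map (AlgHom.id A B)
          (Algebra.TensorProduct.includeRight : B →ₐ[A] B ⊗[A] B)).toLinearMap +
      LinearMap.lTensor M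
        (Algebra.TensorProduct.map (AlgHom.id A B)
          (Algebra.TensorProduct.includeLeft : B →ₐ[A] B ⊗[A] B)).toLinearMap
    with hδ₂
  have hex : Function.Exact δ₁ δ₂ := Groth.Agent.S12421.result A B M
  -- first intertwining relation
  have I1 : ∀ z : M ⊗[A] B, Θ₂ (δ₁ z) = tm (g₂ A B) 1 (Θ₁ z) - rho₀ A dd (Θ₁ z) := by
    intro z
    induction z using TensorProduct.induction_on with
    | zero => rw [map_zero, map_zero, map_zero, tm_zero, rho₀_zero, sub_zero]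
    | tmul m b =>
      rw [hδ₁, LinearMap.sub_apply, LinearMap.lTensor_tmul, LinearMap.lTensor_tmul, map_sub,
        hΘ₁, tm_smul, mul_one, rho₀_smul', hinv, smul_tm, mul_one]
      show Θ₂ (m ⊗ₜ ((1 : B) ⊗ₜ[A] b)) - Θ₂ (m ⊗ₜ (b ⊗ₜ[A] (1 : B))) = _
      rw [hΘ₂, hΘ₂]
      rfl
    | add x y hx hy =>
      rw [map_add, map_add, map_add, hx, hy, tm_add, rho₀_add]
      abel
  -- second intertwining relation
  have I2 : ∀ w : M ⊗[A] (B ⊗[A] B), Θ₃ (δ₂ w) = D1 A dd (Θ₂ w) := by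
    intro w
    induction w using TensorProduct.induction_on with
    | zero => rw [map_zero, map_zero, map_zero, D1_zero]
    | tmul m s =>
      rw [hδ₂, LinearMap.add_apply, LinearMap.sub_apply, LinearMap.lTensor_tmul,
        LinearMap.lTensor_tmul, LinearMap.lTensor_tmul, map_add, map_sub, hΘ₂]
      unfold D1
      rw [U_tm, U_tm, U_tm, dd.hom_tm]
      have h3 : dd.rho (T₃ A B) (h₂ A B) (h₃ A B) (h₂₃ A B) (θ (tm (algebraMap A B) 1 m)) =
          tm (h₃ A B) 1 (θ (tm (algebraMap A B) 1 m)) :=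
        hprop (T₃ A B) (h₂ A B) (h₃ A B) (h₂₃ A B) m
      rw [h3, smul_tm, mul_one]
      show Θ₃ (m ⊗ₜ (j₃ A B s)) - Θ₃ (m ⊗ₜ (p₁₃ A B s)) + Θ₃ (m ⊗ₜ (p₁₂ A B s)) = _
      rw [hΘ₃, hΘ₃, hΘ₃]
    | add x y hx hy => rw [map_add, map_add, map_add, hx, hy, D1_add]
  -- conclusion
  have h1 : δ₂ (Θ₂.symm c) = 0 := by
    apply Θ₃.injective
    rw [I2, AddEquiv.apply_symm_apply, hc, map_zero]
  obtain ⟨z, hz⟩ := (hex (Θ₂.symm c)).mp h1
  refine ⟨-Θ₁ z, ?_⟩
  have h2 := I1 z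
  rw [hz, AddEquiv.apply_symm_apply] at h2
  rw [h2, rho₀_neg, tm_neg]
  abel

end Main

end Groth.Agent.Lib.Helper86.ClassH1
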