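import Mathlib

set_option autoImplicit false

open MvPolynomial

universe u

namespace Groth.Agent.Lib.Helper86.Cub1

section ES

variable {k : Type u} [CommRing k]

lemma mesymm_cons (a : k) (s : Multiset k) (n : ℕ) :
    (a ::ₘ s).esymm (n + 1) = s.esymm (n + 1) + a * s.esymm n := by
  simp [Multiset.esymm, Multiset.powersetCard_cons, Multiset.map_add, Multiset.map_map,
    Function.comp_def, Multiset.sum_map_mul_left]

/-- elementary symmetric function of a tuple -/
noncomputable def es (n : ℕ) (y : Fin n → k) (m : ℕ) : k :=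
  ((Finset.univ : Finset (Fin n)).val.map y).esymm m

lemma es_zero (n : ℕ) (y : Fin n → k) : es n y 0 = 1 := by
  simp [es, Multiset.esymm, Multiset.powersetCard_zero_left]

lemma es_fin_zero (y : Fin 0 → k) (m : ℕ) : es 0 y (m + 1) = 0 := by
  simp [es, Multiset.esymm, Multiset.powersetCard_zero_right]

lemma es_succAbove {n : ℕ} (x : Fin (n + 1) → k) (i : Fin (n + 1)) (m : ℕ) :
    es (n + 1) x (m + 1) = es n (fun j => x (i.succAbove j)) (m + 1) +
      x i * es n (fun j => x (i.succAbove j)) m := by
  unfold es
  have h : (Finset.univ : Finset (Fin (n + 1))).val.map x =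
      x i ::ₘ (Finset.univ : Finset (Fin n)).val.map (fun j => x (i.succAbove j)) := by
    rw [Fin.univ_succAbove n i]
    simp [Multiset.map_map, Function.comp_def]
  rw [h, mesymm_cons]

lemma es_succ {n : ℕ} (x : Fin (n + 1) → k) (m : ℕ) :
    es (n + 1) x (m + 1) = es n (fun j => x j.succ) (m + 1) +
      x 0 * es n (fun j => x j.succ) m := by
  simpa using es_succAbove x 0 m

lemma eval_esymm (n : ℕ) (y : Fin n → k) (m : ℕ) :
    eval y (esymm (Fin n) k m) = es n y m := by
  have := aeval_esymm_eq_multiset_esymm (σ := Fin n) (R := k) (S := k) m y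
  unfold es
  rw [← this]
  rfl

lemma es_one (n : ℕ) (y : Fin n → k) : es n y 1 = ∑ j, y j := by
  rw [← eval_esymm, esymm_one]
  simp

end ES

end Groth.Agent.Lib.Helper86.Cub1
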