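import Mathlib
import Groth.Agent.Lib.Helper86.Cub1

set_option autoImplicit false

open MvPolynomial
open Groth.Agent.Lib.Helper86.Cub1

universe u

namespace Groth.Agent.Lib.Helper86.Cub2

variable (k : Type u) [Field k]

/-- image of `a2` under `finSuccEquiv` -/
noncomputable def a2p : Polynomial (MvPolynomial (Fin 2) k) :=
  Polynomial.C (X 0 + X 1) * Polynomial.X + Polynomial.C (X 0 * X 1)

lemma not_X0_dvd_X1 : ¬ ((X 0 : MvPolynomial (Fin 2) k) ∣ X 1) := by
  rintro ⟨q, hq⟩
  have := congrArg (eval (![0, 1] : Fin 2 → k)) hq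
  simp at this

lemma X0_add_X1_ne_zero : (X 0 + X 1 : MvPolynomial (Fin 2) k) ≠ 0 := by
  intro h
  have := congrArg (eval (![0, 1] : Fin 2 → k)) h
  simp at this

lemma a2p_coeff_zero : (a2p k).coeff 0 = X 0 * X 1 := by
  simp [a2p]

lemma a2p_coeff_one : (a2p k).coeff 1 = X 0 + X 1 := by
  simp [a2p]

lemma a2p_irreducible : Irreducible (a2p k) := by
  have hP : (Ideal.span {(X 0 : MvPolynomial (Fin 2) k)}).IsPrime :=
    (Ideal.span_singleton_prime (X_ne_zero 0)).mpr (X_prime)
  have hdeg : (a2p k).degree = 1 := Polynomial.degree_linear (X0_add_X1_ne_zero k)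
  have hlc : (a2p k).leadingCoeff = X 0 + X 1 :=
    Polynomial.leadingCoeff_linear (X0_add_X1_ne_zero k)
  refine Polynomial.irreducible_of_eisenstein_criterion hP ?_ ?_ ?_ ?_ ?_
  · rw [hlc, Ideal.mem_span_singleton]
    rintro ⟨q, hq⟩
    have := congrArg (eval (![0, 1] : Fin 2 → k)) hq
    simp at this
  · intro n hn
    rw [hdeg] at hn
    have hn0 : n = 0 := by
      have : n < 1 := by exact_mod_cast hn
      omega
    subst hn0
    rw [a2p_coeff_zero, Ideal.mem_span_singleton]
    exact dvd_mul_right _ _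
  · rw [hdeg]; exact zero_lt_one
  · rw [Ideal.span_singleton_pow, Ideal.mem_span_singleton, a2p_coeff_zero]
    rintro ⟨q, hq⟩
    have h1 : (X 1 : MvPolynomial (Fin 2) k) = X 0 * q := by
      apply mul_left_cancel₀ (X_ne_zero (R := k) (0 : Fin 2))
      rw [hq]; ring
    exact not_X0_dvd_X1 k ⟨q, h1⟩
  · intro r hr
    rw [Polynomial.C_dvd_iff_dvd_coeff] at hr
    have h1 : r ∣ X 0 + X 1 := by simpa [a2p_coeff_one] using hr 1
    have h0 : r ∣ X 0 * X 1 := by simpa [a2p_coeff_zero] using hr 0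
    have hx0 : r ∣ X 0 * X 0 := by
      have : (X 0 : MvPolynomial (Fin 2) k) * X 0 = X 0 * (X 0 + X 1) - X 0 * X 1 := by ring
      rw [this]; exact dvd_sub (Dvd.dvd.mul_left h1 _) h0
    have hx1 : r ∣ X 1 * X 1 := by
      have : (X 1 : MvPolynomial (Fin 2) k) * X 1 = X 1 * (X 0 + X 1) - X 0 * X 1 := by ring
      rw [this]; exact dvd_sub (Dvd.dvd.mul_left h1 _) h0
    have hrel : IsRelPrime (X 0 : MvPolynomial (Fin 2) k) (X 1) :=
      ((X_prime (R := k) (i := (0 : Fin 2))).irreducible.isRelPrime_iff_not_dvd).mpr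
        (not_X0_dvd_X1 k)
    have hrel2 : IsRelPrime (X 0 * X 0 : MvPolynomial (Fin 2) k) (X 1 * X 1) :=
      (hrel.mul_right hrel).mul_left (hrel.mul_right hrel)
    exact hrel2 hx0 hx1

/-- second elementary symmetric polynomial in three variables -/
noncomputable def a2 : MvPolynomial (Fin 3) k := (finSuccEquiv k 2).symm (a2p k)

lemma a2_irreducible : Irreducible (a2 k) :=
  (MulEquiv.irreducible_iff (finSuccEquiv k 2).symm.toMulEquiv).mpr (a2p_irreducible k)

lemma a2_prime : Prime (a2 k) := (a2_irreducible k).prime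

lemma eval_a2 (z : Fin 3 → k) : eval z (a2 k) = (z 1 + z 2) * z 0 + z 1 * z 2 := by
  have hz : z = Fin.cons (z 0) (fun j => z j.succ) := by
    ext j; refine Fin.cases ?_ (fun j => ?_) j <;> simp
  have h := eval_eq_eval_mv_eval' (fun j => z j.succ) (z 0) (a2 k)
  rw [← hz] at h
  rw [h]
  simp only [a2, AlgEquiv.apply_symm_apply, a2p]
  simp

noncomputable def a1 : MvPolynomial (Fin 3) k := esymm (Fin 3) k 1
noncomputable def a3 : MvPolynomial (Fin 3) k := esymm (Fin 3) k 3

lemma eval_a1 (z : Fin 3 → k) : eval z (a1 k) = z 0 + z 1 + z 2 := by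
  rw [a1, eval_esymm, es_one, Fin.sum_univ_three]

lemma eval_a3 (z : Fin 3 → k) : eval z (a3 k) = z 0 * z 1 * z 2 := by
  rw [a3, eval_esymm]
  simp [es_succ, es_zero, es_fin_zero]
  ring

lemma es_three_two (z : Fin 3 → k) : es 3 z 2 = (z 1 + z 2) * z 0 + z 1 * z 2 := by
  simp [es_succ, es_zero, es_fin_zero]
  ring

noncomputable def cA : MvPolynomial (Fin 3) k := a3 k - a1 k * a2 k
noncomputable def cB : MvPolynomial (Fin 3) k := -(a2 k ^ 2)
noncomputable def cC : MvPolynomial (Fin 3) k := -(a2 k * a3 k)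

noncomputable def Gp : Polynomial (MvPolynomial (Fin 3) k) :=
  Polynomial.C (cA k) * Polynomial.X ^ 2 + Polynomial.C (cB k) * Polynomial.X +
    Polynomial.C (cC k)

noncomputable def G : MvPolynomial (Fin 4) k := (finSuccEquiv k 3).symm (Gp k)

lemma eval_G (y : Fin 4 → k) :
    eval y (G k) = eval (fun j => y j.succ) (cA k) * y 0 ^ 2 +
      eval (fun j => y j.succ) (cB k) * y 0 + eval (fun j => y j.succ) (cC k) := by
  have hy : y = Fin.cons (y 0) (fun j => y j.succ) := by
    ext j; refine Fin.cases ?_ (fun j => ?_) j <;> simp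
  have h := eval_eq_eval_mv_eval' (fun j => y j.succ) (y 0) (G k)
  rw [← hy] at h
  rw [h]
  simp only [G, AlgEquiv.apply_symm_apply, Gp]
  simp

section CharZero

variable [CharZero k]

/-- the special point -/
def zs : Fin 3 → k := ![2, 2, -1]

lemma eval_zs_a2 : eval (zs k) (a2 k) = 0 := by
  rw [eval_a2]; simp [zs]; ring

lemma eval_zs_a3 : eval (zs k) (a3 k) = -4 := by
  rw [eval_a3]; simp [zs]; ring

lemma not_a2_dvd_a3 : ¬ (a2 k ∣ a3 k) := by
  rintro ⟨q, hq⟩
  have := congrArg (eval (zs k)) hq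
  rw [map_mul, eval_zs_a2, eval_zs_a3, zero_mul] at this
  norm_num at this

lemma not_a2_dvd_cA : ¬ (a2 k ∣ cA k) := by
  intro h
  apply not_a2_dvd_a3 k
  have : a3 k = cA k + a1 k * a2 k := by simp [cA]
  rw [this]
  exact dvd_add h (dvd_mul_left _ _)

lemma cA_ne_zero : cA k ≠ 0 := by
  intro h
  apply not_a2_dvd_cA k
  rw [h]; exact dvd_zero _

lemma Gp_coeff_zero : (Gp k).coeff 0 = cC k := by
  simp [Gp]

lemma Gp_coeff_one : (Gp k).coeff 1 = cB k := by
  simp [Gp]

lemma Gp_coeff_two : (Gp k).coeff 2 = cA k := by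
  simp [Gp]

lemma Gp_irreducible : Irreducible (Gp k) := by
  have ha2 : a2 k ≠ 0 := (a2_prime k).ne_zero
  have hP : (Ideal.span {a2 k}).IsPrime :=
    (Ideal.span_singleton_prime ha2).mpr (a2_prime k)
  have hdeg : (Gp k).degree = 2 := Polynomial.degree_quadratic (cA_ne_zero k)
  have hlc : (Gp k).leadingCoeff = cA k := Polynomial.leadingCoeff_quadratic (cA_ne_zero k)
  refine Polynomial.irreducible_of_eisenstein_criterion hP ?_ ?_ ?_ ?_ ?_
  · rw [hlc, Ideal.mem_span_singleton]
    exact not_a2_dvd_cA k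
  · intro n hn
    rw [hdeg] at hn
    have hn2 : n < 2 := by exact_mod_cast hn
    rw [Ideal.mem_span_singleton]
    interval_cases n
    · rw [Gp_coeff_zero, cC]
      exact (dvd_mul_right _ _).neg_right
    · rw [Gp_coeff_one, cB]
      exact (dvd_pow_self _ two_ne_zero).neg_right
  · rw [hdeg]; exact zero_lt_two
  · rw [Ideal.span_singleton_pow, Ideal.mem_span_singleton, Gp_coeff_zero, cC, dvd_neg]
    rintro ⟨q, hq⟩
    apply not_a2_dvd_a3 k
    refine ⟨q, ?_⟩
    apply mul_left_cancel₀ ha2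
    rw [hq]; ring
  · intro r hr
    rw [Polynomial.C_dvd_iff_dvd_coeff] at hr
    have h2 : r ∣ cA k := by simpa [Gp_coeff_two] using hr 2
    have h1 : r ∣ a2 k ^ 2 := by
      have := hr 1
      rw [Gp_coeff_one, cB, dvd_neg] at this
      exact this
    obtain ⟨i, hi, hass⟩ := (dvd_prime_pow (a2_prime k) 2).mp h1
    rcases Nat.eq_zero_or_pos i with h0 | hpos
    · subst h0
      rw [pow_zero] at hass
      exact hass.isUnit_iff.mpr isUnit_one
    · exfalso
      apply not_a2_dvd_cA k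
      exact ((dvd_pow_self (a2 k) hpos.ne').trans hass.symm.dvd).trans h2

lemma G_irreducible : Irreducible (G k) :=
  (MulEquiv.irreducible_iff (finSuccEquiv k 3).symm.toMulEquiv).mpr (Gp_irreducible k)

lemma G_prime : Prime (G k) := (G_irreducible k).prime

end CharZero

end Groth.Agent.Lib.Helper86.Cub2
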