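import Mathlib
import Groth.Agent.Lib.Helper86.Cub2

set_option autoImplicit false

open MvPolynomial
open Groth.Agent.Lib.Helper86.Cub1 Groth.Agent.Lib.Helper86.Cub2

universe u

namespace Groth.Agent.Lib.Helper86.Cub3

variable (k : Type u) [Field k]

lemma eval_G_eq (y : Fin 4 → k) :
    eval y (G k) = es 4 y 1 * es 4 y 4 - es 4 y 2 * es 4 y 3 := by
  rw [eval_G, cA, cB, cC]
  simp only [map_sub, map_mul, map_neg, map_pow, eval_a1, eval_a2, eval_a3]
  simp [es_succ, es_zero, es_fin_zero]
  ring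

section AlgClosed

variable [IsAlgClosed k] [CharZero k]

lemma G_dvd_of_vanish (h : MvPolynomial (Fin 4) k)
    (hv : ∀ y, eval y (G k) = 0 → eval y h = 0) : G k ∣ h := by
  have hmem : h ∈ vanishingIdeal k (zeroLocus k (Ideal.span {G k})) := by
    rw [mem_vanishingIdeal_iff]
    intro y hy
    rw [mem_zeroLocus_iff] at hy
    have h1 := hy (G k) (Ideal.subset_span rfl)
    exact hv y h1
  rw [vanishingIdeal_zeroLocus_eq_radical] at hmem
  have hprime : (Ideal.span {G k}).IsPrime :=
    (Ideal.span_singleton_prime (G_prime k).ne_zero).mpr (G_prime k)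
  rw [hprime.radical, Ideal.mem_span_singleton] at hmem
  exact hmem

end AlgClosed

/-- first and second elementary symmetric polynomials in 4 variables -/
noncomputable def E1 : MvPolynomial (Fin 4) k := esymm (Fin 4) k 1
noncomputable def E2 : MvPolynomial (Fin 4) k := esymm (Fin 4) k 2

lemma eval_E1 (y : Fin 4 → k) : eval y (E1 k) = es 4 y 1 := eval_esymm 4 y 1
lemma eval_E2 (y : Fin 4 → k) : eval y (E2 k) = es 4 y 2 := eval_esymm 4 y 2

/-- the substitution `x i = - e2 / e1` clears denominators -/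
lemma exists_subst (i : Fin 5) (f : MvPolynomial (Fin 5) k) :
    ∃ (N : ℕ) (ψ : MvPolynomial (Fin 4) k), ∀ y : Fin 4 → k, es 4 y 1 ≠ 0 →
      eval y ψ = es 4 y 1 ^ N * eval (Fin.insertNth i (-(es 4 y 2) / es 4 y 1) y) f := by
  induction f using MvPolynomial.induction_on with
  | C a => exact ⟨0, C a, fun y _ => by simp⟩
  | add p q hp hq =>
    obtain ⟨Np, ψp, hp⟩ := hp
    obtain ⟨Nq, ψq, hq⟩ := hq
    refine ⟨Np + Nq, ψp * E1 k ^ Nq + ψq * E1 k ^ Np, fun y hy => ?_⟩
    simp only [map_add, map_mul, map_pow, eval_E1, hp y hy, hq y hy]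
    ring
  | mul_X p j hp =>
    obtain ⟨Np, ψp, hp⟩ := hp
    rcases Fin.eq_self_or_eq_succAbove i j with h | ⟨j', h⟩
    · subst h
      refine ⟨Np + 1, ψp * (-(E2 k)), fun y hy => ?_⟩
      simp only [map_mul, map_neg, eval_E2, hp y hy, eval_X, Fin.insertNth_apply_same]
      field_simp
      ring
    · subst h
      refine ⟨Np, ψp * X j', fun y hy => ?_⟩
      simp only [map_mul, hp y hy, eval_X, Fin.insertNth_apply_succAbove]
      ring

end Groth.Agent.Lib.Helper86.Cub3
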