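import Mathlib
import Groth.Agent.Lib.Helper86.Cub3

set_option autoImplicit false

open MvPolynomial
open Groth.Agent.Lib.Helper86.Cub1 Groth.Agent.Lib.Helper86.Cub2 Groth.Agent.Lib.Helper86.Cub3

universe u

namespace Groth.Agent.Lib.Helper86.Cub4

variable (k : Type u) [Field k]

/-- sum of the coordinates other than `i` -/
noncomputable def S (i : Fin 5) (x : Fin 5 → k) : k := es 4 (fun j => x (i.succAbove j)) 1

lemma S_eq (i : Fin 5) (x : Fin 5 → k) : S k i x = (∑ j, x j) - x i := by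
  rw [S, es_one, Fin.sum_univ_succAbove x i]
  ring

/-- special point of `A^4` on `G = 0` -/
def ys : Fin 4 → k := ![2, 2, -1, 0]

lemma eval_ys_G : eval (ys k) (G k) = 0 := by
  rw [eval_G_eq]
  simp [es_succ, es_zero, es_fin_zero, ys]
  try norm_num

lemma eval_ys_E1 : eval (ys k) (E1 k) = 3 := by
  rw [eval_E1, es_one]
  simp [Fin.sum_univ_four, ys]
  ring

section Main

variable [IsAlgClosed k] [CharZero k]

lemma not_G_dvd_E1 : ¬ (G k ∣ E1 k) := by
  rintro ⟨q, hq⟩
  have := congrArg (eval (ys k)) hq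
  rw [map_mul, eval_ys_G, eval_ys_E1, zero_mul] at this
  norm_num at this

/-- irreducibility of the open piece `U_i` of `V(σ₂, σ₄)` -/
lemma lemmaK (i : Fin 5) (f g : MvPolynomial (Fin 5) k)
    (H : ∀ x : Fin 5 → k, es 5 x 2 = 0 → es 5 x 4 = 0 → S k i x ≠ 0 →
      eval x f * eval x g = 0) :
    (∀ x : Fin 5 → k, es 5 x 2 = 0 → es 5 x 4 = 0 → S k i x ≠ 0 → eval x f = 0) ∨
    (∀ x : Fin 5 → k, es 5 x 2 = 0 → es 5 x 4 = 0 → S k i x ≠ 0 → eval x g = 0) := by
  obtain ⟨Nf, ψf, hf⟩ := exists_subst k i f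
  obtain ⟨Ng, ψg, hg⟩ := exists_subst k i g
  have key : G k ∣ E1 k * (ψf * ψg) := by
    apply G_dvd_of_vanish
    intro y hy
    rw [eval_G_eq] at hy
    by_cases h1 : es 4 y 1 = 0
    · simp [eval_E1, h1]
    · have hxy : (fun j => (Fin.insertNth i (-(es 4 y 2) / es 4 y 1) y : Fin 5 → k)
          (i.succAbove j)) = y := by
        funext j; exact Fin.insertNth_apply_succAbove (α := fun _ => k) i _ y j
      have hxi : (Fin.insertNth i (-(es 4 y 2) / es 4 y 1) y : Fin 5 → k) i =
          -(es 4 y 2) / es 4 y 1 := Fin.insertNth_apply_same (α := fun _ => k) i _ y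
      have h2 : es 5 (Fin.insertNth i (-(es 4 y 2) / es 4 y 1) y : Fin 5 → k) 2 = 0 := by
        rw [es_succAbove _ i 1, hxy, hxi]
        field_simp
        ring
      have h4 : es 5 (Fin.insertNth i (-(es 4 y 2) / es 4 y 1) y : Fin 5 → k) 4 = 0 := by
        rw [es_succAbove _ i 3, hxy, hxi]
        field_simp
        linear_combination hy
      have hS : S k i (Fin.insertNth i (-(es 4 y 2) / es 4 y 1) y : Fin 5 → k) ≠ 0 := by
        rw [S, hxy]; exact h1
      have h0 := H _ h2 h4 hS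
      simp only [map_mul, eval_E1, hf y h1, hg y h1]
      have : es 4 y 1 * (es 4 y 1 ^ Nf * eval (Fin.insertNth i (-(es 4 y 2) / es 4 y 1) y) f *
          (es 4 y 1 ^ Ng * eval (Fin.insertNth i (-(es 4 y 2) / es 4 y 1) y) g)) =
          es 4 y 1 * es 4 y 1 ^ Nf * es 4 y 1 ^ Ng *
          (eval (Fin.insertNth i (-(es 4 y 2) / es 4 y 1) y) f *
            eval (Fin.insertNth i (-(es 4 y 2) / es 4 y 1) y) g) := by ring
      rw [this, h0, mul_zero]
  have aux : ∀ (N : ℕ) (ψ : MvPolynomial (Fin 4) k) (h : MvPolynomial (Fin 5) k),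
      (∀ y : Fin 4 → k, es 4 y 1 ≠ 0 →
        eval y ψ = es 4 y 1 ^ N * eval (Fin.insertNth i (-(es 4 y 2) / es 4 y 1) y) h) →
      G k ∣ ψ →
      ∀ x : Fin 5 → k, es 5 x 2 = 0 → es 5 x 4 = 0 → S k i x ≠ 0 → eval x h = 0 := by
    intro N ψ h hψ hdvd x h2 h4 hS
    obtain ⟨q, hq⟩ := hdvd
    rw [S] at hS
    rw [es_succAbove x i 1] at h2
    rw [es_succAbove x i 3] at h4
    have hxi : x i = -(es 4 (fun j => x (i.succAbove j)) 2) / es 4 (fun j => x (i.succAbove j)) 1 := by
      field_simp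
      linear_combination h2
    have hx : Fin.insertNth i (x i) (fun j => x (i.succAbove j)) = x :=
      Fin.insertNth_self_removeNth i x
    have hG : eval (fun j => x (i.succAbove j)) (G k) = 0 := by
      rw [eval_G_eq]
      linear_combination (es 4 (fun j => x (i.succAbove j)) 1) * h4 -
        (es 4 (fun j => x (i.succAbove j)) 3) * h2
    have h1 := hψ _ hS
    rw [hq, map_mul, hG, zero_mul, ← hxi, hx] at h1
    rcases mul_eq_zero.mp h1.symm with h | h
    · exact absurd h (pow_ne_zero N hS)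
    · exact h
  rcases (G_prime k).dvd_or_dvd key with hE | hψ
  · exact absurd hE (not_G_dvd_E1 k)
  · rcases (G_prime k).dvd_or_dvd hψ with h | h
    · exact Or.inl (aux Nf ψf f hf h)
    · exact Or.inr (aux Ng ψg g hg h)

end Main

end Groth.Agent.Lib.Helper86.Cub4
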