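import Mathlib
import Groth.Agent.Lib.Helper86.Cub4

set_option autoImplicit false

open MvPolynomial
open Groth.Agent.Lib.Helper86.Cub1 Groth.Agent.Lib.Helper86.Cub2 Groth.Agent.Lib.Helper86.Cub3
  Groth.Agent.Lib.Helper86.Cub4

universe u

namespace Groth.Agent.Lib.Helper86.Cub5

variable (k : Type u) [Field k]

/-- a line through the origin inside `V(σ₂, σ₄)` -/
def ps (t : k) : Fin 5 → k := ![2 * t, 2 * t, -t, 0, 0]

lemma ps_es2 (t : k) : es 5 (ps k t) 2 = 0 := by
  simp [es_succ, es_zero, es_fin_zero, ps]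
  ring

lemma ps_es4 (t : k) : es 5 (ps k t) 4 = 0 := by
  simp [es_succ, es_zero, es_fin_zero, ps]

lemma ps_sum (t : k) : ∑ j, ps k t j = 3 * t := by
  simp [Fin.sum_univ_five, ps]
  ring

lemma ps_zero : ps k 0 = 0 := by
  funext j; fin_cases j <;> simp [ps]

lemma ps_mul (t : k) (j : Fin 5) : ps k 1 j * t = ps k t j := by
  fin_cases j <;> simp [ps]

/-- the linear form `σ₁ - X i` -/
noncomputable def Li (i : Fin 5) : MvPolynomial (Fin 5) k := esymm (Fin 5) k 1 - X i

lemma eval_Li (i : Fin 5) (x : Fin 5 → k) : eval x (Li k i) = S k i x := by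
  rw [Li, map_sub, eval_esymm, es_one, eval_X, S_eq]

section CZ

variable [CharZero k]

lemma S_ps (i : Fin 5) (t : k) (ht : t ≠ 0) : S k i (ps k t) ≠ 0 := by
  rw [S_eq, ps_sum]
  fin_cases i
  · have : 3 * t - ps k t ((fun i => i) ⟨0, by omega⟩) = 1 * t := by simp [ps]; ring
    rw [this]; exact mul_ne_zero (by norm_num) ht
  · have : 3 * t - ps k t ((fun i => i) ⟨1, by omega⟩) = 1 * t := by simp [ps]; ring
    rw [this]; exact mul_ne_zero (by norm_num) ht
  · have : 3 * t - ps k t ((fun i => i) ⟨2, by omega⟩) = 4 * t := by simp [ps]; ring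
    rw [this]; exact mul_ne_zero (by norm_num) ht
  · have : 3 * t - ps k t ((fun i => i) ⟨3, by omega⟩) = 3 * t := by simp [ps]
    rw [this]; exact mul_ne_zero (by norm_num) ht
  · have : 3 * t - ps k t ((fun i => i) ⟨4, by omega⟩) = 3 * t := by simp [ps]
    rw [this]; exact mul_ne_zero (by norm_num) ht

variable [IsAlgClosed k]

lemma transfer (h : MvPolynomial (Fin 5) k) (i j : Fin 5)
    (hi : ∀ x : Fin 5 → k, es 5 x 2 = 0 → es 5 x 4 = 0 → S k i x ≠ 0 → eval x h = 0) :
    ∀ x : Fin 5 → k, es 5 x 2 = 0 → es 5 x 4 = 0 → S k j x ≠ 0 → eval x h = 0 := by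
  have H : ∀ x : Fin 5 → k, es 5 x 2 = 0 → es 5 x 4 = 0 → S k j x ≠ 0 →
      eval x h * eval x (Li k i) = 0 := by
    intro x h2 h4 _
    by_cases hSi : S k i x = 0
    · rw [eval_Li, hSi, mul_zero]
    · rw [hi x h2 h4 hSi, zero_mul]
  rcases lemmaK k j h (Li k i) H with h1 | h2
  · exact h1
  · exfalso
    have := h2 (ps k 1) (ps_es2 k 1) (ps_es4 k 1) (S_ps k j 1 one_ne_zero)
    rw [eval_Li] at this
    exact S_ps k i 1 one_ne_zero this

lemma vanish_all (h : MvPolynomial (Fin 5) k)
    (hU : ∀ (i : Fin 5) (x : Fin 5 → k), es 5 x 2 = 0 → es 5 x 4 = 0 → S k i x ≠ 0 →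
      eval x h = 0) :
    ∀ x : Fin 5 → k, es 5 x 2 = 0 → es 5 x 4 = 0 → eval x h = 0 := by
  intro x h2 h4
  by_cases hx : ∃ i, S k i x ≠ 0
  · obtain ⟨i, hi⟩ := hx
    exact hU i x h2 h4 hi
  · push_neg at hx
    have hxi : ∀ i, x i = ∑ j, x j := fun i => by
      have := hx i
      rw [S_eq] at this
      linear_combination -this
    have hsum : ∑ j, x j = 0 := by
      have h5 : ∑ j, x j = ∑ _j : Fin 5, (∑ l, x l) := Finset.sum_congr rfl (fun i _ => hxi i)
      rw [Finset.sum_const, Finset.card_univ, Fintype.card_fin, nsmul_eq_mul] at h5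
      have h4' : (4 : k) * ∑ j, x j = 0 := by
        push_cast at h5
        linear_combination -h5
      exact (mul_eq_zero.mp h4').resolve_left (by norm_num)
    have hx0 : x = 0 := funext (fun i => by rw [hxi i, hsum]; rfl)
    rw [hx0]
    let q : Polynomial k := aeval (fun j => Polynomial.C (ps k 1 j) * Polynomial.X) h
    have hq : ∀ t, q.eval t = eval (ps k t) h := by
      intro t
      have h1 : (Polynomial.aeval t : Polynomial k →ₐ[k] k).comp
          (aeval (fun j => Polynomial.C (ps k 1 j) * Polynomial.X)) =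
          aeval (fun j => ps k t j) := by
        rw [MvPolynomial.comp_aeval]
        congr 1
        funext j
        simp [ps_mul]
      have h2 := AlgHom.congr_fun h1 h
      simpa [q, Polynomial.coe_aeval_eq_eval, aeval_eq_eval] using h2
    have hq0 : q * Polynomial.X = 0 := Polynomial.funext (fun t => by
      rw [Polynomial.eval_mul, Polynomial.eval_X, Polynomial.eval_zero]
      by_cases ht : t = 0
      · rw [ht, mul_zero]
      · rw [hq, hU 0 (ps k t) (ps_es2 k t) (ps_es4 k t) (S_ps k 0 t ht), zero_mul])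
    have hq' : q = 0 := by
      rcases mul_eq_zero.mp hq0 with h | h
      · exact h
      · exact absurd h Polynomial.X_ne_zero
    have h0 := hq 0
    rw [hq', Polynomial.eval_zero, ps_zero] at h0
    exact h0.symm

theorem main :
    (Ideal.span ({MvPolynomial.esymm (Fin 5) k 2, MvPolynomial.esymm (Fin 5) k 4} :
      Set (MvPolynomial (Fin 5) k))).radical.IsPrime := by
  rw [← vanishingIdeal_zeroLocus_eq_radical (K := k)]
  have hV : ∀ x : Fin 5 → k,
      x ∈ zeroLocus k (Ideal.span ({MvPolynomial.esymm (Fin 5) k 2,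
        MvPolynomial.esymm (Fin 5) k 4} : Set (MvPolynomial (Fin 5) k))) ↔
      (es 5 x 2 = 0 ∧ es 5 x 4 = 0) := by
    intro x
    rw [mem_zeroLocus_iff]
    constructor
    · intro hx
      refine ⟨?_, ?_⟩
      · rw [← eval_esymm]
        exact hx _ (Ideal.subset_span (by simp))
      · rw [← eval_esymm]
        exact hx _ (Ideal.subset_span (by simp))
    · rintro ⟨h2, h4⟩ p hp
      obtain ⟨a, b, rfl⟩ := Ideal.mem_span_pair.mp hp
      rw [aeval_eq_eval, map_add, map_mul, map_mul, eval_esymm, eval_esymm, h2, h4]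
      simp
  have hmem : ∀ p : MvPolynomial (Fin 5) k,
      p ∈ vanishingIdeal k (zeroLocus k (Ideal.span ({MvPolynomial.esymm (Fin 5) k 2,
        MvPolynomial.esymm (Fin 5) k 4} : Set (MvPolynomial (Fin 5) k)))) ↔
      ∀ x : Fin 5 → k, es 5 x 2 = 0 → es 5 x 4 = 0 → eval x p = 0 := by
    intro p
    rw [mem_vanishingIdeal_iff]
    constructor
    · intro hp x h2 h4
      exact hp x ((hV x).mpr ⟨h2, h4⟩)
    · intro hp x hx
      obtain ⟨h2, h4⟩ := (hV x).mp hx
      exact hp x h2 h4
  refine ⟨?_, ?_⟩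
  · intro htop
    have h1 : (1 : MvPolynomial (Fin 5) k) ∈ vanishingIdeal k (zeroLocus k
        (Ideal.span ({MvPolynomial.esymm (Fin 5) k 2,
        MvPolynomial.esymm (Fin 5) k 4} : Set (MvPolynomial (Fin 5) k)))) := by
      rw [htop]; trivial
    have := (hmem 1).mp h1 (ps k 1) (ps_es2 k 1) (ps_es4 k 1)
    simp at this
  · intro f g hfg
    have hfg' := (hmem _).mp hfg
    by_cases hg : ∃ i : Fin 5, ∀ x : Fin 5 → k, es 5 x 2 = 0 → es 5 x 4 = 0 → S k i x ≠ 0 →
        eval x g = 0
    · obtain ⟨i, hi⟩ := hg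
      right
      rw [hmem]
      exact vanish_all k g (fun j => transfer k g i j hi)
    · left
      rw [hmem]
      apply vanish_all k f
      intro i
      have H : ∀ x : Fin 5 → k, es 5 x 2 = 0 → es 5 x 4 = 0 → S k i x ≠ 0 →
          eval x f * eval x g = 0 := by
        intro x h2 h4 _
        have := hfg' x h2 h4
        rwa [map_mul] at this
      rcases lemmaK k i f g H with h1 | h2
      · exact h1
      · exact absurd ⟨i, h2⟩ hg

end CZ

end Groth.Agent.Lib.Helper86.Cub5
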