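import Mathlib
import Groth.Prelude
import Groth.Agent.H8.GRingDimOne
import Groth.Agent.Lib.Helper47.GeomRegTransport

/-! An extension of DVRs with `e = 1` and separable residue / fraction field extensions is a
regular homomorphism (helper86, for S6830 via Popescu). -/

set_option autoImplicit false
universe u
open TensorProduct IsLocalRing

namespace Groth.Agent.Lib.Helper86.DVRRegular

section

variable {R Λ : Type u} [CommRing R] [IsDomain R] [IsDiscreteValuationRing R]
  [CommRing Λ] [IsDomain Λ] [IsDiscreteValuationRing Λ] [Algebra R Λ]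
  [NoZeroSMulDivisors R Λ]

/-- A prime of a DVR is `⊥` or the maximal ideal. -/
theorem prime_eq_bot_or_maximalIdeal (p : Ideal R) [p.IsPrime] : p = ⊥ ∨ p = maximalIdeal R := by
  by_cases h : p = ⊥
  · exact Or.inl h
  · right
    have : p.IsMaximal := Ring.DimensionLEOne.maximalOfPrime h inferInstance
    exact IsLocalRing.eq_maximalIdeal this

/-- Every nonzerodivisor of `Λ` divides the image of a nonzero element of `R`, when
`m_R Λ = m_Λ`. -/
theorem exists_dvd_of_ne_zero (he : (maximalIdeal R).map (algebraMap R Λ) = maximalIdeal Λ)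
    (n : Λ) (hn : n ≠ 0) : ∃ r : R, r ≠ 0 ∧ n ∣ algebraMap R Λ r := by
  obtain ⟨ϖ, hϖ⟩ := IsDiscreteValuationRing.exists_irreducible R
  have hmR : maximalIdeal R = Ideal.span {ϖ} := hϖ.maximalIdeal_eq
  have hmΛ : maximalIdeal Λ = Ideal.span {algebraMap R Λ ϖ} := by
    rw [← he, hmR, Ideal.map_span, Set.image_singleton]
  have hirr : Irreducible (algebraMap R Λ ϖ) :=
    (IsDiscreteValuationRing.irreducible_iff_uniformizer _).mpr hmΛ
  obtain ⟨k, u, hu⟩ := IsDiscreteValuationRing.eq_unit_mul_pow_irreducible hn hirr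
  refine ⟨ϖ ^ k, pow_ne_zero _ hϖ.ne_zero, ?_⟩
  rw [map_pow, hu]
  exact ⟨((u⁻¹ : Λˣ) : Λ), by rw [mul_comm (u : Λ), mul_assoc, Units.mul_inv, mul_one]⟩

end

section Generic

variable {R Λ K L : Type u} [CommRing R] [IsDomain R] [IsDiscreteValuationRing R]
  [CommRing Λ] [IsDomain Λ] [IsDiscreteValuationRing Λ] [Algebra R Λ] [NoZeroSMulDivisors R Λ]
  [Field K] [Algebra R K] [IsFractionRing R K] [Field L] [Algebra Λ L] [IsFractionRing Λ L]
  [Algebra K L] [Algebra R L] [IsScalarTower R K L] [IsScalarTower R Λ L]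

theorem generic_fibre (he : (maximalIdeal R).map (algebraMap R Λ) = maximalIdeal Λ)
    [Algebra.IsGeometricallyReduced K L] :
    IsNoetherianRing ((⊥ : Ideal R).Fiber Λ) ∧
      CAlg.IsGeometricallyRegular (⊥ : Ideal R).ResidueField ((⊥ : Ideal R).Fiber Λ) := by
  have hfr := Groth.Agent.H8.GRing.isFractionRing_residueField_bot R
  have hinj : Function.Injective (algebraMap R Λ) := FaithfulSMul.algebraMap_injective R Λ
  let algΛF : Algebra Λ ((⊥ : Ideal R).ResidueField ⊗[R] Λ) := Algebra.TensorProduct.rightAlgebra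
  have hloc : IsLocalization (Algebra.algebraMapSubmonoid Λ (nonZeroDivisors R))
      ((⊥ : Ideal R).ResidueField ⊗[R] Λ) :=
    IsLocalization.tensorRight (S := Λ) (⊥ : Ideal R).ResidueField (nonZeroDivisors R)
  have hle : Algebra.algebraMapSubmonoid Λ (nonZeroDivisors R) ≤ nonZeroDivisors Λ := by
    rintro _ ⟨r, hr, rfl⟩
    exact mem_nonZeroDivisors_of_ne_zero
      ((map_ne_zero_iff _ hinj).mpr (nonZeroDivisors.ne_zero hr))
  have hfrac : IsFractionRing Λ ((⊥ : Ideal R).ResidueField ⊗[R] Λ) := by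
    refine IsLocalization.of_le_of_exists_dvd _ _ hle (fun n hn => ?_)
    obtain ⟨r, hr, hdvd⟩ := exists_dvd_of_ne_zero he n (nonZeroDivisors.ne_zero hn)
    exact ⟨algebraMap R Λ r, ⟨r, mem_nonZeroDivisors_of_ne_zero hr, rfl⟩, hdvd⟩
  let θ : L ≃ₐ[Λ] ((⊥ : Ideal R).ResidueField ⊗[R] Λ) :=
    IsLocalization.algEquiv (nonZeroDivisors Λ) L _
  let σ : K ≃ₐ[R] (⊥ : Ideal R).ResidueField := IsLocalization.algEquiv (nonZeroDivisors R) K _
  have hcompat : ∀ c : K, θ (algebraMap K L c) =
      algebraMap (⊥ : Ideal R).ResidueField ((⊥ : Ideal R).ResidueField ⊗[R] Λ) (σ c) := by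
    intro c
    have h := IsLocalization.ringHom_ext (nonZeroDivisors R) (S := K)
      (j := (θ.toRingEquiv.toRingHom).comp (algebraMap K L))
      (k := (algebraMap (⊥ : Ideal R).ResidueField ((⊥ : Ideal R).ResidueField ⊗[R] Λ)).comp
        σ.toRingEquiv.toRingHom) (by
        ext r
        simp only [RingHom.comp_apply]
        change θ (algebraMap K L (algebraMap R K r)) = algebraMap _ _ (σ (algebraMap R K r))
        rw [σ.commutes, ← IsScalarTower.algebraMap_apply R K L,
          IsScalarTower.algebraMap_apply R Λ L, θ.commutes]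
        rw [Algebra.TensorProduct.algebraMap_apply, Algebra.algebraMap_self, RingHom.id_apply]
        change (1 : (⊥ : Ideal R).ResidueField) ⊗ₜ[R] (algebraMap R Λ r) = _
        rw [Algebra.algebraMap_eq_smul_one, TensorProduct.tmul_smul, TensorProduct.smul_tmul',
          ← Algebra.algebraMap_eq_smul_one])
    exact congrArg (fun f => f c) h
  have hLreg : CAlg.IsGeometricallyRegular K L :=
    Groth.Agent.H8.GRing.isGeometricallyRegular_of_isArtinianRing K L
  constructor
  · exact isNoetherianRing_of_ringEquiv L θ.toRingEquiv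
  · exact Groth.Agent.Lib.Helper47.GeomRegTransport.isGeometricallyRegular_of_semilinear
      σ.toRingEquiv θ.toRingEquiv hcompat hLreg

end Generic

section Closed

variable {R Λ : Type u} [CommRing R] [IsLocalRing R]
  [CommRing Λ] [IsLocalRing Λ] [Algebra R Λ] [IsLocalHom (algebraMap R Λ)]

theorem closed_fibre (he : (maximalIdeal R).map (algebraMap R Λ) = maximalIdeal Λ)
    [Algebra.IsGeometricallyReduced (ResidueField R) (ResidueField Λ)] :
    IsNoetherianRing ((maximalIdeal R).Fiber Λ) ∧
      CAlg.IsGeometricallyRegular (maximalIdeal R).ResidueField ((maximalIdeal R).Fiber Λ) := by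
  -- σ : R/m ≃ κ(m)
  let σ : (R ⧸ maximalIdeal R) ≃ₐ[R] (maximalIdeal R).ResidueField :=
    AlgEquiv.ofBijective (IsScalarTower.toAlgHom R (R ⧸ maximalIdeal R) (maximalIdeal R).ResidueField)
      (maximalIdeal R).bijective_algebraMap_quotient_residueField
  let e1 : (Λ ⧸ maximalIdeal Λ) ≃+* (Λ ⧸ (maximalIdeal R).map (algebraMap R Λ)) :=
    Ideal.quotEquivOfEq he.symm
  let e2 : (Λ ⧸ (maximalIdeal R).map (algebraMap R Λ)) ≃+* (R ⧸ maximalIdeal R) ⊗[R] Λ :=
    (Algebra.TensorProduct.quotIdealMapEquivQuotTensor Λ (maximalIdeal R)).toRingEquiv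
  let e3 : (R ⧸ maximalIdeal R) ⊗[R] Λ ≃+* (maximalIdeal R).ResidueField ⊗[R] Λ :=
    (Algebra.TensorProduct.congr σ (AlgEquiv.refl : Λ ≃ₐ[R] Λ)).toRingEquiv
  let θ : ResidueField Λ ≃+* (maximalIdeal R).ResidueField ⊗[R] Λ := (e1.trans e2).trans e3
  have hθ : ∀ b : Λ, θ (residue Λ b) = (1 : (maximalIdeal R).ResidueField) ⊗ₜ[R] b := by
    intro b
    change e3 (e2 (e1 (Ideal.Quotient.mk _ b))) = _
    have h1 : e1 (Ideal.Quotient.mk _ b) = Ideal.Quotient.mk _ b := rfl
    have h2 : e2 (Ideal.Quotient.mk _ b) = (1 : R ⧸ maximalIdeal R) ⊗ₜ[R] b := rfl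
    rw [h1, h2]
    change (Algebra.TensorProduct.congr σ (AlgEquiv.refl : Λ ≃ₐ[R] Λ)) _ = _
    rw [Algebra.TensorProduct.congr_apply, Algebra.TensorProduct.map_tmul]
    simp
  have hcompat : ∀ c : ResidueField R, θ (algebraMap (ResidueField R) (ResidueField Λ) c) =
      algebraMap (maximalIdeal R).ResidueField ((maximalIdeal R).ResidueField ⊗[R] Λ)
        (σ.toRingEquiv c) := by
    intro c
    obtain ⟨r, rfl⟩ := Ideal.Quotient.mk_surjective c
    have h1 : algebraMap (ResidueField R) (ResidueField Λ) (Ideal.Quotient.mk _ r) =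
        residue Λ (algebraMap R Λ r) := rfl
    rw [h1, hθ]
    have h2 : σ.toRingEquiv (Ideal.Quotient.mk _ r) =
        algebraMap R (maximalIdeal R).ResidueField r := by
      change algebraMap (R ⧸ maximalIdeal R) _ (algebraMap R (R ⧸ maximalIdeal R) r) = _
      rw [← IsScalarTower.algebraMap_apply]
    rw [h2, Algebra.TensorProduct.algebraMap_apply, Algebra.algebraMap_self, RingHom.id_apply,
      Algebra.algebraMap_eq_smul_one (A := Λ), TensorProduct.tmul_smul, TensorProduct.smul_tmul',
      ← Algebra.algebraMap_eq_smul_one]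
  have hLreg : CAlg.IsGeometricallyRegular (ResidueField R) (ResidueField Λ) :=
    Groth.Agent.H8.GRing.isGeometricallyRegular_of_isArtinianRing _ _
  constructor
  · exact isNoetherianRing_of_ringEquiv (ResidueField Λ) θ
  · exact Groth.Agent.Lib.Helper47.GeomRegTransport.isGeometricallyRegular_of_semilinear
      σ.toRingEquiv θ hcompat hLreg

end Closed

section Main

variable {R Λ K L : Type u} [CommRing R] [IsDomain R] [IsDiscreteValuationRing R]
  [CommRing Λ] [IsDomain Λ] [IsDiscreteValuationRing Λ] [Algebra R Λ] [NoZeroSMulDivisors R Λ]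
  [IsLocalHom (algebraMap R Λ)]
  [Field K] [Algebra R K] [IsFractionRing R K] [Field L] [Algebra Λ L] [IsFractionRing Λ L]
  [Algebra K L] [Algebra R L] [IsScalarTower R K L] [IsScalarTower R Λ L]

/-- An extension of DVRs of ramification index one with separable residue field and fraction
field extensions is a regular homomorphism. -/
theorem isRegularHom_of_dvr_extension
    (he : (maximalIdeal R).map (algebraMap R Λ) = maximalIdeal Λ)
    [Algebra.IsGeometricallyReduced (ResidueField R) (ResidueField Λ)]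
    [Algebra.IsGeometricallyReduced K L] : CAlg.IsRegularHom R Λ := by
  refine ⟨inferInstance, fun p hp => ?_⟩
  rcases prime_eq_bot_or_maximalIdeal p with h | h
  · subst h
    exact generic_fibre (K := K) (L := L) he
  · subst h
    exact closed_fibre he

/-- S6830 modulo Popescu's theorem (the statement of S0595 as a hypothesis). -/
theorem indSmooth_of_popescu
    (hpop : ∀ (R : Type u) [CommRing R] [IsNoetherianRing R] (Λ : Type u)
      [CommRing Λ] [IsNoetherianRing Λ] [Algebra R Λ] (_ : CAlg.IsRegularHom R Λ) (A : Type u)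
      [CommRing A] [Algebra R A] [Algebra.FinitePresentation R A] (f : A →ₐ[R] Λ),
      ∃ (B : Type u) (_ : CommRing B) (_ : Algebra R B), Algebra.Smooth R B ∧
        ∃ (g : A →ₐ[R] B) (h : B →ₐ[R] Λ), h.comp g = f)
    (he : (maximalIdeal R).map (algebraMap R Λ) = maximalIdeal Λ)
    [Algebra.IsGeometricallyReduced (ResidueField R) (ResidueField Λ)]
    [Algebra.IsGeometricallyReduced K L] : Smoothing.IndSmooth R Λ := by
  intro A _ _ hfp f
  exact hpop R Λ (isRegularHom_of_dvr_extension (K := K) (L := L) he) A f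

end Main

end Groth.Agent.Lib.Helper86.DVRRegular

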