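import Mathlib
import Groth.Agent.Lib.Helper86.DescBridge

/-! Native-form version of `comm_apply_gen`, in the shape produced by descent data. -/

set_option autoImplicit false

open CategoryTheory Opposite ModuleCat
open Groth.Agent.Lib.Helper86.DescBridge

universe u v₁ u₁ t v' u'

namespace Groth.Agent.Lib.Helper86.DescComm2

section Generic

variable {C : Type u₁} [Category.{v₁} C] (F : Pseudofunctor (LocallyDiscrete Cᵒᵖ) Cat.{v', u'})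
variable {S X Y : C} (f : X ⟶ S) (f₁ f₂ : Y ⟶ X) (hf : f₂ ≫ f = f₁ ≫ f)
variable (M N : F.obj (.mk (op S)))

include hf in
lemma toLoc_eq₂ : f.op.toLoc ≫ f₂.op.toLoc = (f₁ ≫ f).op.toLoc := by rw [← hf]; rfl

/-- the commutation relation of a morphism of canonical descent data, in native form -/
theorem comm_native
    (ψ : (F.toDescentData (fun _ : PUnit.{t + 1} => f)).obj M ⟶
      (F.toDescentData (fun _ : PUnit.{t + 1} => f)).obj N)
    (ψ₀ : (F.map f.op.toLoc).toFunctor.obj M ⟶ (F.map f.op.toLoc).toFunctor.obj N)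
    (hψ₀ : ψ₀ = ψ.hom PUnit.unit) :
    (F.map f₁.op.toLoc).toFunctor.map ψ₀ ≫
      (F.mapComp' f.op.toLoc f₁.op.toLoc (f₁ ≫ f).op.toLoc rfl).inv.toNatTrans.app N ≫
        (F.mapComp' f.op.toLoc f₂.op.toLoc (f₁ ≫ f).op.toLoc
          (toLoc_eq₂ f f₁ f₂ hf)).hom.toNatTrans.app N =
      ((F.mapComp' f.op.toLoc f₁.op.toLoc (f₁ ≫ f).op.toLoc rfl).inv.toNatTrans.app M ≫
        (F.mapComp' f.op.toLoc f₂.op.toLoc (f₁ ≫ f).op.toLoc
          (toLoc_eq₂ f f₁ f₂ hf)).hom.toNatTrans.app M) ≫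
          (F.map f₂.op.toLoc).toFunctor.map ψ₀ := by
  subst hψ₀
  exact ψ.comm (i₁ := PUnit.unit) (i₂ := PUnit.unit) (f₁ ≫ f) f₁ f₂ rfl hf

end Generic

section PFΦ

variable {C : Type u₁} [Category.{v₁} C] (Φ : Cᵒᵖ ⥤ CommRingCat.{u})
variable {S X Y : C} (f : X ⟶ S) (f₁ f₂ : Y ⟶ X) (hf : f₂ ≫ f = f₁ ≫ f)
variable (M N : (PF Φ).obj (.mk (op S)))

/-- view an object over `S` as a module -/
abbrev asM (M : (PF Φ).obj (.mk (op S))) : ModuleCat.{u} (Φ.obj (op S)) := M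

lemma comp_eq₁ : (Φ.map f₁.op).hom.comp (Φ.map f.op).hom = (Φ.map (f₁ ≫ f).op).hom := by
  rw [← CommRingCat.hom_comp, ← Φ.map_comp]
  rfl

include hf in
lemma comp_eq₂ : (Φ.map f₂.op).hom.comp (Φ.map f.op).hom = (Φ.map (f₁ ≫ f).op).hom := by
  rw [← CommRingCat.hom_comp, ← Φ.map_comp, ← hf]
  rfl

set_option backward.isDefEq.respectTransparency false in
include hf in
theorem comm_apply_native₂
    (ψ₀ : ((PF Φ).map f.op.toLoc).toFunctor.obj M ⟶ ((PF Φ).map f.op.toLoc).toFunctor.obj N)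
    (ψ₀' : (extendScalars (Φ.map f.op).hom).obj (asM Φ M) ⟶
      (extendScalars (Φ.map f.op).hom).obj (asM Φ N))
    (hψ : ψ₀' = ψ₀)
    (comm : ((PF Φ).map f₁.op.toLoc).toFunctor.map ψ₀ ≫
      ((PF Φ).mapComp' f.op.toLoc f₁.op.toLoc (f₁ ≫ f).op.toLoc rfl).inv.toNatTrans.app N ≫
        ((PF Φ).mapComp' f.op.toLoc f₂.op.toLoc (f₁ ≫ f).op.toLoc
          (toLoc_eq₂ f f₁ f₂ hf)).hom.toNatTrans.app N =
      (((PF Φ).mapComp' f.op.toLoc f₁.op.toLoc (f₁ ≫ f).op.toLoc rfl).inv.toNatTrans.app M ≫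
        ((PF Φ).mapComp' f.op.toLoc f₂.op.toLoc (f₁ ≫ f).op.toLoc
          (toLoc_eq₂ f f₁ f₂ hf)).hom.toNatTrans.app M) ≫
          ((PF Φ).map f₂.op.toLoc).toFunctor.map ψ₀) (m : asM Φ M) :
    U (Φ.map f.op).hom (Φ.map f₁.op).hom (Φ.map (f₁ ≫ f).op).hom (comp_eq₁ Φ f f₁) (asM Φ N)
        (ψ₀' (tm (Φ.map f.op).hom 1 m)) =
      U (Φ.map f.op).hom (Φ.map f₂.op).hom (Φ.map (f₁ ≫ f).op).hom (comp_eq₂ Φ f f₁ f₂ hf) (asM Φ N)
        (ψ₀' (tm (Φ.map f.op).hom 1 m)) := by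
  subst hψ
  exact comm_apply_gen Φ f.op.toLoc f₁.op.toLoc f₂.op.toLoc (f₁ ≫ f).op.toLoc rfl
    (toLoc_eq₂ f f₁ f₂ hf) (asM Φ M) (asM Φ N) ψ₀' comm m

end PFΦ

end Groth.Agent.Lib.Helper86.DescComm2
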