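import Mathlib

/-! Descent data relative to a single morphism, for a general pseudofunctor: normalized
compatibility morphisms and a criterion for effectivity. -/

set_option autoImplicit false

open CategoryTheory Opposite

universe v₁ u₁ t v' u'

namespace Groth.Agent.Lib.Helper86.DescDDGen

variable {C : Type u₁} [Category.{v₁} C] {F : Pseudofunctor (LocallyDiscrete Cᵒᵖ) Cat.{v', u'}}
variable {S X : C} {f : X ⟶ S} (D : F.DescentData (fun _ : PUnit.{t + 1} => f))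

/-- the compatibility morphism of a descent datum, with `q` normalized to `f₁ ≫ f` -/
def homN {Y : C} (f₁ f₂ : Y ⟶ X) (hf : f₂ ≫ f = f₁ ≫ f) :
    (F.map f₁.op.toLoc).toFunctor.obj (D.obj PUnit.unit) ⟶
      (F.map f₂.op.toLoc).toFunctor.obj (D.obj PUnit.unit) :=
  D.hom (i₁ := PUnit.unit) (i₂ := PUnit.unit) (f₁ ≫ f) f₁ f₂ rfl hf

lemma hom_eq_homN {Y : C} (q : Y ⟶ S) (f₁ f₂ : Y ⟶ X) (hf₁ : f₁ ≫ f = q) (hf₂ : f₂ ≫ f = q) :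
    D.hom (i₁ := PUnit.unit) (i₂ := PUnit.unit) q f₁ f₂ hf₁ hf₂ =
      homN D f₁ f₂ (hf₂.trans hf₁.symm) := by
  subst hf₁
  rfl

lemma homN_self {Y : C} (g : Y ⟶ X) : homN D g g rfl = 𝟙 _ :=
  D.hom_self (g ≫ f) g rfl

lemma homN_comp {Y : C} (f₁ f₂ f₃ : Y ⟶ X) (h₁₂ : f₂ ≫ f = f₁ ≫ f) (h₂₃ : f₃ ≫ f = f₂ ≫ f)
    (h₁₃ : f₃ ≫ f = f₁ ≫ f) :
    homN D f₁ f₂ h₁₂ ≫ homN D f₂ f₃ h₂₃ = homN D f₁ f₃ h₁₃ := by
  have h := D.hom_comp (i₁ := PUnit.unit) (i₂ := PUnit.unit) (i₃ := PUnit.unit)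
    (f₁ ≫ f) f₁ f₂ f₃ rfl h₁₂ h₁₃
  rw [hom_eq_homN, hom_eq_homN, hom_eq_homN] at h
  exact h

lemma toLoc_comp {Y Y' : C} (g : Y' ⟶ Y) (f₁ : Y ⟶ X) (gf₁ : Y' ⟶ X) (h : g ≫ f₁ = gf₁) :
    f₁.op.toLoc ≫ g.op.toLoc = gf₁.op.toLoc := by
  subst h; rfl

lemma homN_pull {Y Y' : C} (g : Y' ⟶ Y) (f₁ f₂ : Y ⟶ X) (hf : f₂ ≫ f = f₁ ≫ f)
    (gf₁ gf₂ : Y' ⟶ X) (hgf₁ : g ≫ f₁ = gf₁) (hgf₂ : g ≫ f₂ = gf₂)
    (hgf : gf₂ ≫ f = gf₁ ≫ f) :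
    (F.mapComp' f₁.op.toLoc g.op.toLoc gf₁.op.toLoc
        (toLoc_comp g f₁ gf₁ hgf₁)).hom.toNatTrans.app (D.obj PUnit.unit) ≫
      (F.map g.op.toLoc).toFunctor.map (homN D f₁ f₂ hf) ≫
        (F.mapComp' f₂.op.toLoc g.op.toLoc gf₂.op.toLoc
          (toLoc_comp g f₂ gf₂ hgf₂)).inv.toNatTrans.app (D.obj PUnit.unit) =
      homN D gf₁ gf₂ hgf := by
  have h := D.pullHom_hom (i₁ := PUnit.unit) (i₂ := PUnit.unit) g (f₁ ≫ f) (gf₁ ≫ f)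
    (by rw [← hgf₁, Category.assoc]) f₁ f₂ rfl hf gf₁ gf₂ hgf₁ hgf₂
  rw [hom_eq_homN] at h
  exact h

omit D in
lemma toLoc_eq₂ {Y : C} (f₁ f₂ : Y ⟶ X) (hf : f₂ ≫ f = f₁ ≫ f) :
    f.op.toLoc ≫ f₂.op.toLoc = (f₁ ≫ f).op.toLoc := by rw [← hf]; rfl

/-- a criterion for effectivity of a descent datum -/
theorem nonempty_iso_of (M : F.obj (.mk (op S)))
    (e₀ : (F.map f.op.toLoc).toFunctor.obj M ≅ D.obj PUnit.unit)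
    (hcomm : ∀ (Y : C) (f₁ f₂ : Y ⟶ X) (hf : f₂ ≫ f = f₁ ≫ f),
      (F.map f₁.op.toLoc).toFunctor.map e₀.hom ≫ homN D f₁ f₂ hf =
        ((F.mapComp' f.op.toLoc f₁.op.toLoc (f₁ ≫ f).op.toLoc rfl).inv.toNatTrans.app M ≫
          (F.mapComp' f.op.toLoc f₂.op.toLoc (f₁ ≫ f).op.toLoc
            (toLoc_eq₂ f₁ f₂ hf)).hom.toNatTrans.app M) ≫
          (F.map f₂.op.toLoc).toFunctor.map e₀.hom) :
    Nonempty ((F.toDescentData (fun _ : PUnit.{t + 1} => f)).obj M ≅ D) := by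
  refine ⟨Pseudofunctor.DescentData.isoMk (fun _ => e₀) ?_⟩
  intro Y q i₁ i₂ f₁ f₂ hf₁ hf₂
  cases i₁
  cases i₂
  subst hf₁
  have h := hcomm Y f₁ f₂ hf₂
  exact h

end Groth.Agent.Lib.Helper86.DescDDGen
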