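import Mathlib
import Groth.Agent.Lib.Helper86.DescBridge

/-! More element-level consequences of identities between composition isomorphisms. -/

set_option autoImplicit false

open CategoryTheory Opposite ModuleCat
open Groth.Agent.Lib.Helper86.DescBridge

universe u

namespace Groth.Agent.Lib.Helper86.DescGen2

variable {D : Type*} [Category D] (Φ : D ⥤ CommRingCat.{u})

section Pull

variable {b₀ b₁ b₂ : LocallyDiscrete D} (f₁ f₂ : b₀ ⟶ b₁) (g : b₁ ⟶ b₂) (gf₁ gf₂ : b₀ ⟶ b₂)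
  (h₁ : f₁ ≫ g = gf₁) (h₂ : f₂ ≫ g = gf₂) (M : ModuleCat.{u} (Φ.obj b₀.as))

theorem pull_apply_gen
    (ψ₁ : (extendScalars (Φ.map f₁.as).hom).obj M ⟶ (extendScalars (Φ.map f₂.as).hom).obj M)
    (ψ₂ : (extendScalars (Φ.map gf₁.as).hom).obj M ⟶ (extendScalars (Φ.map gf₂.as).hom).obj M)
    (hpull : mcHom Φ f₁ g gf₁ h₁ M ≫ (extendScalars (Φ.map g.as).hom).map ψ₁ ≫
      mcInv Φ f₂ g gf₂ h₂ M = ψ₂) (x : M) :
    ψ₂ (tm (Φ.map gf₁.as).hom 1 x) =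
      U (Φ.map f₂.as).hom (Φ.map g.as).hom (Φ.map gf₂.as).hom (ringComp_eq Φ f₂ g gf₂ h₂) M
        (ψ₁ (tm (Φ.map f₁.as).hom 1 x)) := by
  subst hpull
  simp only [ModuleCat.hom_comp, LinearMap.comp_apply]
  rw [mcHom_tm, map_tm, mcInv_tm_one]

end Pull

section Comm

variable {b₀ b₁ b₂ : LocallyDiscrete D} (f : b₀ ⟶ b₁) (g₁ g₂ : b₁ ⟶ b₂) (fg : b₀ ⟶ b₂)
  (h₁ : f ≫ g₁ = fg) (h₂ : f ≫ g₂ = fg) (M : ModuleCat.{u} (Φ.obj b₀.as))
  (N : ModuleCat.{u} (Φ.obj b₁.as))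

theorem comm_of_apply_gen
    (e₀ : (extendScalars (Φ.map f.as).hom).obj M ⟶ N)
    (ψ : (extendScalars (Φ.map g₁.as).hom).obj N ⟶ (extendScalars (Φ.map g₂.as).hom).obj N)
    (hψ : ∀ m : M, ψ (tm (Φ.map g₁.as).hom 1 (e₀ (tm (Φ.map f.as).hom 1 m))) =
      tm (Φ.map g₂.as).hom 1 (e₀ (tm (Φ.map f.as).hom 1 m))) :
    (extendScalars (Φ.map g₁.as).hom).map e₀ ≫ ψ =
      (mcInv Φ f g₁ fg h₁ M ≫ mcHom Φ f g₂ fg h₂ M) ≫
        (extendScalars (Φ.map g₂.as).hom).map e₀ := by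
  apply hom_ext_tm
  intro y
  induction y using tm_induction with
  | h0 => rw [tm_zero, map_zero, map_zero]
  | h1 s m =>
    have hs : tm (Φ.map g₁.as).hom 1 (tm (Φ.map f.as).hom s m) =
        (Φ.map g₁.as).hom s • tm (Φ.map g₁.as).hom 1 (tm (Φ.map f.as).hom 1 m) := by
      have : tm (Φ.map f.as).hom s m = s • tm (Φ.map f.as).hom 1 m := by rw [smul_tm, mul_one]
      rw [this, tm_smul, mul_one, smul_tm, mul_one]
    rw [hs, map_smul, map_smul]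
    congr 1
    simp only [ModuleCat.hom_comp, LinearMap.comp_apply]
    rw [map_tm, hψ, mcInv_tm, mcHom_tm, map_tm]
  | h2 x y hx hy => rw [tm_add, map_add, map_add, hx, hy]

end Comm

end Groth.Agent.Lib.Helper86.DescGen2
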