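import Mathlib
import Groth.Agent.Lib.Helper86.DescGen2
import Groth.Agent.Lib.Helper86.DescDDGen

/-! Element-level consequences of the axioms of descent data, for the pseudofunctor of modules. -/

set_option autoImplicit false

open CategoryTheory Opposite ModuleCat
open Groth.Agent.Lib.Helper86.DescBridge Groth.Agent.Lib.Helper86.DescGen2
  Groth.Agent.Lib.Helper86.DescDDGen

universe u v₁ u₁

namespace Groth.Agent.Lib.Helper86.DescDDNat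

variable {C : Type u₁} [Category.{v₁} C] (Φ : Cᵒᵖ ⥤ CommRingCat.{u})

/-- view an object of the pseudofunctor as a module -/
abbrev asMod {Z : C} (M : (PF Φ).obj (.mk (op Z))) : ModuleCat.{u} (Φ.obj (op Z)) := M

section Self

variable {X Y : C} (f₁ f₂ f₃ : Y ⟶ X) (N : (PF Φ).obj (.mk (op X)))

set_option maxHeartbeats 1000000 in
set_option backward.isDefEq.respectTransparency false in
theorem self_apply_native
    (ψ : ((PF Φ).map f₁.op.toLoc).toFunctor.obj N ⟶ ((PF Φ).map f₁.op.toLoc).toFunctor.obj N)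
    (ψ' : (extendScalars (Φ.map f₁.op).hom).obj (asMod Φ N) ⟶
      (extendScalars (Φ.map f₁.op).hom).obj (asMod Φ N))
    (hψ : ψ' = ψ) (h : ψ = 𝟙 _) (y : (extendScalars (Φ.map f₁.op).hom).obj (asMod Φ N)) :
    ψ' y = y := by
  subst hψ
  have h' : ψ' = 𝟙 _ := h
  rw [h']
  rfl

set_option maxHeartbeats 1000000 in
set_option backward.isDefEq.respectTransparency false in
theorem comp_apply_native
    (ψ₁₂ : ((PF Φ).map f₁.op.toLoc).toFunctor.obj N ⟶ ((PF Φ).map f₂.op.toLoc).toFunctor.obj N)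
    (ψ₂₃ : ((PF Φ).map f₂.op.toLoc).toFunctor.obj N ⟶ ((PF Φ).map f₃.op.toLoc).toFunctor.obj N)
    (ψ₁₃ : ((PF Φ).map f₁.op.toLoc).toFunctor.obj N ⟶ ((PF Φ).map f₃.op.toLoc).toFunctor.obj N)
    (ψ₁₂' : (extendScalars (Φ.map f₁.op).hom).obj (asMod Φ N) ⟶
      (extendScalars (Φ.map f₂.op).hom).obj (asMod Φ N))
    (ψ₂₃' : (extendScalars (Φ.map f₂.op).hom).obj (asMod Φ N) ⟶
      (extendScalars (Φ.map f₃.op).hom).obj (asMod Φ N))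
    (ψ₁₃' : (extendScalars (Φ.map f₁.op).hom).obj (asMod Φ N) ⟶
      (extendScalars (Φ.map f₃.op).hom).obj (asMod Φ N))
    (h₁₂ : ψ₁₂' = ψ₁₂) (h₂₃ : ψ₂₃' = ψ₂₃) (h₁₃ : ψ₁₃' = ψ₁₃)
    (h : ψ₁₂ ≫ ψ₂₃ = ψ₁₃) (y : (extendScalars (Φ.map f₁.op).hom).obj (asMod Φ N)) :
    ψ₂₃' (ψ₁₂' y) = ψ₁₃' y := by
  subst h₁₂ h₂₃ h₁₃
  have h' : ψ₁₂' ≫ ψ₂₃' = ψ₁₃' := h
  rw [← h']
  rfl

end Self

section Pull

variable {X Y Y' : C} (g : Y' ⟶ Y) (f₁ f₂ : Y ⟶ X) (gf₁ gf₂ : Y' ⟶ X)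
  (hgf₁ : g ≫ f₁ = gf₁) (hgf₂ : g ≫ f₂ = gf₂) (N : (PF Φ).obj (.mk (op X)))

include hgf₂ in
lemma ring_comp : (Φ.map g.op).hom.comp (Φ.map f₂.op).hom = (Φ.map gf₂.op).hom := by
  subst hgf₂
  rw [← CommRingCat.hom_comp, ← Φ.map_comp]
  rfl

set_option maxHeartbeats 1000000 in
set_option backward.isDefEq.respectTransparency false in
theorem pull_apply_native
    (ψ₁ : ((PF Φ).map f₁.op.toLoc).toFunctor.obj N ⟶ ((PF Φ).map f₂.op.toLoc).toFunctor.obj N)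
    (ψ₂ : ((PF Φ).map gf₁.op.toLoc).toFunctor.obj N ⟶ ((PF Φ).map gf₂.op.toLoc).toFunctor.obj N)
    (ψ₁' : (extendScalars (Φ.map f₁.op).hom).obj (asMod Φ N) ⟶
      (extendScalars (Φ.map f₂.op).hom).obj (asMod Φ N))
    (ψ₂' : (extendScalars (Φ.map gf₁.op).hom).obj (asMod Φ N) ⟶
      (extendScalars (Φ.map gf₂.op).hom).obj (asMod Φ N))
    (h₁ : ψ₁' = ψ₁) (h₂ : ψ₂' = ψ₂)
    (hpull : ((PF Φ).mapComp' f₁.op.toLoc g.op.toLoc gf₁.op.toLoc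
        (toLoc_comp g f₁ gf₁ hgf₁)).hom.toNatTrans.app N ≫
      ((PF Φ).map g.op.toLoc).toFunctor.map ψ₁ ≫
        ((PF Φ).mapComp' f₂.op.toLoc g.op.toLoc gf₂.op.toLoc
          (toLoc_comp g f₂ gf₂ hgf₂)).inv.toNatTrans.app N = ψ₂) (x : asMod Φ N) :
    ψ₂' (tm (Φ.map gf₁.op).hom 1 x) =
      U (Φ.map f₂.op).hom (Φ.map g.op).hom (Φ.map gf₂.op).hom (ring_comp Φ g f₂ gf₂ hgf₂)
        (asMod Φ N) (ψ₁' (tm (Φ.map f₁.op).hom 1 x)) := by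
  subst h₁ h₂
  exact pull_apply_gen Φ f₁.op.toLoc f₂.op.toLoc g.op.toLoc gf₁.op.toLoc gf₂.op.toLoc
    (toLoc_comp g f₁ gf₁ hgf₁) (toLoc_comp g f₂ gf₂ hgf₂) (asMod Φ N) ψ₁' ψ₂' hpull x

end Pull

section Comm

variable {S X Y : C} (f : X ⟶ S) (f₁ f₂ : Y ⟶ X) (hf : f₂ ≫ f = f₁ ≫ f)
  (M : (PF Φ).obj (.mk (op S))) (N : (PF Φ).obj (.mk (op X)))

set_option maxHeartbeats 1000000 in
set_option backward.isDefEq.respectTransparency false in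
theorem comm_of_apply_native
    (e₀ : ((PF Φ).map f.op.toLoc).toFunctor.obj M ⟶ N)
    (e₀' : (extendScalars (Φ.map f.op).hom).obj (asMod Φ M) ⟶ asMod Φ N)
    (he : e₀' = e₀)
    (ψ : ((PF Φ).map f₁.op.toLoc).toFunctor.obj N ⟶ ((PF Φ).map f₂.op.toLoc).toFunctor.obj N)
    (ψ' : (extendScalars (Φ.map f₁.op).hom).obj (asMod Φ N) ⟶
      (extendScalars (Φ.map f₂.op).hom).obj (asMod Φ N))
    (hψ : ψ' = ψ)
    (h : ∀ m : asMod Φ M, ψ' (tm (Φ.map f₁.op).hom 1 (e₀' (tm (Φ.map f.op).hom 1 m))) =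
      tm (Φ.map f₂.op).hom 1 (e₀' (tm (Φ.map f.op).hom 1 m))) :
    ((PF Φ).map f₁.op.toLoc).toFunctor.map e₀ ≫ ψ =
      (((PF Φ).mapComp' f.op.toLoc f₁.op.toLoc (f₁ ≫ f).op.toLoc rfl).inv.toNatTrans.app M ≫
        ((PF Φ).mapComp' f.op.toLoc f₂.op.toLoc (f₁ ≫ f).op.toLoc
          (toLoc_eq₂ f₁ f₂ hf)).hom.toNatTrans.app M) ≫
        ((PF Φ).map f₂.op.toLoc).toFunctor.map e₀ := by
  subst he hψ
  exact comm_of_apply_gen Φ f.op.toLoc f₁.op.toLoc f₂.op.toLoc (f₁ ≫ f).op.toLoc rfl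
    (toLoc_eq₂ f₁ f₂ hf) (asMod Φ M) (asMod Φ N) e₀' ψ' h

end Comm

end Groth.Agent.Lib.Helper86.DescDDNat
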