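import Mathlib
import Groth.Agent.Lib.Helper86.DescDDNat
import Groth.Agent.Lib.Helper86.DescEff

/-! Effectivity of descent data for modules along a flat ring map, for the pseudofunctor
`R ↦ ModuleCat R` on `(CommRingCatᵒᵖ)ᵒᵖ`. -/

set_option autoImplicit false

open CategoryTheory Opposite ModuleCat
open Groth.Agent.Lib.Helper86.DescBridge Groth.Agent.Lib.Helper86.DescGen2
  Groth.Agent.Lib.Helper86.DescDDGen Groth.Agent.Lib.Helper86.DescDDNat
  Groth.Agent.Lib.Helper86.DescEff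

universe u

namespace Groth.Agent.Lib.Helper86.DescDDRing

/-- the functor `(CommRingCatᵒᵖ)ᵒᵖ ⥤ CommRingCat` -/
noncomputable abbrev Φ₀ : (CommRingCat.{u}ᵒᵖ)ᵒᵖ ⥤ CommRingCat.{u} := unopUnop CommRingCat.{u}

variable {A B : Type u} [CommRing A] [CommRing B] [Algebra A B]

/-- the morphism `Spec B → Spec A` -/
noncomputable abbrev fAB (A B : Type u) [CommRing A] [CommRing B] [Algebra A B] :
    op (CommRingCat.of B) ⟶ op (CommRingCat.of A) := (CommRingCat.ofHom (algebraMap A B)).op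

variable (D : (PF Φ₀.{u}).DescentData (fun _ : PUnit.{u + 1} => fAB A B))

/-- the underlying `B`-module of a descent datum -/
noncomputable abbrev objN : ModuleCat.{u} B := asMod Φ₀ (D.obj PUnit.unit)

lemma hfOf {T' : Type u} [CommRing T'] (f₁ f₂ : B →+* T')
    (h : f₁.comp (algebraMap A B) = f₂.comp (algebraMap A B)) :
    (CommRingCat.ofHom f₂).op ≫ fAB A B = (CommRingCat.ofHom f₁).op ≫ fAB A B := by
  show (CommRingCat.ofHom (algebraMap A B) ≫ CommRingCat.ofHom f₂).op =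
    (CommRingCat.ofHom (algebraMap A B) ≫ CommRingCat.ofHom f₁).op
  rw [← CommRingCat.ofHom_comp, ← CommRingCat.ofHom_comp, h]

/-- the module-level comparison maps of a descent datum -/
noncomputable def homR (T' : Type u) [CommRing T'] (f₁ f₂ : B →+* T')
    (h : f₁.comp (algebraMap A B) = f₂.comp (algebraMap A B)) :
    (extendScalars f₁).obj (objN D) ⟶ (extendScalars f₂).obj (objN D) :=
  homN D (CommRingCat.ofHom f₁).op (CommRingCat.ofHom f₂).op (hfOf f₁ f₂ h)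

lemma op_comp_eq {T' T'' : Type u} [CommRing T'] [CommRing T''] (g : T' →+* T'') (f₁ : B →+* T')
    (f₁' : B →+* T'') (e₁ : g.comp f₁ = f₁') :
    (CommRingCat.ofHom g).op ≫ (CommRingCat.ofHom f₁).op = (CommRingCat.ofHom f₁').op := by
  subst e₁
  rfl

theorem homR_self (T' : Type u) [CommRing T'] (f : B →+* T')
    (h : f.comp (algebraMap A B) = f.comp (algebraMap A B)) (x : objN D) :
    homR D T' f f h (tm f 1 x) = tm f 1 x :=
  self_apply_native Φ₀ (CommRingCat.ofHom f).op (D.obj PUnit.unit)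
    (homN D (CommRingCat.ofHom f).op (CommRingCat.ofHom f).op (hfOf f f h))
    (homR D T' f f h) rfl (homN_self D (CommRingCat.ofHom f).op) (tm f 1 x)

theorem homR_comp (T' : Type u) [CommRing T'] (f₁ f₂ f₃ : B →+* T')
    (h₁₂ : f₁.comp (algebraMap A B) = f₂.comp (algebraMap A B))
    (h₂₃ : f₂.comp (algebraMap A B) = f₃.comp (algebraMap A B))
    (h₁₃ : f₁.comp (algebraMap A B) = f₃.comp (algebraMap A B)) (x : objN D) :
    homR D T' f₂ f₃ h₂₃ (homR D T' f₁ f₂ h₁₂ (tm f₁ 1 x)) = homR D T' f₁ f₃ h₁₃ (tm f₁ 1 x) :=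
  comp_apply_native Φ₀ (CommRingCat.ofHom f₁).op (CommRingCat.ofHom f₂).op
    (CommRingCat.ofHom f₃).op (D.obj PUnit.unit)
    (homN D (CommRingCat.ofHom f₁).op (CommRingCat.ofHom f₂).op (hfOf f₁ f₂ h₁₂))
    (homN D (CommRingCat.ofHom f₂).op (CommRingCat.ofHom f₃).op (hfOf f₂ f₃ h₂₃))
    (homN D (CommRingCat.ofHom f₁).op (CommRingCat.ofHom f₃).op (hfOf f₁ f₃ h₁₃))
    (homR D T' f₁ f₂ h₁₂) (homR D T' f₂ f₃ h₂₃) (homR D T' f₁ f₃ h₁₃) rfl rfl rfl
    (homN_comp D _ _ _ _ _ _) (tm f₁ 1 x)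

theorem homR_pull (T' T'' : Type u) [CommRing T'] [CommRing T''] (g : T' →+* T'')
    (f₁ f₂ : B →+* T') (h : f₁.comp (algebraMap A B) = f₂.comp (algebraMap A B))
    (f₁' f₂' : B →+* T'') (e₁ : g.comp f₁ = f₁') (e₂ : g.comp f₂ = f₂')
    (h' : f₁'.comp (algebraMap A B) = f₂'.comp (algebraMap A B)) (x : objN D) :
    homR D T'' f₁' f₂' h' (tm f₁' 1 x) =
      U f₂ g f₂' e₂ (objN D) (homR D T' f₁ f₂ h (tm f₁ 1 x)) :=
  pull_apply_native Φ₀ (CommRingCat.ofHom g).op (CommRingCat.ofHom f₁).op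
    (CommRingCat.ofHom f₂).op (CommRingCat.ofHom f₁').op (CommRingCat.ofHom f₂').op
    (op_comp_eq g f₁ f₁' e₁) (op_comp_eq g f₂ f₂' e₂) (D.obj PUnit.unit)
    (homN D (CommRingCat.ofHom f₁).op (CommRingCat.ofHom f₂).op (hfOf f₁ f₂ h))
    (homN D (CommRingCat.ofHom f₁').op (CommRingCat.ofHom f₂').op (hfOf f₁' f₂' h'))
    (homR D T' f₁ f₂ h) (homR D T'' f₁' f₂' h') rfl rfl
    (homN_pull D (CommRingCat.ofHom g).op (CommRingCat.ofHom f₁).op (CommRingCat.ofHom f₂).op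
      (hfOf f₁ f₂ h) (CommRingCat.ofHom f₁').op (CommRingCat.ofHom f₂').op
      (op_comp_eq g f₁ f₁' e₁) (op_comp_eq g f₂ f₂' e₂) (hfOf f₁' f₂' h')) x

/-- the module-level descent datum attached to a descent datum -/
noncomputable def toModDD : ModDD (algebraMap A B) (objN D) where
  hom := homR D
  self := homR_self D
  comp := homR_comp D
  pull := homR_pull D

lemma hfOf' {Y : CommRingCat.{u}ᵒᵖ} (f₁ f₂ : Y ⟶ op (CommRingCat.of B))
    (hf : f₂ ≫ fAB A B = f₁ ≫ fAB A B) :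
    f₁.unop.hom.comp (algebraMap A B) = f₂.unop.hom.comp (algebraMap A B) := by
  have h1 := congrArg (fun φ => φ.unop.hom) hf
  exact h1.symm

/-- the native isomorphism attached to an isomorphism of modules -/
noncomputable def nativeIso (M : ModuleCat.{u} A)
    (θ : (extendScalars (algebraMap A B)).obj M ≅ objN D) :
    ((PF Φ₀.{u}).map (fAB A B).op.toLoc).toFunctor.obj M ≅ D.obj PUnit.unit := θ

theorem effective_native [Module.Flat A B] :
    ∃ M : (PF Φ₀.{u}).obj (.mk (op (op (CommRingCat.of A)))),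
      Nonempty (((PF Φ₀.{u}).toDescentData (fun _ : PUnit.{u + 1} => fAB A B)).obj M ≅ D) := by
  obtain ⟨M, θ, hθ, hprop⟩ := effective A (toModDD D)
  refine ⟨M, ?_⟩
  refine nonempty_iso_of D M (nativeIso D M (asIso θ)) ?_
  intro Y f₁ f₂ hf
  exact comm_of_apply_native Φ₀ (fAB A B) f₁ f₂ hf M (D.obj PUnit.unit)
    (nativeIso D M (asIso θ)).hom θ rfl (homN D f₁ f₂ hf)
    (homR D Y.unop f₁.unop.hom f₂.unop.hom (hfOf' f₁ f₂ hf)) rfl
    (fun m => hprop Y.unop f₁.unop.hom f₂.unop.hom (hfOf' f₁ f₂ hf) m)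

end Groth.Agent.Lib.Helper86.DescDDRing
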