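import Mathlib
import Groth.Agent.Lib.Helper86.DescBridge

/-! Flat-module consequences of an equalizer of rings, phrased via `tm` and `U`. -/

set_option autoImplicit false

open CategoryTheory Opposite ModuleCat
open Groth.Agent.Lib.Helper86.DescBridge

universe u

namespace Groth.Agent.Lib.Helper86.DescFlat

variable {A B C : Type u} [CommRing A] [CommRing B] [CommRing C]
  (α : A →+* B) (γ₁ γ₂ : B →+* C) (κ : A →+* C) (h₁ : γ₁.comp α = κ) (h₂ : γ₂.comp α = κ)

/-- `α` as an `A`-linear map `A → B` -/
noncomputable def aLin :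
    letI := Module.compHom B α
    A →ₗ[A] B :=
  letI := Module.compHom B α
  { toFun := α
    map_add' := map_add α
    map_smul' := fun a b => by
      show α (a * b) = α a * α b
      rw [map_mul] }

theorem tm_one_injective (hα : Function.Injective α) (N : ModuleCat.{u} A) [Module.Flat A N] :
    Function.Injective (fun n : N => tm α 1 n) := by
  let _ := Module.compHom B α
  have h1 : Function.Injective (LinearMap.rTensor N (aLin α)) :=
    Module.Flat.rTensor_preserves_injective_linearMap (aLin α) hα
  intro n n' hnn
  have h2 : (LinearMap.rTensor N (aLin α)) ((TensorProduct.lid A N).symm n) =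
      (LinearMap.rTensor N (aLin α)) ((TensorProduct.lid A N).symm n') := by
    simp only [TensorProduct.lid_symm_apply, LinearMap.rTensor_tmul]
    have e : (aLin α) 1 = (1 : B) := map_one α
    rw [e]
    exact hnn
  exact (TensorProduct.lid A N).symm.injective (h1 h2)

include h₁ h₂ in
theorem exists_tm_of_U_eq (N : ModuleCat.{u} A) [Module.Flat A N]
    (heq : ∀ b, γ₁ b = γ₂ b → ∃ a, α a = b)
    (y : (extendScalars α).obj N) (hy : U α γ₁ κ h₁ N y = U α γ₂ κ h₂ N y) :
    ∃ n : N, y = tm α 1 n := by
  let _ := Module.compHom B α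
  let _ := Module.compHom C κ
  let d : B →ₗ[A] C := gLin α γ₁ κ h₁ - gLin α γ₂ κ h₂
  have hex : Function.Exact (aLin α) d := by
    intro b
    constructor
    · intro hb
      have : γ₁ b = γ₂ b := sub_eq_zero.mp hb
      obtain ⟨a, ha⟩ := heq b this
      exact ⟨a, ha⟩
    · rintro ⟨a, rfl⟩
      show γ₁ (α a) - γ₂ (α a) = 0
      have e1 : γ₁ (α a) = κ a := by rw [← h₁]; rfl
      have e2 : γ₂ (α a) = κ a := by rw [← h₂]; rfl
      rw [e1, e2, sub_self]
  have hex2 := Module.Flat.rTensor_exact N hex
  have hy2 : (LinearMap.rTensor N d) y = 0 := by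
    have : LinearMap.rTensor N d = LinearMap.rTensor N (gLin α γ₁ κ h₁) -
        LinearMap.rTensor N (gLin α γ₂ κ h₂) := LinearMap.rTensor_sub _ _
    rw [this, LinearMap.sub_apply, sub_eq_zero]
    exact hy
  have key : ∀ z : TensorProduct A A N, (LinearMap.rTensor N (aLin α)) z =
      tm α 1 (TensorProduct.lid A N z) := by
    intro z
    induction z using TensorProduct.induction_on with
    | zero => simp only [map_zero]; exact (tm_zero α 1).symm
    | tmul a n =>
      simp only [LinearMap.rTensor_tmul, TensorProduct.lid_tmul]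
      show tm α (α a) n = _
      rw [tm_smul, mul_one]
    | add x x' hx hx' =>
      simp only [map_add]
      rw [hx, hx', tm_add]
      rfl
  obtain ⟨z, hz⟩ := (hex2 y).mp hy2
  exact ⟨TensorProduct.lid A N z, by rw [← hz, key]⟩

end Groth.Agent.Lib.Helper86.DescFlat
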