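import Mathlib

/-! Universally injective maps and split forks: `S ⊗ -` preserves kernels of `S ⊗ -`-split pairs.
(Character module argument, after Joyal–Tierney / Mesablishvili.) -/

set_option autoImplicit false

open TensorProduct

universe u v w w₂ w₃

namespace Groth.Agent.Lib.Helper86.UIChar

variable {R : Type u} [CommRing R] {S : Type v} [AddCommGroup S] [Module R S] (f : R →ₗ[R] S)

section Basic

variable {X : Type w} [AddCommGroup X] [Module R X]

/-- a character of `X` as an `R`-linear map `X → C(R)` -/
noncomputable def toHomR : CharacterModule X →ₗ[R] (X →ₗ[R] CharacterModule R) where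
  toFun c :=
    { toFun := fun x => c.comp (LinearMap.toSpanSingleton R X x).toAddMonoidHom
      map_add' := fun x y => by
        ext a
        show c (a • (x + y)) = c (a • x) + c (a • y)
        rw [smul_add, map_add]
      map_smul' := fun b x => by
        ext a
        show c (a • b • x) = c ((b • a) • x)
        rw [smul_eq_mul, mul_comm, mul_smul] }
  map_add' c c' := rfl
  map_smul' b c := by
    ext x a
    show c (b • a • x) = c ((b • a) • x)
    rw [smul_smul, smul_eq_mul]

@[simp] lemma toHomR_apply (c : CharacterModule X) (x : X) (a : R) :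
    toHomR c x a = c (a • x) := rfl

variable (g : CharacterModule R →ₗ[R] CharacterModule S)

/-- the natural map `C(X) → C(S ⊗ X)` induced by `g : C(R) → C(S)` -/
noncomputable def uMap : CharacterModule X →ₗ[R] CharacterModule (S ⊗[R] X) :=
  (CharacterModule.dual (TensorProduct.comm R S X).toLinearMap) ∘ₗ CharacterModule.uncurry ∘ₗ
    (LinearMap.llcomp R X (CharacterModule R) (CharacterModule S) g) ∘ₗ toHomR

lemma uMap_tmul (c : CharacterModule X) (s : S) (x : X) :
    uMap g c (s ⊗ₜ[R] x) = g (toHomR c x) s := rfl

/-- the unit `X → S ⊗ X` -/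
noncomputable def eta (X : Type w) [AddCommGroup X] [Module R X] : X →ₗ[R] S ⊗[R] X :=
  TensorProduct.mk R S X (f 1)

lemma eta_apply (x : X) : eta f X x = f 1 ⊗ₜ[R] x := rfl

include f in
lemma dual_eta_uMap (hg : (CharacterModule.dual f).comp g = LinearMap.id) (c : CharacterModule X) :
    CharacterModule.dual (eta f X) (uMap g c) = c := by
  ext x
  show uMap g c (f 1 ⊗ₜ[R] x) = c x
  rw [uMap_tmul]
  have h1 : (CharacterModule.dual f) (g (toHomR c x)) = toHomR c x := by
    have := congrArg (fun l : CharacterModule R →ₗ[R] CharacterModule R => l (toHomR c x)) hg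
    simpa using this
  have h2 : ((CharacterModule.dual f) (g (toHomR c x))) (1 : R) = (toHomR c x) (1 : R) := by
    rw [h1]
  rw [toHomR_apply, one_smul] at h2
  exact h2

variable {X' : Type w₂} [AddCommGroup X'] [Module R X']

lemma uMap_dual (k : X →ₗ[R] X') (c' : CharacterModule X') :
    uMap g (CharacterModule.dual k c') = CharacterModule.dual (k.lTensor S) (uMap g c') := by
  ext z
  induction z using TensorProduct.induction_on with
  | zero => simp
  | tmul s x =>
    show uMap g (CharacterModule.dual k c') (s ⊗ₜ x) = uMap g c' (s ⊗ₜ k x)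
    rw [uMap_tmul, uMap_tmul]
    congr 2
    ext a
    show c' (k (a • x)) = c' (a • k x)
    rw [map_smul]
  | add z z' hz hz' => rw [map_add, map_add, hz, hz']

lemma dual_eta_dual (k : X →ₗ[R] X') (c'' : CharacterModule (S ⊗[R] X')) :
    CharacterModule.dual (eta f X) (CharacterModule.dual (k.lTensor S) c'') =
      CharacterModule.dual k (CharacterModule.dual (eta f X') c'') := by
  ext x
  show c'' ((k.lTensor S) (f 1 ⊗ₜ x)) = c'' (f 1 ⊗ₜ k x)
  rw [LinearMap.lTensor_tmul]

end Basic

section Split

variable {X : Type w} {Y : Type w₂} {E : Type w₃} [AddCommGroup X] [Module R X]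
  [AddCommGroup Y] [Module R Y] [AddCommGroup E] [Module R E]
  (g : CharacterModule R →ₗ[R] CharacterModule S)
  (d : X →ₗ[R] Y)
  (j : E →ₗ[R] S ⊗[R] X) (r : S ⊗[R] X →ₗ[R] E) (q : S ⊗[R] Y →ₗ[R] S ⊗[R] X)

/-- the "projector" on `C(X)` -/
noncomputable def PP : CharacterModule X →ₗ[R] CharacterModule X :=
  CharacterModule.dual (eta f X) ∘ₗ CharacterModule.dual r ∘ₗ CharacterModule.dual j ∘ₗ uMap g

/-- the homotopy `C(X) → C(Y)` -/
noncomputable def hh : CharacterModule X →ₗ[R] CharacterModule Y :=
  CharacterModule.dual (eta f Y) ∘ₗ CharacterModule.dual q ∘ₗ uMap g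

lemma PP_dual (h1 : (d.lTensor S) ∘ₗ j = 0) (c' : CharacterModule Y) :
    PP f g j r (CharacterModule.dual d c') = 0 := by
  show CharacterModule.dual (eta f X) (CharacterModule.dual r (CharacterModule.dual j
    (uMap g (CharacterModule.dual d c')))) = 0
  rw [uMap_dual]
  have : CharacterModule.dual j (CharacterModule.dual (d.lTensor S) (uMap g c')) = 0 := by
    have e := CharacterModule.dual_comp j (d.lTensor S)
    rw [h1, CharacterModule.dual_zero] at e
    have e2 := congrArg (fun l => l (uMap g c')) e
    exact e2.symm
  rw [this, map_zero, map_zero]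

lemma eq_PP_add (hg : (CharacterModule.dual f).comp g = LinearMap.id)
    (h3 : j ∘ₗ r + q ∘ₗ (d.lTensor S) = LinearMap.id) (c : CharacterModule X) :
    c = PP f g j r c + CharacterModule.dual d (hh f g q c) := by
  have e1 : uMap g c = CharacterModule.dual r (CharacterModule.dual j (uMap g c)) +
      CharacterModule.dual (d.lTensor S) (CharacterModule.dual q (uMap g c)) := by
    ext z
    have := congrArg (fun l : S ⊗[R] X →ₗ[R] S ⊗[R] X => uMap g c (l z)) h3
    simp only [LinearMap.add_apply, LinearMap.comp_apply, LinearMap.id_apply, map_add] at this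
    exact this.symm
  have e2 := congrArg (CharacterModule.dual (eta f X)) e1
  rw [dual_eta_uMap f g hg, map_add, dual_eta_dual] at e2
  exact e2

/-- characters killing the kernel of `d` factor through `d` -/
lemma exists_dual_eq (c : CharacterModule X)
    (hc : CharacterModule.dual (LinearMap.ker d).subtype c = 0) :
    ∃ c' : CharacterModule Y, c = CharacterModule.dual d c' := by
  have hker : ∀ x, d x = 0 → c x = 0 := fun x hx => by
    have := congrArg (fun l : CharacterModule (LinearMap.ker d) => l ⟨x, hx⟩) hc
    exact this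
  have hsurj : Function.Surjective d.rangeRestrict := d.surjective_rangeRestrict
  let σ := Function.surjInv hsurj
  have hσ : ∀ y, d.rangeRestrict (σ y) = y := Function.surjInv_eq hsurj
  have hwd : ∀ x x', d x = d x' → c x = c x' := fun x x' hxx => by
    have : c (x - x') = 0 := hker _ (by rw [map_sub, hxx, sub_self])
    rw [map_sub, sub_eq_zero] at this
    exact this
  have hval : ∀ y : LinearMap.range d, d (σ y) = (y : Y) := fun y =>
    congrArg Subtype.val (hσ y)
  let cbar : CharacterModule (LinearMap.range d) :=
    AddMonoidHom.mk' (fun y => c (σ y)) (fun y y' => by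
      rw [← map_add]
      apply hwd
      rw [map_add, hval, hval, hval]
      rfl)
  obtain ⟨c', hc'⟩ := CharacterModule.dual_surjective_of_injective (LinearMap.range d).subtype
    Subtype.val_injective cbar
  refine ⟨c', ?_⟩
  ext x
  have h5 : c' (d x) = cbar (d.rangeRestrict x) := by
    have := congrArg (fun l : CharacterModule (LinearMap.range d) => l (d.rangeRestrict x)) hc'
    exact this
  show c x = c' (d x)
  rw [h5]
  show c x = c (σ (d.rangeRestrict x))
  apply hwd
  rw [hval]
  rfl

section Main

variable (hg : (CharacterModule.dual f).comp g = LinearMap.id)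
  (h1 : (d.lTensor S) ∘ₗ j = 0) (h3 : j ∘ₗ r + q ∘ₗ (d.lTensor S) = LinearMap.id)

include h1 in
lemma PP_eq_of_dual_eq (c₁ c₂ : CharacterModule X)
    (h : CharacterModule.dual (LinearMap.ker d).subtype c₁ =
      CharacterModule.dual (LinearMap.ker d).subtype c₂) :
    PP f g j r c₁ = PP f g j r c₂ := by
  have h0 : CharacterModule.dual (LinearMap.ker d).subtype (c₁ - c₂) = 0 := by
    rw [map_sub, h, sub_self]
  obtain ⟨c', hc'⟩ := exists_dual_eq d (c₁ - c₂) h0
  have := PP_dual f g d j r h1 c'
  rw [← hc', map_sub, sub_eq_zero] at this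
  exact this

include hg h3 in
lemma dual_subtype_PP (c : CharacterModule X) :
    CharacterModule.dual (LinearMap.ker d).subtype (PP f g j r c) =
      CharacterModule.dual (LinearMap.ker d).subtype c := by
  have e := eq_PP_add f g d j r q hg h3 c
  have e2 := congrArg (CharacterModule.dual (LinearMap.ker d).subtype) e
  rw [map_add] at e2
  have e3 : CharacterModule.dual (LinearMap.ker d).subtype
      (CharacterModule.dual d (hh f g q c)) = 0 := by
    ext k
    show (hh f g q c) (d (k : X)) = 0
    rw [LinearMap.mem_ker.mp k.2, map_zero]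
  rw [e3, add_zero] at e2
  exact e2.symm

include hg h1 h3 in
theorem lTensor_ker_injective :
    Function.Injective ((LinearMap.ker d).subtype.lTensor S) := by
  rw [← CharacterModule.dual_surjective_iff_injective]
  intro c
  have hsurj : Function.Surjective (CharacterModule.dual (R := R) (LinearMap.ker d).subtype) :=
    CharacterModule.dual_surjective_of_injective _ Subtype.val_injective
  let σ := Function.surjInv hsurj
  have hσ : ∀ y, CharacterModule.dual (LinearMap.ker d).subtype (σ y) = y :=
    Function.surjInv_eq hsurj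
  let γ : S →ₗ[R] CharacterModule (LinearMap.ker d) := CharacterModule.curry c
  let γ' : S →ₗ[R] CharacterModule X :=
    { toFun := fun s => PP f g j r (σ (γ s))
      map_add' := fun s s' => by
        rw [← map_add]
        apply PP_eq_of_dual_eq f g d j r h1
        simp only [map_add, hσ]
      map_smul' := fun a s => by
        rw [RingHom.id_apply, ← map_smul]
        apply PP_eq_of_dual_eq f g d j r h1
        simp only [map_smul, hσ] }
  refine ⟨CharacterModule.uncurry γ', ?_⟩
  ext z
  induction z using TensorProduct.induction_on with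
  | zero => simp
  | tmul s k =>
    show (PP f g j r (σ (γ s))) ((LinearMap.ker d).subtype k) = c (s ⊗ₜ k)
    have e := dual_subtype_PP f g d j r q hg h3 (σ (γ s))
    rw [hσ] at e
    have e2 := congrArg (fun l : CharacterModule (LinearMap.ker d) => l k) e
    exact e2
  | add z z' hz hz' => rw [map_add, map_add, hz, hz']

include hg h1 h3 in
theorem lTensor_ker_exact (w : S ⊗[R] X) (hw : d.lTensor S w = 0) :
    ∃ z, (LinearMap.ker d).subtype.lTensor S z = w := by
  by_contra hcon
  let Rg := LinearMap.range ((LinearMap.ker d).subtype.lTensor S)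
  have hw' : Rg.mkQ w ≠ 0 := by
    intro h0
    rw [Submodule.mkQ_apply, Submodule.Quotient.mk_eq_zero] at h0
    exact hcon h0
  obtain ⟨cbar, hcbar⟩ := CharacterModule.exists_character_apply_ne_zero_of_ne_zero hw'
  let c : CharacterModule (S ⊗[R] X) := CharacterModule.dual Rg.mkQ cbar
  have hc : ∀ z, c ((LinearMap.ker d).subtype.lTensor S z) = 0 := fun z => by
    show cbar (Rg.mkQ _) = 0
    have : Rg.mkQ ((LinearMap.ker d).subtype.lTensor S z) = 0 := by
      rw [Submodule.mkQ_apply, Submodule.Quotient.mk_eq_zero]
      exact ⟨z, rfl⟩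
    rw [this, map_zero]
  let γ : S →ₗ[R] CharacterModule X := CharacterModule.curry c
  have hγ : ∀ s, γ s = CharacterModule.dual d (hh f g q (γ s)) := fun s => by
    have h0 : CharacterModule.dual (LinearMap.ker d).subtype (γ s) = 0 := by
      ext k
      show c (s ⊗ₜ (k : X)) = 0
      have := hc (s ⊗ₜ k)
      rw [LinearMap.lTensor_tmul] at this
      exact this
    obtain ⟨c', hc'⟩ := exists_dual_eq d (γ s) h0
    have e := eq_PP_add f g d j r q hg h3 (γ s)
    have e0 : PP f g j r (γ s) = 0 := by
      rw [hc']
      exact PP_dual f g d j r h1 c'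
    rw [e0, zero_add] at e
    exact e
  let c' : CharacterModule (S ⊗[R] Y) := CharacterModule.uncurry ((hh f g q) ∘ₗ γ)
  have hcc : c = CharacterModule.dual (d.lTensor S) c' := by
    ext z
    induction z using TensorProduct.induction_on with
    | zero => simp
    | tmul s x =>
      show (γ s) x = (hh f g q (γ s)) (d x)
      have := congrArg (fun l : CharacterModule X => l x) (hγ s)
      exact this
    | add z z' hz hz' => rw [map_add, map_add, hz, hz']
  apply hcbar
  show c w = 0
  rw [hcc]
  show c' (d.lTensor S w) = 0
  rw [hw, map_zero]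

end Main

end Split

section H0

variable {X : Type w} [AddCommGroup X] [Module R X]
  (g : CharacterModule R →ₗ[R] CharacterModule S)
  (hg : (CharacterModule.dual f).comp g = LinearMap.id)

include hg in
theorem eta_injective : Function.Injective (eta f X) := by
  rw [← CharacterModule.dual_surjective_iff_injective]
  intro c
  exact ⟨uMap g c, dual_eta_uMap f g hg c⟩

lemma lTensor_eta {X' : Type w₂} [AddCommGroup X'] [Module R X'] (k : X →ₗ[R] X') (x : X) :
    (k.lTensor S) (eta f X x) = eta f X' (k x) := by
  rw [eta_apply, eta_apply, LinearMap.lTensor_tmul]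

include hg in
/-- exactness of the Amitsur complex in degree zero, for a universally injective map -/
theorem exists_eta_eq (y : S ⊗[R] X)
    (hy : eta f (S ⊗[R] X) y = ((eta f X).lTensor S) y) : ∃ x, y = eta f X x := by
  let Rg := LinearMap.range (eta f X)
  have h1 : (Rg.mkQ.lTensor S) (((eta f X).lTensor S) y) = 0 := by
    rw [← LinearMap.comp_apply, ← LinearMap.lTensor_comp]
    have : Rg.mkQ ∘ₗ eta f X = 0 := by
      ext x
      show Rg.mkQ (eta f X x) = 0
      rw [Submodule.mkQ_apply, Submodule.Quotient.mk_eq_zero]
      exact ⟨x, rfl⟩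
    rw [this, LinearMap.lTensor_zero, LinearMap.zero_apply]
  rw [← hy, lTensor_eta] at h1
  have h2 : Rg.mkQ y = 0 := by
    apply eta_injective f g hg
    rw [h1, map_zero]
  rw [Submodule.mkQ_apply, Submodule.Quotient.mk_eq_zero] at h2
  obtain ⟨x, hx⟩ := h2
  exact ⟨x, hx.symm⟩

include hg in
/-- a more flexible form of `exists_eta_eq` -/
theorem exists_eq_of_eta_eq {Z : Type w₂} [AddCommGroup Z] [Module R Z] (ι : X →ₗ[R] Z)
    (y : Z) (y' : S ⊗[R] X) (hy : eta f Z y = (ι.lTensor S) y') : ∃ x, y = ι x := by
  let Rg := LinearMap.range ι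
  have h1 : (Rg.mkQ.lTensor S) ((ι.lTensor S) y') = 0 := by
    rw [← LinearMap.comp_apply, ← LinearMap.lTensor_comp]
    have : Rg.mkQ ∘ₗ ι = 0 := by
      ext x
      show Rg.mkQ (ι x) = 0
      rw [Submodule.mkQ_apply, Submodule.Quotient.mk_eq_zero]
      exact ⟨x, rfl⟩
    rw [this, LinearMap.lTensor_zero, LinearMap.zero_apply]
  rw [← hy, lTensor_eta] at h1
  have h2 : Rg.mkQ y = 0 := by
    apply eta_injective f g hg
    rw [h1, map_zero]
  rw [Submodule.mkQ_apply, Submodule.Quotient.mk_eq_zero] at h2
  obtain ⟨x, hx⟩ := h2
  exact ⟨x, hx.symm⟩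

end H0

section OfUI

variable {R : Type u} [CommRing R] {S : Type u} [AddCommGroup S] [Module R S] (f : R →ₗ[R] S)

/-- a universally injective map has a section on character modules -/
theorem exists_section (h : ∀ (P : Type u) [AddCommGroup P] [Module R P],
    Function.Injective (f.lTensor P)) :
    ∃ g : CharacterModule R →ₗ[R] CharacterModule S,
      (CharacterModule.dual f).comp g = LinearMap.id := by
  have hinj := h (CharacterModule R)
  have hsurj : Function.Surjective (CharacterModule.dual (f.lTensor (CharacterModule R))) :=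
    CharacterModule.dual_surjective_of_injective _ hinj
  obtain ⟨c', hc'⟩ := hsurj (CharacterModule.uncurry
    (LinearMap.id : CharacterModule R →ₗ[R] CharacterModule R))
  refine ⟨CharacterModule.curry c', ?_⟩
  apply LinearMap.ext
  intro φ
  apply CharacterModule.ext
  intro m
  have h1 : (CharacterModule.dual (f.lTensor (CharacterModule R)) c') (φ ⊗ₜ[R] m) =
      (CharacterModule.uncurry (LinearMap.id : CharacterModule R →ₗ[R] CharacterModule R))
        (φ ⊗ₜ[R] m) := by rw [hc']
  exact h1

end OfUI

end Groth.Agent.Lib.Helper86.UIChar
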