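import Mathlib
import Groth.Agent.Lib.Helper86.DescEff
import Groth.Agent.Lib.Helper86.DescFlat
import Groth.Agent.Lib.Helper86.UIChar

/-! Effectivity of module-level descent data along a universally injective ring map. -/

set_option autoImplicit false

open CategoryTheory ModuleCat TensorProduct
open Groth.Agent.Lib.Helper86.DescBridge Groth.Agent.Lib.Helper86.DescPB
  Groth.Agent.Lib.Helper86.DescEff Groth.Agent.Lib.Helper86.DescFlat

universe u

namespace Groth.Agent.Lib.Helper86.DescEffUI

section Gen

variable (A : Type u) {B : Type u} [CommRing A] [CommRing B] [Algebra A B] {N : ModuleCat.{u} B}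
  (dd : ModDD (algebraMap A B) N)

/-- effectivity from the two exactness properties of `B ⊗ -` on the kernel sequence -/
theorem effective_of
    (hinj : Function.Injective ((extendScalars (algebraMap A B)).map (incl A dd)))
    (hex : ∀ w : (extendScalars (algebraMap A B)).obj (NA A N),
      (extendScalars (algebraMap A B)).map (dD A dd) w = 0 →
        ∃ z, (extendScalars (algebraMap A B)).map (incl A dd) z = w) :
    ∃ (M : ModuleCat.{u} A) (θ : (extendScalars (algebraMap A B)).obj M ⟶ N), IsIso θ ∧
      ∀ (T' : Type u) [CommRing T'] (f₁ f₂ : B →+* T')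
        (h : f₁.comp (algebraMap A B) = f₂.comp (algebraMap A B)) (m : M),
        dd.hom T' f₁ f₂ h (tm f₁ 1 (θ (tm (algebraMap A B) 1 m))) =
          tm f₂ 1 (θ (tm (algebraMap A B) 1 m)) := by
  obtain ⟨κ, hκ⟩ := exists_addEquiv (A := A) (B := B) (C := B) N
  obtain ⟨κ₃, hκ₃⟩ := exists_addEquiv (A := A) (B := B) (C := B ⊗[A] B) (N' A N)
  refine ⟨MM A dd, theta A dd, ?_, ?_⟩
  · rw [ConcreteCategory.isIso_iff_bijective]
    constructor
    · intro z z' hzz
      have h1 := rho_theta A dd κ hκ z
      have h2 := rho_theta A dd κ hκ z'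
      rw [hzz] at h1
      exact hinj (κ.injective (h1.symm.trans h2))
    · intro n
      set w := κ.symm (rho₀ A dd n) with hw
      have hκw : κ w = rho₀ A dd n := κ.apply_symm_apply _
      have h1 := key₁ A dd κ hκ κ₃ hκ₃ w
      have h2 := key₂ A κ hκ κ₃ hκ₃ w
      rw [hκw] at h1 h2
      rw [← rho_h₁_h₂] at h1
      rw [← rho_h₁_h₃] at h2
      have h3 : dd.hom (T₃ A B) (h₂ A B) (h₃ A B) (h₂₃ A B)
          (dd.rho (T₃ A B) (h₁ A B) (h₂ A B) (h₁₂ A B) n) =
          dd.rho (T₃ A B) (h₁ A B) (h₃ A B) (h₁₃ A B) n :=
        dd.comp (T₃ A B) (h₁ A B) (h₂ A B) (h₃ A B) (h₁₂ A B) (h₂₃ A B) (h₁₃ A B) n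
      rw [h3] at h1
      have h4 : (extendScalars (algebraMap A B)).map (d₁ A dd) w =
          (extendScalars (algebraMap A B)).map (d₂ A (N := N)) w :=
        κ₃.injective (h1.trans h2.symm)
      have h5 : (extendScalars (algebraMap A B)).map (dD A dd) w = 0 := by
        rw [map_dD, h4, sub_self]
      obtain ⟨z, hz⟩ := hex w h5
      refine ⟨z, ?_⟩
      apply rho₀_injective A dd
      rw [rho_theta A dd κ hκ z, hz, hκw]
  · intro T' _ f₁ f₂ h m
    have e : theta A dd (tm (algebraMap A B) 1 m) = (show N from (m : NA A N)) := by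
      rw [theta_tm, one_smul]
    rw [e]
    exact hom_of_rho₀_eq A dd _ (rho₀_mem A dd m) T' f₁ f₂ h

/-- `B ⊗ (d₁ - d₂)` kills `κ⁻¹ ρ₀` (the cocycle condition) -/
lemma map_dD_kappa_symm
    (κ : (extendScalars (algebraMap A B)).obj (NA A N) ≃+ N' A N)
    (hκ : ∀ (b : B) (n : N), κ (tm (algebraMap A B) b (n : NA A N)) = tm (g₂ A B) (b ⊗ₜ 1) n)
    (n : N) :
    (extendScalars (algebraMap A B)).map (dD A dd) (κ.symm (rho₀ A dd n)) = 0 := by
  obtain ⟨κ₃, hκ₃⟩ := exists_addEquiv (A := A) (B := B) (C := B ⊗[A] B) (N' A N)
  set w := κ.symm (rho₀ A dd n) with hw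
  have hκw : κ w = rho₀ A dd n := κ.apply_symm_apply _
  have h1 := key₁ A dd κ hκ κ₃ hκ₃ w
  have h2 := key₂ A κ hκ κ₃ hκ₃ w
  rw [hκw] at h1 h2
  rw [← rho_h₁_h₂] at h1
  rw [← rho_h₁_h₃] at h2
  have h3 : dd.hom (T₃ A B) (h₂ A B) (h₃ A B) (h₂₃ A B)
      (dd.rho (T₃ A B) (h₁ A B) (h₂ A B) (h₁₂ A B) n) =
      dd.rho (T₃ A B) (h₁ A B) (h₃ A B) (h₁₃ A B) n :=
    dd.comp (T₃ A B) (h₁ A B) (h₂ A B) (h₃ A B) (h₁₂ A B) (h₂₃ A B) (h₁₃ A B) n
  rw [h3] at h1
  have h4 : (extendScalars (algebraMap A B)).map (d₁ A dd) w =
      (extendScalars (algebraMap A B)).map (d₂ A (N := N)) w :=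
    κ₃.injective (h1.trans h2.symm)
  rw [map_dD, h4, sub_self]

/-- `κ` is semilinear along `g₁` -/
lemma kappa_smul
    (κ : (extendScalars (algebraMap A B)).obj (NA A N) ≃+ N' A N)
    (hκ : ∀ (b : B) (n : N), κ (tm (algebraMap A B) b (n : NA A N)) = tm (g₂ A B) (b ⊗ₜ 1) n)
    (b : B) (w : (extendScalars (algebraMap A B)).obj (NA A N)) :
    κ (b • w) = g₁ A B b • κ w := by
  induction w using tm_induction with
  | h0 => rw [smul_zero, map_zero, smul_zero]
  | h1 s n =>
    rw [smul_tm, hκ, hκ, smul_tm]
    congr 1
    show (b * s) ⊗ₜ[A] (1 : B) = (b ⊗ₜ[A] (1 : B)) * (s ⊗ₜ[A] (1 : B))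
    rw [Algebra.TensorProduct.tmul_mul_tmul, mul_one]
  | h2 x y hx hy => rw [smul_add, map_add, map_add, hx, hy, smul_add]

lemma kappa_symm_smul
    (κ : (extendScalars (algebraMap A B)).obj (NA A N) ≃+ N' A N)
    (hκ : ∀ (b : B) (n : N), κ (tm (algebraMap A B) b (n : NA A N)) = tm (g₂ A B) (b ⊗ₜ 1) n)
    (b : B) (y : N' A N) :
    κ.symm (g₁ A B b • y) = b • κ.symm y := by
  apply κ.injective
  rw [kappa_smul A κ hκ, κ.apply_symm_apply, κ.apply_symm_apply]

end Gen

section UI

variable (A : Type u) {B : Type u} [CommRing A] [CommRing B] [Algebra A B] {N : ModuleCat.{u} B}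
  (dd : ModDD (algebraMap A B) N)

/-- the `A`-action on `B ⊗_A M` (through the left factor) is the restriction of the `B`-action -/
lemma smul_eq_algebraMap_smul (M : ModuleCat.{u} A) (a : A)
    (w : (extendScalars (algebraMap A B)).obj M) :
    (letI := Module.compHom B (algebraMap A B)
     (a • (show TensorProduct A B M from w) : TensorProduct A B M)) = (algebraMap A B a) • w := by
  let _ : Module A B := Module.compHom B (algebraMap A B)
  have key : ∀ w' : TensorProduct A B M,
      a • w' = ((algebraMap A B a) • (show (extendScalars (algebraMap A B)).obj M from w') :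
        (extendScalars (algebraMap A B)).obj M) := by
    intro w'
    induction w' using TensorProduct.induction_on with
    | zero =>
      rw [smul_zero]
      exact (smul_zero (A := (extendScalars (algebraMap A B)).obj M) (algebraMap A B a)).symm
    | tmul s m => rfl
    | add x y hx hy =>
      rw [smul_add, hx, hy]
      exact (smul_add (algebraMap A B a)
        (show (extendScalars (algebraMap A B)).obj M from x)
        (show (extendScalars (algebraMap A B)).obj M from y)).symm
  exact key w

/-- the two exactness properties, from a section of the dual of `A → B` -/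
theorem hinj_hex_of_section
    (hs : letI := Module.compHom B (algebraMap A B)
      ∃ g : CharacterModule A →ₗ[A] CharacterModule B,
        (CharacterModule.dual (aLin (algebraMap A B))).comp g = LinearMap.id) :
    Function.Injective ((extendScalars (algebraMap A B)).map (incl A dd)) ∧
    ∀ w : (extendScalars (algebraMap A B)).obj (NA A N),
      (extendScalars (algebraMap A B)).map (dD A dd) w = 0 →
        ∃ z, (extendScalars (algebraMap A B)).map (incl A dd) z = w := by
  let _ : Module A B := Module.compHom B (algebraMap A B)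
  obtain ⟨g, hg⟩ := hs
  obtain ⟨κ, hκ⟩ := exists_addEquiv (A := A) (B := B) (C := B) N
  -- the maps
  let r : TensorProduct A B (NA A N) →ₗ[A] (NA A N) :=
    TensorProduct.lift
      { toFun := fun b =>
          { toFun := fun n => (show NA A N from (b • (show N from n) : N))
            map_add' := fun n n' => smul_add b (show N from n) (show N from n')
            map_smul' := fun a n => by
              show b • (algebraMap A B a • (show N from n)) = algebraMap A B a • (b • (show N from n))
              rw [smul_comm] }
        map_add' := fun b b' => by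
          ext n
          exact add_smul b b' (show N from n)
        map_smul' := fun a b => by
          ext n
          show (algebraMap A B a * b) • (show N from n) = algebraMap A B a • (b • (show N from n))
          rw [mul_smul] }
  have hr : ∀ (b : B) (n : NA A N), r (b ⊗ₜ[A] n) = (show NA A N from (b • (show N from n) : N)) :=
    fun b n => rfl
  let j : (NA A N) →ₗ[A] TensorProduct A B (NA A N) :=
    { toFun := fun n => κ.symm (rho₀ A dd (show N from n))
      map_add' := fun n n' => by
        show κ.symm (rho₀ A dd ((show N from n) + (show N from n'))) = _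
        rw [rho₀_add, map_add]
        rfl
      map_smul' := fun a n => by
        show κ.symm (rho₀ A dd (algebraMap A B a • (show N from n))) = _
        rw [rho₀_smul', kappa_symm_smul A κ hκ]
        exact (smul_eq_algebraMap_smul A (NA A N) a _).symm }
  have hj : ∀ n : NA A N, j n = κ.symm (rho₀ A dd (show N from n)) := fun n => rfl
  have hAB : ∀ (a : A) (w : (extendScalars (algebraMap A B)).obj (NA A N)),
      (a • (show TensorProduct A B (NA A N) from w) : TensorProduct A B (NA A N)) =
        (algebraMap A B a) • w := smul_eq_algebraMap_smul A (NA A N)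
  let q : TensorProduct A B (N'A A N) →ₗ[A] TensorProduct A B (NA A N) :=
    TensorProduct.lift
      { toFun := fun b =>
          { toFun := fun y => -(b • κ.symm (show N' A N from y))
            map_add' := fun y y' => by
              show -(b • κ.symm ((show N' A N from y) + (show N' A N from y'))) = _
              rw [map_add, smul_add, neg_add]
              rfl
            map_smul' := fun a y => by
              show (-(b • κ.symm (g₁ A B (algebraMap A B a) • (show N' A N from y))) :
                (extendScalars (algebraMap A B)).obj (NA A N)) = _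
              rw [kappa_symm_smul A κ hκ, smul_comm, ← smul_neg]
              exact (hAB a _).symm }
        map_add' := fun b b' => by
          ext y
          show -((b + b') • κ.symm (show N' A N from y)) = _
          rw [add_smul, neg_add]
          rfl
        map_smul' := fun a b => by
          ext y
          show (-((algebraMap A B a * b) • κ.symm (show N' A N from y)) :
            (extendScalars (algebraMap A B)).obj (NA A N)) = _
          rw [mul_smul, ← smul_neg]
          exact (hAB a _).symm }
  have hq : ∀ (b : B) (y : N'A A N), q (b ⊗ₜ[A] y) = -(b • κ.symm (show N' A N from y)) :=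
    fun b y => rfl
  let d : (NA A N) →ₗ[A] (N'A A N) := (dD A dd).hom
  have hd : ∀ w : (extendScalars (algebraMap A B)).obj (NA A N),
      (LinearMap.lTensor B d) w = (extendScalars (algebraMap A B)).map (dD A dd) w :=
    fun w => (map_eq_lTensor (algebraMap A B) (dD A dd) w).symm
  have h1 : (LinearMap.lTensor B d) ∘ₗ j = 0 := by
    ext n
    show (LinearMap.lTensor B d) (j n) = 0
    rw [hj, hd]
    exact map_dD_kappa_symm A dd κ hκ _
  have hk1 : ∀ n : N, κ.symm (tm (g₂ A B) 1 n) = tm (algebraMap A B) 1 (show NA A N from n) := by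
    intro n
    apply κ.injective
    rw [κ.apply_symm_apply, hκ]
    rfl
  have h3 : j ∘ₗ r + q ∘ₗ (LinearMap.lTensor B d) = LinearMap.id := by
    apply TensorProduct.ext'
    intro b n
    show j (r (b ⊗ₜ[A] n)) + q ((LinearMap.lTensor B d) (b ⊗ₜ[A] n)) = b ⊗ₜ[A] n
    rw [LinearMap.lTensor_tmul, hr, hj, hq]
    have e1 : rho₀ A dd (b • (show N from n)) = g₁ A B b • rho₀ A dd (show N from n) :=
      rho₀_smul' A dd b _
    have e2 : (show N' A N from d n) = rho₀ A dd (show N from n) - tm (g₂ A B) 1 (show N from n) :=
      rfl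
    rw [e1, kappa_symm_smul A κ hκ, e2, map_sub, hk1, smul_sub, neg_sub, smul_tm, mul_one]
    exact add_sub_cancel _ _
  have hA := Groth.Agent.Lib.Helper86.UIChar.lTensor_ker_injective (aLin (algebraMap A B))
    g d j r q hg h1 h3
  have hB := Groth.Agent.Lib.Helper86.UIChar.lTensor_ker_exact (aLin (algebraMap A B))
    g d j r q hg h1 h3
  constructor
  · intro z z' hzz
    apply hA
    have e := map_eq_lTensor (algebraMap A B) (incl A dd) z
    have e' := map_eq_lTensor (algebraMap A B) (incl A dd) z'
    exact e.symm.trans (hzz.trans e')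
  · intro w hw
    obtain ⟨z, hz⟩ := hB w ((hd w).trans hw)
    exact ⟨z, (map_eq_lTensor (algebraMap A B) (incl A dd) z).trans hz⟩

/-- effectivity from a section of the dual of `A → B` -/
theorem effective_of_section
    (hs : letI := Module.compHom B (algebraMap A B)
      ∃ g : CharacterModule A →ₗ[A] CharacterModule B,
        (CharacterModule.dual (aLin (algebraMap A B))).comp g = LinearMap.id) :
    ∃ (M : ModuleCat.{u} A) (θ : (extendScalars (algebraMap A B)).obj M ⟶ N), IsIso θ ∧
      ∀ (T' : Type u) [CommRing T'] (f₁ f₂ : B →+* T')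
        (h : f₁.comp (algebraMap A B) = f₂.comp (algebraMap A B)) (m : M),
        dd.hom T' f₁ f₂ h (tm f₁ 1 (θ (tm (algebraMap A B) 1 m))) =
          tm f₂ 1 (θ (tm (algebraMap A B) 1 m)) :=
  effective_of A dd (hinj_hex_of_section A dd hs).1 (hinj_hex_of_section A dd hs).2

omit [Algebra A B] in
lemma exists_section_aux (alg : Algebra A B)
    (h : ∀ (P : Type u) [AddCommGroup P] [Module A P],
      Function.Injective (LinearMap.lTensor P (Algebra.linearMap A B)))
    (inst : Module A B) (hinst : inst = alg.toModule)
    (f : A →ₗ[A] B) (hf : ∀ a, f a = algebraMap A B a) :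
    ∃ g : CharacterModule A →ₗ[A] CharacterModule B,
      (CharacterModule.dual f).comp g = LinearMap.id := by
  subst hinst
  have e : f = Algebra.linearMap A B := by
    ext
    rw [hf 1]
    rfl
  subst e
  exact Groth.Agent.Lib.Helper86.UIChar.exists_section _ h

variable (B) in
theorem exists_section_compHom
    (h : ∀ (P : Type u) [AddCommGroup P] [Module A P],
      Function.Injective (LinearMap.lTensor P (Algebra.linearMap A B))) :
    letI := Module.compHom B (algebraMap A B)
    ∃ g : CharacterModule A →ₗ[A] CharacterModule B,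
      (CharacterModule.dual (aLin (algebraMap A B))).comp g = LinearMap.id :=
  exists_section_aux A inferInstance h (Module.compHom B (algebraMap A B)) compHom_eq
    (aLin (algebraMap A B)) (fun _ => rfl)

end UI

end Groth.Agent.Lib.Helper86.DescEffUI
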