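import Mathlib
import Groth.Agent.Lib.Helper86.DescComm2

/-! Fully faithfulness criterion for `toDescentData` of module pseudofunctors. -/

set_option autoImplicit false

open CategoryTheory Opposite ModuleCat
open Groth.Agent.Lib.Helper86.DescBridge Groth.Agent.Lib.Helper86.DescComm2

universe u v₁ u₁

namespace Groth.Agent.Lib.Helper86.DescFF

section ModuleLevel

variable {A B : Type u} [CommRing A] [CommRing B] (α : A →+* B) (M N : ModuleCat.{u} A)

theorem existsUnique_map (hinj : Function.Injective (fun n : N => tm α 1 n))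
    (χ : (extendScalars α).obj M ⟶ (extendScalars α).obj N)
    (hχ : ∀ m : M, ∃ n : N, χ (tm α 1 m) = tm α 1 n) :
    ∃! φ : M ⟶ N, (extendScalars α).map φ = χ := by
  choose φ₀ hφ₀ using hχ
  let φ : M ⟶ N := ModuleCat.ofHom
    { toFun := φ₀
      map_add' := fun m m' => by
        apply hinj
        show tm α 1 (φ₀ (m + m')) = tm α 1 (φ₀ m + φ₀ m')
        rw [← hφ₀, tm_add, map_add, hφ₀, hφ₀, tm_add]
      map_smul' := fun a m => by
        apply hinj
        show tm α 1 (φ₀ (a • m)) = tm α 1 (a • φ₀ m)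
        rw [← hφ₀, tm_smul, tm_smul, ← smul_tm, map_smul, hφ₀, smul_tm] }
  refine ⟨φ, ?_, ?_⟩
  · apply hom_ext_tm
    intro m
    rw [map_tm, hφ₀]
    rfl
  · intro φ' hφ'
    ext m
    apply hinj
    show tm α 1 (φ' m) = tm α 1 (φ₀ m)
    rw [← hφ₀, ← hφ', map_tm]

end ModuleLevel

section Generic

universe v' u' t

variable {C : Type u₁} [Category.{v₁} C] (F : Pseudofunctor (LocallyDiscrete Cᵒᵖ) Cat.{v', u'})
variable {S X : C} (f : X ⟶ S)
variable (M N : F.obj (.mk (op S)))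

theorem bijective_of_existsUnique
    (h : ∀ ψ : (F.toDescentData (fun _ : PUnit.{t + 1} => f)).obj M ⟶
        (F.toDescentData (fun _ : PUnit.{t + 1} => f)).obj N,
      ∃! φ : M ⟶ N, (F.map f.op.toLoc).toFunctor.map φ = ψ.hom PUnit.unit) :
    Function.Bijective (fun φ : M ⟶ N =>
      (F.toDescentData (fun _ : PUnit.{t + 1} => f)).map φ) := by
  constructor
  · intro φ φ' hφ
    obtain ⟨φ₀, -, huniq⟩ := h ((F.toDescentData (fun _ : PUnit.{t + 1} => f)).map φ)
    have h1 : φ = φ₀ := huniq φ rfl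
    have h2 : φ' = φ₀ := huniq φ' (by
      have := congrArg (fun ψ => Pseudofunctor.DescentData.Hom.hom ψ PUnit.unit) hφ
      exact this.symm)
    rw [h1, h2]
  · intro ψ
    obtain ⟨φ₀, hφ₀, -⟩ := h ψ
    refine ⟨φ₀, ?_⟩
    apply Pseudofunctor.DescentData.hom_ext
    intro i
    cases i
    exact hφ₀

end Generic

section Descent

variable {C : Type u₁} [Category.{v₁} C] (Φ : Cᵒᵖ ⥤ CommRingCat.{u})
variable {S X Y : C} (f : X ⟶ S) (f₁ f₂ : Y ⟶ X) (hf : f₂ ≫ f = f₁ ≫ f)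
variable (M N : (PF Φ).obj (.mk (op S)))

/-- the underlying module map of a morphism of canonical descent data -/
noncomputable def hom₀
    (ψ : ((PF Φ).toDescentData (fun _ : PUnit.{u + 1} => f)).obj M ⟶
      ((PF Φ).toDescentData (fun _ : PUnit.{u + 1} => f)).obj N) :
    (extendScalars (Φ.map f.op).hom).obj (asM Φ M) ⟶ (extendScalars (Φ.map f.op).hom).obj (asM Φ N) :=
  ψ.hom PUnit.unit

include hf in
theorem comm_apply
    (ψ : ((PF Φ).toDescentData (fun _ : PUnit.{u + 1} => f)).obj M ⟶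
      ((PF Φ).toDescentData (fun _ : PUnit.{u + 1} => f)).obj N) (m : asM Φ M) :
    U (Φ.map f.op).hom (Φ.map f₁.op).hom (Φ.map (f₁ ≫ f).op).hom (comp_eq₁ Φ f f₁) (asM Φ N)
        (hom₀ Φ f M N ψ (tm (Φ.map f.op).hom 1 m)) =
      U (Φ.map f.op).hom (Φ.map f₂.op).hom (Φ.map (f₁ ≫ f).op).hom (comp_eq₂ Φ f f₁ f₂ hf) (asM Φ N)
        (hom₀ Φ f M N ψ (tm (Φ.map f.op).hom 1 m)) :=
  comm_apply_native₂ Φ f f₁ f₂ hf M N (ψ.hom PUnit.unit) (hom₀ Φ f M N ψ) rfl
    (comm_native (PF Φ) f f₁ f₂ hf M N ψ (ψ.hom PUnit.unit) rfl) m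

/-- conversion of a module map to a native morphism -/
noncomputable def toNat (χ : (extendScalars (Φ.map f.op).hom).obj (asM Φ M) ⟶
      (extendScalars (Φ.map f.op).hom).obj (asM Φ N)) :
    ((PF Φ).map f.op.toLoc).toFunctor.obj M ⟶ ((PF Φ).map f.op.toLoc).toFunctor.obj N := χ

lemma toNat_injective : Function.Injective (toNat Φ f M N) := fun _ _ h => h

lemma toNat_hom₀ (ψ : ((PF Φ).toDescentData (fun _ : PUnit.{u + 1} => f)).obj M ⟶
      ((PF Φ).toDescentData (fun _ : PUnit.{u + 1} => f)).obj N) :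
    toNat Φ f M N (hom₀ Φ f M N ψ) = ψ.hom PUnit.unit := rfl

/-- view a native morphism over `S` as a module map -/
noncomputable def asHom (φ : M ⟶ N) : asM Φ M ⟶ asM Φ N := φ

/-- view a module map as a native morphism over `S` -/
noncomputable def ofAsHom (φ : asM Φ M ⟶ asM Φ N) : M ⟶ N := φ

lemma asHom_ofAsHom (φ : asM Φ M ⟶ asM Φ N) : asHom Φ M N (ofAsHom Φ M N φ) = φ := rfl

set_option backward.isDefEq.respectTransparency false in
lemma toNat_map (φ : M ⟶ N) :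
    toNat Φ f M N ((extendScalars (Φ.map f.op).hom).map (asHom Φ M N φ)) =
      ((PF Φ).map f.op.toLoc).toFunctor.map φ := rfl

include hf in
theorem existsUnique_native
    (hinj : Function.Injective (fun n : asM Φ N => tm (Φ.map f.op).hom 1 n))
    (hex : ∀ y : (extendScalars (Φ.map f.op).hom).obj (asM Φ N),
      U (Φ.map f.op).hom (Φ.map f₁.op).hom (Φ.map (f₁ ≫ f).op).hom (comp_eq₁ Φ f f₁) (asM Φ N) y =
        U (Φ.map f.op).hom (Φ.map f₂.op).hom (Φ.map (f₁ ≫ f).op).hom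
          (comp_eq₂ Φ f f₁ f₂ hf) (asM Φ N) y →
      ∃ n : asM Φ N, y = tm (Φ.map f.op).hom 1 n)
    (ψ : ((PF Φ).toDescentData (fun _ : PUnit.{u + 1} => f)).obj M ⟶
      ((PF Φ).toDescentData (fun _ : PUnit.{u + 1} => f)).obj N) :
    ∃! φ : M ⟶ N, ((PF Φ).map f.op.toLoc).toFunctor.map φ = ψ.hom PUnit.unit := by
  obtain ⟨φ, hφ, huniq⟩ := existsUnique_map (Φ.map f.op).hom (asM Φ M) (asM Φ N) hinj
    (hom₀ Φ f M N ψ) (fun m => hex _ (comm_apply Φ f f₁ f₂ hf M N ψ m))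
  refine ⟨ofAsHom Φ M N φ, ?_, ?_⟩
  · exact (toNat_map Φ f M N (ofAsHom Φ M N φ)).symm.trans
      ((congrArg (toNat Φ f M N) hφ).trans (toNat_hom₀ Φ f M N ψ))
  · intro φ' hφ'
    have h1 : (extendScalars (Φ.map f.op).hom).map (asHom Φ M N φ') = hom₀ Φ f M N ψ :=
      toNat_injective Φ f M N ((toNat_map Φ f M N φ').trans (hφ'.trans (toNat_hom₀ Φ f M N ψ).symm))
    exact congrArg (ofAsHom Φ M N) (huniq (asHom Φ M N φ') h1)

include hf in
theorem toDescentData_map_bijective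
    (hinj : Function.Injective (fun n : asM Φ N => tm (Φ.map f.op).hom 1 n))
    (hex : ∀ y : (extendScalars (Φ.map f.op).hom).obj (asM Φ N),
      U (Φ.map f.op).hom (Φ.map f₁.op).hom (Φ.map (f₁ ≫ f).op).hom (comp_eq₁ Φ f f₁) (asM Φ N) y =
        U (Φ.map f.op).hom (Φ.map f₂.op).hom (Φ.map (f₁ ≫ f).op).hom
          (comp_eq₂ Φ f f₁ f₂ hf) (asM Φ N) y →
      ∃ n : asM Φ N, y = tm (Φ.map f.op).hom 1 n) :
    Function.Bijective (fun φ : M ⟶ N =>
      ((PF Φ).toDescentData (fun _ : PUnit.{u + 1} => f)).map φ) :=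
  bijective_of_existsUnique (PF Φ) f M N (existsUnique_native Φ f f₁ f₂ hf M N hinj hex)

end Descent

end Groth.Agent.Lib.Helper86.DescFF
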