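import Mathlib
import Groth.Agent.Lib.Helper86.DescEffUI

/-! Injectivity and degree-zero exactness for a universally injective ring map, in `tm`/`U`
language (inputs of `DescFF.toDescentData_map_bijective`). -/

set_option autoImplicit false

open CategoryTheory ModuleCat TensorProduct
open Groth.Agent.Lib.Helper86.DescBridge Groth.Agent.Lib.Helper86.DescPB
  Groth.Agent.Lib.Helper86.DescEff Groth.Agent.Lib.Helper86.DescFlat

universe u

namespace Groth.Agent.Lib.Helper86.DescFFUI

variable (A : Type u) {B : Type u} [CommRing A] [CommRing B] [Algebra A B]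

section

variable (hs : letI := Module.compHom B (algebraMap A B)
      ∃ g : CharacterModule A →ₗ[A] CharacterModule B,
        (CharacterModule.dual (aLin (algebraMap A B))).comp g = LinearMap.id)

include hs in
theorem tm_one_injective_of_section (N : ModuleCat.{u} A) :
    Function.Injective (fun n : N => tm (algebraMap A B) 1 n) := by
  let _ : Module A B := Module.compHom B (algebraMap A B)
  obtain ⟨g, hg⟩ := hs
  have h := Groth.Agent.Lib.Helper86.UIChar.eta_injective (X := N) (aLin (algebraMap A B)) g hg
  intro n n' hnn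
  apply h
  show (aLin (algebraMap A B)) 1 ⊗ₜ[A] n = (aLin (algebraMap A B)) 1 ⊗ₜ[A] n'
  have e : (aLin (algebraMap A B)) 1 = (1 : B) := map_one (algebraMap A B)
  rw [e]
  exact hnn

/-- the unit `N → B ⊗_A N` -/
noncomputable def unitHom (N : ModuleCat.{u} A) :
    N ⟶ (restrictScalars (algebraMap A B)).obj ((extendScalars (algebraMap A B)).obj N) :=
  (ModuleCat.ofHom
    ({ toFun := fun n => tm (algebraMap A B) 1 n
       map_add' := fun n n' => tm_add _ 1 n n'
       map_smul' := fun a n => by
         show tm (algebraMap A B) 1 (a • n) = algebraMap A B a • tm (algebraMap A B) 1 n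
         rw [tm_smul, smul_tm] } :
      N →ₗ[A] (restrictScalars (algebraMap A B)).obj ((extendScalars (algebraMap A B)).obj N)) :)

lemma unitHom_apply (N : ModuleCat.{u} A) (n : N) :
    unitHom A (B := B) N n = tm (algebraMap A B) 1 n := rfl

lemma comp_app_tm (N : ModuleCat.{u} A) (c : B ⊗[A] B) (n : N) :
    (extendScalarsComp (algebraMap A B) (incR : B →+* B ⊗[A] B)).hom.app N
        (tm ((incR : B →+* B ⊗[A] B).comp (algebraMap A B)) c n) =
      tm (incR : B →+* B ⊗[A] B) c (tm (algebraMap A B) 1 n) := by
  rw [tm_eq_smul, map_smul, tm_eq_smul (incR : B →+* B ⊗[A] B) c]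
  congr 1
  exact extendScalarsComp_hom_app_one_tmul (algebraMap A B) (incR : B →+* B ⊗[A] B) N n

include hs in
theorem exists_tm_of_U_eq_of_section (N : ModuleCat.{u} A)
    (κ : A →+* B ⊗[A] B) (h₁ : (incL : B →+* B ⊗[A] B).comp (algebraMap A B) = κ)
    (h₂ : (incR : B →+* B ⊗[A] B).comp (algebraMap A B) = κ)
    (y : (extendScalars (algebraMap A B)).obj N)
    (hy : U (algebraMap A B) incL κ h₁ N y = U (algebraMap A B) incR κ h₂ N y) :
    ∃ n : N, y = tm (algebraMap A B) 1 n := by
  subst h₂
  obtain ⟨κ', hκ'⟩ := exists_addEquiv (A := A) (B := B) (C := B)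
    ((extendScalars (algebraMap A B)).obj N)
  let Ψ : (extendScalars ((incR : B →+* B ⊗[A] B).comp (algebraMap A B))).obj N →
      (extendScalars (algebraMap A B)).obj
        ((restrictScalars (algebraMap A B)).obj ((extendScalars (algebraMap A B)).obj N)) :=
    fun w => κ'.symm ((extendScalarsComp (algebraMap A B) (incR : B →+* B ⊗[A] B)).hom.app N w)
  have hΨ0 : Ψ 0 = 0 := by
    show κ'.symm ((extendScalarsComp (algebraMap A B) (incR : B →+* B ⊗[A] B)).hom.app N 0) = 0
    rw [map_zero, map_zero]
  have hΨadd : ∀ w w', Ψ (w + w') = Ψ w + Ψ w' := fun w w' => by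
    show κ'.symm ((extendScalarsComp (algebraMap A B) (incR : B →+* B ⊗[A] B)).hom.app N (w + w')) = _
    rw [map_add, map_add]
  have c2 : ∀ y : (extendScalars (algebraMap A B)).obj N,
      Ψ (U (algebraMap A B) incR _ rfl N y) =
        tm (algebraMap A B) 1
          (y : (restrictScalars (algebraMap A B)).obj ((extendScalars (algebraMap A B)).obj N)) := by
    intro y
    induction y using tm_induction with
    | h0 => rw [U_zero, hΨ0]; exact (tm_zero _ 1).symm
    | h1 b n =>
      rw [U_tm]
      show κ'.symm ((extendScalarsComp (algebraMap A B) (incR : B →+* B ⊗[A] B)).hom.app N _) = _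
      rw [comp_app_tm]
      apply κ'.injective
      rw [κ'.apply_symm_apply, hκ']
      have e : tm (algebraMap A B) b n = b • tm (algebraMap A B) 1 n := tm_eq_smul _ b n
      rw [e, tm_smul]
      have e1 : ((1 : B) ⊗ₜ[A] (1 : B) : B ⊗[A] B) = 1 := rfl
      rw [e1, mul_one]
    | h2 x y hx hy => rw [U_add, hΨadd, hx, hy]; exact (tm_add _ 1 _ _).symm
  have c1 : ∀ y : (extendScalars (algebraMap A B)).obj N,
      Ψ (U (algebraMap A B) incL _ h₁ N y) =
        (extendScalars (algebraMap A B)).map (unitHom A N) y := by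
    intro y
    induction y using tm_induction with
    | h0 => rw [U_zero, hΨ0, map_zero]
    | h1 b n =>
      rw [U_tm, map_tm, unitHom_apply]
      show κ'.symm ((extendScalarsComp (algebraMap A B) (incR : B →+* B ⊗[A] B)).hom.app N _) = _
      rw [comp_app_tm]
      apply κ'.injective
      rw [κ'.apply_symm_apply, hκ']
      rfl
    | h2 x y hx hy => rw [U_add, hΨadd, hx, hy, map_add]
  have key : tm (algebraMap A B) 1
      (y : (restrictScalars (algebraMap A B)).obj ((extendScalars (algebraMap A B)).obj N)) =
      (extendScalars (algebraMap A B)).map (unitHom A N) y := by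
    rw [← c2, ← c1, hy]
  let _ : Module A B := Module.compHom B (algebraMap A B)
  obtain ⟨g, hg⟩ := hs
  have := Groth.Agent.Lib.Helper86.UIChar.exists_eq_of_eta_eq (X := N)
    (Z := (restrictScalars (algebraMap A B)).obj ((extendScalars (algebraMap A B)).obj N))
    (aLin (algebraMap A B)) g hg (unitHom A (B := B) N).hom y y (by
      rw [← map_eq_lTensor (algebraMap A B) (unitHom A N) y, ← key]
      show (aLin (algebraMap A B)) 1 ⊗ₜ[A] _ = _
      have e : (aLin (algebraMap A B)) 1 = (1 : B) := map_one (algebraMap A B)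
      rw [e]
      rfl)
  obtain ⟨n, hn⟩ := this
  exact ⟨n, hn⟩

end

end Groth.Agent.Lib.Helper86.DescFFUI
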