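import Mathlib

/-! Transport of bijectivity of `toDescentData.map` along an equality of pseudofunctors. -/

set_option autoImplicit false

open CategoryTheory Opposite

universe v₁ u₁ t v' u'

namespace Groth.Agent.Lib.Helper86.DescTransport

variable {C : Type u₁} [Category.{v₁} C]

theorem bijective_transport {F G : Pseudofunctor (LocallyDiscrete Cᵒᵖ) Cat.{v', u'}} (e : F = G)
    {S X : C} (f : X ⟶ S) (M N : G.obj (.mk (op S)))
    (h : ∀ M' N' : F.obj (.mk (op S)), HEq M' M → HEq N' N →
      Function.Bijective (fun φ : M' ⟶ N' =>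
        (F.toDescentData (fun _ : PUnit.{t + 1} => f)).map φ)) :
    Function.Bijective (fun φ : M ⟶ N =>
      (G.toDescentData (fun _ : PUnit.{t + 1} => f)).map φ) := by
  subst e
  exact h M N HEq.rfl HEq.rfl

end Groth.Agent.Lib.Helper86.DescTransport
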