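import Mathlib

/-! Transport of effectivity of descent data along an equality of pseudofunctors. -/

set_option autoImplicit false

open CategoryTheory Opposite

universe v₁ u₁ t v' u'

namespace Groth.Agent.Lib.Helper86.DescTransport2

variable {C : Type u₁} [Category.{v₁} C]

theorem effective_transport {F G : Pseudofunctor (LocallyDiscrete Cᵒᵖ) Cat.{v', u'}} (e : F = G)
    {S X : C} (f : X ⟶ S)
    (h : ∀ D : F.DescentData (fun _ : PUnit.{t + 1} => f), ∃ M : F.obj (.mk (op S)),
      Nonempty ((F.toDescentData (fun _ : PUnit.{t + 1} => f)).obj M ≅ D))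
    (D : G.DescentData (fun _ : PUnit.{t + 1} => f)) :
    ∃ M : G.obj (.mk (op S)),
      Nonempty ((G.toDescentData (fun _ : PUnit.{t + 1} => f)).obj M ≅ D) := by
  subst e
  exact h D

end Groth.Agent.Lib.Helper86.DescTransport2
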