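import Mathlib
import Groth.Agent.Lib.Helper86.DescDDRing
import Groth.Agent.Lib.Helper86.DescFF
import Groth.Agent.Lib.Helper86.DescFFUI

/-! Descent of modules along a universally injective ring map: the functor to descent data is an
equivalence (for the pseudofunctor `PF Φ₀`). -/

set_option autoImplicit false

open CategoryTheory Opposite ModuleCat TensorProduct
open Groth.Agent.Lib.Helper86.DescBridge Groth.Agent.Lib.Helper86.DescGen2
  Groth.Agent.Lib.Helper86.DescDDGen Groth.Agent.Lib.Helper86.DescDDNat
  Groth.Agent.Lib.Helper86.DescEff Groth.Agent.Lib.Helper86.DescDDRing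
  Groth.Agent.Lib.Helper86.DescPB Groth.Agent.Lib.Helper86.DescFlat

universe u

namespace Groth.Agent.Lib.Helper86.DescUIMain

variable {A B : Type u} [CommRing A] [CommRing B] [Algebra A B]

section Eff

variable (hs : letI := Module.compHom B (algebraMap A B)
      ∃ g : CharacterModule A →ₗ[A] CharacterModule B,
        (CharacterModule.dual (aLin (algebraMap A B))).comp g = LinearMap.id)

include hs in
theorem effective_native_of_section
    (D : (PF Φ₀.{u}).DescentData (fun _ : PUnit.{u + 1} => fAB A B)) :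
    ∃ M : (PF Φ₀.{u}).obj (.mk (op (op (CommRingCat.of A)))),
      Nonempty (((PF Φ₀.{u}).toDescentData (fun _ : PUnit.{u + 1} => fAB A B)).obj M ≅ D) := by
  obtain ⟨M, θ, hθ, hprop⟩ :=
    Groth.Agent.Lib.Helper86.DescEffUI.effective_of_section A (toModDD D) hs
  refine ⟨M, ?_⟩
  refine nonempty_iso_of D M (nativeIso D M (asIso θ)) ?_
  intro Y f₁ f₂ hf
  exact comm_of_apply_native Φ₀ (fAB A B) f₁ f₂ hf M (D.obj PUnit.unit)
    (nativeIso D M (asIso θ)).hom θ rfl (homN D f₁ f₂ hf)
    (homR D Y.unop f₁.unop.hom f₂.unop.hom (hfOf' f₁ f₂ hf)) rfl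
    (fun m => hprop Y.unop f₁.unop.hom f₂.unop.hom (hfOf' f₁ f₂ hf) m)

include hs in
theorem bijective_native_of_section
    (M N : (PF Φ₀.{u}).obj (.mk (op (op (CommRingCat.of A))))) :
    Function.Bijective (fun φ : M ⟶ N =>
      ((PF Φ₀.{u}).toDescentData (fun _ : PUnit.{u + 1} => fAB A B)).map φ) := by
  have hf : (CommRingCat.ofHom (incR : B →+* B ⊗[A] B)).op ≫ fAB A B =
      (CommRingCat.ofHom (incL : B →+* B ⊗[A] B)).op ≫ fAB A B := by
    show (CommRingCat.ofHom (algebraMap A B) ≫ CommRingCat.ofHom (incR : B →+* B ⊗[A] B)).op =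
      (CommRingCat.ofHom (algebraMap A B) ≫ CommRingCat.ofHom (incL : B →+* B ⊗[A] B)).op
    rw [← CommRingCat.ofHom_comp, ← CommRingCat.ofHom_comp, incL_comp_algebraMap]
  have hinj := Groth.Agent.Lib.Helper86.DescFFUI.tm_one_injective_of_section A hs
    (Groth.Agent.Lib.Helper86.DescComm2.asM Φ₀ N)
  have hex := Groth.Agent.Lib.Helper86.DescFFUI.exists_tm_of_U_eq_of_section A hs
    (Groth.Agent.Lib.Helper86.DescComm2.asM Φ₀ N)
    ((incL : B →+* B ⊗[A] B).comp (algebraMap A B)) rfl incL_comp_algebraMap.symm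
  exact Groth.Agent.Lib.Helper86.DescFF.toDescentData_map_bijective (Φ := Φ₀.{u})
    (fAB A B) (CommRingCat.ofHom (incL : B →+* B ⊗[A] B)).op
    (CommRingCat.ofHom (incR : B →+* B ⊗[A] B)).op hf M N hinj hex

include hs in
theorem isEquivalence_of_section :
    ((PF Φ₀.{u}).toDescentData (fun _ : PUnit.{u + 1} => fAB A B)).IsEquivalence := by
  have hb := bijective_native_of_section (A := A) (B := B) hs
  have h1 : ((PF Φ₀.{u}).toDescentData (fun _ : PUnit.{u + 1} => fAB A B)).Faithful :=
    ⟨fun {M N} => (hb M N).1⟩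
  have h2 : ((PF Φ₀.{u}).toDescentData (fun _ : PUnit.{u + 1} => fAB A B)).Full :=
    ⟨fun {M N} => (hb M N).2⟩
  have h3 : ((PF Φ₀.{u}).toDescentData (fun _ : PUnit.{u + 1} => fAB A B)).EssSurj :=
    ⟨fun D => by
      obtain ⟨M, ⟨e⟩⟩ := effective_native_of_section (A := A) (B := B) hs D
      exact ⟨M, ⟨e⟩⟩⟩
  exact { }

end Eff

section Transport

universe v₁ u₁ t v' u'

variable {C : Type u₁} [Category.{v₁} C]

theorem isEquivalence_transport {F G : Pseudofunctor (LocallyDiscrete Cᵒᵖ) Cat.{v', u'}} (e : F = G)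
    {S X : C} (f : X ⟶ S)
    (h : (F.toDescentData (fun _ : PUnit.{t + 1} => f)).IsEquivalence) :
    (G.toDescentData (fun _ : PUnit.{t + 1} => f)).IsEquivalence := by
  subst e
  exact h

theorem faithful_transport {F G : Pseudofunctor (LocallyDiscrete Cᵒᵖ) Cat.{v', u'}} (e : F = G)
    {S X : C} (f : X ⟶ S)
    (h : Nonempty (G.toDescentData (fun _ : PUnit.{t + 1} => f)).FullyFaithful) :
    (F.toDescentData (fun _ : PUnit.{t + 1} => f)).Faithful := by
  subst e
  exact h.some.faithful

end Transport

section Faithful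

/-- view a module map as a morphism in the value category of `PF Φ₀` -/
noncomputable def ofModHom {M N : ModuleCat.{u} A} (φ : M ⟶ N) :
    (show (PF Φ₀.{u}).obj (.mk (op (op (CommRingCat.of A)))) from M) ⟶
      (show (PF Φ₀.{u}).obj (.mk (op (op (CommRingCat.of A)))) from N) := φ

lemma ofModHom_injective {M N : ModuleCat.{u} A} :
    Function.Injective (ofModHom (A := A) (M := M) (N := N)) := fun _ _ h => h

set_option backward.isDefEq.respectTransparency false in
lemma map_ofModHom {M N : ModuleCat.{u} A} (φ : M ⟶ N) :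
    ((PF Φ₀.{u}).map (fAB A B).op.toLoc).toFunctor.map (ofModHom φ) =
      (show ((PF Φ₀.{u}).map (fAB A B).op.toLoc).toFunctor.obj M ⟶
        ((PF Φ₀.{u}).map (fAB A B).op.toLoc).toFunctor.obj N from
        (extendScalars (algebraMap A B)).map φ) := rfl

theorem univInjective_of_faithful
    (hfaith : ((PF Φ₀.{u}).toDescentData (fun _ : PUnit.{u + 1} => fAB A B)).Faithful)
    (P : Type u) [AddCommGroup P] [Module A P] :
    Function.Injective (LinearMap.lTensor P (Algebra.linearMap A B)) := by
  let K : Submodule A P :=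
    { carrier := {p | tm (algebraMap A B) 1 (show ModuleCat.of A P from p) = 0}
      add_mem' := fun {p p'} hp hp' => by
        show tm (algebraMap A B) 1 (show ModuleCat.of A P from p + p') = 0
        have hp1 : tm (algebraMap A B) 1 (show ModuleCat.of A P from p) = 0 := hp
        have hp2 : tm (algebraMap A B) 1 (show ModuleCat.of A P from p') = 0 := hp'
        have := tm_add (algebraMap A B) (1 : B) (show ModuleCat.of A P from p)
          (show ModuleCat.of A P from p')
        rw [hp1, hp2, add_zero] at this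
        exact this
      zero_mem' := tm_zero (algebraMap A B) 1
      smul_mem' := fun a p hp => by
        show tm (algebraMap A B) 1 (show ModuleCat.of A P from a • p) = 0
        have hp' : tm (algebraMap A B) 1 (show ModuleCat.of A P from p) = 0 := hp
        have e1 := tm_smul (algebraMap A B) (1 : B) a (show ModuleCat.of A P from p)
        have e2 := tm_eq_smul (algebraMap A B) (algebraMap A B a * 1)
          (show ModuleCat.of A P from p)
        rw [hp', smul_zero] at e2
        exact e1.trans e2 }
  let i : ModuleCat.of A K ⟶ ModuleCat.of A P := ModuleCat.ofHom K.subtype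
  have h0 : (extendScalars (algebraMap A B)).map i = (extendScalars (algebraMap A B)).map 0 := by
    apply hom_ext_tm
    intro k
    rw [map_tm, map_tm]
    have h1 : tm (algebraMap A B) 1 (i k) = 0 := k.2
    rw [h1]
    exact (tm_zero (algebraMap A B) 1).symm
  have h1 : ((PF Φ₀.{u}).toDescentData (fun _ : PUnit.{u + 1} => fAB A B)).map (ofModHom i) =
      ((PF Φ₀.{u}).toDescentData (fun _ : PUnit.{u + 1} => fAB A B)).map (ofModHom 0) := by
    apply Pseudofunctor.DescentData.hom_ext
    intro _
    show ((PF Φ₀.{u}).map (fAB A B).op.toLoc).toFunctor.map (ofModHom i) =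
      ((PF Φ₀.{u}).map (fAB A B).op.toLoc).toFunctor.map (ofModHom 0)
    rw [map_ofModHom, map_ofModHom, h0]
  have h2 : i = 0 := ofModHom_injective (hfaith.map_injective h1)
  have hK : ∀ p : P, tm (algebraMap A B) 1 (show ModuleCat.of A P from p) = 0 → p = 0 := by
    intro p hp
    have := congrArg (fun φ : ModuleCat.of A K ⟶ ModuleCat.of A P => φ ⟨p, hp⟩) h2
    exact this
  rw [injective_iff_map_eq_zero]
  intro x hx
  obtain ⟨p, rfl⟩ := (TensorProduct.rid A P).symm.surjective x
  rw [TensorProduct.rid_symm_apply, LinearMap.lTensor_tmul, Algebra.linearMap_apply, map_one] at hx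
  obtain ⟨e, he⟩ := exists_congrB (A := A) (B := B) (ModuleCat.of A P)
  have h3 : e (tm (algebraMap A B) 1 (show ModuleCat.of A P from p)) = 0 := by
    rw [he]
    have := congrArg (TensorProduct.comm A P B) hx
    rw [TensorProduct.comm_tmul, map_zero] at this
    exact this
  have h4 : tm (algebraMap A B) 1 (show ModuleCat.of A P from p) = 0 := by
    apply e.injective
    rw [h3, map_zero]
  rw [hK p h4, map_zero]

end Faithful

end Groth.Agent.Lib.Helper86.DescUIMain
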