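import Mathlib
import Groth.Prelude.Def_Dieu
import Groth.Prelude.Def_Disp2
import Groth.Agent.Lib.Helper75.WittComplete
import Groth.Agent.Lib.Helper86.BCRank

set_option autoImplicit false
set_option linter.unusedSectionVars false
universe u v

namespace Groth.Agent.Lib.Helper86.VSharpExists

open Dieu WittVector Groth.Agent.Lib.Helper86.BCRank

section Witt

variable {p : ℕ} [Fact p.Prime] {R : Type u} [CommRing R]

local notation "σ" => (WittVector.frobenius : WittVector p R →+* WittVector p R)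

lemma mem_IV_iff (a : WittVector p R) :
    a ∈ W4c1extbt610.IV p R ↔ ∃ u : WittVector p R, a = verschiebung u := by
  constructor
  · intro ha
    have h1 : W4c1extbt610.IV p R ≤ RingHom.ker (constantCoeff : WittVector p R →+* R) := by
      rw [W4c1extbt610.IV, Ideal.span_le]
      rintro _ ⟨u, rfl⟩
      exact verschiebung_coeff_zero u
    exact (Groth.Agent.Lib.Helper75.WittComplete.mem_ker_constantCoeff_iff a).mp (h1 ha)
  · rintro ⟨u, rfl⟩
    exact W4c1extbt610.verschiebung_mem_IV p R u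

lemma IV_eq_ker : W4c1extbt610.IV p R = RingHom.ker (constantCoeff : WittVector p R →+* R) := by
  ext a
  rw [mem_IV_iff, Groth.Agent.Lib.Helper75.WittComplete.mem_ker_constantCoeff_iff]

/-- If `I ^ N = ⊥` then every module is `I`-adically complete. -/
lemma isAdicComplete_of_pow_eq_bot {W : Type*} [CommRing W] (I : Ideal W) (N : ℕ) (hN : I ^ N = ⊥)
    (M : Type*) [AddCommGroup M] [Module W M] : IsAdicComplete I M := by
  refine { haus' := ?_, prec' := ?_ }
  · intro x hx
    have h := hx N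
    rw [hN, Submodule.bot_smul, SModEq.bot] at h
    exact h
  · intro f hf
    refine ⟨f N, fun n => ?_⟩
    rcases le_total n N with h | h
    · exact hf h
    · have h1 := hf h
      rw [hN, Submodule.bot_smul, SModEq.bot] at h1
      rw [h1]

lemma frobenius_sub_pow_mem (x : WittVector p R) :
    σ x - x ^ p ∈ W4c1extbt610.IV p R ⊔ Ideal.span {(p : WittVector p R)} := by
  set c : R := MvPolynomial.aeval x.coeff (frobeniusPolyAux p 0) with hc
  have h0 : constantCoeff (σ x) = x.coeff 0 ^ p + (p : R) * c := by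
    change (frobenius x).coeff 0 = _
    rw [coeff_frobenius, frobeniusPoly]
    simp [hc]
  have h1 : σ x - x ^ p - (p : WittVector p R) * teichmuller p c ∈
      RingHom.ker (constantCoeff : WittVector p R →+* R) := by
    rw [RingHom.mem_ker, map_sub, map_sub, h0, map_pow, map_mul, map_natCast]
    have : constantCoeff (teichmuller p c) = c := teichmuller_coeff_zero p c
    rw [this]
    change x.coeff 0 ^ p + (p : R) * c - x.coeff 0 ^ p - (p : R) * c = 0
    ring
  rw [← IV_eq_ker] at h1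
  have h2 : (p : WittVector p R) * teichmuller p c ∈ Ideal.span {(p : WittVector p R)} :=
    Ideal.mul_mem_right _ _ (Ideal.mem_span_singleton_self _)
  have : σ x - x ^ p = (σ x - x ^ p - (p : WittVector p R) * teichmuller p c) +
      (p : WittVector p R) * teichmuller p c := by ring
  rw [this]
  exact Submodule.add_mem_sup h1 h2

section nilp

variable (hpn : IsNilpotent (p : R))
include hpn

lemma IV_le_jacobson : W4c1extbt610.IV p R ≤ (⊥ : Ideal (WittVector p R)).jacobson := by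
  obtain ⟨N, hN⟩ := hpn
  have h0 : (Ideal.span {(p : R)}) ^ N = ⊥ := by
    rw [Ideal.span_singleton_pow, hN]
    exact Ideal.span_singleton_eq_bot.mpr rfl
  have : IsAdicComplete (Ideal.span {(p : R)}) R := isAdicComplete_of_pow_eq_bot _ N h0 R
  have := Groth.Agent.Lib.Helper75.WittComplete.isAdicComplete_ker (p := p) (R := R)
  rw [IV_eq_ker]
  exact IsAdicComplete.le_jacobson_bot _

lemma p_mem_jacobson : (p : WittVector p R) ∈ (⊥ : Ideal (WittVector p R)).jacobson := by
  have hIV := IV_le_jacobson hpn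
  obtain ⟨N, hN⟩ := hpn
  have h1 : (p : WittVector p R) ^ N ∈ W4c1extbt610.IV p R := by
    rw [IV_eq_ker, RingHom.mem_ker, map_pow, map_natCast, hN]
  have h2 : (p : WittVector p R) ∈ ((⊥ : Ideal (WittVector p R)).jacobson).radical :=
    ⟨N, hIV h1⟩
  have h3 := Ideal.radical_le_jacobson h2
  rwa [Ideal.jacobson_idem] at h3

lemma b_le_maximal (𝔪 : Ideal (WittVector p R)) (h𝔪 : 𝔪.IsMaximal) :
    W4c1extbt610.IV p R ⊔ Ideal.span {(p : WittVector p R)} ≤ 𝔪 := by
  have hj : (⊥ : Ideal (WittVector p R)).jacobson ≤ 𝔪 := sInf_le ⟨bot_le, h𝔪⟩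
  rw [sup_le_iff]
  refine ⟨(IV_le_jacobson hpn).trans hj, ?_⟩
  rw [Ideal.span_le, Set.singleton_subset_iff]
  exact hj (p_mem_jacobson hpn)

lemma frobenius_mem_maximal_iff (𝔪 : Ideal (WittVector p R)) (h𝔪 : 𝔪.IsMaximal)
    (x : WittVector p R) : σ x ∈ 𝔪 ↔ x ∈ 𝔪 := by
  have h1 : σ x - x ^ p ∈ 𝔪 := b_le_maximal hpn 𝔪 h𝔪 (frobenius_sub_pow_mem x)
  have hp0 : p ≠ 0 := (Fact.out : p.Prime).ne_zero
  constructor
  · intro h
    have : x ^ p ∈ 𝔪 := by
      have := 𝔪.sub_mem h h1
      rwa [sub_sub_cancel] at this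
    exact h𝔪.isPrime.mem_of_pow_mem _ this
  · intro h
    have : x ^ p ∈ 𝔪 := 𝔪.pow_mem_of_mem h p (Nat.pos_of_ne_zero hp0)
    have := 𝔪.add_mem h1 this
    rwa [sub_add_cancel] at this

end nilp

end Witt

section Rank

variable {p : ℕ} [Fact p.Prime] {R : Type u} [CommRing R]
variable {P : Type v} [AddCommGroup P] [Module (WittVector p R) P]
  [Module.Finite (WittVector p R) P] [Module.Projective (WittVector p R) P]

local notation "σ" => (WittVector.frobenius : WittVector p R →+* WittVector p R)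

lemma rankAtStalk_BC_frobenius (hpn : IsNilpotent (p : R)) (𝔮 : PrimeSpectrum (WittVector p R)) :
    Module.rankAtStalk (R := WittVector p R) (BC σ P) 𝔮 =
      Module.rankAtStalk (R := WittVector p R) P 𝔮 := by
  have hflat : Module.Flat (WittVector p R) P := Module.Flat.of_projective
  rw [rankAtStalk_BC]
  obtain ⟨𝔪, h𝔪, hle⟩ := Ideal.exists_le_maximal 𝔮.asIdeal 𝔮.isPrime.ne_top
  let 𝔪' : PrimeSpectrum (WittVector p R) := ⟨𝔪, h𝔪.isPrime⟩
  have h1 : PrimeSpectrum.comap σ 𝔮 ≤ 𝔪' := by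
    intro x hx
    have : σ x ∈ 𝔮.asIdeal := hx
    exact (frobenius_mem_maximal_iff hpn 𝔪 h𝔪 x).mp (hle this)
  have h2 : 𝔮 ≤ 𝔪' := hle
  rw [Module.rankAtStalk_eq_of_le_of_finite_of_flat P h1,
    Module.rankAtStalk_eq_of_le_of_finite_of_flat P h2]

end Rank

section Main

variable {p : ℕ} [Fact p.Prime] {R : Type u} [CommRing R]
variable {P : Type v} [AddCommGroup P] [Module (WittVector p R) P]
variable (D : W4c1extbt610.Display3n p R P)
variable (L T : Submodule (WittVector p R) P) (hLT : IsCompl L T)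
  (hQ : D.Q = L ⊔ W4c1extbt610.IV p R • T)

local notation "σ" => (WittVector.frobenius : WittVector p R →+* WittVector p R)

/-- `V⁻¹` on elements of `P` known to lie in `Q`. -/
noncomputable def VinvP (x : P) (hx : x ∈ D.Q) : P := D.Vinv ⟨x, hx⟩

lemma VinvP_add {x y : P} (hx : x ∈ D.Q) (hy : y ∈ D.Q) (h : x + y ∈ D.Q) :
    VinvP D (x + y) h = VinvP D x hx + VinvP D y hy := by
  unfold VinvP
  rw [← map_add]
  rfl

lemma VinvP_smul (w : WittVector p R) {x : P} (hx : x ∈ D.Q) (h : w • x ∈ D.Q) :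
    VinvP D (w • x) h = σ w • VinvP D x hx := by
  unfold VinvP
  rw [← LinearMap.map_smulₛₗ]
  rfl

lemma VinvP_verschiebung_smul (u : WittVector p R) (x : P) (h : verschiebung u • x ∈ D.Q) :
    VinvP D (verschiebung u • x) h = u • D.F x :=
  D.Vinv_verschiebung_smul u x

lemma F_eq_p_smul_VinvP {q : P} (hq : q ∈ D.Q) : D.F q = (p : WittVector p R) • VinvP D q hq := by
  have h := VinvP_verschiebung_smul D 1 q (D.Q.smul_mem _ hq)
  rw [one_smul] at h
  rw [← h, VinvP_smul D _ hq, frobenius_verschiebung, one_mul]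

include hQ in
lemma L_le_Q : L ≤ D.Q := by rw [hQ]; exact le_sup_left

include hQ in
lemma IVT_le_Q : W4c1extbt610.IV p R • T ≤ D.Q := by rw [hQ]; exact le_sup_right

/-- The projection onto `L`, as an endomorphism of `P`. -/
noncomputable def prL : P →ₗ[WittVector p R] P := L.projection T hLT

/-- The projection onto `T`, as an endomorphism of `P`. -/
noncomputable def prT : P →ₗ[WittVector p R] P := T.projection L hLT.symm

lemma prL_mem (x : P) : prL L T hLT x ∈ L := Submodule.projection_apply_mem hLT x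

lemma prT_mem (x : P) : prT L T hLT x ∈ T := Submodule.projection_apply_mem hLT.symm x

lemma prL_add_prT (x : P) : prL L T hLT x + prT L T hLT x = x :=
  Submodule.projection_add_projection_eq_self hLT x

lemma prL_of_mem_L {l : P} (hl : l ∈ L) : prL L T hLT l = l :=
  Submodule.projection_apply_of_mem_left hLT hl

lemma prT_of_mem_L {l : P} (hl : l ∈ L) : prT L T hLT l = 0 :=
  Submodule.projection_apply_of_mem_right hLT.symm hl

lemma prT_of_mem_T {t : P} (ht : t ∈ T) : prT L T hLT t = t :=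
  Submodule.projection_apply_of_mem_left hLT.symm ht

lemma prL_of_mem_T {t : P} (ht : t ∈ T) : prL L T hLT t = 0 :=
  Submodule.projection_apply_of_mem_right hLT ht

/-- The semilinear map `V⁻¹|_L ⊕ F|_T`. -/
noncomputable def Phi : P →ₛₗ[σ] P :=
  (D.Vinv.comp ((Submodule.inclusion (L_le_Q D L T hQ)).comp
    (L.projectionOnto T hLT))) + D.F.comp (prT L T hLT)

lemma Phi_apply (x : P) : Phi D L T hLT hQ x =
    VinvP D (prL L T hLT x) (L_le_Q D L T hQ (prL_mem L T hLT x)) + D.F (prT L T hLT x) := rfl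

lemma Phi_of_mem_L {l : P} (hl : l ∈ L) :
    Phi D L T hLT hQ l = VinvP D l (L_le_Q D L T hQ hl) := by
  rw [Phi_apply, prT_of_mem_L L T hLT hl, map_zero, add_zero]
  congr 1
  exact prL_of_mem_L L T hLT hl

lemma Phi_of_mem_T {t : P} (ht : t ∈ T) : Phi D L T hLT hQ t = D.F t := by
  rw [Phi_apply, prT_of_mem_T L T hLT ht]
  have : prL L T hLT t = 0 := prL_of_mem_T L T hLT ht
  have h0 : VinvP D (prL L T hLT t) (L_le_Q D L T hQ (prL_mem L T hLT t)) = 0 := by
    unfold VinvP
    have : (⟨prL L T hLT t, L_le_Q D L T hQ (prL_mem L T hLT t)⟩ : D.Q) = 0 := Subtype.ext this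
    rw [this, map_zero]
  rw [h0, zero_add]

/-- The linearisation of `Phi`. -/
noncomputable def PhiSharp : BC σ P →ₗ[WittVector p R] P := BC.lift σ (Phi D L T hLT hQ)

lemma PhiSharp_tmul (b : WittVector p R) (x : P) :
    PhiSharp D L T hLT hQ (BC.tmul σ b x) = b • Phi D L T hLT hQ x := BC.lift_tmul _ _ _ _

/-- `id` on `W ⊗ L`, multiplication by `p` on `W ⊗ T`. -/
noncomputable def Psi : BC σ P →ₗ[WittVector p R] BC σ P :=
  BC.map σ (prL L T hLT) + (p : WittVector p R) • BC.map σ (prT L T hLT)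

lemma Psi_tmul_L (b : WittVector p R) {l : P} (hl : l ∈ L) :
    Psi L T hLT (BC.tmul σ b l) = BC.tmul σ b l := by
  simp only [Psi, LinearMap.add_apply, LinearMap.smul_apply, BC.map_tmul, prL_of_mem_L L T hLT hl,
    prT_of_mem_L L T hLT hl, BC.tmul_zero, smul_zero, add_zero]

lemma Psi_tmul_T (b : WittVector p R) {t : P} (ht : t ∈ T) :
    Psi L T hLT (BC.tmul σ b t) = (p : WittVector p R) • BC.tmul σ b t := by
  simp only [Psi, LinearMap.add_apply, LinearMap.smul_apply, BC.map_tmul, prL_of_mem_T L T hLT ht,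
    prT_of_mem_T L T hLT ht, BC.tmul_zero, zero_add]

/-- The key property of elements of `Q`. -/
def Good (y : P) : Prop :=
  ∀ hy : y ∈ D.Q, ∃ ζ : BC σ P, PhiSharp D L T hLT hQ ζ = VinvP D y hy ∧
    Psi L T hLT ζ = BC.tmul σ 1 y

lemma good_of_mem_L {l : P} (hl : l ∈ L) : Good D L T hLT hQ l := by
  intro hy
  refine ⟨BC.tmul σ 1 l, ?_, Psi_tmul_L L T hLT 1 hl⟩
  rw [PhiSharp_tmul, one_smul, Phi_of_mem_L D L T hLT hQ hl]

lemma good_verschiebung_smul (u : WittVector p R) {t : P} (ht : t ∈ T) :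
    Good D L T hLT hQ (verschiebung u • t) := by
  intro hy
  refine ⟨BC.tmul σ u t, ?_, ?_⟩
  · rw [PhiSharp_tmul, Phi_of_mem_T D L T hLT hQ ht, VinvP_verschiebung_smul]
  · rw [Psi_tmul_T L T hLT u ht, ← BC.tmul_apply_eq, frobenius_verschiebung, BC.smul_tmul, mul_comm]

lemma good_add {y z : P} (hy : y ∈ D.Q) (hz : z ∈ D.Q) (gy : Good D L T hLT hQ y)
    (gz : Good D L T hLT hQ z) : Good D L T hLT hQ (y + z) := by
  intro h
  obtain ⟨ζ₁, h1, h1'⟩ := gy hy
  obtain ⟨ζ₂, h2, h2'⟩ := gz hz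
  refine ⟨ζ₁ + ζ₂, ?_, ?_⟩
  · rw [map_add, h1, h2, VinvP_add D hy hz]
  · rw [map_add, h1', h2', BC.tmul_add]

lemma good_of_mem_IVT {z : P} (hz : z ∈ W4c1extbt610.IV p R • T) :
    z ∈ D.Q ∧ Good D L T hLT hQ z := by
  refine Submodule.smul_induction_on hz (fun a ha t ht => ?_) (fun z₁ z₂ h₁ h₂ => ?_)
  · obtain ⟨u, rfl⟩ := (mem_IV_iff a).mp ha
    exact ⟨IVT_le_Q D L T hQ (Submodule.smul_mem_smul ha ht),
      good_verschiebung_smul D L T hLT hQ u ht⟩
  · exact ⟨D.Q.add_mem h₁.1 h₂.1, good_add D L T hLT hQ h₁.1 h₂.1 h₁.2 h₂.2⟩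

lemma good_of_mem_Q {y : P} (hy : y ∈ D.Q) : Good D L T hLT hQ y := by
  have hy' := hy
  rw [hQ, Submodule.mem_sup] at hy'
  obtain ⟨l, hl, z, hz, rfl⟩ := hy'
  obtain ⟨hzQ, gz⟩ := good_of_mem_IVT D L T hLT hQ hz
  exact good_add D L T hLT hQ (L_le_Q D L T hQ hl) hzQ (good_of_mem_L D L T hLT hQ hl) gz

lemma PhiSharp_surjective : Function.Surjective (PhiSharp D L T hLT hQ) := by
  rw [← LinearMap.range_eq_top, eq_top_iff, ← D.span_range_Vinv, Submodule.span_le]
  rintro _ ⟨y, rfl⟩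
  obtain ⟨ζ, hζ, -⟩ := good_of_mem_Q D L T hLT hQ y.2 y.2
  exact ⟨ζ, hζ⟩

lemma PhiSharp_bijective (hpn : IsNilpotent (p : R)) :
    Function.Bijective (PhiSharp D L T hLT hQ) := by
  have := D.finite
  have := D.projective
  have := finite_BC σ P
  have := projective_BC σ P
  exact ⟨injective_of_surjective_of_rankAtStalk_eq _ (PhiSharp_surjective D L T hLT hQ)
    (rankAtStalk_BC_frobenius hpn), PhiSharp_surjective D L T hLT hQ⟩

theorem exists_isVSharp (hpn : IsNilpotent (p : R)) :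
    ∃ Vs : P →ₗ[WittVector p R] BC σ P, IsVSharp D Vs := by
  obtain ⟨L, T, hLT, hQ⟩ := D.exists_normal
  let e := LinearEquiv.ofBijective (PhiSharp D L T hLT hQ) (PhiSharp_bijective D L T hLT hQ hpn)
  have he : ∀ ζ, e ζ = PhiSharp D L T hLT hQ ζ := fun ζ => rfl
  refine ⟨(Psi L T hLT) ∘ₗ e.symm.toLinearMap, ?_, ?_⟩
  · intro w x
    set ζ : BC σ P := (p : WittVector p R) • BC.tmul σ 1 (prL L T hLT x) +
      BC.tmul σ 1 (prT L T hLT x) with hζ
    have h1 : PhiSharp D L T hLT hQ ζ = D.F x := by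
      rw [hζ, map_add, map_smul, PhiSharp_tmul, PhiSharp_tmul, one_smul, one_smul,
        Phi_of_mem_L D L T hLT hQ (prL_mem L T hLT x), Phi_of_mem_T D L T hLT hQ (prT_mem L T hLT x),
        ← F_eq_p_smul_VinvP, ← map_add, prL_add_prT]
    have h2 : e.symm (D.F x) = ζ := by rw [← h1, ← he, e.symm_apply_apply]
    have h3 : Psi L T hLT ζ = (p : WittVector p R) • BC.tmul σ 1 x := by
      rw [hζ, map_add, map_smul, Psi_tmul_L L T hLT 1 (prL_mem L T hLT x),
        Psi_tmul_T L T hLT 1 (prT_mem L T hLT x), ← smul_add, ← BC.tmul_add, prL_add_prT]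
    rw [map_smul, LinearMap.comp_apply, LinearEquiv.coe_coe, h2, h3, smul_comm, BC.smul_tmul,
      mul_one]
  · intro w y
    obtain ⟨ζ, h1, h2⟩ := good_of_mem_Q D L T hLT hQ y.2 y.2
    have h3 : e.symm (D.Vinv y) = ζ := by
      have : D.Vinv y = e ζ := by rw [he, h1]; rfl
      rw [this, e.symm_apply_apply]
    rw [map_smul, LinearMap.comp_apply, LinearEquiv.coe_coe, h3, h2, BC.smul_tmul, mul_one]

end Main

end Groth.Agent.Lib.Helper86.VSharpExists
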