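import Mathlib
import Groth.Prelude.Def_Dieu
import Groth.Prelude.Def_Disp2

set_option autoImplicit false
universe u v

namespace Groth.Agent.Lib.Helper86.VSharpPow

open Dieu

section General

variable {A : Type u} [CommRing A] {P : Type v} [AddCommGroup P] [Module A P]

/-- The twist along `g` of a linear map `f : P → BC h P`: `b ⊗ x ↦ b • push (f x)`. -/
noncomputable def tw (g h : A →+* A) (f : P →ₗ[A] BC h P) : BC g P →ₗ[A] BC (g.comp h) P :=
  BC.lift g ((BC.push h g).comp f)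

@[simp] lemma tw_tmul (g h : A →+* A) (f : P →ₗ[A] BC h P) (b : A) (x : P) :
    tw g h f (BC.tmul g b x) = b • BC.push h g (f x) := by
  rw [tw, BC.lift_tmul]; rfl

lemma lift_push_map (g h : A →+* A) (f : P →ₗ[A] BC h P) (z : BC g P) :
    BC.lift g (BC.push h g) (BC.map g f z) = tw g h f z := by
  induction z using BC.induction_on g with
  | zero => simp
  | tmul b x => rw [BC.map_tmul, BC.lift_tmul, tw_tmul]
  | add z₁ z₂ h₁ h₂ => rw [map_add, map_add, map_add, h₁, h₂]

lemma castHom_castHom {g g' g'' : A →+* A} (e : g = g') (e' : g' = g'') (z : BC g P) :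
    BC.castHom e' (BC.castHom e z) = BC.castHom (e.trans e') z := by
  subst e; subst e'; rfl

lemma castHom_rfl {g : A →+* A} (e : g = g) (z : BC g P) : BC.castHom e z = z := rfl

lemma tw_castHom {g g' : A →+* A} (h : A →+* A) (f : P →ₗ[A] BC h P) (e : g = g') (z : BC g P) :
    tw g' h f (BC.castHom e z) = BC.castHom (congrArg (fun k => k.comp h) e) (tw g h f z) := by
  subst e; rfl

/-- Two pushes compose to one push. -/
lemma push_push (g₁ g₂ g₃ h k k' : A →+* A) (e₁ : g₁.comp h = k) (e₀ : g₂.comp k = k')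
    (e₂ : g₂.comp g₁ = g₃) (e : g₃.comp h = k') (z : BC h P) :
    BC.castHom e₀ (BC.push k g₂ (BC.castHom e₁ (BC.push h g₁ z))) =
      BC.castHom e (BC.push h g₃ z) := by
  induction z using BC.induction_on h with
  | zero => simp
  | tmul b x =>
    simp only [BC.push_tmul, BC.castHom_tmul]
    subst e₂
    rfl
  | add z₁ z₂ h₁ h₂ => simp only [map_add, h₁, h₂]

/-- Pushing a twist is the twist of the push. -/
lemma push_tw (g₁ g₂ g₃ h k k' : A →+* A) (f : P →ₗ[A] BC h P) (e₁ : g₁.comp h = k)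
    (e₀ : g₂.comp k = k') (e₂ : g₂.comp g₁ = g₃) (e : g₃.comp h = k') (z : BC g₁ P) :
    BC.castHom e₀ (BC.push k g₂ (BC.castHom e₁ (tw g₁ h f z))) =
      BC.castHom e (tw g₃ h f (BC.castHom e₂ (BC.push g₁ g₂ z))) := by
  induction z using BC.induction_on g₁ with
  | zero => simp
  | tmul b x =>
    simp only [tw_tmul, BC.push_tmul, BC.castHom_tmul, map_smul, LinearMap.map_smulₛₗ]
    rw [push_push g₁ g₂ g₃ h k k' e₁ e₀ e₂ e]
  | add z₁ z₂ h₁ h₂ => simp only [map_add, h₁, h₂]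

end General

section Block

variable {p : ℕ} [Fact p.Prime] {R : Type u} [CommRing R]
variable {P : Type v} [AddCommGroup P] [Module (WittVector p R) P]

local notation "σ" => (WittVector.frobenius : WittVector p R →+* WittVector p R)

lemma pow_comp_pow (a b : ℕ) : (σ ^ a).comp (σ ^ b) = σ ^ (a + b) := by
  rw [pow_add]; rfl

/-- The block composition law for the iterates of `V^#`. -/
theorem block (Vs : P →ₗ[WittVector p R] BC σ P) (a b : ℕ) :
    ∀ (m : ℕ) (_ : m = a + b) (e : (σ ^ (a + 1)).comp (σ ^ (b + 1)) = σ ^ (m + 1 + 1)) (x : P),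
      vSharpPow Vs (m + 1) x =
        BC.castHom e (tw (σ ^ (a + 1)) (σ ^ (b + 1)) (vSharpPow Vs b) (vSharpPow Vs a x)) := by
  induction a with
  | zero =>
    intro m hm e x
    rw [Nat.zero_add] at hm; subst hm
    rw [vSharpPow_succ_apply, lift_push_map, vSharpPow_zero_apply]
    have := tw_castHom (σ ^ (m + 1)) (vSharpPow Vs m) (pow_one σ).symm (Vs x)
    erw [this, castHom_castHom]
  | succ a ih =>
    intro m hm e x
    obtain ⟨m', rfl⟩ : ∃ m', m = m' + 1 := ⟨a + b, by omega⟩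
    have hm' : m' = a + b := by omega
    have e₁ : (σ ^ (a + 1)).comp (σ ^ (b + 1)) = σ ^ (m' + 1 + 1) := by
      rw [pow_comp_pow, hm']; congr 1; omega
    have IH := ih m' hm' e₁
    rw [vSharpPow_succ_apply, lift_push_map, vSharpPow_succ_apply Vs a, lift_push_map]
    generalize Vs x = z
    induction z using BC.induction_on σ with
    | zero => simp
    | tmul w y =>
      simp only [tw_tmul, map_smul]
      rw [IH y]
      rw [push_tw (σ ^ (a + 1)) σ (σ ^ (a + 1 + 1)) (σ ^ (b + 1)) (σ ^ (m' + 1 + 1))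
        (σ ^ (m' + 1 + 1 + 1)) (vSharpPow Vs b) e₁ (comp_pow_eq_pow_succ σ (m' + 1 + 1))
        (comp_pow_eq_pow_succ σ (a + 1)) e]
    | add z₁ z₂ h₁ h₂ => simp only [map_add, h₁, h₂]

end Block

section Contain

variable {A : Type u} [CommRing A]

lemma map_mem_mul_smul_top {M N : Type*} [AddCommGroup M] [Module A M] [AddCommGroup N] [Module A N]
    (φ : M →ₗ[A] N) (𝔠 𝔡 : Ideal A) (hφ : ∀ z, φ z ∈ 𝔡 • (⊤ : Submodule A N)) {z : M}
    (hz : z ∈ 𝔠 • (⊤ : Submodule A M)) : φ z ∈ (𝔠 * 𝔡) • (⊤ : Submodule A N) := by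
  refine Submodule.smul_induction_on hz (fun c hc z' _ => ?_) (fun z₁ z₂ h₁ h₂ => ?_)
  · rw [map_smul, Submodule.mul_smul]
    exact Submodule.smul_mem_smul hc (hφ z')
  · rw [map_add]; exact Submodule.add_mem _ h₁ h₂

lemma map_mem_smul_top {M N : Type*} [AddCommGroup M] [Module A M] [AddCommGroup N] [Module A N]
    (φ : M →ₗ[A] N) (𝔠 : Ideal A) {z : M}
    (hz : z ∈ 𝔠 • (⊤ : Submodule A M)) : φ z ∈ 𝔠 • (⊤ : Submodule A N) := by
  refine Submodule.smul_induction_on hz (fun c hc z' _ => ?_) (fun z₁ z₂ h₁ h₂ => ?_)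
  · rw [map_smul]
    exact Submodule.smul_mem_smul hc trivial
  · rw [map_add]; exact Submodule.add_mem _ h₁ h₂

variable {P : Type v} [AddCommGroup P] [Module A P]

lemma push_mem (g h : A →+* A) (𝔡 : Ideal A) {z : BC h P}
    (hz : z ∈ 𝔡 • (⊤ : Submodule A (BC h P))) :
    BC.push h g z ∈ (𝔡.map g) • (⊤ : Submodule A (BC (g.comp h) P)) := by
  refine Submodule.smul_induction_on hz (fun c hc z' _ => ?_) (fun z₁ z₂ h₁ h₂ => ?_)
  · rw [LinearMap.map_smulₛₗ]
    exact Submodule.smul_mem_smul (Ideal.mem_map_of_mem g hc) trivial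
  · rw [map_add]; exact Submodule.add_mem _ h₁ h₂

lemma tw_mem (g h : A →+* A) (f : P →ₗ[A] BC h P) (𝔡 : Ideal A)
    (hf : ∀ x, f x ∈ 𝔡 • (⊤ : Submodule A (BC h P))) (z : BC g P) :
    tw g h f z ∈ (𝔡.map g) • (⊤ : Submodule A (BC (g.comp h) P)) := by
  induction z using BC.induction_on g with
  | zero => rw [map_zero]; exact Submodule.zero_mem _
  | tmul b x =>
    rw [tw_tmul]
    exact Submodule.smul_mem _ _ (push_mem g h 𝔡 (hf x))
  | add z₁ z₂ h₁ h₂ => rw [map_add]; exact Submodule.add_mem _ h₁ h₂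

end Contain

section BlockContain

variable {p : ℕ} [Fact p.Prime] {R : Type u} [CommRing R]
variable {P : Type v} [AddCommGroup P] [Module (WittVector p R) P]

local notation "σ" => (WittVector.frobenius : WittVector p R →+* WittVector p R)

theorem block_mem (Vs : P →ₗ[WittVector p R] BC σ P) (a b : ℕ) (𝔠 𝔡 : Ideal (WittVector p R))
    (ha : ∀ x, vSharpPow Vs a x ∈ 𝔠 • (⊤ : Submodule (WittVector p R) (BC (σ ^ (a + 1)) P)))
    (hb : ∀ x, vSharpPow Vs b x ∈ 𝔡 • (⊤ : Submodule (WittVector p R) (BC (σ ^ (b + 1)) P)))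
    (x : P) :
    vSharpPow Vs (a + b + 1) x ∈
      (𝔠 * 𝔡.map (σ ^ (a + 1))) • (⊤ : Submodule (WittVector p R) (BC (σ ^ (a + b + 1 + 1)) P)) := by
  have e : (σ ^ (a + 1)).comp (σ ^ (b + 1)) = σ ^ (a + b + 1 + 1) := by
    rw [pow_comp_pow]; congr 1; omega
  rw [block Vs a b (a + b) rfl e x]
  refine map_mem_mul_smul_top ((BC.castHom e).comp (tw (σ ^ (a + 1)) (σ ^ (b + 1)) (vSharpPow Vs b)))
    𝔠 _ (fun z => ?_) (ha x)
  exact map_mem_smul_top (BC.castHom e) _ (tw_mem _ _ _ 𝔡 hb z)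

lemma map_frobenius_pow_le (j : ℕ) :
    (W4c1extbt610.IV p R ⊔ Ideal.span {(p : WittVector p R)}).map (σ ^ (j + 1)) ≤
      Ideal.span {(p : WittVector p R)} := by
  rw [Ideal.map_le_iff_le_comap, sup_le_iff]
  constructor
  · rw [W4c1extbt610.IV, Ideal.span_le]
    rintro _ ⟨w, rfl⟩
    rw [SetLike.mem_coe, Ideal.mem_comap]
    rw [pow_succ, RingHom.mul_def, RingHom.comp_apply, WittVector.frobenius_verschiebung, map_mul,
      map_natCast]
    exact Ideal.mul_mem_left _ _ (Ideal.mem_span_singleton_self _)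
  · rw [Ideal.span_le, Set.singleton_subset_iff]
    rw [SetLike.mem_coe, Ideal.mem_comap, map_natCast]
    exact Ideal.mem_span_singleton_self _

theorem exists_mem_span_pow (Vs : P →ₗ[WittVector p R] BC σ P) (hnil : IsVNilpotent Vs) (k : ℕ) :
    ∃ N : ℕ, ∀ x, vSharpPow Vs N x ∈
      Ideal.span {(p : WittVector p R) ^ k} •
        (⊤ : Submodule (WittVector p R) (BC (σ ^ (N + 1)) P)) := by
  obtain ⟨n₀, hn₀⟩ := hnil
  induction k with
  | zero =>
    refine ⟨0, fun x => ?_⟩
    rw [pow_zero, Ideal.span_singleton_one, Submodule.top_smul]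
    trivial
  | succ k ih =>
    obtain ⟨N, hN⟩ := ih
    refine ⟨N + n₀ + 1, fun x => ?_⟩
    have := block_mem Vs N n₀ _ _ hN hn₀ x
    refine Submodule.smul_mono_left ?_ this
    rw [pow_succ (p : WittVector p R) k, ← Ideal.span_singleton_mul_span_singleton]
    exact Ideal.mul_mono_right (map_frobenius_pow_le N)

end BlockContain

end Groth.Agent.Lib.Helper86.VSharpPow
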