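import Mathlib
import Groth.Prelude.Def_Dieu
import Groth.Prelude.Def_Disp2
import Groth.Agent.Lib.Helper86.VSharpPow
import Groth.Agent.Lib.Helper86.VSharpExists

set_option autoImplicit false
set_option linter.unusedSectionVars false
universe u v

namespace Groth.Agent.Lib.Helper86.DispBC

open Dieu Groth.Agent.Lib.Helper86.VSharpPow

section Theta

variable {A B : Type u} [CommRing A] [CommRing B] (φ : A →+* B)
variable {P : Type v} [AddCommGroup P] [Module A P]

/-- `x ↦ 1 ⊗ (1 ⊗ x)`. -/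
noncomputable def psi (gB : B →+* B) : P →ₛₗ[gB.comp φ] BC gB (BC φ P) :=
  haveI : RingHomCompTriple φ gB (gB.comp φ) := ⟨rfl⟩
  (BC.ι gB (BC φ P)).comp (BC.ι φ P)

lemma psi_apply (gB : B →+* B) (x : P) : psi φ gB x = BC.tmul gB 1 (BC.tmul φ 1 x) := rfl

/-- The base change map `A ⊗_{gA} P → B ⊗_{gB} (B ⊗_φ P)`, `u ⊗ x ↦ φ u ⊗ (1 ⊗ x)`. -/
noncomputable def theta (gA : A →+* A) (gB : B →+* B) (h : φ.comp gA = gB.comp φ) :
    BC gA P →ₛₗ[φ] BC gB (BC φ P) :=
  ((BC.lift (gB.comp φ) (psi φ gB)).comp (BC.castHom h)).comp (BC.push gA φ)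

@[simp] lemma theta_tmul (gA : A →+* A) (gB : B →+* B) (h : φ.comp gA = gB.comp φ) (u : A) (x : P) :
    theta φ gA gB h (BC.tmul gA u x) = BC.tmul gB (φ u) (BC.tmul φ 1 x) := by
  rw [theta, LinearMap.comp_apply, BC.push_tmul, LinearMap.comp_apply, BC.castHom_tmul,
    BC.lift_tmul, psi_apply, BC.smul_tmul, mul_one]

lemma theta_castHom {gA gA' : A →+* A} {gB gB' : B →+* B} (h : φ.comp gA = gB.comp φ)
    (eA : gA = gA') (eB : gB = gB') (h' : φ.comp gA' = gB'.comp φ) (z : BC gA P) :
    BC.castHom eB (theta φ gA gB h z) = theta φ gA' gB' h' (BC.castHom eA z) := by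
  subst eA; subst eB; rfl

lemma theta_mem (gA : A →+* A) (gB : B →+* B) (h : φ.comp gA = gB.comp φ) (𝔡 : Ideal A)
    {z : BC gA P} (hz : z ∈ 𝔡 • (⊤ : Submodule A (BC gA P))) :
    theta φ gA gB h z ∈ (𝔡.map φ) • (⊤ : Submodule B (BC gB (BC φ P))) := by
  refine Submodule.smul_induction_on hz (fun c hc z' _ => ?_) (fun z₁ z₂ h₁ h₂ => ?_)
  · rw [LinearMap.map_smulₛₗ]
    exact Submodule.smul_mem_smul (Ideal.mem_map_of_mem φ hc) trivial
  · rw [map_add]; exact Submodule.add_mem _ h₁ h₂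

/-- pushing commutes with `theta` -/
lemma push_theta (gA kA : A →+* A) (gB kB : B →+* B) (h : φ.comp gA = gB.comp φ)
    (hk : φ.comp kA = kB.comp φ) (h' : φ.comp (kA.comp gA) = (kB.comp gB).comp φ) (z : BC gA P) :
    BC.push gB kB (theta φ gA gB h z) = theta φ (kA.comp gA) (kB.comp gB) h' (BC.push gA kA z) := by
  induction z using BC.induction_on gA with
  | zero => simp
  | tmul u x =>
    rw [theta_tmul, BC.push_tmul, BC.push_tmul, theta_tmul]
    congr 1
    exact (congr($hk u)).symm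
  | add z₁ z₂ h₁ h₂ => simp only [map_add, h₁, h₂]

end Theta

section TwTheta

variable {A B : Type u} [CommRing A] [CommRing B] (φ : A →+* B)
variable {P : Type v} [AddCommGroup P] [Module A P]

lemma tw_theta (gA hA : A →+* A) (gB hB : B →+* B) (hg : φ.comp gA = gB.comp φ)
    (hh : φ.comp hA = hB.comp φ) (h' : φ.comp (gA.comp hA) = (gB.comp hB).comp φ)
    (f : P →ₗ[A] BC hA P) (f' : BC φ P →ₗ[B] BC hB (BC φ P))
    (hff' : ∀ x, f' (BC.tmul φ 1 x) = theta φ hA hB hh (f x)) (z : BC gA P) :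
    tw gB hB f' (theta φ gA gB hg z) = theta φ (gA.comp hA) (gB.comp hB) h' (tw gA hA f z) := by
  induction z using BC.induction_on gA with
  | zero => simp
  | tmul u x =>
    rw [theta_tmul, tw_tmul, tw_tmul, hff', LinearMap.map_smulₛₗ,
      push_theta φ hA gA hB gB hh hg h']
  | add z₁ z₂ h₁ h₂ => simp only [map_add, h₁, h₂]

end TwTheta

section Disp

variable {p : ℕ} [Fact p.Prime] {S R : Type u} [CommRing S] [CommRing R] (f : S →+* R)
variable {P : Type v} [AddCommGroup P] [Module (WittVector p S) P]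

local notation "σS" => (WittVector.frobenius : WittVector p S →+* WittVector p S)
local notation "σR" => (WittVector.frobenius : WittVector p R →+* WittVector p R)
local notation "Wf" => (WittVector.map f : WittVector p S →+* WittVector p R)

lemma map_comp_frobenius : (Wf).comp σS = (σR).comp Wf := by
  refine RingHom.ext fun x => ?_
  exact (WittVector.frobenius_isPoly p).map f x

lemma map_comp_frobenius_pow (n : ℕ) : (Wf).comp (σS ^ n) = (σR ^ n).comp Wf := by
  induction n with
  | zero => rfl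
  | succ n ih =>
    rw [pow_succ, pow_succ, RingHom.mul_def, RingHom.mul_def, ← RingHom.comp_assoc, ih,
      RingHom.comp_assoc, map_comp_frobenius, ← RingHom.comp_assoc]

/-- The base change of `V^#`. -/
noncomputable def VsBC (Vs : P →ₗ[WittVector p S] BC σS P) :
    BC Wf P →ₗ[WittVector p R] BC σR (BC Wf P) :=
  BC.lift Wf ((theta Wf σS σR (map_comp_frobenius f)).comp Vs)

lemma VsBC_tmul (Vs : P →ₗ[WittVector p S] BC σS P) (w : WittVector p R) (x : P) :
    VsBC f Vs (BC.tmul Wf w x) = w • theta Wf σS σR (map_comp_frobenius f) (Vs x) := by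
  rw [VsBC, BC.lift_tmul]; rfl

theorem vSharpPow_VsBC (Vs : P →ₗ[WittVector p S] BC σS P) (n : ℕ) (w : WittVector p R) (x : P) :
    vSharpPow (VsBC f Vs) n (BC.tmul Wf w x) =
      w • theta Wf (σS ^ (n + 1)) (σR ^ (n + 1)) (map_comp_frobenius_pow f (n + 1))
        (vSharpPow Vs n x) := by
  induction n generalizing w x with
  | zero =>
    rw [vSharpPow_zero_apply, vSharpPow_zero_apply, VsBC_tmul, map_smul]
    rw [theta_castHom Wf (map_comp_frobenius f) (pow_one σS).symm (pow_one σR).symm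
      (map_comp_frobenius_pow f (0 + 1))]
  | succ n ih =>
    rw [vSharpPow_succ_apply, lift_push_map, vSharpPow_succ_apply, lift_push_map, VsBC_tmul,
      map_smul, map_smul]
    have hff' : ∀ x, vSharpPow (VsBC f Vs) n (BC.tmul Wf 1 x) =
        theta Wf (σS ^ (n + 1)) (σR ^ (n + 1)) (map_comp_frobenius_pow f (n + 1))
          (vSharpPow Vs n x) := by
      intro x; rw [ih, one_smul]
    have h' : (Wf).comp ((σS).comp (σS ^ (n + 1))) = ((σR).comp (σR ^ (n + 1))).comp Wf := by
      rw [comp_pow_eq_pow_succ, comp_pow_eq_pow_succ]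
      exact map_comp_frobenius_pow f (n + 1 + 1)
    rw [tw_theta Wf σS (σS ^ (n + 1)) σR (σR ^ (n + 1)) (map_comp_frobenius f)
      (map_comp_frobenius_pow f (n + 1)) h' (vSharpPow Vs n) (vSharpPow (VsBC f Vs) n) hff']
    rw [theta_castHom Wf h' (comp_pow_eq_pow_succ σS (n + 1)) (comp_pow_eq_pow_succ σR (n + 1))
      (map_comp_frobenius_pow f (n + 1 + 1))]

lemma b_map_le : (W4c1extbt610.IV p S ⊔ Ideal.span {(p : WittVector p S)}).map Wf ≤
    W4c1extbt610.IV p R ⊔ Ideal.span {(p : WittVector p R)} := by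
  rw [Ideal.map_le_iff_le_comap, sup_le_iff]
  constructor
  · rw [W4c1extbt610.IV, Ideal.span_le]
    rintro _ ⟨u, rfl⟩
    rw [SetLike.mem_coe, Ideal.mem_comap, WittVector.map_verschiebung]
    exact Ideal.mem_sup_left (W4c1extbt610.verschiebung_mem_IV p R _)
  · rw [Ideal.span_le, Set.singleton_subset_iff, SetLike.mem_coe, Ideal.mem_comap, map_natCast]
    exact Ideal.mem_sup_right (Ideal.mem_span_singleton_self _)

theorem isVNilpotent_VsBC (Vs : P →ₗ[WittVector p S] BC σS P) (h : IsVNilpotent Vs) :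
    IsVNilpotent (VsBC f Vs) := by
  obtain ⟨n, hn⟩ := h
  refine ⟨n, fun z => ?_⟩
  induction z using BC.induction_on Wf with
  | zero => rw [map_zero]; exact Submodule.zero_mem _
  | tmul w x =>
    rw [vSharpPow_VsBC]
    refine Submodule.smul_mem _ _ (Submodule.smul_mono_left (b_map_le f) ?_)
    exact theta_mem Wf _ _ _ _ (hn x)
  | add z₁ z₂ h₁ h₂ => rw [map_add]; exact Submodule.add_mem _ h₁ h₂

theorem eq_VsBC (D : W4c1extbt610.Display3n p S P)
    (DR : W4c1extbt610.Display3n p R (BC Wf P)) (hDR : IsDispBaseChange f D DR)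
    (Vs : P →ₗ[WittVector p S] BC σS P) (hVs : IsVSharp D Vs)
    (VsR : BC Wf P →ₗ[WittVector p R] BC σR (BC Wf P)) (hVsR : IsVSharp DR VsR) :
    VsR = VsBC f Vs := by
  let N : Submodule (WittVector p S) P :=
    { carrier := {x | ∀ w, VsR (BC.tmul Wf w x) = VsBC f Vs (BC.tmul Wf w x)}
      add_mem' := by
        intro x y hx hy w
        rw [BC.tmul_add, map_add, map_add, hx w, hy w]
      zero_mem' := by
        intro w
        rw [BC.tmul_zero, map_zero, map_zero]
      smul_mem' := by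
        intro a x hx w
        rw [← BC.tmul_mul_apply]
        exact hx _ }
  have hN : N = ⊤ := by
    rw [eq_top_iff, ← D.span_range_Vinv, Submodule.span_le]
    rintro _ ⟨y, rfl⟩ w
    have hmem : BC.tmul Wf 1 (y : P) ∈ DR.Q := by
      rw [hDR.Q_eq, LinearMap.mem_ker, bcQuotMap_tmul]
      have : D.Q.mkQ (y : P) = 0 := by
        rw [Submodule.mkQ_apply, Submodule.Quotient.mk_eq_zero]; exact y.2
      rw [this, BC.tmul_zero]
    have h1 := hDR.Vinv_tmul 1 y hmem
    rw [map_one] at h1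
    have h2 := hVsR.app_smul_Vinv w ⟨_, hmem⟩
    rw [h1, BC.smul_tmul, mul_one] at h2
    rw [h2, VsBC_tmul]
    have h3 := hVs.app_smul_Vinv 1 y
    rw [one_smul] at h3
    rw [h3, theta_tmul, map_one, BC.smul_tmul, mul_one]
  apply LinearMap.ext
  intro z
  induction z using BC.induction_on Wf with
  | zero => rw [map_zero, map_zero]
  | tmul w x =>
    have : x ∈ N := hN ▸ Submodule.mem_top
    exact this w
  | add z₁ z₂ h₁ h₂ => rw [map_add, map_add, h₁, h₂]

theorem isDisplay_baseChange (hp : IsNilpotent (p : S)) (D : W4c1extbt610.Display3n p S P)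
    (hD : IsDisplay D) (DR : W4c1extbt610.Display3n p R (BC Wf P))
    (hDR : IsDispBaseChange f D DR) : IsDisplay DR := by
  obtain ⟨Vs, hVs, hnil⟩ := hD
  have hpR : IsNilpotent (p : R) := by
    have := hp.map f
    rwa [map_natCast] at this
  obtain ⟨VsR, hVsR⟩ := Groth.Agent.Lib.Helper86.VSharpExists.exists_isVSharp DR hpR
  refine ⟨VsR, hVsR, ?_⟩
  rw [eq_VsBC f D DR hDR Vs hVs VsR hVsR]
  exact isVNilpotent_VsBC f Vs hnil

end Disp

end Groth.Agent.Lib.Helper86.DispBC
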