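import Mathlib
import Groth.Prelude.Def_Dieu
import Groth.Prelude.Def_Disp2
import Groth.Agent.Lib.Helper86.VSharpExists
import Groth.Agent.Lib.Helper86.DispBC

set_option autoImplicit false
set_option linter.unusedSectionVars false
universe u v

namespace Groth.Agent.Lib.Helper86.DispBCExists

open Dieu WittVector Groth.Agent.Lib.Helper86.VSharpExists Groth.Agent.Lib.Helper86.DispBC

/-! ### Division by `V` on `I_R` -/
section Vdiv

variable {p : ℕ} [Fact p.Prime] {R : Type u} [CommRing R]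

noncomputable def vdivFun (a : W4c1extbt610.IV p R) : WittVector p R :=
  Classical.choose ((mem_IV_iff (a : WittVector p R)).mp a.2)

lemma vdivFun_spec (a : W4c1extbt610.IV p R) : (a : WittVector p R) = verschiebung (vdivFun a) :=
  Classical.choose_spec ((mem_IV_iff (a : WittVector p R)).mp a.2)

/-- `V⁻¹ : I_R → W(R)`, a Frobenius-semilinear bijection. -/
noncomputable def Vdiv :
    W4c1extbt610.IV p R →ₛₗ[(WittVector.frobenius : WittVector p R →+* WittVector p R)]
      WittVector p R where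
  toFun := vdivFun
  map_add' a b := by
    apply verschiebung_injective p R
    rw [map_add, ← vdivFun_spec, ← vdivFun_spec, ← vdivFun_spec]
    rfl
  map_smul' c a := by
    apply verschiebung_injective p R
    rw [← vdivFun_spec, smul_eq_mul, mul_comm, verschiebung_mul_frobenius, ← vdivFun_spec, mul_comm]
    rfl

lemma Vdiv_eq_of_eq (a : W4c1extbt610.IV p R) (u : WittVector p R)
    (h : (a : WittVector p R) = verschiebung u) : Vdiv a = u := by
  apply verschiebung_injective p R
  rw [← h]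
  exact (vdivFun_spec a).symm

lemma verschiebung_Vdiv (a : W4c1extbt610.IV p R) : verschiebung (Vdiv a) = (a : WittVector p R) :=
  (vdivFun_spec a).symm

end Vdiv

/-! ### Base change of a semilinear map and of a functional -/
section BcSemi

variable {A B : Type u} [CommRing A] [CommRing B] (φ : A →+* B) (gA : A →+* A) (gB : B →+* B)
  (h : φ.comp gA = gB.comp φ)
variable {P P' : Type v} [AddCommGroup P] [Module A P] [AddCommGroup P'] [Module A P']

/-- `x ↦ 1 ⊗ G x`. -/
noncomputable def ιG (G : P →ₛₗ[gA] P') : P →ₛₗ[φ.comp gA] BC φ P' :=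
  haveI : RingHomCompTriple gA φ (φ.comp gA) := ⟨rfl⟩
  (BC.ι φ P').comp G

lemma ιG_apply (G : P →ₛₗ[gA] P') (x : P) : ιG φ gA G x = BC.tmul φ 1 (G x) := rfl

/-- `b ⊗ x ↦ gB b ⊗ G x`. -/
noncomputable def bcSemi (G : P →ₛₗ[gA] P') : BC φ P →ₛₗ[gB] BC φ P' :=
  ((BC.lift (φ.comp gA) (ιG φ gA G)).comp (BC.castHom h.symm)).comp (BC.push φ gB)

@[simp] lemma bcSemi_tmul (G : P →ₛₗ[gA] P') (b : B) (x : P) :
    bcSemi φ gA gB h G (BC.tmul φ b x) = BC.tmul φ (gB b) (G x) := by
  rw [bcSemi, LinearMap.comp_apply, BC.push_tmul, LinearMap.comp_apply, BC.castHom_tmul,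
    BC.lift_tmul, ιG_apply, BC.smul_tmul, mul_one]

/-- `b ⊗ x ↦ b * φ (c x)`. -/
noncomputable def bcFun (c : P →ₗ[A] A) : BC φ P →ₗ[B] B :=
  BC.lift φ ((semilinearOfRingHom φ).comp c)

@[simp] lemma bcFun_tmul (c : P →ₗ[A] A) (b : B) (x : P) :
    bcFun φ c (BC.tmul φ b x) = b * φ (c x) := by
  rw [bcFun, BC.lift_tmul]
  rfl

end BcSemi

/-! ### Dual bases -/
section DualBasis

variable {A B : Type u} [CommRing A] [CommRing B] (φ : A →+* B)
variable {P : Type v} [AddCommGroup P] [Module A P]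

lemma exists_dualBasis [Module.Finite A P] [Module.Projective A P] :
    ∃ (n : ℕ) (m : Fin n → P) (c : Fin n → (P →ₗ[A] A)), ∀ x, x = ∑ i, c i x • m i := by
  obtain ⟨n, f, g, -, -, hfg⟩ := Module.Finite.exists_comp_eq_id_of_projective A P
  refine ⟨n, fun i => f (fun j => if i = j then 1 else 0), fun i => (LinearMap.proj i).comp g, ?_⟩
  intro x
  have h1 : f (g x) = x := congr($hfg x)
  conv_lhs => rw [← h1, LinearMap.pi_apply_eq_sum_univ f (g x)]
  rfl

lemma bc_dualBasis {n : ℕ} (e : P →ₗ[A] P) (m : Fin n → P) (c : Fin n → (P →ₗ[A] A))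
    (hmc : ∀ x, e x = ∑ i, c i x • m i) (z : BC φ P) :
    BC.map φ e z = ∑ i, bcFun φ (c i) z • BC.tmul φ 1 (m i) := by
  induction z using BC.induction_on φ with
  | zero => simp
  | tmul b x =>
    rw [BC.map_tmul, hmc x]
    have : BC.tmul φ b (∑ i, c i x • m i) = ∑ i, BC.tmul φ b (c i x • m i) := by
      rw [BC.tmul_eq_smul_tmul_one, ← BC.ι_apply, map_sum, Finset.smul_sum]
      refine Finset.sum_congr rfl fun i _ => ?_
      rw [BC.ι_apply, ← BC.tmul_eq_smul_tmul_one]
    rw [this]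
    refine Finset.sum_congr rfl fun i _ => ?_
    rw [bcFun_tmul, BC.smul_tmul, mul_one, BC.tmul_mul_apply]
  | add z₁ z₂ h₁ h₂ =>
    rw [map_add, h₁, h₂, ← Finset.sum_add_distrib]
    refine Finset.sum_congr rfl fun i _ => ?_
    rw [map_add, add_smul]

theorem finite_projective_of_dualBasis {M : Type v} [AddCommGroup M] [Module B M] {n : ℕ}
    (m : Fin n → M) (c : Fin n → (M →ₗ[B] B)) (h : ∀ z, z = ∑ i, c i z • m i) :
    Module.Finite B M ∧ Module.Projective B M := by
  let f : (Fin n → B) →ₗ[B] M := Fintype.linearCombination B m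
  let g : M →ₗ[B] (Fin n → B) := LinearMap.pi c
  have hfg : f.comp g = LinearMap.id := by
    apply LinearMap.ext
    intro z
    rw [LinearMap.comp_apply, LinearMap.id_apply, Fintype.linearCombination_apply]
    exact (h z).symm
  have hsurj : Function.Surjective f := fun z => ⟨g z, congr($hfg z)⟩
  exact ⟨Module.Finite.of_surjective f hsurj, Module.Projective.of_split g f hfg⟩

theorem finite_projective_BC [Module.Finite A P] [Module.Projective A P] :
    Module.Finite B (BC φ P) ∧ Module.Projective B (BC φ P) := by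
  obtain ⟨n, m, c, hmc⟩ := exists_dualBasis (A := A) (P := P)
  refine finite_projective_of_dualBasis (fun i => BC.tmul φ 1 (m i)) (fun i => bcFun φ (c i)) ?_
  have hid : ∀ z : BC φ P, BC.map φ (LinearMap.id : P →ₗ[A] P) z = z := by
    intro z
    induction z using BC.induction_on φ with
    | zero => simp
    | tmul b x => rw [BC.map_tmul]; rfl
    | add z₁ z₂ h₁ h₂ => rw [map_add, h₁, h₂]
  intro z
  have := bc_dualBasis φ LinearMap.id m c hmc z
  rw [← this, hid]

end DualBasis

/-! ### The display over `S`, in terms of a dual basis -/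
section SLevel

variable {p : ℕ} [Fact p.Prime] {S : Type u} [CommRing S]
variable {P : Type v} [AddCommGroup P] [Module (WittVector p S) P]
variable (D : W4c1extbt610.Display3n p S P)
variable (L T : Submodule (WittVector p S) P) (hLT : IsCompl L T)
  (hQ : D.Q = L ⊔ W4c1extbt610.IV p S • T)
variable {n : ℕ} (m : Fin n → P) (c : Fin n → (P →ₗ[WittVector p S] WittVector p S))
  (hmc : ∀ x, x = ∑ i, c i x • m i)

lemma VinvP_congr {x y : P} (h : x = y) (hx : x ∈ D.Q) (hy : y ∈ D.Q) :
    VinvP D x hx = VinvP D y hy := by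
  subst h; rfl

lemma VinvP_sum {ι : Type*} (s : Finset ι) (g : ι → P) (hg : ∀ i, g i ∈ D.Q)
    (h : ∑ i ∈ s, g i ∈ D.Q) :
    VinvP D (∑ i ∈ s, g i) h = ∑ i ∈ s, VinvP D (g i) (hg i) := by
  unfold VinvP
  rw [← map_sum]
  congr 1
  apply Subtype.ext
  rw [Submodule.coe_sum]

/-- the functionals cutting out the `T`-component -/
noncomputable def cT (i : Fin n) : P →ₗ[WittVector p S] WittVector p S := (c i).comp (prT L T hLT)

/-- generators of `T` -/
noncomputable def mT (i : Fin n) : P := prT L T hLT (m i)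

lemma mT_mem (i : Fin n) : mT L T hLT m i ∈ T := prT_mem L T hLT _

include hmc in
lemma prT_eq_sum (x : P) : prT L T hLT x = ∑ i, cT L T hLT c i x • mT L T hLT m i := by
  have h1 : prT L T hLT (prT L T hLT x) = prT L T hLT x := prT_of_mem_T L T hLT (prT_mem L T hLT x)
  conv_lhs => rw [← h1, hmc (prT L T hLT x), map_sum]
  refine Finset.sum_congr rfl fun i _ => ?_
  rw [map_smul]; rfl

include hQ in
lemma prT_mem_IVT {y : P} (hy : y ∈ D.Q) : prT L T hLT y ∈ W4c1extbt610.IV p S • T := by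
  rw [hQ, Submodule.mem_sup] at hy
  obtain ⟨l, hl, z, hz, rfl⟩ := hy
  have hzT : z ∈ T := Submodule.smul_le_right hz
  rw [map_add, prT_of_mem_L L T hLT hl, prT_of_mem_T L T hLT hzT, zero_add]
  exact hz

lemma apply_mem_IV (d : P →ₗ[WittVector p S] WittVector p S) {z : P}
    (hz : z ∈ W4c1extbt610.IV p S • T) : d z ∈ W4c1extbt610.IV p S := by
  refine Submodule.smul_induction_on hz (fun a ha t _ => ?_) (fun z₁ z₂ h₁ h₂ => ?_)
  · rw [map_smul, smul_eq_mul]
    exact Ideal.mul_mem_right _ _ ha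
  · rw [map_add]; exact Ideal.add_mem _ h₁ h₂

include hQ in
lemma cT_mem_IV (i : Fin n) {y : P} (hy : y ∈ D.Q) :
    cT L T hLT c i y ∈ W4c1extbt610.IV p S := by
  have h1 : cT L T hLT c i y = c i (prT L T hLT y) := rfl
  rw [h1]
  exact apply_mem_IV T (c i) (prT_mem_IVT D L T hLT hQ hy)

/-- `V⁻¹ ∘ pr_L`, a semilinear endomorphism of `P`. -/
noncomputable def VL : P →ₛₗ[(WittVector.frobenius : WittVector p S →+* WittVector p S)] P :=
  D.Vinv.comp ((Submodule.inclusion (L_le_Q D L T hQ)).comp (L.projectionOnto T hLT))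

lemma VL_apply (x : P) : VL D L T hLT hQ x =
    VinvP D (prL L T hLT x) (L_le_Q D L T hQ (prL_mem L T hLT x)) := rfl

include hmc in
theorem Vinv_eq (y : P) (hy : y ∈ D.Q) :
    VinvP D y hy = VL D L T hLT hQ y +
      ∑ i, Vdiv ⟨cT L T hLT c i y, cT_mem_IV D L T hLT hQ c i hy⟩ • D.F (mT L T hLT m i) := by
  have hL : prL L T hLT y ∈ D.Q := L_le_Q D L T hQ (prL_mem L T hLT y)
  have hT : prT L T hLT y ∈ D.Q := IVT_le_Q D L T hQ (prT_mem_IVT D L T hLT hQ hy)
  have hsum : prL L T hLT y + prT L T hLT y ∈ D.Q := D.Q.add_mem hL hT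
  rw [VinvP_congr D (prL_add_prT L T hLT y).symm hy hsum, VinvP_add D hL hT, VL_apply]
  congr 1
  have hg : ∀ i, verschiebung (Vdiv ⟨cT L T hLT c i y, cT_mem_IV D L T hLT hQ c i hy⟩) •
      mT L T hLT m i ∈ D.Q := fun i =>
    D.IV_smul_le (Submodule.smul_mem_smul (W4c1extbt610.verschiebung_mem_IV p S _) Submodule.mem_top)
  have hsum2 : ∑ i, verschiebung (Vdiv ⟨cT L T hLT c i y, cT_mem_IV D L T hLT hQ c i hy⟩) •
      mT L T hLT m i ∈ D.Q := D.Q.sum_mem fun i _ => hg i
  have heq : prT L T hLT y = ∑ i, verschiebung (Vdiv ⟨cT L T hLT c i y,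
      cT_mem_IV D L T hLT hQ c i hy⟩) • mT L T hLT m i := by
    rw [prT_eq_sum L T hLT m c hmc y]
    refine Finset.sum_congr rfl fun i _ => ?_
    rw [verschiebung_Vdiv]
  rw [VinvP_congr D heq hT hsum2, VinvP_sum D _ _ hg]
  refine Finset.sum_congr rfl fun i _ => ?_
  exact VinvP_verschiebung_smul D _ _ _

include hmc in
theorem F_eq (x : P) :
    D.F x = (p : WittVector p S) • VL D L T hLT hQ x +
      ∑ i, frobenius (cT L T hLT c i x) • D.F (mT L T hLT m i) := by
  conv_lhs => rw [← prL_add_prT L T hLT x, map_add]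
  congr 1
  · rw [VL_apply]
    exact F_eq_p_smul_VinvP D _
  · rw [prT_eq_sum L T hLT m c hmc x, map_sum]
    refine Finset.sum_congr rfl fun i _ => ?_
    rw [LinearMap.map_smulₛₗ]

end SLevel


/-! ### The base change -/
section RLevel

variable {p : ℕ} [Fact p.Prime] {S R : Type u} [CommRing S] [CommRing R] (f : S →+* R)
variable {P : Type v} [AddCommGroup P] [Module (WittVector p S) P]
variable (D : W4c1extbt610.Display3n p S P)
variable (L T : Submodule (WittVector p S) P) (hLT : IsCompl L T)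
  (hQ : D.Q = L ⊔ W4c1extbt610.IV p S • T)
variable {n : ℕ} (m : Fin n → P) (c : Fin n → (P →ₗ[WittVector p S] WittVector p S))
  (hmc : ∀ x, x = ∑ i, c i x • m i)

local notation "σS" => (WittVector.frobenius : WittVector p S →+* WittVector p S)
local notation "σR" => (WittVector.frobenius : WittVector p R →+* WittVector p R)
local notation "Wf" => (WittVector.map f : WittVector p S →+* WittVector p R)
local notation "w0R" => (WittVector.constantCoeff : WittVector p R →+* R)

lemma tmul_sum {A B : Type u} [CommRing A] [CommRing B] (φ : A →+* B) {M : Type v}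
    [AddCommGroup M] [Module A M] {ι : Type*} (s : Finset ι) (b : B) (g : ι → M) :
    BC.tmul φ b (∑ i ∈ s, g i) = ∑ i ∈ s, BC.tmul φ b (g i) := by
  rw [BC.tmul_eq_smul_tmul_one, ← BC.ι_apply, map_sum, Finset.smul_sum]
  refine Finset.sum_congr rfl fun i _ => ?_
  rw [BC.ι_apply, ← BC.tmul_eq_smul_tmul_one]

lemma map_frobenius_eq (a : WittVector p S) : Wf (σS a) = σR (Wf a) :=
  congr($(map_comp_frobenius f) a)

/-- `Q_R` -/
noncomputable def QR : Submodule (WittVector p R) (BC Wf P) := LinearMap.ker (bcQuotMap f D.Q)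

/-- `F_R` -/
noncomputable def FR : BC Wf P →ₛₗ[σR] BC Wf P := bcSemi Wf σS σR (map_comp_frobenius f) D.F

lemma FR_tmul (w : WittVector p R) (x : P) :
    FR f D (BC.tmul Wf w x) = BC.tmul Wf (σR w) (D.F x) := bcSemi_tmul _ _ _ _ _ _ _

/-- base change of `V⁻¹ ∘ pr_L` -/
noncomputable def VLR : BC Wf P →ₛₗ[σR] BC Wf P :=
  bcSemi Wf σS σR (map_comp_frobenius f) (VL D L T hLT hQ)

lemma VLR_tmul (w : WittVector p R) (x : P) :
    VLR f D L T hLT hQ (BC.tmul Wf w x) = BC.tmul Wf (σR w) (VL D L T hLT hQ x) :=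
  bcSemi_tmul _ _ _ _ _ _ _

/-- base change of the functionals `cT` -/
noncomputable def CT (i : Fin n) : BC Wf P →ₗ[WittVector p R] WittVector p R :=
  bcFun Wf (cT L T hLT c i)

lemma CT_tmul (i : Fin n) (w : WittVector p R) (x : P) :
    CT f L T hLT c i (BC.tmul Wf w x) = w * Wf (cT L T hLT c i x) := bcFun_tmul _ _ _ _

/-- the functional on `P/Q` induced by `cT i`, with values in `R`. -/
noncomputable def dT (i : Fin n) : (P ⧸ D.Q) →ₛₗ[(w0R).comp Wf] R :=
  D.Q.liftQ ((semilinearOfRingHom ((w0R).comp Wf)).comp (cT L T hLT c i)) (by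
    intro y hy
    rw [LinearMap.mem_ker, LinearMap.comp_apply, semilinearOfRingHom_apply, RingHom.comp_apply]
    obtain ⟨u, hu⟩ := (mem_IV_iff _).mp (cT_mem_IV D L T hLT hQ c i hy)
    rw [hu, map_verschiebung, ← RingHom.mem_ker, ← IV_eq_ker]
    exact W4c1extbt610.verschiebung_mem_IV p R _)

lemma dT_mkQ (i : Fin n) (x : P) :
    dT f D L T hLT hQ c i (D.Q.mkQ x) = w0R (Wf (cT L T hLT c i x)) := rfl

lemma dT_bcQuotMap (i : Fin n) (z : BC Wf P) :
    BC.lift ((w0R).comp Wf) (dT f D L T hLT hQ c i) (bcQuotMap f D.Q z) =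
      w0R (CT f L T hLT c i z) := by
  induction z using BC.induction_on Wf with
  | zero => simp
  | tmul w x =>
    rw [bcQuotMap_tmul, BC.lift_tmul, dT_mkQ, CT_tmul, map_mul, smul_eq_mul]
  | add z₁ z₂ h₁ h₂ => rw [map_add, map_add, map_add, map_add, h₁, h₂]

include hQ in
lemma CT_mem_IV (i : Fin n) {z : BC Wf P} (hz : z ∈ QR f D) :
    CT f L T hLT c i z ∈ W4c1extbt610.IV p R := by
  rw [IV_eq_ker, RingHom.mem_ker, ← dT_bcQuotMap f D L T hLT hQ c i z]
  have : bcQuotMap f D.Q z = 0 := hz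
  rw [this, map_zero]

/-- `V_R⁻¹` -/
noncomputable def VinvR : QR f D →ₛₗ[σR] BC Wf P :=
  (VLR f D L T hLT hQ).comp (QR f D).subtype +
    ∑ i, (LinearMap.toSpanSingleton (WittVector p R) (BC Wf P)
        (BC.tmul Wf 1 (D.F (mT L T hLT m i)))).comp
      (Vdiv.comp (LinearMap.codRestrict (W4c1extbt610.IV p R)
        ((CT f L T hLT c i).comp (QR f D).subtype)
        (fun z => CT_mem_IV f D L T hLT hQ c i z.2)))

lemma VinvR_apply (z : BC Wf P) (hz : z ∈ QR f D) :
    VinvR f D L T hLT hQ m c ⟨z, hz⟩ = VLR f D L T hLT hQ z +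
      ∑ i, Vdiv ⟨CT f L T hLT c i z, CT_mem_IV f D L T hLT hQ c i hz⟩ •
        BC.tmul Wf 1 (D.F (mT L T hLT m i)) := by
  rw [VinvR, LinearMap.add_apply, LinearMap.sum_apply]
  rfl

include hmc in
theorem VinvR_tmul (w : WittVector p R) (y : P) (hy : y ∈ D.Q) (h : BC.tmul Wf w y ∈ QR f D) :
    VinvR f D L T hLT hQ m c ⟨_, h⟩ = BC.tmul Wf (σR w) (VinvP D y hy) := by
  rw [VinvR_apply, VLR_tmul, Vinv_eq D L T hLT hQ m c hmc y hy, BC.tmul_add]
  congr 1
  rw [tmul_sum]
  refine Finset.sum_congr rfl fun i _ => ?_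
  have hv : Vdiv ⟨CT f L T hLT c i (BC.tmul Wf w y), CT_mem_IV f D L T hLT hQ c i h⟩ =
      σR w * Wf (Vdiv ⟨cT L T hLT c i y, cT_mem_IV D L T hLT hQ c i hy⟩) := by
    apply Vdiv_eq_of_eq
    show CT f L T hLT c i (BC.tmul Wf w y) = _
    rw [CT_tmul, mul_comm (σR w), verschiebung_mul_frobenius, ← map_verschiebung,
      verschiebung_Vdiv, mul_comm]
  rw [hv, BC.smul_tmul, mul_one, BC.tmul_mul_apply]

include hmc in
theorem VinvR_verschiebung_tmul (w : WittVector p R) (x : P)
    (h : BC.tmul Wf (verschiebung w) x ∈ QR f D) :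
    VinvR f D L T hLT hQ m c ⟨_, h⟩ = BC.tmul Wf w (D.F x) := by
  rw [VinvR_apply, VLR_tmul, F_eq D L T hLT hQ m c hmc x, BC.tmul_add, frobenius_verschiebung]
  congr 1
  · rw [← BC.tmul_mul_apply, map_natCast]
  · rw [tmul_sum]
    refine Finset.sum_congr rfl fun i _ => ?_
    have hv : Vdiv ⟨CT f L T hLT c i (BC.tmul Wf (verschiebung w) x),
        CT_mem_IV f D L T hLT hQ c i h⟩ = w * Wf (σS (cT L T hLT c i x)) := by
      apply Vdiv_eq_of_eq
      show CT f L T hLT c i (BC.tmul Wf (verschiebung w) x) = _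
      rw [CT_tmul, map_frobenius_eq, verschiebung_mul_frobenius]
    rw [hv, BC.smul_tmul, mul_one, BC.tmul_mul_apply]

end RLevel


/-! ### Assembling the base-changed display -/
section Assemble

variable {p : ℕ} [Fact p.Prime] {S R : Type u} [CommRing S] [CommRing R] (f : S →+* R)
variable {P : Type v} [AddCommGroup P] [Module (WittVector p S) P]
variable (D : W4c1extbt610.Display3n p S P)
variable (L T : Submodule (WittVector p S) P) (hLT : IsCompl L T)
  (hQ : D.Q = L ⊔ W4c1extbt610.IV p S • T)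
variable {n : ℕ} (m : Fin n → P) (c : Fin n → (P →ₗ[WittVector p S] WittVector p S))
  (hmc : ∀ x, x = ∑ i, c i x • m i)

local notation "σS" => (WittVector.frobenius : WittVector p S →+* WittVector p S)
local notation "σR" => (WittVector.frobenius : WittVector p R →+* WittVector p R)
local notation "Wf" => (WittVector.map f : WittVector p S →+* WittVector p R)

lemma IVR_smul_le :
    W4c1extbt610.IV p R • (⊤ : Submodule (WittVector p R) (BC Wf P)) ≤ QR f D := by
  rw [Submodule.smul_le]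
  intro a ha z _
  show bcQuotMap f D.Q (a • z) = 0
  rw [LinearMap.map_smulₛₗ]
  have : constantCoeff a = 0 := by rwa [IV_eq_ker, RingHom.mem_ker] at ha
  rw [this, zero_smul]

lemma tmul_mem_QR (w : WittVector p R) {y : P} (hy : y ∈ D.Q) : BC.tmul Wf w y ∈ QR f D := by
  show bcQuotMap f D.Q (BC.tmul Wf w y) = 0
  rw [bcQuotMap_tmul]
  have : D.Q.mkQ y = 0 := by
    rw [Submodule.mkQ_apply, Submodule.Quotient.mk_eq_zero]; exact hy
  rw [this, BC.tmul_zero]

/-- the projection onto `L_R` -/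
noncomputable def prLR : BC Wf P →ₗ[WittVector p R] BC Wf P := BC.map Wf (prL L T hLT)

/-- the projection onto `T_R` -/
noncomputable def prTR : BC Wf P →ₗ[WittVector p R] BC Wf P := BC.map Wf (prT L T hLT)

lemma prLR_tmul (w : WittVector p R) (x : P) :
    prLR f L T hLT (BC.tmul Wf w x) = BC.tmul Wf w (prL L T hLT x) := BC.map_tmul _ _ _ _

lemma prTR_tmul (w : WittVector p R) (x : P) :
    prTR f L T hLT (BC.tmul Wf w x) = BC.tmul Wf w (prT L T hLT x) := BC.map_tmul _ _ _ _

lemma prLR_add_prTR (z : BC Wf P) : prLR f L T hLT z + prTR f L T hLT z = z := by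
  induction z using BC.induction_on Wf with
  | zero => simp
  | tmul w x => rw [prLR_tmul, prTR_tmul, ← BC.tmul_add, prL_add_prT]
  | add z₁ z₂ h₁ h₂ =>
    rw [map_add, map_add, add_add_add_comm, h₁, h₂]

lemma prLR_prLR (z : BC Wf P) : prLR f L T hLT (prLR f L T hLT z) = prLR f L T hLT z := by
  induction z using BC.induction_on Wf with
  | zero => simp
  | tmul w x => rw [prLR_tmul, prLR_tmul, prL_of_mem_L L T hLT (prL_mem L T hLT x)]
  | add z₁ z₂ h₁ h₂ => rw [map_add, map_add, h₁, h₂]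

lemma prLR_prTR (z : BC Wf P) : prLR f L T hLT (prTR f L T hLT z) = 0 := by
  induction z using BC.induction_on Wf with
  | zero => simp
  | tmul w x => rw [prTR_tmul, prLR_tmul, prL_of_mem_T L T hLT (prT_mem L T hLT x), BC.tmul_zero]
  | add z₁ z₂ h₁ h₂ => rw [map_add, map_add, h₁, h₂, add_zero]

include hQ in
lemma prLR_mem_QR (z : BC Wf P) : prLR f L T hLT z ∈ QR f D := by
  induction z using BC.induction_on Wf with
  | zero => rw [map_zero]; exact Submodule.zero_mem _
  | tmul w x =>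
    rw [prLR_tmul]
    exact tmul_mem_QR f D w (L_le_Q D L T hQ (prL_mem L T hLT x))
  | add z₁ z₂ h₁ h₂ => rw [map_add]; exact Submodule.add_mem _ h₁ h₂

include hmc in
lemma prTR_eq_sum (z : BC Wf P) : prTR f L T hLT z =
    ∑ i, CT f L T hLT c i z • BC.tmul Wf 1 (mT L T hLT m i) :=
  bc_dualBasis Wf (prT L T hLT) (mT L T hLT m) (cT L T hLT c) (prT_eq_sum L T hLT m c hmc) z

lemma isCompl_range : IsCompl (LinearMap.range (prLR f L T hLT)) (LinearMap.range (prTR f L T hLT)) := by
  constructor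
  · rw [Submodule.disjoint_def]
    rintro x ⟨a, rfl⟩ ⟨b, hb⟩
    rw [← prLR_prLR, ← hb, prLR_prTR]
  · rw [codisjoint_iff, eq_top_iff]
    intro z _
    rw [← prLR_add_prTR f L T hLT z]
    exact Submodule.add_mem_sup (LinearMap.mem_range_self _ _) (LinearMap.mem_range_self _ _)

include hQ hmc in
lemma QR_eq : QR f D = LinearMap.range (prLR f L T hLT) ⊔
    W4c1extbt610.IV p R • LinearMap.range (prTR f L T hLT) := by
  apply le_antisymm
  · intro z hz
    rw [← prLR_add_prTR f L T hLT z]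
    refine Submodule.add_mem_sup (LinearMap.mem_range_self _ _) ?_
    rw [prTR_eq_sum f L T hLT m c hmc]
    refine Submodule.sum_mem _ fun i _ => ?_
    refine Submodule.smul_mem_smul (CT_mem_IV f D L T hLT hQ c i hz) ?_
    exact ⟨BC.tmul Wf 1 (m i), prTR_tmul f L T hLT 1 (m i)⟩
  · rw [sup_le_iff]
    constructor
    · rintro _ ⟨a, rfl⟩
      exact prLR_mem_QR f D L T hLT hQ a
    · exact (Submodule.smul_mono le_rfl le_top).trans (IVR_smul_le f D)

include hmc in
lemma span_range_VinvR :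
    Submodule.span (WittVector p R) (Set.range (VinvR f D L T hLT hQ m c)) = ⊤ := by
  have h1 : ∀ x : P, BC.tmul Wf 1 x ∈
      Submodule.span (WittVector p R) (Set.range (VinvR f D L T hLT hQ m c)) := by
    intro x
    have hx : x ∈ Submodule.span (WittVector p S) (Set.range D.Vinv) := by
      rw [D.span_range_Vinv]; exact Submodule.mem_top
    induction hx using Submodule.span_induction with
    | mem x hx =>
      obtain ⟨y, rfl⟩ := hx
      apply Submodule.subset_span
      refine ⟨⟨BC.tmul Wf 1 (y : P), tmul_mem_QR f D 1 y.2⟩, ?_⟩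
      rw [VinvR_tmul f D L T hLT hQ m c hmc 1 y y.2, map_one]
      rfl
    | zero => rw [BC.tmul_zero]; exact Submodule.zero_mem _
    | add x y _ _ hx hy => rw [BC.tmul_add]; exact Submodule.add_mem _ hx hy
    | smul a x _ hx =>
      rw [← BC.tmul_apply_eq, BC.tmul_eq_smul_tmul_one]
      exact Submodule.smul_mem _ _ hx
  rw [eq_top_iff]
  intro z _
  induction z using BC.induction_on Wf with
  | zero => exact Submodule.zero_mem _
  | tmul b x =>
    rw [BC.tmul_eq_smul_tmul_one]
    exact Submodule.smul_mem _ _ (h1 x)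
  | add z₁ z₂ h₁ h₂ => exact Submodule.add_mem _ (h₁ trivial) (h₂ trivial)

include hmc in
lemma VinvR_verschiebung_smul (w : WittVector p R) (z : BC Wf P)
    (h : verschiebung w • z ∈ QR f D) :
    VinvR f D L T hLT hQ m c ⟨verschiebung w • z, h⟩ = w • FR f D z := by
  induction z using BC.induction_on Wf with
  | zero =>
    have : (⟨verschiebung w • (0 : BC Wf P), h⟩ : QR f D) = 0 := Subtype.ext (smul_zero _)
    rw [this, map_zero, map_zero, smul_zero]
  | tmul b x =>
    have h' : BC.tmul Wf (verschiebung (w * σR b)) x ∈ QR f D := by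
      rw [verschiebung_mul_frobenius]; exact h
    have : (⟨verschiebung w • BC.tmul Wf b x, h⟩ : QR f D) =
        ⟨BC.tmul Wf (verschiebung (w * σR b)) x, h'⟩ := by
      apply Subtype.ext
      show verschiebung w • BC.tmul Wf b x = BC.tmul Wf (verschiebung (w * σR b)) x
      rw [verschiebung_mul_frobenius, BC.smul_tmul]
    rw [this, VinvR_verschiebung_tmul f D L T hLT hQ m c hmc, FR_tmul, BC.smul_tmul]
  | add z₁ z₂ h₁ h₂ =>
    have hz₁ : verschiebung w • z₁ ∈ QR f D := IVR_smul_le f D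
      (Submodule.smul_mem_smul (W4c1extbt610.verschiebung_mem_IV p R w) Submodule.mem_top)
    have hz₂ : verschiebung w • z₂ ∈ QR f D := IVR_smul_le f D
      (Submodule.smul_mem_smul (W4c1extbt610.verschiebung_mem_IV p R w) Submodule.mem_top)
    have : (⟨verschiebung w • (z₁ + z₂), h⟩ : QR f D) =
        ⟨verschiebung w • z₁, hz₁⟩ + ⟨verschiebung w • z₂, hz₂⟩ :=
      Subtype.ext (smul_add _ _ _)
    rw [this, map_add, h₁ hz₁, h₂ hz₂, map_add, smul_add]

/-- The base change of `D` along `f`. -/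
noncomputable def DRmk : W4c1extbt610.Display3n p R (BC Wf P) where
  Q := QR f D
  F := FR f D
  Vinv := VinvR f D L T hLT hQ m c
  finite :=
    haveI := D.finite
    haveI := D.projective
    (finite_projective_BC Wf).1
  projective :=
    haveI := D.finite
    haveI := D.projective
    (finite_projective_BC Wf).2
  IV_smul_le := IVR_smul_le f D
  exists_normal := ⟨_, _, isCompl_range f L T hLT, QR_eq f D L T hLT hQ m c hmc⟩
  span_range_Vinv := span_range_VinvR f D L T hLT hQ m c hmc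
  Vinv_verschiebung_smul := fun w z => VinvR_verschiebung_smul f D L T hLT hQ m c hmc w z _

theorem isDispBaseChange_DRmk : IsDispBaseChange f D (DRmk f D L T hLT hQ m c hmc) where
  Q_eq := rfl
  F_tmul := FR_tmul f D
  Vinv_tmul := fun w y h => VinvR_tmul f D L T hLT hQ m c hmc w y y.2 h
  Vinv_verschiebung_tmul := fun w x h => VinvR_verschiebung_tmul f D L T hLT hQ m c hmc w x h

theorem exists_isDispBaseChange :
    ∃ DR : W4c1extbt610.Display3n p R (BC Wf P), IsDispBaseChange f D DR := by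
  obtain ⟨L, T, hLT, hQ⟩ := D.exists_normal
  have := D.finite
  have := D.projective
  obtain ⟨n, m, c, hmc⟩ := exists_dualBasis (A := WittVector p S) (P := P)
  exact ⟨DRmk f D L T hLT hQ m c hmc, isDispBaseChange_DRmk f D L T hLT hQ m c hmc⟩

end Assemble


/-! ### Uniqueness -/
section Unique

variable {p : ℕ} [Fact p.Prime] {S R : Type u} [CommRing S] [CommRing R] (f : S →+* R)
variable {P : Type v} [AddCommGroup P] [Module (WittVector p S) P]
variable (D : W4c1extbt610.Display3n p S P)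
variable (L T : Submodule (WittVector p S) P) (hLT : IsCompl L T)
  (hQ : D.Q = L ⊔ W4c1extbt610.IV p S • T)
variable {n : ℕ} (m : Fin n → P) (c : Fin n → (P →ₗ[WittVector p S] WittVector p S))
  (hmc : ∀ x, x = ∑ i, c i x • m i)

local notation "σS" => (WittVector.frobenius : WittVector p S →+* WittVector p S)
local notation "σR" => (WittVector.frobenius : WittVector p R →+* WittVector p R)
local notation "Wf" => (WittVector.map f : WittVector p S →+* WittVector p R)

lemma verschiebung_tmul_mem_QR (w : WittVector p R) (x : P) :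
    BC.tmul Wf (verschiebung w) x ∈ QR f D := by
  have : BC.tmul Wf (verschiebung w) x = verschiebung w • BC.tmul Wf 1 x := by
    rw [BC.smul_tmul, mul_one]
  rw [this]
  exact IVR_smul_le f D
    (Submodule.smul_mem_smul (W4c1extbt610.verschiebung_mem_IV p R w) Submodule.mem_top)

include hLT hQ hmc in
lemma eq_of_agree (V₁ V₂ : QR f D →ₛₗ[σR] BC Wf P)
    (hA : ∀ (w : WittVector p R) (y : P) (_ : y ∈ D.Q) (h : BC.tmul Wf w y ∈ QR f D),
      V₁ ⟨_, h⟩ = V₂ ⟨_, h⟩)
    (hB : ∀ (w : WittVector p R) (x : P) (h : BC.tmul Wf (verschiebung w) x ∈ QR f D),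
      V₁ ⟨_, h⟩ = V₂ ⟨_, h⟩) : V₁ = V₂ := by
  have hC : ∀ (z : BC Wf P) (h : prLR f L T hLT z ∈ QR f D),
      V₁ ⟨prLR f L T hLT z, h⟩ = V₂ ⟨prLR f L T hLT z, h⟩ := by
    intro z
    induction z using BC.induction_on Wf with
    | zero =>
      intro h
      have : (⟨prLR f L T hLT 0, h⟩ : QR f D) = 0 := Subtype.ext (map_zero _)
      rw [this, map_zero, map_zero]
    | tmul w x =>
      intro h
      have h' : BC.tmul Wf w (prL L T hLT x) ∈ QR f D :=
        tmul_mem_QR f D w (L_le_Q D L T hQ (prL_mem L T hLT x))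
      have : (⟨prLR f L T hLT (BC.tmul Wf w x), h⟩ : QR f D) =
          ⟨BC.tmul Wf w (prL L T hLT x), h'⟩ := Subtype.ext (prLR_tmul f L T hLT w x)
      rw [this]
      exact hA w _ (L_le_Q D L T hQ (prL_mem L T hLT x)) h'
    | add z₁ z₂ h₁ h₂ =>
      intro h
      have hz₁ := prLR_mem_QR f D L T hLT hQ z₁
      have hz₂ := prLR_mem_QR f D L T hLT hQ z₂
      have : (⟨prLR f L T hLT (z₁ + z₂), h⟩ : QR f D) =
          ⟨prLR f L T hLT z₁, hz₁⟩ + ⟨prLR f L T hLT z₂, hz₂⟩ := Subtype.ext (map_add _ _ _)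
      rw [this, map_add, map_add, h₁ hz₁, h₂ hz₂]
  apply LinearMap.ext
  rintro ⟨z, hz⟩
  have hL := prLR_mem_QR f D L T hLT hQ z
  have e : (⟨z, hz⟩ : QR f D) = ⟨prLR f L T hLT z, hL⟩ +
      ∑ i, ⟨BC.tmul Wf (verschiebung (Vdiv ⟨CT f L T hLT c i z, CT_mem_IV f D L T hLT hQ c i hz⟩))
        (mT L T hLT m i), verschiebung_tmul_mem_QR f D _ _⟩ := by
    apply Subtype.ext
    rw [Submodule.coe_add, Submodule.coe_sum]
    have e1 : z = prLR f L T hLT z + prTR f L T hLT z := (prLR_add_prTR f L T hLT z).symm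
    rw [prTR_eq_sum f L T hLT m c hmc] at e1
    refine e1.trans ?_
    congr 1
    refine Finset.sum_congr rfl fun i _ => ?_
    show _ = BC.tmul Wf (verschiebung (Vdiv ⟨CT f L T hLT c i z, CT_mem_IV f D L T hLT hQ c i hz⟩))
        (mT L T hLT m i)
    rw [verschiebung_Vdiv, BC.smul_tmul, mul_one]
  rw [e, map_add, map_add, map_sum, map_sum, hC z hL]
  congr 1
  exact Finset.sum_congr rfl fun i _ => hB _ _ _

theorem isDispBaseChange_unique (DR₁ DR₂ : W4c1extbt610.Display3n p R (BC Wf P))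
    (h₁ : IsDispBaseChange f D DR₁) (h₂ : IsDispBaseChange f D DR₂) : DR₁ = DR₂ := by
  have hF : DR₁.F = DR₂.F := by
    apply LinearMap.ext
    intro z
    induction z using BC.induction_on Wf with
    | zero => rw [map_zero, map_zero]
    | tmul w x => rw [h₁.F_tmul, h₂.F_tmul]
    | add z₁ z₂ e₁ e₂ => rw [map_add, map_add, e₁, e₂]
  have hQ₁ : DR₁.Q = QR f D := h₁.Q_eq
  have hQ₂ : DR₂.Q = QR f D := h₂.Q_eq
  obtain ⟨Q₁, F₁, V₁, a1, a2, a3, a4, a5, a6⟩ := DR₁
  obtain ⟨Q₂, F₂, V₂, b1, b2, b3, b4, b5, b6⟩ := DR₂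
  simp only at hF hQ₁ hQ₂
  subst hF
  subst hQ₁
  subst hQ₂
  have hV : V₁ = V₂ := by
    obtain ⟨L, T, hLT, hQ⟩ := D.exists_normal
    have := D.finite
    have := D.projective
    obtain ⟨n, m, c, hmc⟩ := exists_dualBasis (A := WittVector p S) (P := P)
    apply eq_of_agree f D L T hLT hQ m c hmc
    · intro w y hy h
      exact (h₁.Vinv_tmul w ⟨y, hy⟩ h).trans (h₂.Vinv_tmul w ⟨y, hy⟩ h).symm
    · intro w x h
      exact (h₁.Vinv_verschiebung_tmul w x h).trans (h₂.Vinv_verschiebung_tmul w x h).symm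
  subst hV
  rfl

theorem existsUnique_isDispBaseChange :
    ∃! DR : W4c1extbt610.Display3n p R (BC Wf P), IsDispBaseChange f D DR := by
  obtain ⟨DR, hDR⟩ := exists_isDispBaseChange f D
  exact ⟨DR, hDR, fun DR' hDR' => isDispBaseChange_unique f D DR' DR hDR' hDR⟩

end Unique


end Groth.Agent.Lib.Helper86.DispBCExists
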