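import Mathlib
import Groth.Agent.Lib.Helper75.WittFrobNil

set_option autoImplicit false
set_option linter.unusedSectionVars false
universe u

namespace Groth.Agent.Lib.Helper86.WittSqZero

open WittVector

section Ghost

variable (p : ℕ) [hp : Fact p.Prime]

lemma eq_zero_of_pow_mul {E : Type*} [CommRing E] (hE : ∀ x : E, (p : E) * x = 0 → x = 0) :
    ∀ (n : ℕ) (e : E), (p : E) ^ n * e = 0 → e = 0
  | 0, e, h => by simpa using h
  | n + 1, e, h => by
    rw [pow_succ, mul_assoc] at h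
    exact hE e (eq_zero_of_pow_mul hE n _ h)

theorem ghost_injective {E : Type*} [CommRing E] (hE : ∀ x : E, (p : E) * x = 0 → x = 0) :
    Function.Injective (WittVector.ghostMap : WittVector p E → ℕ → E) := by
  intro x y h
  ext n
  induction n using Nat.strong_induction_on with
  | _ n ih =>
    have hn := congrFun h n
    rw [ghostMap_apply, ghostMap_apply, ghostComponent_apply, ghostComponent_apply,
      aeval_wittPolynomial, aeval_wittPolynomial, Finset.sum_range_succ, Finset.sum_range_succ] at hn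
    have hsum : ∑ i ∈ Finset.range n, (p : E) ^ i * x.coeff i ^ p ^ (n - i) =
        ∑ i ∈ Finset.range n, (p : E) ^ i * y.coeff i ^ p ^ (n - i) :=
      Finset.sum_congr rfl fun i hi => by rw [ih i (Finset.mem_range.mp hi)]
    rw [hsum, add_right_inj, Nat.sub_self, pow_zero, pow_one, pow_one] at hn
    have h2 : (p : E) ^ n * (x.coeff n - y.coeff n) = 0 := by rw [mul_sub, hn, sub_self]
    exact sub_eq_zero.mp (eq_zero_of_pow_mul p hE n _ h2)

end Ghost

section Teich

variable (p : ℕ) [hp : Fact p.Prime]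

/-- a torsion-free ring with two independent elements of square zero -/
abbrev E2 := TrivSqZeroExt ℤ (Fin 2 → ℤ)

/-- the two generic square-zero elements -/
def eps (i : Fin 2) : E2 := TrivSqZeroExt.inr (Pi.single i 1)

lemma eps_mul_eps (i j : Fin 2) : eps i * eps j = 0 := TrivSqZeroExt.inr_mul_inr _ _ _

lemma E2_torsionFree (x : E2) (h : (p : E2) * x = 0) : x = 0 := by
  have hp0 : (p : ℤ) ≠ 0 := by exact_mod_cast hp.out.ne_zero
  have h1 := congrArg TrivSqZeroExt.fst h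
  have h2 := congrArg TrivSqZeroExt.snd h
  rw [TrivSqZeroExt.fst_mul, TrivSqZeroExt.fst_natCast, TrivSqZeroExt.fst_zero] at h1
  rw [TrivSqZeroExt.snd_mul, TrivSqZeroExt.fst_natCast, TrivSqZeroExt.snd_natCast,
    TrivSqZeroExt.snd_zero] at h2
  have hx1 : x.fst = 0 := by
    rcases mul_eq_zero.mp h1 with h | h
    · exact absurd h (by exact_mod_cast hp.out.ne_zero)
    · exact h
  have hx2 : x.snd = 0 := by
    simp only [smul_zero, add_zero] at h2
    funext i
    have := congrFun h2 i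
    simp only [Pi.smul_apply, smul_eq_mul, Pi.zero_apply] at this
    rcases mul_eq_zero.mp this with h | h
    · exact absurd h (by exact_mod_cast hp.out.ne_zero)
    · exact h
  exact TrivSqZeroExt.ext hx1 hx2

lemma pow_eq_zero_of_sq {E : Type*} [CommRing E] {x : E} (hx : x * x = 0) {k : ℕ} (hk : 2 ≤ k) :
    x ^ k = 0 :=
  pow_eq_zero_of_le hk (by rw [pow_two, hx])

lemma two_le_pow (n : ℕ) (hn : 0 < n) : 2 ≤ p ^ n :=
  le_trans hp.out.two_le (Nat.le_self_pow hn.ne' p)

lemma teich_add_E2 :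
    teichmuller p (eps 0) + teichmuller p (eps 1) = teichmuller p (eps 0 + eps 1) := by
  apply ghost_injective p (E2_torsionFree p)
  funext n
  rw [ghostMap_apply, ghostMap_apply, map_add, ghostComponent_teichmuller,
    ghostComponent_teichmuller, ghostComponent_teichmuller]
  rcases Nat.eq_zero_or_pos n with rfl | hn
  · simp
  · have h2 := two_le_pow p n hn
    have hsum : (eps 0 + eps 1) * (eps 0 + eps 1) = 0 := by
      rw [mul_add, add_mul, add_mul, eps_mul_eps, eps_mul_eps, eps_mul_eps, eps_mul_eps]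
      simp
    rw [pow_eq_zero_of_sq (eps_mul_eps 0 0) h2, pow_eq_zero_of_sq (eps_mul_eps 1 1) h2,
      pow_eq_zero_of_sq hsum h2, add_zero]

/-- The Teichmüller lift is additive on elements with vanishing products. -/
theorem teichmuller_add {A : Type*} [CommRing A] (x y : A) (hxx : x * x = 0) (hxy : x * y = 0)
    (hyy : y * y = 0) :
    teichmuller p x + teichmuller p y = teichmuller p (x + y) := by
  let g : (Fin 2 → ℤ) →ₗ[ℤ] A :=
    { toFun := fun m => m 0 • x + m 1 • y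
      map_add' := by
        intro m m'
        simp only [Pi.add_apply, add_smul]
        abel
      map_smul' := by
        intro c m
        simp only [Pi.smul_apply, smul_eq_mul, RingHom.id_apply, smul_add, mul_smul] }
  have hg : ∀ m m', g m * g m' = 0 := by
    intro m m'
    show (m 0 • x + m 1 • y) * (m' 0 • x + m' 1 • y) = 0
    simp only [add_mul, mul_add, smul_mul_smul_comm, hxx, hxy, hyy, mul_comm y x, smul_zero, add_zero]
  let Φ : E2 →+* A := (TrivSqZeroExt.liftEquivOfComm ⟨g, hg⟩ : E2 →ₐ[ℤ] A).toRingHom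
  have hΦ0 : Φ (eps 0) = x := by
    show (TrivSqZeroExt.liftEquivOfComm ⟨g, hg⟩ : E2 →ₐ[ℤ] A) (TrivSqZeroExt.inr (Pi.single 0 1)) = x
    rw [TrivSqZeroExt.liftEquivOfComm_apply, TrivSqZeroExt.lift_apply_inr]
    show (Pi.single (0 : Fin 2) (1 : ℤ) : Fin 2 → ℤ) 0 • x + (Pi.single (0 : Fin 2) (1 : ℤ) : Fin 2 → ℤ) 1 • y = x
    simp
  have hΦ1 : Φ (eps 1) = y := by
    show (TrivSqZeroExt.liftEquivOfComm ⟨g, hg⟩ : E2 →ₐ[ℤ] A) (TrivSqZeroExt.inr (Pi.single 1 1)) = y
    rw [TrivSqZeroExt.liftEquivOfComm_apply, TrivSqZeroExt.lift_apply_inr]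
    show (Pi.single (1 : Fin 2) (1 : ℤ) : Fin 2 → ℤ) 0 • x + (Pi.single (1 : Fin 2) (1 : ℤ) : Fin 2 → ℤ) 1 • y = y
    simp
  have h := congrArg (WittVector.map Φ) (teich_add_E2 p)
  rw [map_add, map_teichmuller, map_teichmuller, map_teichmuller, map_add, hΦ0, hΦ1] at h
  exact h

end Teich


section Wid

variable {p : ℕ} [hp : Fact p.Prime] {A : Type u} [CommRing A]

local notation "σ" => (WittVector.frobenius : WittVector p A →+* WittVector p A)

/-- `W(𝔞)`: the Witt vectors all of whose coefficients lie in `𝔞`. -/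
noncomputable def Wid (𝔞 : Ideal A) : Ideal (WittVector p A) :=
  RingHom.ker (WittVector.map (Ideal.Quotient.mk 𝔞) : WittVector p A →+* WittVector p (A ⧸ 𝔞))

lemma mem_Wid_iff (𝔞 : Ideal A) (w : WittVector p A) : w ∈ Wid (p := p) 𝔞 ↔ ∀ n, w.coeff n ∈ 𝔞 := by
  rw [Wid, RingHom.mem_ker, WittVector.ext_iff]
  refine forall_congr' fun n => ?_
  rw [map_coeff, zero_coeff, Ideal.Quotient.eq_zero_iff_mem]

/-- the shift `(a₀, a₁, …) ↦ (a₁, a₂, …)` -/
def sh (a : WittVector p A) : WittVector p A := WittVector.mk p fun n => a.coeff (n + 1)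

@[simp] lemma coeff_sh (a : WittVector p A) (n : ℕ) : (sh a).coeff n = a.coeff (n + 1) := rfl

lemma disjoint_teich_V (c : A) (d : WittVector p A) (n : ℕ) :
    (teichmuller p c).coeff n = 0 ∨ (verschiebung d).coeff n = 0 := by
  rcases n with _ | n
  · right; exact verschiebung_coeff_zero d
  · left; exact teichmuller_coeff_pos p c _ (Nat.succ_pos n)

lemma eq_teich_add_V (a : WittVector p A) :
    a = teichmuller p (a.coeff 0) + verschiebung (sh a) := by
  ext n
  rw [coeff_add_of_disjoint n _ _ (disjoint_teich_V _ _)]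
  rcases n with _ | n
  · rw [teichmuller_coeff_zero, verschiebung_coeff_zero, add_zero]
  · rw [teichmuller_coeff_pos p _ _ (Nat.succ_pos n), verschiebung_coeff_succ, coeff_sh, zero_add]

lemma sh_teich_add_V (c : A) (d : WittVector p A) :
    sh (teichmuller p c + verschiebung d) = d := by
  ext n
  rw [coeff_sh, coeff_add_of_disjoint (n + 1) _ _ (disjoint_teich_V _ _),
    teichmuller_coeff_pos p _ _ (Nat.succ_pos n), verschiebung_coeff_succ, zero_add]

lemma sh_verschiebung (d : WittVector p A) : sh (verschiebung d) = d := by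
  ext n; rfl

lemma verschiebung_sh_of_coeff_zero (a : WittVector p A) (h : a.coeff 0 = 0) :
    verschiebung (sh a) = a := by
  ext n
  rcases n with _ | n
  · rw [verschiebung_coeff_zero, h]
  · rfl

lemma sh_mem (𝔞 : Ideal A) {a : WittVector p A} (ha : a ∈ Wid (p := p) 𝔞) :
    sh a ∈ Wid (p := p) 𝔞 := by
  rw [mem_Wid_iff] at ha ⊢
  exact fun n => ha (n + 1)

lemma verschiebung_mem (𝔞 : Ideal A) {a : WittVector p A} (ha : a ∈ Wid (p := p) 𝔞) :
    verschiebung a ∈ Wid (p := p) 𝔞 := by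
  rw [mem_Wid_iff] at ha ⊢
  intro n
  rcases n with _ | n
  · rw [verschiebung_coeff_zero]; exact Ideal.zero_mem _
  · exact ha n

lemma teichmuller_mem (𝔞 : Ideal A) {c : A} (hc : c ∈ 𝔞) : teichmuller p c ∈ Wid (p := p) 𝔞 := by
  rw [mem_Wid_iff]
  intro n
  rcases n with _ | n
  · exact hc
  · rw [teichmuller_coeff_pos p _ _ (Nat.succ_pos n)]; exact Ideal.zero_mem _

variable (𝔞 : Ideal A) (h𝔞 : ∀ x ∈ 𝔞, ∀ y ∈ 𝔞, x * y = 0)

include h𝔞 in
lemma sh_add {a b : WittVector p A} (ha : a ∈ Wid (p := p) 𝔞) (hb : b ∈ Wid (p := p) 𝔞) :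
    sh (a + b) = sh a + sh b := by
  have ha0 := (mem_Wid_iff 𝔞 a).mp ha 0
  have hb0 := (mem_Wid_iff 𝔞 b).mp hb 0
  have h1 : a + b = teichmuller p (a.coeff 0 + b.coeff 0) + verschiebung (sh a + sh b) := by
    conv_lhs => rw [eq_teich_add_V a, eq_teich_add_V b]
    rw [← teichmuller_add p _ _ (h𝔞 _ ha0 _ ha0) (h𝔞 _ ha0 _ hb0) (h𝔞 _ hb0 _ hb0), map_add]
    abel
  rw [h1, sh_teich_add_V]

variable (hp𝔞 : ∀ x ∈ 𝔞, (p : A) * x = 0)

include h𝔞 hp𝔞 in
lemma B_one_eq_bot : Groth.Agent.Lib.Helper75.WittFrobNil.B p 𝔞 1 = ⊥ := by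
  rw [eq_bot_iff, Groth.Agent.Lib.Helper75.WittFrobNil.B, Ideal.span_le]
  rintro y ⟨i, j, a, hij, ha, rfl⟩
  rw [SetLike.mem_coe, Ideal.mem_bot]
  rcases i with _ | i
  · obtain rfl : j = 1 := by omega
    rw [pow_zero, one_mul, pow_one]
    exact pow_eq_zero_of_sq (h𝔞 a ha a ha) hp.out.two_le
  · obtain ⟨rfl, rfl⟩ : i = 0 ∧ j = 0 := by omega
    rw [zero_add, pow_one, pow_zero, pow_one]
    exact hp𝔞 a ha

include h𝔞 hp𝔞 in
/-- The Frobenius kills `W(𝔞)`. -/
theorem frobenius_eq_zero {a : WittVector p A} (ha : a ∈ Wid (p := p) 𝔞) : σ a = 0 := by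
  ext n
  have h := Groth.Agent.Lib.Helper75.WittFrobNil.frobenius_coeff_mem_B p 𝔞 0 a (by
    intro n
    rw [Groth.Agent.Lib.Helper75.WittFrobNil.B_zero]
    exact (mem_Wid_iff 𝔞 a).mp ha n) n
  rw [B_one_eq_bot 𝔞 h𝔞 hp𝔞, Ideal.mem_bot] at h
  rw [h, zero_coeff]

include h𝔞 hp𝔞 in
/-- `I_A · W(𝔞) = 0`. -/
theorem verschiebung_mul_eq_zero (w : WittVector p A) {a : WittVector p A}
    (ha : a ∈ Wid (p := p) 𝔞) : verschiebung w * a = 0 := by
  rw [← verschiebung_mul_frobenius, frobenius_eq_zero 𝔞 h𝔞 hp𝔞 ha, mul_zero, map_zero]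

include h𝔞 hp𝔞 in
/-- `p · W(𝔞) = 0`. -/
theorem p_mul_eq_zero {a : WittVector p A} (ha : a ∈ Wid (p := p) 𝔞) :
    (p : WittVector p A) * a = 0 := by
  rw [mul_comm, ← frobenius_verschiebung, frobenius_eq_zero 𝔞 h𝔞 hp𝔞 (verschiebung_mem 𝔞 ha)]

include h𝔞 hp𝔞 in
lemma sh_smul (w : WittVector p A) {a : WittVector p A} (ha : a ∈ Wid (p := p) 𝔞) :
    sh (w * a) = σ w * sh a := by
  have ha0 := (mem_Wid_iff 𝔞 a).mp ha 0
  have h1 : w * a = teichmuller p (w.coeff 0 * a.coeff 0) + verschiebung (σ w * sh a) := by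
    conv_lhs => rw [eq_teich_add_V a, mul_add]
    congr 1
    · conv_lhs => rw [eq_teich_add_V w, add_mul, ← map_mul]
      rw [verschiebung_mul_eq_zero 𝔞 h𝔞 hp𝔞 _ (teichmuller_mem 𝔞 ha0), add_zero]
    · rw [mul_comm, ← verschiebung_mul_frobenius, mul_comm]
  rw [h1, sh_teich_add_V]

include h𝔞 hp𝔞 in
/-- `I_A + pW` kills `W(𝔞)`. -/
theorem b_mul_eq_zero {c : WittVector p A}
    (hc : c ∈ Ideal.span (Set.range (verschiebung : WittVector p A → WittVector p A)) ⊔
      Ideal.span {(p : WittVector p A)}) {a : WittVector p A} (ha : a ∈ Wid (p := p) 𝔞) :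
    c * a = 0 := by
  have hle : Ideal.span (Set.range (verschiebung : WittVector p A → WittVector p A)) ⊔
      Ideal.span {(p : WittVector p A)} ≤ (Ideal.span {a}).annihilator.comap (RingHom.id _) := by
    rw [sup_le_iff, Ideal.span_le, Ideal.span_le]
    constructor
    · rintro _ ⟨w, rfl⟩
      show verschiebung w ∈ (Ideal.span {a}).annihilator
      rw [Submodule.mem_annihilator_span_singleton, smul_eq_mul]
      exact verschiebung_mul_eq_zero 𝔞 h𝔞 hp𝔞 w ha
    · rw [Set.singleton_subset_iff]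
      show (p : WittVector p A) ∈ (Ideal.span {a}).annihilator
      rw [Submodule.mem_annihilator_span_singleton, smul_eq_mul]
      exact p_mul_eq_zero 𝔞 h𝔞 hp𝔞 ha
  have := hle hc
  have h2 : c ∈ (Ideal.span {a}).annihilator := this
  rw [Submodule.mem_annihilator_span_singleton, smul_eq_mul] at h2
  exact h2

/-- the shift as a Frobenius-semilinear endomorphism of `W(𝔞)` -/
noncomputable def shL (h𝔞 : ∀ x ∈ 𝔞, ∀ y ∈ 𝔞, x * y = 0) (hp𝔞 : ∀ x ∈ 𝔞, (p : A) * x = 0) :
    Wid (p := p) 𝔞 →ₛₗ[σ] Wid (p := p) 𝔞 where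
  toFun a := ⟨sh (a : WittVector p A), sh_mem 𝔞 a.2⟩
  map_add' a b := Subtype.ext (sh_add 𝔞 h𝔞 a.2 b.2)
  map_smul' w a := Subtype.ext (sh_smul 𝔞 h𝔞 hp𝔞 w a.2)

@[simp] lemma coe_shL (a : Wid (p := p) 𝔞) :
    ((shL 𝔞 h𝔞 hp𝔞 a : Wid (p := p) 𝔞) : WittVector p A) = sh (a : WittVector p A) := rfl

end Wid


end Groth.Agent.Lib.Helper86.WittSqZero
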