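import Mathlib
import Groth.Prelude.Def_Dieu
import Groth.Prelude.Def_Disp2
import Groth.Agent.Lib.Helper86.VSharpPow
import Groth.Agent.Lib.Helper86.VSharpExists
import Groth.Agent.Lib.Helper86.DispBCExists
import Groth.Agent.Lib.Helper86.WittSqZero

set_option autoImplicit false
set_option linter.unusedSectionVars false
universe u v

namespace Groth.Agent.Lib.Helper86.DispRigid

open Dieu WittVector Groth.Agent.Lib.Helper86.VSharpPow Groth.Agent.Lib.Helper86.VSharpExists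
  Groth.Agent.Lib.Helper86.DispBCExists Groth.Agent.Lib.Helper86.WittSqZero

/-! ### The operator `U` and its iterates -/
section Iter

variable {p : ℕ} [Fact p.Prime] {A : Type u} [CommRing A]
variable {P : Type v} [AddCommGroup P] [Module (WittVector p A) P]
variable {Nm : Type v} [AddCommGroup Nm] [Module (WittVector p A) Nm]

local notation "σ" => (WittVector.frobenius : WittVector p A →+* WittVector p A)

/-- iterates of a Frobenius-semilinear endomorphism: `G^(n+1)`, which is `σ^(n+1)`-semilinear -/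
noncomputable def iterSemi (G : Nm →ₛₗ[σ] Nm) : (n : ℕ) → (Nm →ₛₗ[σ ^ (n + 1)] Nm)
  | 0 =>
    { toFun := G
      map_add' := G.map_add
      map_smul' := fun c x => by
        rw [zero_add, pow_one]
        exact G.map_smulₛₗ c x }
  | n + 1 =>
    haveI : RingHomCompTriple (σ ^ (n + 1)) σ (σ ^ (n + 1 + 1)) :=
      ⟨comp_pow_eq_pow_succ σ (n + 1)⟩
    G.comp (iterSemi G n)

lemma iterSemi_zero_apply (G : Nm →ₛₗ[σ] Nm) (z : Nm) : iterSemi G 0 z = G z := rfl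

lemma iterSemi_succ_apply (G : Nm →ₛₗ[σ] Nm) (n : ℕ) (z : Nm) :
    iterSemi G (n + 1) z = G (iterSemi G n z) := rfl

/-- `w ⊗ z ↦ w • G^(n+1) z` -/
noncomputable def Theta (G : Nm →ₛₗ[σ] Nm) (n : ℕ) : BC (σ ^ (n + 1)) Nm →ₗ[WittVector p A] Nm :=
  BC.lift (σ ^ (n + 1)) (iterSemi G n)

/-- `w ⊗ z ↦ w • G z` -/
noncomputable def Theta0 (G : Nm →ₛₗ[σ] Nm) : BC σ Nm →ₗ[WittVector p A] Nm := BC.lift σ G

/-- the operator `ω ↦ G^# ∘ (1 ⊗ ω) ∘ V^#` -/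
noncomputable def Uop (G : Nm →ₛₗ[σ] Nm) (Vs : P →ₗ[WittVector p A] BC σ P)
    (ω : P →ₗ[WittVector p A] Nm) : P →ₗ[WittVector p A] Nm :=
  (Theta0 G).comp ((BC.map σ ω).comp Vs)

/-- `ω ↦ (G^(n+1))^# ∘ (1 ⊗ ω) ∘ V^{(n+1)#}` -/
noncomputable def Rn (G : Nm →ₛₗ[σ] Nm) (Vs : P →ₗ[WittVector p A] BC σ P) (n : ℕ)
    (ω : P →ₗ[WittVector p A] Nm) : P →ₗ[WittVector p A] Nm :=
  (Theta G n).comp ((BC.map (σ ^ (n + 1)) ω).comp (vSharpPow Vs n))

lemma Rn_zero (G : Nm →ₛₗ[σ] Nm) (Vs : P →ₗ[WittVector p A] BC σ P)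
    (ω : P →ₗ[WittVector p A] Nm) : Rn G Vs 0 ω = Uop G Vs ω := by
  apply LinearMap.ext
  intro x
  show Theta G 0 (BC.map (σ ^ (0 + 1)) ω (vSharpPow Vs 0 x)) = Theta0 G (BC.map σ ω (Vs x))
  rw [vSharpPow_zero_apply]
  generalize Vs x = ζ
  induction ζ using BC.induction_on σ with
  | zero => simp
  | tmul b y =>
    rw [BC.castHom_tmul, BC.map_tmul, BC.map_tmul, Theta, Theta0, BC.lift_tmul, BC.lift_tmul,
      iterSemi_zero_apply]
  | add z₁ z₂ h₁ h₂ => simp only [map_add, h₁, h₂]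

lemma Theta_succ_push (G : Nm →ₛₗ[σ] Nm) (n : ℕ) (ω : P →ₗ[WittVector p A] Nm)
    (ξ : BC (σ ^ (n + 1)) P) :
    Theta G (n + 1) (BC.map (σ ^ (n + 1 + 1)) ω
      (BC.castHom (comp_pow_eq_pow_succ σ (n + 1)) (BC.push (σ ^ (n + 1)) σ ξ))) =
    G (Theta G n (BC.map (σ ^ (n + 1)) ω ξ)) := by
  induction ξ using BC.induction_on (σ ^ (n + 1)) with
  | zero => simp
  | tmul c x =>
    rw [BC.push_tmul, BC.castHom_tmul, BC.map_tmul, BC.map_tmul, Theta, Theta, BC.lift_tmul,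
      BC.lift_tmul, iterSemi_succ_apply, LinearMap.map_smulₛₗ]
  | add z₁ z₂ h₁ h₂ => simp only [map_add, h₁, h₂]

lemma Rn_succ (G : Nm →ₛₗ[σ] Nm) (Vs : P →ₗ[WittVector p A] BC σ P) (n : ℕ)
    (ω : P →ₗ[WittVector p A] Nm) : Rn G Vs (n + 1) ω = Uop G Vs (Rn G Vs n ω) := by
  apply LinearMap.ext
  intro x
  show Theta G (n + 1) (BC.map (σ ^ (n + 1 + 1)) ω (vSharpPow Vs (n + 1) x)) =
    Theta0 G (BC.map σ (Rn G Vs n ω) (Vs x))
  rw [vSharpPow_succ_apply, lift_push_map]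
  generalize Vs x = ζ
  induction ζ using BC.induction_on σ with
  | zero => simp
  | tmul b y =>
    rw [tw_tmul, map_smul, map_smul, map_smul, Theta_succ_push, BC.map_tmul, Theta0, BC.lift_tmul]
    rfl
  | add z₁ z₂ h₁ h₂ => simp only [map_add, h₁, h₂]

lemma iterate_Uop (G : Nm →ₛₗ[σ] Nm) (Vs : P →ₗ[WittVector p A] BC σ P) (n : ℕ)
    (ω : P →ₗ[WittVector p A] Nm) : (Uop G Vs)^[n + 1] ω = Rn G Vs n ω := by
  induction n with
  | zero => rw [Rn_zero]; rfl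
  | succ n ih => rw [Function.iterate_succ_apply', ih, Rn_succ]

/-- If `V^{(n+1)#}` is zero modulo `𝔟` and `𝔟` kills `Nm`, then `U^(n+1) = 0`. -/
theorem iterate_Uop_eq_zero (G : Nm →ₛₗ[σ] Nm) (Vs : P →ₗ[WittVector p A] BC σ P) (n : ℕ)
    (𝔟 : Ideal (WittVector p A)) (h𝔟 : ∀ c ∈ 𝔟, ∀ z : Nm, c • z = 0)
    (hn : ∀ x, vSharpPow Vs n x ∈ 𝔟 • (⊤ : Submodule (WittVector p A) (BC (σ ^ (n + 1)) P)))
    (ω : P →ₗ[WittVector p A] Nm) : (Uop G Vs)^[n + 1] ω = 0 := by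
  rw [iterate_Uop]
  apply LinearMap.ext
  intro x
  have h1 : Rn G Vs n ω x ∈ 𝔟 • (⊤ : Submodule (WittVector p A) Nm) :=
    map_mem_smul_top ((Theta G n).comp (BC.map (σ ^ (n + 1)) ω)) 𝔟 (hn x)
  have h2 : 𝔟 • (⊤ : Submodule (WittVector p A) Nm) = ⊥ := by
    rw [eq_bot_iff, Submodule.smul_le]
    intro c hc z _
    rw [h𝔟 c hc z]
    exact Submodule.zero_mem _
  rw [h2, Submodule.mem_bot] at h1
  exact h1

end Iter

/-! ### The extension of `V⁻¹` to `W(𝔞) P'` -/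
section Ext

variable {p : ℕ} [Fact p.Prime] {A : Type u} [CommRing A]
variable {P' : Type v} [AddCommGroup P'] [Module (WittVector p A) P']
variable (D' : W4c1extbt610.Display3n p A P')
variable (L T : Submodule (WittVector p A) P') (hLT : IsCompl L T)
  (hQ : D'.Q = L ⊔ W4c1extbt610.IV p A • T)
variable {n : ℕ} (m : Fin n → P') (c : Fin n → (P' →ₗ[WittVector p A] WittVector p A))
  (hmc : ∀ x, x = ∑ i, c i x • m i)
variable (𝔞 : Ideal A) (h𝔞 : ∀ x ∈ 𝔞, ∀ y ∈ 𝔞, x * y = 0) (hp𝔞 : ∀ x ∈ 𝔞, (p : A) * x = 0)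

local notation "σ" => (WittVector.frobenius : WittVector p A →+* WittVector p A)

variable (p P') in
/-- `N = W(𝔞) P'` -/
noncomputable def NN : Submodule (WittVector p A) P' :=
  Wid (p := p) 𝔞 • (⊤ : Submodule (WittVector p A) P')

lemma apply_mem_Wid (d : P' →ₗ[WittVector p A] WittVector p A) {z : P'}
    (hz : z ∈ NN p P' 𝔞) : d z ∈ Wid (p := p) 𝔞 := by
  refine Submodule.smul_induction_on hz (fun a ha t _ => ?_) (fun z₁ z₂ h₁ h₂ => ?_)
  · rw [map_smul, smul_eq_mul]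
    exact Ideal.mul_mem_right _ _ ha
  · rw [map_add]; exact Ideal.add_mem _ h₁ h₂

/-- `a ↦ a • y`, from `W(𝔞)` to `N` -/
noncomputable def smulRightN (y : P') : Wid (p := p) 𝔞 →ₗ[WittVector p A] NN p P' 𝔞 where
  toFun a := ⟨(a : WittVector p A) • y, Submodule.smul_mem_smul a.2 Submodule.mem_top⟩
  map_add' a b := Subtype.ext (add_smul _ _ _)
  map_smul' w a := Subtype.ext (mul_smul _ _ _)

/-- the extension `Ṽ⁻¹ : N → N` -/
noncomputable def Vt : NN p P' 𝔞 →ₛₗ[σ] NN p P' 𝔞 :=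
  ∑ i, (smulRightN 𝔞 (D'.F (mT L T hLT m i))).comp
    ((shL 𝔞 h𝔞 hp𝔞).comp (LinearMap.codRestrict (Wid (p := p) 𝔞)
      ((cT L T hLT c i).comp (NN p P' 𝔞).subtype)
      (fun z => apply_mem_Wid 𝔞 (cT L T hLT c i) z.2)))

lemma Vt_apply (z : NN p P' 𝔞) :
    ((Vt D' L T hLT m c 𝔞 h𝔞 hp𝔞 z : NN p P' 𝔞) : P') =
      ∑ i, sh (cT L T hLT c i (z : P')) • D'.F (mT L T hLT m i) := by
  rw [Vt, LinearMap.sum_apply, Submodule.coe_sum]
  rfl

include h𝔞 hp𝔞 in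
lemma VinvP_eq_zero_of_mem {q : P'} (hq : q ∈ Wid (p := p) 𝔞 • L) (hL : L ≤ D'.Q) :
    ∀ h : q ∈ D'.Q, VinvP D' q h = 0 := by
  have key : q ∈ L ∧ ∀ h : q ∈ D'.Q, VinvP D' q h = 0 := by
    refine Submodule.smul_induction_on hq (fun a ha l hl => ?_) (fun z₁ z₂ h₁ h₂ => ?_)
    · refine ⟨L.smul_mem _ hl, fun h => ?_⟩
      rw [VinvP_smul D' a (hL hl) h, frobenius_eq_zero 𝔞 h𝔞 hp𝔞 ha, zero_smul]
    · refine ⟨L.add_mem h₁.1 h₂.1, fun h => ?_⟩
      rw [VinvP_add D' (hL h₁.1) (hL h₂.1) h, h₁.2 (hL h₁.1), h₂.2 (hL h₂.1), add_zero]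
  exact key.2

lemma prL_mem_smul {z : P'} (hz : z ∈ NN p P' 𝔞) : prL L T hLT z ∈ Wid (p := p) 𝔞 • L := by
  refine Submodule.smul_induction_on hz (fun a ha y _ => ?_) (fun z₁ z₂ h₁ h₂ => ?_)
  · rw [map_smul]
    exact Submodule.smul_mem_smul ha (prL_mem L T hLT y)
  · rw [map_add]; exact Submodule.add_mem _ h₁ h₂

include hQ hmc in
theorem Vt_eq_Vinv (z : NN p P' 𝔞) (hz : (z : P') ∈ D'.Q) :
    ((Vt D' L T hLT m c 𝔞 h𝔞 hp𝔞 z : NN p P' 𝔞) : P') = VinvP D' (z : P') hz := by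
  rw [Vt_apply, Vinv_eq D' L T hLT hQ m c hmc (z : P') hz]
  have h1 : VL D' L T hLT hQ (z : P') = 0 := by
    rw [VL_apply]
    exact VinvP_eq_zero_of_mem D' L 𝔞 h𝔞 hp𝔞 (prL_mem_smul L T hLT 𝔞 z.2) (L_le_Q D' L T hQ) _
  rw [h1, zero_add]
  refine Finset.sum_congr rfl fun i _ => ?_
  congr 1
  symm
  apply Vdiv_eq_of_eq
  show cT L T hLT c i (z : P') = verschiebung (sh (cT L T hLT c i (z : P')))
  rw [verschiebung_sh_of_coeff_zero]
  have := cT_mem_IV D' L T hLT hQ c i hz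
  rw [IV_eq_ker, RingHom.mem_ker] at this
  exact this

include h𝔞 hp𝔞 in
lemma b_smul_eq_zero {b : WittVector p A}
    (hb : b ∈ W4c1extbt610.IV p A ⊔ Ideal.span {(p : WittVector p A)}) (z : NN p P' 𝔞) :
    b • z = 0 := by
  apply Subtype.ext
  show b • (z : P') = 0
  have hz := z.2
  refine Submodule.smul_induction_on hz (fun a ha y _ => ?_) (fun z₁ z₂ h₁ h₂ => ?_)
  · rw [smul_smul, b_mul_eq_zero 𝔞 h𝔞 hp𝔞 hb ha, zero_smul]
  · rw [smul_add, h₁, h₂, add_zero]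

end Ext

/-! ### Rigidity -/
section Core

variable {p : ℕ} [Fact p.Prime] {A : Type u} [CommRing A]
variable {P P' : Type v} [AddCommGroup P] [Module (WittVector p A) P]
  [AddCommGroup P'] [Module (WittVector p A) P']
variable (D : W4c1extbt610.Display3n p A P) (D' : W4c1extbt610.Display3n p A P')
variable (𝔞 : Ideal A) (h𝔞 : ∀ x ∈ 𝔞, ∀ y ∈ 𝔞, x * y = 0) (hp𝔞 : ∀ x ∈ 𝔞, (p : A) * x = 0)

local notation "σ" => (WittVector.frobenius : WittVector p A →+* WittVector p A)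

include h𝔞 hp𝔞 in
/-- A homomorphism of 3n-displays out of a display with values in `W(𝔞) P'`, `𝔞² = 0 = p𝔞`,
is zero. -/
theorem hom_eq_zero_of_forall_mem (hD : IsDisplay D) (u : P →ₗ[WittVector p A] P')
    (hu : W4c1extbt610.IsHom D D' u) (hmem : ∀ x, u x ∈ NN p P' 𝔞) : u = 0 := by
  obtain ⟨Vs, hVs, n, hn⟩ := hD
  obtain ⟨L, T, hLT, hQ⟩ := D'.exists_normal
  have := D'.finite
  have := D'.projective
  obtain ⟨k, m, c, hmc⟩ := exists_dualBasis (A := WittVector p A) (P := P')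
  let G := Vt D' L T hLT m c 𝔞 h𝔞 hp𝔞
  let u' : P →ₗ[WittVector p A] NN p P' 𝔞 := LinearMap.codRestrict _ u hmem
  have hfix : Uop G Vs u' = u' := by
    apply LinearMap.ext_on D.span_range_Vinv
    rintro _ ⟨y, rfl⟩
    apply Subtype.ext
    have h1 := hVs.app_smul_Vinv 1 y
    rw [one_smul] at h1
    show ((Theta0 G (BC.map σ u' (Vs (D.Vinv y))) : NN p P' 𝔞) : P') = u (D.Vinv y)
    rw [h1, BC.map_tmul, Theta0, BC.lift_tmul, one_smul, hu.comm_Vinv y]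
    exact Vt_eq_Vinv D' L T hLT hQ m c hmc 𝔞 h𝔞 hp𝔞 (u' y) (hu.mapsTo y y.2)
  have hiter : (Uop G Vs)^[n + 1] u' = u' := Function.iterate_fixed hfix (n + 1)
  have hzero := iterate_Uop_eq_zero G Vs n
    (W4c1extbt610.IV p A ⊔ Ideal.span {(p : WittVector p A)})
    (fun b hb z => b_smul_eq_zero 𝔞 h𝔞 hp𝔞 hb z) hn u'
  have h0 : u' = 0 := hiter.symm.trans hzero
  apply LinearMap.ext
  intro x
  have := congr($h0 x)
  exact congrArg Subtype.val this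

end Core



end Groth.Agent.Lib.Helper86.DispRigid
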