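import Mathlib
import Groth.Prelude.Def_Dieu
import Groth.Prelude.Def_Disp2
import Groth.Agent.Lib.Helper86.VSharpPow
import Groth.Agent.Lib.Helper86.VSharpExists
import Groth.Agent.Lib.Helper86.DispBC
import Groth.Agent.Lib.Helper86.DispBCExists
import Groth.Agent.Lib.Helper86.WittSqZero
import Groth.Agent.Lib.Helper86.DispRigid

set_option autoImplicit false
set_option linter.unusedSectionVars false
set_option linter.unusedVariables false
universe u v

namespace Groth.Agent.Lib.Helper86.DispInj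

open Dieu WittVector Groth.Agent.Lib.Helper86.VSharpPow Groth.Agent.Lib.Helper86.VSharpExists
  Groth.Agent.Lib.Helper86.DispBC
  Groth.Agent.Lib.Helper86.DispBCExists Groth.Agent.Lib.Helper86.WittSqZero
  Groth.Agent.Lib.Helper86.DispRigid

/-! ### Semilinear maps out of `Q_R` are determined by their values on generators -/
section ExtOn

variable {p : ℕ} [Fact p.Prime] {S R : Type u} [CommRing S] [CommRing R] (f : S →+* R)
variable {P : Type v} [AddCommGroup P] [Module (WittVector p S) P]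
variable (D : W4c1extbt610.Display3n p S P)
variable {M : Type*} [AddCommGroup M] [Module (WittVector p R) M]

local notation "σR" => (WittVector.frobenius : WittVector p R →+* WittVector p R)
local notation "Wf" => (WittVector.map f : WittVector p S →+* WittVector p R)

theorem semilin_ext_on_QR (V₁ V₂ : QR f D →ₛₗ[σR] M)
    (hA : ∀ (w : WittVector p R) (y : P) (_ : y ∈ D.Q) (h : BC.tmul Wf w y ∈ QR f D),
      V₁ ⟨_, h⟩ = V₂ ⟨_, h⟩)
    (hB : ∀ (w : WittVector p R) (x : P) (h : BC.tmul Wf (verschiebung w) x ∈ QR f D),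
      V₁ ⟨_, h⟩ = V₂ ⟨_, h⟩) : V₁ = V₂ := by
  obtain ⟨L, T, hLT, hQ⟩ := D.exists_normal
  have := D.finite
  have := D.projective
  obtain ⟨n, m, c, hmc⟩ := exists_dualBasis (A := WittVector p S) (P := P)
  have hC : ∀ (z : BC Wf P) (h : prLR f L T hLT z ∈ QR f D),
      V₁ ⟨prLR f L T hLT z, h⟩ = V₂ ⟨prLR f L T hLT z, h⟩ := by
    intro z
    induction z using BC.induction_on Wf with
    | zero =>
      intro h
      have : (⟨prLR f L T hLT 0, h⟩ : QR f D) = 0 := Subtype.ext (map_zero _)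
      rw [this, map_zero, map_zero]
    | tmul w x =>
      intro h
      have h' : BC.tmul Wf w (prL L T hLT x) ∈ QR f D :=
        tmul_mem_QR f D w (L_le_Q D L T hQ (prL_mem L T hLT x))
      have : (⟨prLR f L T hLT (BC.tmul Wf w x), h⟩ : QR f D) =
          ⟨BC.tmul Wf w (prL L T hLT x), h'⟩ := Subtype.ext (prLR_tmul f L T hLT w x)
      rw [this]
      exact hA w _ (L_le_Q D L T hQ (prL_mem L T hLT x)) h'
    | add z₁ z₂ h₁ h₂ =>
      intro h
      have hz₁ := prLR_mem_QR f D L T hLT hQ z₁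
      have hz₂ := prLR_mem_QR f D L T hLT hQ z₂
      have : (⟨prLR f L T hLT (z₁ + z₂), h⟩ : QR f D) =
          ⟨prLR f L T hLT z₁, hz₁⟩ + ⟨prLR f L T hLT z₂, hz₂⟩ := Subtype.ext (map_add _ _ _)
      rw [this, map_add, map_add, h₁ hz₁, h₂ hz₂]
  apply LinearMap.ext
  rintro ⟨z, hz⟩
  have hL := prLR_mem_QR f D L T hLT hQ z
  have e : (⟨z, hz⟩ : QR f D) = ⟨prLR f L T hLT z, hL⟩ +
      ∑ i, ⟨BC.tmul Wf (verschiebung (Vdiv ⟨CT f L T hLT c i z, CT_mem_IV f D L T hLT hQ c i hz⟩))
        (mT L T hLT m i), verschiebung_tmul_mem_QR f D _ _⟩ := by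
    apply Subtype.ext
    rw [Submodule.coe_add, Submodule.coe_sum]
    have e1 : z = prLR f L T hLT z + prTR f L T hLT z := (prLR_add_prTR f L T hLT z).symm
    rw [prTR_eq_sum f L T hLT m c hmc] at e1
    refine e1.trans ?_
    congr 1
    refine Finset.sum_congr rfl fun i _ => ?_
    show _ = BC.tmul Wf (verschiebung (Vdiv ⟨CT f L T hLT c i z, CT_mem_IV f D L T hLT hQ c i hz⟩))
        (mT L T hLT m i)
    rw [verschiebung_Vdiv, BC.smul_tmul, mul_one]
  rw [e, map_add, map_add, map_sum, map_sum, hC z hL]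
  congr 1
  exact Finset.sum_congr rfl fun i _ => hB _ _ _

theorem semilin_ext_on_Q (Q : Submodule (WittVector p R) (BC Wf P)) (hQeq : Q = QR f D)
    (V₁ V₂ : Q →ₛₗ[σR] M)
    (hA : ∀ (w : WittVector p R) (y : P) (_ : y ∈ D.Q) (h : BC.tmul Wf w y ∈ Q),
      V₁ ⟨_, h⟩ = V₂ ⟨_, h⟩)
    (hB : ∀ (w : WittVector p R) (x : P) (h : BC.tmul Wf (verschiebung w) x ∈ Q),
      V₁ ⟨_, h⟩ = V₂ ⟨_, h⟩) : V₁ = V₂ := by
  subst hQeq
  exact semilin_ext_on_QR f D V₁ V₂ hA hB

end ExtOn

/-! ### Base change of homomorphisms -/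
section HomBC

variable {p : ℕ} [Fact p.Prime] {S R : Type u} [CommRing S] [CommRing R] (f : S →+* R)
variable {P P' : Type v} [AddCommGroup P] [Module (WittVector p S) P]
  [AddCommGroup P'] [Module (WittVector p S) P']
variable (D : W4c1extbt610.Display3n p S P) (D' : W4c1extbt610.Display3n p S P')

local notation "σR" => (WittVector.frobenius : WittVector p R →+* WittVector p R)
local notation "Wf" => (WittVector.map f : WittVector p S →+* WittVector p R)
local notation "w0R" => (WittVector.constantCoeff : WittVector p R →+* R)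

lemma bcQuotMap_map (ψ : P →ₗ[WittVector p S] P') (h : D.Q ≤ D'.Q.comap ψ) (z : BC Wf P) :
    bcQuotMap f D'.Q (BC.map Wf ψ z) =
      BC.map ((w0R).comp Wf) (D.Q.mapQ D'.Q ψ h) (bcQuotMap f D.Q z) := by
  induction z using BC.induction_on Wf with
  | zero => simp
  | tmul w x =>
    rw [BC.map_tmul, bcQuotMap_tmul, bcQuotMap_tmul, BC.map_tmul]
    rfl
  | add z₁ z₂ h₁ h₂ => simp only [map_add, h₁, h₂]

theorem isHom_baseChange
    (DR : W4c1extbt610.Display3n p R (BC Wf P)) (hDR : IsDispBaseChange f D DR)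
    (DR' : W4c1extbt610.Display3n p R (BC Wf P')) (hDR' : IsDispBaseChange f D' DR')
    (ψ : P →ₗ[WittVector p S] P') (hψ : W4c1extbt610.IsHom D D' ψ) :
    W4c1extbt610.IsHom DR DR' (BC.map Wf ψ) := by
  have hmaps : ∀ q : BC Wf P, q ∈ DR.Q → BC.map Wf ψ q ∈ DR'.Q := by
    intro q hq
    rw [hDR.Q_eq, LinearMap.mem_ker] at hq
    rw [hDR'.Q_eq, LinearMap.mem_ker, bcQuotMap_map f D D' ψ (fun y hy => hψ.mapsTo y hy), hq,
      map_zero]
  refine ⟨hmaps, ?_, ?_⟩
  · intro z
    induction z using BC.induction_on Wf with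
    | zero => simp
    | tmul w x =>
      rw [hDR.F_tmul, BC.map_tmul, BC.map_tmul, hDR'.F_tmul, hψ.comm_F]
    | add z₁ z₂ h₁ h₂ => simp only [map_add, h₁, h₂]
  · have key : (BC.map Wf ψ).comp DR.Vinv =
        DR'.Vinv.comp ((BC.map Wf ψ).restrict hmaps) := by
      apply semilin_ext_on_Q f D DR.Q hDR.Q_eq
      · intro w y hy h
        rw [LinearMap.comp_apply, LinearMap.comp_apply, hDR.Vinv_tmul w ⟨y, hy⟩ h, BC.map_tmul,
          hψ.comm_Vinv ⟨y, hy⟩]
        have h' : BC.tmul Wf w ((⟨ψ y, hψ.mapsTo y hy⟩ : D'.Q) : P') ∈ DR'.Q := by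
          have := hmaps _ h
          rwa [BC.map_tmul] at this
        rw [← hDR'.Vinv_tmul w ⟨ψ y, hψ.mapsTo y hy⟩ h']
        congr 1
        apply Subtype.ext
        exact (BC.map_tmul _ _ _ _).symm
      · intro w x h
        rw [LinearMap.comp_apply, LinearMap.comp_apply, hDR.Vinv_verschiebung_tmul w x h,
          BC.map_tmul, hψ.comm_F]
        have h' : BC.tmul Wf (verschiebung w) (ψ x) ∈ DR'.Q := by
          have := hmaps _ h
          rwa [BC.map_tmul] at this
        rw [← hDR'.Vinv_verschiebung_tmul w (ψ x) h']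
        congr 1
        apply Subtype.ext
        exact (BC.map_tmul _ _ _ _).symm
    intro q
    exact congr($key q)

end HomBC

/-! ### The kernel of `P' → B ⊗ P'` -/
section Ker

variable {A B : Type u} [CommRing A] [CommRing B] (φ : A →+* B)
variable {P' : Type v} [AddCommGroup P'] [Module A P']

theorem mem_ker_smul_top_of_tmul_eq_zero [Module.Finite A P'] [Module.Projective A P'] (x : P')
    (h : BC.tmul φ 1 x = 0) : x ∈ RingHom.ker φ • (⊤ : Submodule A P') := by
  obtain ⟨n, m, c, hmc⟩ := exists_dualBasis (A := A) (P := P')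
  rw [hmc x]
  refine Submodule.sum_mem _ fun i _ => ?_
  refine Submodule.smul_mem_smul ?_ Submodule.mem_top
  rw [RingHom.mem_ker]
  have := congrArg (bcFun φ (c i)) h
  rwa [bcFun_tmul, one_mul, map_zero] at this

end Ker

/-! ### Differences of homomorphisms -/
section Sub

variable {p : ℕ} [Fact p.Prime] {S : Type u} [CommRing S]
variable {P P' : Type v} [AddCommGroup P] [Module (WittVector p S) P]
  [AddCommGroup P'] [Module (WittVector p S) P']
variable (D : W4c1extbt610.Display3n p S P) (D' : W4c1extbt610.Display3n p S P')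

theorem isHom_sub (ψ χ : P →ₗ[WittVector p S] P') (hψ : W4c1extbt610.IsHom D D' ψ)
    (hχ : W4c1extbt610.IsHom D D' χ) : W4c1extbt610.IsHom D D' (ψ - χ) := by
  have hmaps : ∀ q : P, q ∈ D.Q → (ψ - χ) q ∈ D'.Q := fun q hq => by
    rw [LinearMap.sub_apply]
    exact D'.Q.sub_mem (hψ.mapsTo q hq) (hχ.mapsTo q hq)
  refine ⟨hmaps, ?_, ?_⟩
  · intro x
    rw [LinearMap.sub_apply, LinearMap.sub_apply, map_sub, hψ.comm_F, hχ.comm_F]
  · intro q
    rw [LinearMap.sub_apply, hψ.comm_Vinv, hχ.comm_Vinv, ← map_sub]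
    congr 1

end Sub

/-! ### Dévissage -/
section Devissage

variable {p : ℕ} [Fact p.Prime] {S : Type u} [CommRing S]
variable {P P' : Type v} [AddCommGroup P] [Module (WittVector p S) P]
  [AddCommGroup P'] [Module (WittVector p S) P']
variable (D : W4c1extbt610.Display3n p S P) (D' : W4c1extbt610.Display3n p S P')

lemma Wid_bot : Wid (p := p) (⊥ : Ideal S) = ⊥ := by
  rw [eq_bot_iff]
  intro w hw
  rw [mem_Wid_iff] at hw
  rw [Ideal.mem_bot]
  ext n
  rw [zero_coeff]
  exact (Ideal.mem_bot).mp (hw n)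

lemma map_mem_Wid_map {A : Type u} [CommRing A] (π : S →+* A) (𝔠 : Ideal S) {a : WittVector p S}
    (ha : a ∈ Wid (p := p) 𝔠) :
    (WittVector.map π : WittVector p S →+* WittVector p A) a ∈ Wid (p := p) (𝔠.map π) := by
  rw [mem_Wid_iff] at ha ⊢
  intro n
  rw [map_coeff]
  exact Ideal.mem_map_of_mem π (ha n)

/-- one step of the dévissage -/
theorem step (hp : IsNilpotent (p : S)) (hD : IsDisplay D) (u : P →ₗ[WittVector p S] P')
    (hu : W4c1extbt610.IsHom D D' u) (𝔞 𝔟 : Ideal S) (hsq : 𝔞 * 𝔞 ≤ 𝔟)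
    (hp𝔞 : ∀ x ∈ 𝔞, (p : S) * x ∈ 𝔟)
    (hmem : ∀ x, u x ∈ Wid (p := p) 𝔞 • (⊤ : Submodule (WittVector p S) P')) :
    ∀ x, u x ∈ Wid (p := p) 𝔟 • (⊤ : Submodule (WittVector p S) P') := by
  let π : S →+* S ⧸ 𝔟 := Ideal.Quotient.mk 𝔟
  have hπ : Function.Surjective π := Ideal.Quotient.mk_surjective
  obtain ⟨DA, hDA⟩ := exists_isDispBaseChange π D
  obtain ⟨DA', hDA'⟩ := exists_isDispBaseChange π D'
  have hDAdisp : IsDisplay DA := isDisplay_baseChange π hp D hD DA hDA
  have huA := isHom_baseChange π D D' DA hDA DA' hDA' u hu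
  have h𝔞 : ∀ x ∈ 𝔞.map π, ∀ y ∈ 𝔞.map π, x * y = 0 := by
    intro x hx y hy
    obtain ⟨a, ha, rfl⟩ := (Ideal.mem_map_iff_of_surjective π hπ).mp hx
    obtain ⟨b, hb, rfl⟩ := (Ideal.mem_map_iff_of_surjective π hπ).mp hy
    rw [← map_mul]
    exact Ideal.Quotient.eq_zero_iff_mem.mpr (hsq (Ideal.mul_mem_mul ha hb))
  have hp𝔞' : ∀ x ∈ 𝔞.map π, ((p : ℕ) : S ⧸ 𝔟) * x = 0 := by
    intro x hx
    obtain ⟨a, ha, rfl⟩ := (Ideal.mem_map_iff_of_surjective π hπ).mp hx
    rw [← map_natCast π, ← map_mul]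
    exact Ideal.Quotient.eq_zero_iff_mem.mpr (hp𝔞 a ha)
  have hmemA : ∀ z, BC.map (WittVector.map π : WittVector p S →+* WittVector p (S ⧸ 𝔟)) u z ∈
      NN p (BC (WittVector.map π : WittVector p S →+* WittVector p (S ⧸ 𝔟)) P') (𝔞.map π) := by
    intro z
    induction z using BC.induction_on
      (WittVector.map π : WittVector p S →+* WittVector p (S ⧸ 𝔟)) with
    | zero => rw [map_zero]; exact Submodule.zero_mem _
    | tmul w x =>
      rw [BC.map_tmul]
      refine Submodule.smul_induction_on (hmem x) (fun a ha y _ => ?_) (fun z₁ z₂ h₁ h₂ => ?_)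
      · rw [← BC.tmul_mul_apply, BC.tmul_eq_smul_tmul_one]
        exact Submodule.smul_mem_smul
          (Ideal.mul_mem_left _ _ (map_mem_Wid_map π 𝔞 ha)) Submodule.mem_top
      · rw [BC.tmul_add]; exact Submodule.add_mem _ h₁ h₂
    | add z₁ z₂ h₁ h₂ => rw [map_add]; exact Submodule.add_mem _ h₁ h₂
  have h0 := hom_eq_zero_of_forall_mem DA DA' (𝔞.map π) h𝔞 hp𝔞' hDAdisp _ huA hmemA
  intro x
  have h1 : BC.tmul (WittVector.map π : WittVector p S →+* WittVector p (S ⧸ 𝔟)) 1 (u x) = 0 := by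
    have := congr($h0 (BC.tmul (WittVector.map π : WittVector p S →+* WittVector p (S ⧸ 𝔟)) 1 x))
    rwa [BC.map_tmul, LinearMap.zero_apply] at this
  have := D'.finite
  have := D'.projective
  exact mem_ker_smul_top_of_tmul_eq_zero _ (u x) h1

/-- A homomorphism from a display to a 3n-display with values in `W(𝔠) P'`, `𝔠` nilpotent,
vanishes. -/
theorem hom_eq_zero_of_nilpotent (hp : IsNilpotent (p : S)) (hD : IsDisplay D)
    (u : P →ₗ[WittVector p S] P') (hu : W4c1extbt610.IsHom D D' u) (𝔠 : Ideal S)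
    (h𝔠 : IsNilpotent 𝔠)
    (hmem : ∀ x, u x ∈ Wid (p := p) 𝔠 • (⊤ : Submodule (WittVector p S) P')) : u = 0 := by
  set 𝔡 : Ideal S := 𝔠 ⊔ Ideal.span {(p : S)} with h𝔡
  have h𝔡nil : IsNilpotent 𝔡 := by
    have hpn : IsNilpotent (Ideal.span {(p : S)}) := by
      obtain ⟨k, hk⟩ := hp
      refine ⟨k, ?_⟩
      rw [Ideal.span_singleton_pow, hk]
      simp
    exact (Commute.all 𝔠 _).isNilpotent_add h𝔠 hpn
  have hchain : ∀ k : ℕ, ∀ x, u x ∈
      Wid (p := p) (𝔠 * 𝔡 ^ k) • (⊤ : Submodule (WittVector p S) P') := by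
    intro k
    induction k with
    | zero => simpa using hmem
    | succ k ih =>
      have hle : 𝔠 * 𝔡 ^ k ≤ 𝔡 := Ideal.mul_le_left.trans (le_sup_left : 𝔠 ≤ 𝔠 ⊔ Ideal.span {(p : S)})
      refine step D D' hp hD u hu (𝔠 * 𝔡 ^ k) (𝔠 * 𝔡 ^ (k + 1)) ?_ ?_ ih
      · calc 𝔠 * 𝔡 ^ k * (𝔠 * 𝔡 ^ k) ≤ 𝔠 * 𝔡 ^ k * 𝔡 := Ideal.mul_mono_right hle
          _ = 𝔠 * 𝔡 ^ (k + 1) := by rw [mul_assoc, ← pow_succ]
      · intro x hx
        have hpd : (p : S) ∈ 𝔡 := Ideal.mem_sup_right (Ideal.mem_span_singleton_self _)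
        have := Ideal.mul_mem_mul hx hpd
        rwa [mul_assoc, ← pow_succ, mul_comm x] at this
  obtain ⟨k, hk⟩ := h𝔡nil
  have hk' := hchain k
  rw [hk, mul_zero, Ideal.zero_eq_bot, Wid_bot, Submodule.bot_smul] at hk'
  apply LinearMap.ext
  intro x
  exact (Submodule.mem_bot _).mp (hk' x)

end Devissage


/-! ### Injectivity of base change on homomorphisms; torsion-freeness -/
section Main

variable {p : ℕ} [Fact p.Prime] {S R : Type u} [CommRing S] [CommRing R]
variable {P P' : Type v} [AddCommGroup P] [Module (WittVector p S) P]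
  [AddCommGroup P'] [Module (WittVector p S) P']
variable (D : W4c1extbt610.Display3n p S P) (D' : W4c1extbt610.Display3n p S P')

theorem baseChange_hom_injective (hp : IsNilpotent (p : S)) (f : S →+* R)
    (hker : IsNilpotent (RingHom.ker f)) (hD : IsDisplay D)
    (ψ χ : P →ₗ[WittVector p S] P') (hψ : W4c1extbt610.IsHom D D' ψ)
    (hχ : W4c1extbt610.IsHom D D' χ)
    (h : BC.map (WittVector.map f : WittVector p S →+* WittVector p R) ψ =
      BC.map (WittVector.map f : WittVector p S →+* WittVector p R) χ) : ψ = χ := by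
  have hu := isHom_sub D D' ψ χ hψ hχ
  have := D'.finite
  have := D'.projective
  have hle : RingHom.ker (WittVector.map f : WittVector p S →+* WittVector p R) ≤
      Wid (p := p) (RingHom.ker f) := by
    intro w hw
    rw [RingHom.mem_ker] at hw
    rw [mem_Wid_iff]
    intro n
    rw [RingHom.mem_ker, ← map_coeff, hw, zero_coeff]
  have hmem : ∀ x, (ψ - χ) x ∈
      Wid (p := p) (RingHom.ker f) • (⊤ : Submodule (WittVector p S) P') := by
    intro x
    have h1 : BC.tmul (WittVector.map f : WittVector p S →+* WittVector p R) 1 ((ψ - χ) x) = 0 := by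
      have := congr($h (BC.tmul (WittVector.map f : WittVector p S →+* WittVector p R) 1 x))
      rw [BC.map_tmul, BC.map_tmul] at this
      rw [LinearMap.sub_apply, sub_eq_add_neg, BC.tmul_add, BC.tmul_neg, this, add_neg_cancel]
    exact Submodule.smul_mono_left hle (mem_ker_smul_top_of_tmul_eq_zero _ _ h1)
  exact sub_eq_zero.mp (hom_eq_zero_of_nilpotent D D' hp hD _ hu _ hker hmem)

lemma wittVector_subsingleton [Subsingleton S] : Subsingleton (WittVector p S) :=
  ⟨fun x y => WittVector.ext fun n => Subsingleton.elim _ _⟩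

lemma p_mul_eq_zero_imp {A₀ : Type u} [CommRing A₀] [IsReduced A₀] [CharP A₀ p]
    (w : WittVector p A₀) (h : (p : WittVector p A₀) * w = 0) : w = 0 := by
  rw [mul_comm, ← verschiebung_frobenius] at h
  have h1 : frobenius w = 0 := verschiebung_injective p A₀ (by rw [h, map_zero])
  ext n
  have h2 := congrArg (fun x => x.coeff n) h1
  simp only [coeff_frobenius_charP, zero_coeff] at h2
  rw [zero_coeff]
  exact IsNilpotent.eq_zero ⟨p, h2⟩

theorem hom_eq_zero_of_p_smul_eq_zero (hp : IsNilpotent (p : S))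
    (hn : IsNilpotent (nilradical S)) (hD : IsDisplay D)
    (ψ : P →ₗ[WittVector p S] P') (hψ : W4c1extbt610.IsHom D D' ψ)
    (h : (p : WittVector p S) • ψ = 0) : ψ = 0 := by
  rcases subsingleton_or_nontrivial S with hS | hS
  · have := wittVector_subsingleton (p := p) (S := S)
    have : Subsingleton P' := Module.subsingleton (WittVector p S) P'
    apply LinearMap.ext
    intro x
    exact Subsingleton.elim _ _
  apply hom_eq_zero_of_nilpotent D D' hp hD ψ hψ (nilradical S) hn
  intro x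
  have hne : nilradical S ≠ ⊤ := by
    intro htop
    have : (1 : S) ∈ nilradical S := htop ▸ Submodule.mem_top
    exact not_isNilpotent_one (mem_nilradical.mp this)
  have : Nontrivial (S ⧸ nilradical S) := Ideal.Quotient.nontrivial_iff.mpr hne
  have hp0 : ((p : ℕ) : S ⧸ nilradical S) = 0 := by
    rw [← map_natCast (Ideal.Quotient.mk (nilradical S)), Ideal.Quotient.eq_zero_iff_mem]
    exact mem_nilradical.mpr hp
  have : CharP (S ⧸ nilradical S) p := (CharP.charP_iff_prime_eq_zero (Fact.out : p.Prime)).mpr hp0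
  have : IsReduced (S ⧸ nilradical S) :=
    (Ideal.isRadical_iff_quotient_reduced (nilradical S)).mp (Ideal.radical_isRadical ⊥)
  have hfin := D'.finite
  have hproj := D'.projective
  set φ : WittVector p S →+* WittVector p (S ⧸ nilradical S) :=
    WittVector.map (Ideal.Quotient.mk (nilradical S)) with hφ
  obtain ⟨hf2, hp2⟩ := finite_projective_BC (P := P') φ
  obtain ⟨k, M, C, hMC⟩ := exists_dualBasis (A := WittVector p (S ⧸ nilradical S)) (P := BC φ P')
  have hz : (p : WittVector p (S ⧸ nilradical S)) • BC.tmul φ 1 (ψ x) = 0 := by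
    have h1 : (p : WittVector p S) • ψ x = 0 := congr($h x)
    rw [BC.smul_tmul, mul_one, ← map_natCast φ, BC.tmul_apply_eq, h1, BC.tmul_zero]
  have h0 : BC.tmul φ 1 (ψ x) = 0 := by
    rw [hMC (BC.tmul φ 1 (ψ x))]
    refine Finset.sum_eq_zero fun i _ => ?_
    have : C i (BC.tmul φ 1 (ψ x)) = 0 := by
      apply p_mul_eq_zero_imp
      rw [← smul_eq_mul, ← map_smul, hz, map_zero]
    rw [this, zero_smul]
  exact mem_ker_smul_top_of_tmul_eq_zero φ (ψ x) h0

end Main


end Groth.Agent.Lib.Helper86.DispInj
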