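import Mathlib
import Groth.Prelude.Def_Dieu
import Groth.Prelude.Def_Disp2
import Groth.Agent.Lib.Helper86.VSharpPow
import Groth.Agent.Lib.Helper86.VSharpExists
import Groth.Agent.Lib.Helper86.DispBC
import Groth.Agent.Lib.Helper86.DispBCExists
import Groth.Agent.Lib.Helper86.WittSqZero
import Groth.Agent.Lib.Helper86.DispRigid
import Groth.Agent.Lib.Helper86.DispInj

set_option autoImplicit false
set_option linter.unusedSectionVars false
set_option linter.unusedVariables false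
universe u v

namespace Groth.Agent.Lib.Helper86.DispCoker

open Dieu WittVector Groth.Agent.Lib.Helper86.VSharpPow Groth.Agent.Lib.Helper86.VSharpExists
  Groth.Agent.Lib.Helper86.DispBC
  Groth.Agent.Lib.Helper86.DispBCExists Groth.Agent.Lib.Helper86.WittSqZero
  Groth.Agent.Lib.Helper86.DispRigid Groth.Agent.Lib.Helper86.DispInj

/-! ### Lifting elements along a surjective base change -/
section Lift

variable {p : ℕ} [Fact p.Prime] {S R : Type u} [CommRing S] [CommRing R] (f : S →+* R)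
  (hf : Function.Surjective f)
variable {P : Type v} [AddCommGroup P] [Module (WittVector p S) P]

local notation "Wf" => (WittVector.map f : WittVector p S →+* WittVector p R)

include hf in
lemma exists_tmul_one_eq (z : BC Wf P) : ∃ y : P, BC.tmul Wf 1 y = z := by
  have hWf : Function.Surjective Wf := WittVector.map_surjective f hf
  induction z using BC.induction_on Wf with
  | zero => exact ⟨0, BC.tmul_zero _ _⟩
  | tmul w x =>
    obtain ⟨w', rfl⟩ := hWf w
    exact ⟨w' • x, (BC.tmul_apply_eq _ _ _).symm⟩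
  | add z₁ z₂ h₁ h₂ =>
    obtain ⟨y₁, rfl⟩ := h₁
    obtain ⟨y₂, rfl⟩ := h₂
    exact ⟨y₁ + y₂, BC.tmul_add _ _ _ _⟩

variable (D : W4c1extbt610.Display3n p S P)

include hf in
/-- every element of `Q_R` is of the form `1 ⊗ y` with `y ∈ Q` -/
lemma exists_mem_Q_tmul_one_eq (z : BC Wf P) (hz : z ∈ QR f D) :
    ∃ y : P, y ∈ D.Q ∧ BC.tmul Wf 1 y = z := by
  have hWf : Function.Surjective Wf := WittVector.map_surjective f hf
  obtain ⟨L, T, hLT, hQ⟩ := D.exists_normal
  have := D.finite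
  have := D.projective
  obtain ⟨n, m, c, hmc⟩ := exists_dualBasis (A := WittVector p S) (P := P)
  obtain ⟨y₀, hy₀⟩ := exists_tmul_one_eq f hf z
  have hu : ∀ i, ∃ u : WittVector p S, Wf (verschiebung u) = CT f L T hLT c i z := by
    intro i
    obtain ⟨u, hu⟩ := (mem_IV_iff _).mp (CT_mem_IV f D L T hLT hQ c i hz)
    obtain ⟨u', rfl⟩ := hWf u
    exact ⟨u', by rw [hu, map_verschiebung]⟩
  choose u hu using hu
  refine ⟨prL L T hLT y₀ + ∑ i, verschiebung (u i) • mT L T hLT m i, ?_, ?_⟩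
  · refine D.Q.add_mem (L_le_Q D L T hQ (prL_mem L T hLT y₀)) (D.Q.sum_mem fun i _ => ?_)
    exact D.IV_smul_le (Submodule.smul_mem_smul (W4c1extbt610.verschiebung_mem_IV p S _)
      Submodule.mem_top)
  · rw [BC.tmul_add, tmul_sum]
    have e1 : z = prLR f L T hLT z + prTR f L T hLT z := (prLR_add_prTR f L T hLT z).symm
    rw [prTR_eq_sum f L T hLT m c hmc] at e1
    conv_rhs => rw [e1]
    congr 1
    · rw [← hy₀, prLR_tmul]
    · refine Finset.sum_congr rfl fun i _ => ?_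
      rw [← hu i, BC.smul_tmul, mul_one, BC.tmul_apply_eq]

end Lift

/-! ### A lift preserving `Q` -/
section Psi0

variable {p : ℕ} [Fact p.Prime] {S R : Type u} [CommRing S] [CommRing R] (f : S →+* R)
  (hf : Function.Surjective f)
variable {P P' : Type v} [AddCommGroup P] [Module (WittVector p S) P]
  [AddCommGroup P'] [Module (WittVector p S) P']
variable (D : W4c1extbt610.Display3n p S P) (D' : W4c1extbt610.Display3n p S P')

local notation "Wf" => (WittVector.map f : WittVector p S →+* WittVector p R)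

include hf in
theorem exists_lift_mapsTo
    (DR : W4c1extbt610.Display3n p R (BC Wf P)) (hDR : IsDispBaseChange f D DR)
    (DR' : W4c1extbt610.Display3n p R (BC Wf P')) (hDR' : IsDispBaseChange f D' DR')
    (χ : BC Wf P →ₗ[WittVector p R] BC Wf P') (hχ : W4c1extbt610.IsHom DR DR' χ) :
    ∃ ψ : P →ₗ[WittVector p S] P', (∀ q ∈ D.Q, ψ q ∈ D'.Q) ∧ BC.map Wf ψ = χ := by
  obtain ⟨L, T, hLT, hQ⟩ := D.exists_normal
  have := D.finite
  have := D.projective
  obtain ⟨n, m, c, hmc⟩ := exists_dualBasis (A := WittVector p S) (P := P)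
  -- lifts of the images of the generators
  have hL : ∀ i, ∃ y : P', y ∈ D'.Q ∧ BC.tmul Wf 1 y = χ (BC.tmul Wf 1 (prL L T hLT (m i))) := by
    intro i
    apply exists_mem_Q_tmul_one_eq f hf D'
    have h1 : BC.tmul Wf 1 (prL L T hLT (m i)) ∈ DR.Q := by
      rw [hDR.Q_eq]
      exact tmul_mem_QR f D 1 (L_le_Q D L T hQ (prL_mem L T hLT (m i)))
    have h2 := hχ.mapsTo _ h1
    rw [hDR'.Q_eq] at h2
    exact h2
  have hT : ∀ i, ∃ y : P', BC.tmul Wf 1 y = χ (BC.tmul Wf 1 (prT L T hLT (m i))) :=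
    fun i => exists_tmul_one_eq f hf _
  choose yL hyLQ hyL using hL
  choose yT hyT using hT
  let ψ : P →ₗ[WittVector p S] P' :=
    ∑ i, ((c i).comp (prL L T hLT)).smulRight (yL i) + ∑ i, ((c i).comp (prT L T hLT)).smulRight (yT i)
  have hψ_apply : ∀ x, ψ x = ∑ i, c i (prL L T hLT x) • yL i + ∑ i, c i (prT L T hLT x) • yT i := by
    intro x
    simp only [ψ, LinearMap.add_apply, LinearMap.sum_apply, LinearMap.smulRight_apply,
      LinearMap.comp_apply]
  refine ⟨ψ, ?_, ?_⟩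
  · intro q hq
    rw [hψ_apply]
    refine D'.Q.add_mem (D'.Q.sum_mem fun i _ => D'.Q.smul_mem _ (hyLQ i))
      (D'.Q.sum_mem fun i _ => ?_)
    have : c i (prT L T hLT q) ∈ W4c1extbt610.IV p S := cT_mem_IV D L T hLT hQ c i hq
    exact D'.IV_smul_le (Submodule.smul_mem_smul this Submodule.mem_top)
  · apply BC.ext
    intro x
    rw [BC.map_tmul, hψ_apply, BC.tmul_add, tmul_sum, tmul_sum]
    have e1 : ∀ i, BC.tmul Wf 1 (c i (prL L T hLT x) • yL i) =
        χ (BC.tmul Wf 1 (c i (prL L T hLT x) • prL L T hLT (m i))) := by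
      intro i
      rw [← BC.tmul_apply_eq, BC.tmul_eq_smul_tmul_one, hyL, ← map_smul, ← BC.tmul_eq_smul_tmul_one,
        BC.tmul_apply_eq]
    have e2 : ∀ i, BC.tmul Wf 1 (c i (prT L T hLT x) • yT i) =
        χ (BC.tmul Wf 1 (c i (prT L T hLT x) • prT L T hLT (m i))) := by
      intro i
      rw [← BC.tmul_apply_eq, BC.tmul_eq_smul_tmul_one, hyT, ← map_smul, ← BC.tmul_eq_smul_tmul_one,
        BC.tmul_apply_eq]
    rw [Finset.sum_congr rfl fun i _ => e1 i, Finset.sum_congr rfl fun i _ => e2 i, ← map_sum,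
      ← map_sum, ← map_add, ← tmul_sum, ← tmul_sum, ← BC.tmul_add]
    congr 2
    have h1 : ∑ i, c i (prL L T hLT x) • prL L T hLT (m i) = prL L T hLT x := by
      have h := hmc (prL L T hLT x)
      have h2 := congrArg (prL L T hLT) h
      rw [prL_of_mem_L L T hLT (prL_mem L T hLT x), map_sum] at h2
      refine Eq.trans ?_ h2.symm
      exact Finset.sum_congr rfl fun i _ => (map_smul _ _ _).symm
    have h2 : ∑ i, c i (prT L T hLT x) • prT L T hLT (m i) = prT L T hLT x := by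
      have h := hmc (prT L T hLT x)
      have h2 := congrArg (prT L T hLT) h
      rw [prT_of_mem_T L T hLT (prT_mem L T hLT x), map_sum] at h2
      refine Eq.trans ?_ h2.symm
      exact Finset.sum_congr rfl fun i _ => (map_smul _ _ _).symm
    rw [h1, h2, prL_add_prT]

end Psi0


/-! ### Killing the defect by powers of `p` -/
section Defect

variable {p : ℕ} [Fact p.Prime] {S R : Type u} [CommRing S] [CommRing R]
variable {P P' : Type v} [AddCommGroup P] [Module (WittVector p S) P]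
  [AddCommGroup P'] [Module (WittVector p S) P']
variable (D : W4c1extbt610.Display3n p S P) (D' : W4c1extbt610.Display3n p S P')

lemma p_mul_mem_Wid (𝔞 𝔟 : Ideal S) (hsq : 𝔞 * 𝔞 ≤ 𝔟) (hp𝔞 : ∀ x ∈ 𝔞, (p : S) * x ∈ 𝔟)
    {a : WittVector p S} (ha : a ∈ Wid (p := p) 𝔞) :
    (p : WittVector p S) * a ∈ Wid (p := p) 𝔟 := by
  let π : S →+* S ⧸ 𝔟 := Ideal.Quotient.mk 𝔟
  have hπ : Function.Surjective π := Ideal.Quotient.mk_surjective
  have h𝔞 : ∀ x ∈ 𝔞.map π, ∀ y ∈ 𝔞.map π, x * y = 0 := by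
    intro x hx y hy
    obtain ⟨a, ha, rfl⟩ := (Ideal.mem_map_iff_of_surjective π hπ).mp hx
    obtain ⟨b, hb, rfl⟩ := (Ideal.mem_map_iff_of_surjective π hπ).mp hy
    rw [← map_mul]
    exact Ideal.Quotient.eq_zero_iff_mem.mpr (hsq (Ideal.mul_mem_mul ha hb))
  have hp𝔞' : ∀ x ∈ 𝔞.map π, ((p : ℕ) : S ⧸ 𝔟) * x = 0 := by
    intro x hx
    obtain ⟨a, ha, rfl⟩ := (Ideal.mem_map_iff_of_surjective π hπ).mp hx
    rw [← map_natCast π, ← map_mul]
    exact Ideal.Quotient.eq_zero_iff_mem.mpr (hp𝔞 a ha)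
  show (p : WittVector p S) * a ∈
    RingHom.ker (WittVector.map π : WittVector p S →+* WittVector p (S ⧸ 𝔟))
  rw [RingHom.mem_ker, map_mul, map_natCast]
  exact p_mul_eq_zero (𝔞.map π) h𝔞 hp𝔞' (map_mem_Wid_map π 𝔞 ha)

lemma p_smul_mem (𝔞 𝔟 : Ideal S) (hsq : 𝔞 * 𝔞 ≤ 𝔟) (hp𝔞 : ∀ x ∈ 𝔞, (p : S) * x ∈ 𝔟)
    {z : P'} (hz : z ∈ Wid (p := p) 𝔞 • (⊤ : Submodule (WittVector p S) P')) :
    (p : WittVector p S) • z ∈ Wid (p := p) 𝔟 • (⊤ : Submodule (WittVector p S) P') := by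
  refine Submodule.smul_induction_on hz (fun a ha y _ => ?_) (fun z₁ z₂ h₁ h₂ => ?_)
  · rw [smul_smul]
    exact Submodule.smul_mem_smul (p_mul_mem_Wid 𝔞 𝔟 hsq hp𝔞 ha) Submodule.mem_top
  · rw [smul_add]; exact Submodule.add_mem _ h₁ h₂

lemma p_pow_smul_mem (𝔠 : Ideal S) (k : ℕ) {z : P'}
    (hz : z ∈ Wid (p := p) 𝔠 • (⊤ : Submodule (WittVector p S) P')) :
    ((p : WittVector p S) ^ k) • z ∈
      Wid (p := p) (𝔠 * (𝔠 ⊔ Ideal.span {(p : S)}) ^ k) •
        (⊤ : Submodule (WittVector p S) P') := by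
  induction k with
  | zero => simpa using hz
  | succ k ih =>
    set 𝔡 : Ideal S := 𝔠 ⊔ Ideal.span {(p : S)} with h𝔡
    have hle : 𝔠 * 𝔡 ^ k ≤ 𝔡 :=
      Ideal.mul_le_left.trans (le_sup_left : 𝔠 ≤ 𝔠 ⊔ Ideal.span {(p : S)})
    rw [pow_succ' (p : WittVector p S) k, mul_smul]
    refine p_smul_mem (𝔠 * 𝔡 ^ k) (𝔠 * 𝔡 ^ (k + 1)) ?_ ?_ ih
    · calc 𝔠 * 𝔡 ^ k * (𝔠 * 𝔡 ^ k) ≤ 𝔠 * 𝔡 ^ k * 𝔡 := Ideal.mul_mono_right hle
        _ = 𝔠 * 𝔡 ^ (k + 1) := by rw [mul_assoc, ← pow_succ]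
    · intro x hx
      have hpd : (p : S) ∈ 𝔡 := Ideal.mem_sup_right (Ideal.mem_span_singleton_self _)
      have := Ideal.mul_mem_mul hx hpd
      rwa [mul_assoc, ← pow_succ, mul_comm x] at this

theorem isHom_of_comm_Vinv (ψ : P →ₗ[WittVector p S] P') (hmaps : ∀ q ∈ D.Q, ψ q ∈ D'.Q)
    (hV : ∀ y : D.Q, ψ (D.Vinv y) = D'.Vinv ⟨ψ y, hmaps y y.2⟩) :
    W4c1extbt610.IsHom D D' ψ := by
  refine ⟨hmaps, ?_, hV⟩
  intro x
  have h1 := D.Vinv_verschiebung_smul 1 x
  have h2 := D'.Vinv_verschiebung_smul 1 (ψ x)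
  rw [one_smul] at h1 h2
  rw [← h1, hV, ← h2]
  congr 1
  apply Subtype.ext
  exact map_smul ψ _ _

end Defect

/-! ### The cokernel is `p`-torsion -/
section Main

variable {p : ℕ} [Fact p.Prime] {S R : Type u} [CommRing S] [CommRing R]
variable {P P' : Type v} [AddCommGroup P] [Module (WittVector p S) P]
  [AddCommGroup P'] [Module (WittVector p S) P']
variable (D : W4c1extbt610.Display3n p S P) (D' : W4c1extbt610.Display3n p S P')

theorem exists_hom_lift (hp : IsNilpotent (p : S)) (f : S →+* R) (hf : Function.Surjective f)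
    (hker : IsNilpotent (RingHom.ker f))
    (DR : W4c1extbt610.Display3n p R (BC (WittVector.map f : WittVector p S →+* WittVector p R) P))
    (hDR : IsDispBaseChange f D DR)
    (DR' : W4c1extbt610.Display3n p R (BC (WittVector.map f : WittVector p S →+* WittVector p R) P'))
    (hDR' : IsDispBaseChange f D' DR')
    (χ : BC (WittVector.map f : WittVector p S →+* WittVector p R) P →ₗ[WittVector p R]
      BC (WittVector.map f : WittVector p S →+* WittVector p R) P')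
    (hχ : W4c1extbt610.IsHom DR DR' χ) :
    ∃ (n : ℕ) (ψ : P →ₗ[WittVector p S] P'), W4c1extbt610.IsHom D D' ψ ∧
      BC.map (WittVector.map f : WittVector p S →+* WittVector p R) ψ =
        ((p : WittVector p R) ^ n) • χ := by
  obtain ⟨ψ₀, hmaps, hψ₀⟩ := exists_lift_mapsTo f hf D D' DR hDR DR' hDR' χ hχ
  have hχ1 : ∀ x : P, χ (BC.tmul (WittVector.map f : WittVector p S →+* WittVector p R) 1 x) =
      BC.tmul (WittVector.map f : WittVector p S →+* WittVector p R) 1 (ψ₀ x) := by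
    intro x; rw [← hψ₀, BC.map_tmul]
  have := D'.finite
  have := D'.projective
  have hle : RingHom.ker (WittVector.map f : WittVector p S →+* WittVector p R) ≤
      Wid (p := p) (RingHom.ker f) := by
    intro w hw
    rw [RingHom.mem_ker] at hw
    rw [mem_Wid_iff]
    intro n
    rw [RingHom.mem_ker, ← map_coeff, hw, zero_coeff]
  -- the defect of ψ₀ lies in W(𝔠) P'
  have hdef : ∀ y : D.Q, ψ₀ (D.Vinv y) - D'.Vinv ⟨ψ₀ y, hmaps y y.2⟩ ∈
      Wid (p := p) (RingHom.ker f) • (⊤ : Submodule (WittVector p S) P') := by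
    intro y
    refine Submodule.smul_mono_left hle (mem_ker_smul_top_of_tmul_eq_zero _ _ ?_)
    have hq1 : BC.tmul (WittVector.map f : WittVector p S →+* WittVector p R) 1 (y : P) ∈ DR.Q := by
      rw [hDR.Q_eq]; exact tmul_mem_QR f D 1 y.2
    have hq2 : BC.tmul (WittVector.map f : WittVector p S →+* WittVector p R) 1
        ((⟨ψ₀ y, hmaps y y.2⟩ : D'.Q) : P') ∈ DR'.Q := by
      rw [hDR'.Q_eq]; exact tmul_mem_QR f D' 1 (hmaps y y.2)
    have h1 := hDR.Vinv_tmul 1 y hq1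
    have h2 := hDR'.Vinv_tmul 1 ⟨ψ₀ y, hmaps y y.2⟩ hq2
    rw [map_one] at h1 h2
    rw [sub_eq_add_neg, BC.tmul_add, BC.tmul_neg, ← h2, ← hχ1, ← h1, hχ.comm_Vinv]
    rw [add_neg_eq_zero]
    congr 1
    exact Subtype.ext (hχ1 y)
  -- nilpotence of 𝔡
  set 𝔠 : Ideal S := RingHom.ker f with h𝔠
  set 𝔡 : Ideal S := 𝔠 ⊔ Ideal.span {(p : S)} with h𝔡
  have h𝔡nil : IsNilpotent 𝔡 := by
    have hpn : IsNilpotent (Ideal.span {(p : S)}) := by
      obtain ⟨k, hk⟩ := hp
      refine ⟨k, ?_⟩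
      rw [Ideal.span_singleton_pow, hk]
      simp
    exact (Commute.all 𝔠 _).isNilpotent_add hker hpn
  obtain ⟨k, hk⟩ := h𝔡nil
  have hmapsk : ∀ q ∈ D.Q, (((p : WittVector p S) ^ k) • ψ₀) q ∈ D'.Q := fun q hq => by
    rw [LinearMap.smul_apply]; exact D'.Q.smul_mem _ (hmaps q hq)
  refine ⟨k, ((p : WittVector p S) ^ k) • ψ₀, isHom_of_comm_Vinv D D' _ hmapsk ?_, ?_⟩
  · intro y
    have h1 : (⟨(((p : WittVector p S) ^ k) • ψ₀) y, hmapsk y y.2⟩ : D'.Q) =
        ((p : WittVector p S) ^ k) • ⟨ψ₀ y, hmaps y y.2⟩ := Subtype.ext rfl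
    rw [h1, LinearMap.map_smulₛₗ, map_pow, map_natCast, LinearMap.smul_apply, ← sub_eq_zero,
      ← smul_sub]
    have h2 := p_pow_smul_mem (P' := P') 𝔠 k (hdef y)
    rw [hk, mul_zero, Ideal.zero_eq_bot, Wid_bot, Submodule.bot_smul, Submodule.mem_bot] at h2
    exact h2
  · apply BC.ext
    intro x
    rw [BC.map_tmul, LinearMap.smul_apply, LinearMap.smul_apply, hχ1, BC.smul_tmul, mul_one,
      ← map_natCast (WittVector.map f : WittVector p S →+* WittVector p R), ← map_pow,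
      BC.tmul_apply_eq]

end Main


end Groth.Agent.Lib.Helper86.DispCoker
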