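import Mathlib
import Groth.Prelude.Def_Dieu
import Groth.Prelude.Def_Disp2
import Groth.Agent.Lib.Helper86.VSharpExists
import Groth.Agent.Lib.Helper86.DispBC
import Groth.Agent.Lib.Helper86.DispBCExists

set_option autoImplicit false
set_option linter.unusedSectionVars false
universe u v

namespace Groth.Agent.Lib.Helper86.DispOfNormal

open Dieu WittVector Groth.Agent.Lib.Helper86.VSharpExists Groth.Agent.Lib.Helper86.DispBC
  Groth.Agent.Lib.Helper86.DispBCExists

/-! ### A 3n-display from a normal decomposition and a structure map `Φ` -/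
section OfNormal

variable {p : ℕ} [Fact p.Prime] {R : Type u} [CommRing R]
variable {M : Type v} [AddCommGroup M] [Module (WittVector p R) M]
variable (L T : Submodule (WittVector p R) M) (hLT : IsCompl L T)
variable (Φ : M →ₛₗ[(WittVector.frobenius : WittVector p R →+* WittVector p R)] M)
variable {n : ℕ} (m : Fin n → M) (c : Fin n → (M →ₗ[WittVector p R] WittVector p R))
  (hmc : ∀ x, x = ∑ i, c i x • m i)

local notation "σ" => (WittVector.frobenius : WittVector p R →+* WittVector p R)

/-- the distinguished submodule `L + I T` -/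
noncomputable def QN : Submodule (WittVector p R) M := L ⊔ W4c1extbt610.IV p R • T

lemma L_le_QN : L ≤ QN L T := le_sup_left

lemma IVT_le_QN : W4c1extbt610.IV p R • T ≤ QN L T := le_sup_right

lemma prT_mem_IVT_of_mem_QN {y : M} (hy : y ∈ QN L T) :
    prT L T hLT y ∈ W4c1extbt610.IV p R • T := by
  rw [QN, Submodule.mem_sup] at hy
  obtain ⟨l, hl, z, hz, rfl⟩ := hy
  have hzT : z ∈ T := Submodule.smul_le_right hz
  rw [map_add, prT_of_mem_L L T hLT hl, prT_of_mem_T L T hLT hzT, zero_add]
  exact hz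

lemma cT_mem_IV_of_mem_QN (i : Fin n) {y : M} (hy : y ∈ QN L T) :
    cT L T hLT c i y ∈ W4c1extbt610.IV p R := by
  have h1 : cT L T hLT c i y = c i (prT L T hLT y) := rfl
  rw [h1]
  exact apply_mem_IV T (c i) (prT_mem_IVT_of_mem_QN L T hLT hy)

include hLT in
lemma IV_smul_top_le_QN : W4c1extbt610.IV p R • (⊤ : Submodule (WittVector p R) M) ≤ QN L T := by
  rw [Submodule.smul_le]
  intro a ha x _
  rw [← prL_add_prT L T hLT x, smul_add]
  exact Submodule.add_mem_sup (L.smul_mem a (prL_mem L T hLT x))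
    (Submodule.smul_mem_smul ha (prT_mem L T hLT x))

/-- `V⁻¹` of the display attached to `(L, T, Φ)` -/
noncomputable def VinvN : QN L T →ₛₗ[σ] M :=
  (Φ.comp (prL L T hLT)).comp (QN L T).subtype +
    ∑ i, (LinearMap.toSpanSingleton (WittVector p R) M (Φ (mT L T hLT m i))).comp
      (Vdiv.comp (LinearMap.codRestrict (W4c1extbt610.IV p R)
        ((cT L T hLT c i).comp (QN L T).subtype)
        (fun z => cT_mem_IV_of_mem_QN L T hLT c i z.2)))

lemma VinvN_apply (z : M) (hz : z ∈ QN L T) :
    VinvN L T hLT Φ m c ⟨z, hz⟩ = Φ (prL L T hLT z) +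
      ∑ i, Vdiv ⟨cT L T hLT c i z, cT_mem_IV_of_mem_QN L T hLT c i hz⟩ •
        Φ (mT L T hLT m i) := by
  rw [VinvN, LinearMap.add_apply, LinearMap.sum_apply]
  rfl

/-- `F` of the display attached to `(L, T, Φ)` -/
noncomputable def FN : M →ₛₗ[σ] M :=
  (p : WittVector p R) • Φ.comp (prL L T hLT) + Φ.comp (prT L T hLT)

lemma FN_apply (x : M) :
    FN L T hLT Φ x = (p : WittVector p R) • Φ (prL L T hLT x) + Φ (prT L T hLT x) := rfl

lemma VinvN_of_mem_L {l : M} (hl : l ∈ L) (h : l ∈ QN L T) :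
    VinvN L T hLT Φ m c ⟨l, h⟩ = Φ l := by
  rw [VinvN_apply, prL_of_mem_L L T hLT hl]
  have h0 : ∀ i, Vdiv ⟨cT L T hLT c i l, cT_mem_IV_of_mem_QN L T hLT c i h⟩ = 0 := by
    intro i
    apply Vdiv_eq_of_eq
    show cT L T hLT c i l = _
    have h1 : cT L T hLT c i l = c i (prT L T hLT l) := rfl
    rw [h1, prT_of_mem_L L T hLT hl, map_zero, map_zero]
  simp only [h0, zero_smul, Finset.sum_const_zero, add_zero]

include hmc in
lemma VinvN_verschiebung_smul_of_mem_T (w : WittVector p R) {t : M} (ht : t ∈ T)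
    (h : verschiebung w • t ∈ QN L T) :
    VinvN L T hLT Φ m c ⟨verschiebung w • t, h⟩ = w • Φ t := by
  rw [VinvN_apply, prL_of_mem_T L T hLT (T.smul_mem _ ht), map_zero, zero_add]
  have hv : ∀ i, Vdiv ⟨cT L T hLT c i (verschiebung w • t),
      cT_mem_IV_of_mem_QN L T hLT c i h⟩ = w * σ (cT L T hLT c i t) := by
    intro i
    apply Vdiv_eq_of_eq
    show cT L T hLT c i (verschiebung w • t) = _
    rw [map_smul, smul_eq_mul, verschiebung_mul_frobenius]
  simp only [hv]
  have h2 : t = ∑ i, cT L T hLT c i t • mT L T hLT m i := by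
    conv_lhs => rw [← prT_of_mem_T L T hLT ht]
    exact prT_eq_sum L T hLT m c hmc t
  conv_rhs => rw [h2, map_sum, Finset.smul_sum]
  refine Finset.sum_congr rfl fun i _ => ?_
  rw [LinearMap.map_smulₛₗ, smul_smul]

include hmc in
lemma VinvN_smul_of_mem_T (a : W4c1extbt610.IV p R) {t : M} (ht : t ∈ T)
    (h : (a : WittVector p R) • t ∈ QN L T) :
    VinvN L T hLT Φ m c ⟨(a : WittVector p R) • t, h⟩ = Vdiv a • Φ t := by
  have h' : verschiebung (Vdiv a) • t ∈ QN L T := by rw [verschiebung_Vdiv]; exact h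
  have : (⟨(a : WittVector p R) • t, h⟩ : QN L T) = ⟨verschiebung (Vdiv a) • t, h'⟩ := by
    apply Subtype.ext
    show (a : WittVector p R) • t = verschiebung (Vdiv a) • t
    rw [verschiebung_Vdiv]
  rw [this, VinvN_verschiebung_smul_of_mem_T L T hLT Φ m c hmc _ ht]

include hmc in
lemma VinvN_verschiebung_smul (w : WittVector p R) (x : M)
    (h : verschiebung w • x ∈ QN L T) :
    VinvN L T hLT Φ m c ⟨verschiebung w • x, h⟩ = w • FN L T hLT Φ x := by
  have hl : verschiebung w • prL L T hLT x ∈ L := L.smul_mem _ (prL_mem L T hLT x)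
  have h1 : verschiebung w • prL L T hLT x ∈ QN L T := L_le_QN L T hl
  have h2 : verschiebung w • prT L T hLT x ∈ QN L T := IVT_le_QN L T
    (Submodule.smul_mem_smul (W4c1extbt610.verschiebung_mem_IV p R w) (prT_mem L T hLT x))
  have e : (⟨verschiebung w • x, h⟩ : QN L T) =
      ⟨verschiebung w • prL L T hLT x, h1⟩ + ⟨verschiebung w • prT L T hLT x, h2⟩ := by
    apply Subtype.ext
    show verschiebung w • x = verschiebung w • prL L T hLT x + verschiebung w • prT L T hLT x
    rw [← smul_add, prL_add_prT]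
  rw [e, map_add, VinvN_of_mem_L L T hLT Φ m c hl,
    VinvN_verschiebung_smul_of_mem_T L T hLT Φ m c hmc w (prT_mem L T hLT x), FN_apply,
    LinearMap.map_smulₛₗ, frobenius_verschiebung, smul_add, smul_smul, mul_comm]

include hmc in
lemma span_range_VinvN (hΦ : Submodule.span (WittVector p R) (Set.range Φ) = ⊤) :
    Submodule.span (WittVector p R) (Set.range (VinvN L T hLT Φ m c)) = ⊤ := by
  rw [eq_top_iff, ← hΦ, Submodule.span_le]
  rintro _ ⟨x, rfl⟩
  have hl : prL L T hLT x ∈ QN L T := L_le_QN L T (prL_mem L T hLT x)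
  have ht : verschiebung (1 : WittVector p R) • prT L T hLT x ∈ QN L T := IVT_le_QN L T
    (Submodule.smul_mem_smul (W4c1extbt610.verschiebung_mem_IV p R 1) (prT_mem L T hLT x))
  have e : Φ x = VinvN L T hLT Φ m c ⟨_, hl⟩ + VinvN L T hLT Φ m c ⟨_, ht⟩ := by
    rw [VinvN_of_mem_L L T hLT Φ m c (prL_mem L T hLT x),
      VinvN_verschiebung_smul_of_mem_T L T hLT Φ m c hmc 1 (prT_mem L T hLT x), one_smul,
      ← map_add, prL_add_prT]
  show Φ x ∈ Submodule.span (WittVector p R) (Set.range (VinvN L T hLT Φ m c))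
  rw [e]
  exact Submodule.add_mem _ (Submodule.subset_span ⟨_, rfl⟩) (Submodule.subset_span ⟨_, rfl⟩)

/-- The 3n-display attached to a normal decomposition and a structure map. -/
noncomputable def ofNormal [Module.Finite (WittVector p R) M] [Module.Projective (WittVector p R) M]
    (hΦ : Submodule.span (WittVector p R) (Set.range Φ) = ⊤) :
    W4c1extbt610.Display3n p R M where
  Q := QN L T
  F := FN L T hLT Φ
  Vinv := VinvN L T hLT Φ m c
  finite := inferInstance
  projective := inferInstance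
  IV_smul_le := IV_smul_top_le_QN L T hLT
  exists_normal := ⟨L, T, hLT, rfl⟩
  span_range_Vinv := span_range_VinvN L T hLT Φ m c hmc hΦ
  Vinv_verschiebung_smul := fun w x => VinvN_verschiebung_smul L T hLT Φ m c hmc w x _

end OfNormal

end Groth.Agent.Lib.Helper86.DispOfNormal
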