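import Mathlib

set_option autoImplicit false
set_option linter.unusedSectionVars false
universe u v

namespace Groth.Agent.Lib.Helper86.ExtSemi

/-! ### Twisting a module by a ring endomorphism -/
section Tw

variable {A : Type*} [CommRing A] (σ : A →+* A)

/-- `N` with scalars acting through `σ`. -/
def Tw (σ : A →+* A) (N : Type*) := N

variable (N : Type*) [AddCommGroup N] [Module A N]

instance : AddCommGroup (Tw σ N) := inferInstanceAs (AddCommGroup N)

instance : Module A (Tw σ N) := Module.compHom N σ

/-- the identity `N → Tw σ N` -/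
def Tw.mk : N ≃+ Tw σ N := AddEquiv.refl N

variable {N}

lemma Tw.smul_mk (a : A) (x : N) : a • Tw.mk σ N x = Tw.mk σ N (σ a • x) := rfl

variable {M : Type*} [AddCommGroup M] [Module A M]

/-- A linear map into the twist is a semilinear map. -/
def semiOfTw (f : M →ₗ[A] Tw σ N) : M →ₛₗ[σ] N where
  toFun x := (Tw.mk σ N).symm (f x)
  map_add' x y := by rw [map_add, map_add]
  map_smul' a x := by
    rw [map_smul]
    rfl

lemma semiOfTw_apply (f : M →ₗ[A] Tw σ N) (x : M) : semiOfTw σ f x = (Tw.mk σ N).symm (f x) := rfl

end Tw

/-! ### Exterior powers of semilinear maps -/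
section ExtSemi

variable {A : Type u} [CommRing A] (σ : A →+* A)
variable {P P' : Type v} [AddCommGroup P] [Module A P] [AddCommGroup P'] [Module A P']

/-- the alternating map `(x_i) ↦ ⋀ Φ(x_i)` with values in the twist -/
noncomputable def altTw (r : ℕ) (Φ : P →ₛₗ[σ] P') : P [⋀^Fin r]→ₗ[A] Tw σ (⋀[A]^r P') where
  toFun x := Tw.mk σ _ (exteriorPower.ιMulti A r (fun i => Φ (x i)))
  map_update_add' := by
    intro _ x i a b
    have h : ∀ y : P, (fun j => Φ (Function.update x i y j)) =
        Function.update (fun j => Φ (x j)) i (Φ y) := by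
      intro y
      funext j
      by_cases hj : j = i
      · subst hj; simp
      · simp [Function.update_of_ne hj]
    rw [h, h, h, map_add, AlternatingMap.map_update_add, map_add]
  map_update_smul' := by
    intro _ x i a b
    have h : ∀ y : P, (fun j => Φ (Function.update x i y j)) =
        Function.update (fun j => Φ (x j)) i (Φ y) := by
      intro y
      funext j
      by_cases hj : j = i
      · subst hj; simp
      · simp [Function.update_of_ne hj]
    rw [h, h, LinearMap.map_smulₛₗ, AlternatingMap.map_update_smul, Tw.smul_mk]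
  map_eq_zero_of_eq' := by
    intro x i j hij hne
    rw [(exteriorPower.ιMulti A r).map_eq_zero_of_eq _ (congrArg Φ hij) hne, map_zero]

/-- the `r`-th exterior power of a semilinear map -/
noncomputable def extSemi (r : ℕ) (Φ : P →ₛₗ[σ] P') : ⋀[A]^r P →ₛₗ[σ] ⋀[A]^r P' :=
  semiOfTw σ (exteriorPower.alternatingMapLinearEquiv (altTw σ r Φ))

lemma extSemi_ιMulti (r : ℕ) (Φ : P →ₛₗ[σ] P') (x : Fin r → P) :
    extSemi σ r Φ (exteriorPower.ιMulti A r x) = exteriorPower.ιMulti A r (fun i => Φ (x i)) := by
  rw [extSemi, semiOfTw_apply, exteriorPower.alternatingMapLinearEquiv_apply_ιMulti]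
  rfl

lemma span_range_extSemi (r : ℕ) (Φ : P →ₛₗ[σ] P')
    (hΦ : Submodule.span A (Set.range Φ) = ⊤) :
    Submodule.span A (Set.range (extSemi σ r Φ)) = ⊤ := by
  rw [eq_top_iff, ← exteriorPower.ιMulti_span_of_span A r P' hΦ, Submodule.span_le]
  rintro _ ⟨a, ha, rfl⟩
  have : ∀ i, ∃ x, Φ x = a i := fun i => ha ⟨i, rfl⟩
  choose x hx using this
  apply Submodule.subset_span
  refine ⟨exteriorPower.ιMulti A r x, ?_⟩
  rw [extSemi_ιMulti]
  congr 1
  funext i
  exact hx i

end ExtSemi

/-! ### Projectivity of exterior powers -/
section Proj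

variable {A : Type u} [CommRing A] {P : Type v} [AddCommGroup P] [Module A P]

theorem projective_exteriorPower [Module.Projective A P] (r : ℕ) :
    Module.Projective A (⋀[A]^r P) := by
  obtain ⟨s, hs⟩ := (Module.projective_def' (R := A) (P := P)).mp inferInstance
  refine Module.Projective.of_split (exteriorPower.map r s)
    (exteriorPower.map r (Finsupp.linearCombination A id)) ?_
  rw [← exteriorPower.map_comp, hs, exteriorPower.map_id]

end Proj

/-! ### Multilinear expansion of `⋀ (l_i + a_i t)` -/
section Expand

variable {A : Type*} [CommRing A] {M N : Type*} [AddCommGroup M] [Module A M]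
  [AddCommGroup N] [Module A N] {ι : Type*} [DecidableEq ι]

/-- vector with `l i + a i • t` in the slots of `S` and `l i` elsewhere -/
def vS (l : ι → M) (a : ι → A) (t : M) (S : Finset ι) : ι → M :=
  fun i => if i ∈ S then l i + a i • t else l i

lemma vS_insert (l : ι → M) (a : ι → A) (t : M) (S : Finset ι) (j : ι) :
    vS l a t (insert j S) = Function.update (vS l a t S) j (l j + a j • t) := by
  funext i
  by_cases hi : i = j
  · subst hi; simp [vS]
  · simp [vS, Function.update_of_ne hi, hi]

lemma vS_apply_of_notMem (l : ι → M) (a : ι → A) (t : M) (S : Finset ι) {j : ι} (hj : j ∉ S) :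
    vS l a t S j = l j := by simp [vS, hj]

lemma map_update_vS (f : M [⋀^ι]→ₗ[A] N) (l : ι → M) (a : ι → A) (t : M) (S : Finset ι) (j : ι)
    (hj : j ∉ S) :
    f (Function.update (vS l a t S) j t) = f (Function.update l j t) := by
  induction S using Finset.induction_on with
  | empty =>
    have : vS l a t ∅ = l := by funext i; simp [vS]
    rw [this]
  | insert k S hk ih =>
    have hkj : k ≠ j := by rintro rfl; exact hj (Finset.mem_insert_self _ _)
    have hjS : j ∉ S := fun h => hj (Finset.mem_insert_of_mem h)
    rw [vS_insert, Function.update_comm hkj, AlternatingMap.map_update_add,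
      AlternatingMap.map_update_smul]
    have h1 : Function.update (Function.update (vS l a t S) j t) k (l k) =
        Function.update (vS l a t S) j t := by
      apply Function.update_eq_self_iff.mpr
      rw [Function.update_of_ne hkj, vS_apply_of_notMem l a t S hk]
    have h2 : f (Function.update (Function.update (vS l a t S) j t) k t) = 0 := by
      apply f.map_eq_zero_of_eq _ _ hkj
      rw [Function.update_self, Function.update_of_ne hkj.symm, Function.update_self]
    rw [h1, h2, smul_zero, add_zero, ih hjS]

lemma map_vS (f : M [⋀^ι]→ₗ[A] N) (l : ι → M) (a : ι → A) (t : M) (S : Finset ι) :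
    f (vS l a t S) = f l + ∑ i ∈ S, a i • f (Function.update l i t) := by
  induction S using Finset.induction_on with
  | empty =>
    have : vS l a t ∅ = l := by funext i; simp [vS]
    rw [this, Finset.sum_empty, add_zero]
  | insert j S hj ih =>
    rw [vS_insert, AlternatingMap.map_update_add, AlternatingMap.map_update_smul,
      Finset.sum_insert hj, map_update_vS f l a t S j hj]
    have h1 : Function.update (vS l a t S) j (l j) = vS l a t S := by
      apply Function.update_eq_self_iff.mpr
      rw [vS_apply_of_notMem l a t S hj]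
    rw [h1, ih]
    abel

/-- `f (l_i + a_i t)_i = f (l) + ∑_i a_i f (l with t in slot i)` for alternating `f`. -/
theorem map_add_smul_const [Fintype ι] (f : M [⋀^ι]→ₗ[A] N) (l : ι → M) (a : ι → A) (t : M) :
    f (fun i => l i + a i • t) = f l + ∑ i, a i • f (Function.update l i t) := by
  have : (fun i => l i + a i • t) = vS l a t Finset.univ := by
    funext i; simp [vS]
  rw [this, map_vS]

end Expand

end Groth.Agent.Lib.Helper86.ExtSemi
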