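import Mathlib
import Groth.Prelude.Def_Dieu
import Groth.Prelude.Def_Disp2
import Groth.Agent.Lib.Helper86.VSharpExists
import Groth.Agent.Lib.Helper86.DispBC
import Groth.Agent.Lib.Helper86.DispBCExists
import Groth.Agent.Lib.Helper86.DispOfNormal
import Groth.Agent.Lib.Helper86.ExtSemi

set_option autoImplicit false
set_option linter.unusedSectionVars false
universe u v

namespace Groth.Agent.Lib.Helper86.DispExtPow

open Dieu WittVector Groth.Agent.Lib.Helper86.VSharpExists Groth.Agent.Lib.Helper86.DispBC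
  Groth.Agent.Lib.Helper86.DispBCExists Groth.Agent.Lib.Helper86.DispOfNormal
  Groth.Agent.Lib.Helper86.ExtSemi

section Basic

variable {p : ℕ} [Fact p.Prime] {R : Type u} [CommRing R]
variable {P : Type v} [AddCommGroup P] [Module (WittVector p R) P]
variable (D : W4c1extbt610.Display3n p R P)
variable (L T : Submodule (WittVector p R) P) (hLT : IsCompl L T)
  (hQ : D.Q = L ⊔ W4c1extbt610.IV p R • T)
variable (t : P) (ht : t ∈ T) (hgen : ∀ τ ∈ T, ∃ a : WittVector p R, τ = a • t)
variable (r : ℕ)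

local notation "σ" => (WittVector.frobenius : WittVector p R →+* WittVector p R)
local notation "W" => WittVector p R

lemma span_range_Phi : Submodule.span W (Set.range (Phi D L T hLT hQ)) = ⊤ := by
  have key : ∀ ζ : BC σ P, PhiSharp D L T hLT hQ ζ ∈
      Submodule.span W (Set.range (Phi D L T hLT hQ)) := by
    intro ζ
    induction ζ using BC.induction_on σ with
    | zero => rw [map_zero]; exact Submodule.zero_mem _
    | tmul b x =>
      rw [PhiSharp_tmul]
      exact Submodule.smul_mem _ _ (Submodule.subset_span ⟨x, rfl⟩)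
    | add z₁ z₂ h₁ h₂ => rw [map_add]; exact Submodule.add_mem _ h₁ h₂
  rw [eq_top_iff]
  intro x _
  obtain ⟨ζ, rfl⟩ := PhiSharp_surjective D L T hLT hQ x
  exact key ζ

include hgen in
lemma exists_smul_of_mem_IVT {z : P} (hz : z ∈ W4c1extbt610.IV p R • T) :
    ∃ a : W4c1extbt610.IV p R, z = (a : W) • t := by
  refine Submodule.smul_induction_on hz (fun c hc τ hτ => ?_) (fun z₁ z₂ h₁ h₂ => ?_)
  · obtain ⟨b, rfl⟩ := hgen τ hτ
    exact ⟨⟨c * b, Ideal.mul_mem_right _ _ hc⟩, by rw [smul_smul]⟩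
  · obtain ⟨a₁, rfl⟩ := h₁
    obtain ⟨a₂, rfl⟩ := h₂
    exact ⟨a₁ + a₂, by rw [← add_smul]; rfl⟩

include hQ hgen in
lemma exists_decomp (q : D.Q) :
    ∃ (l : P) (a : W4c1extbt610.IV p R), l ∈ L ∧ (q : P) = l + (a : W) • t := by
  obtain ⟨x, hx⟩ := q
  have hq : x ∈ L ⊔ W4c1extbt610.IV p R • T := by rw [← hQ]; exact hx
  rw [Submodule.mem_sup] at hq
  obtain ⟨l, hl, z, hz, e⟩ := hq
  obtain ⟨a, rfl⟩ := exists_smul_of_mem_IVT T t hgen hz
  exact ⟨l, a, hl, e.symm⟩

include hQ ht in
lemma smul_t_mem_Q (a : W4c1extbt610.IV p R) : (a : W) • t ∈ D.Q :=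
  IVT_le_Q D L T hQ (Submodule.smul_mem_smul a.2 ht)

include hQ ht in
lemma Vinv_decomp {l : P} (hl : l ∈ L) (a : W4c1extbt610.IV p R)
    (h : l + (a : W) • t ∈ D.Q) :
    D.Vinv ⟨l + (a : W) • t, h⟩ = Phi D L T hLT hQ l + Vdiv a • Phi D L T hLT hQ t := by
  have h1 : l ∈ D.Q := L_le_Q D L T hQ hl
  have h2 : (a : W) • t ∈ D.Q := smul_t_mem_Q D L T hQ t ht a
  have e := VinvP_add D h1 h2 h
  unfold VinvP at e
  rw [e, Phi_of_mem_L D L T hLT hQ hl, Phi_of_mem_T D L T hLT hQ ht]
  congr 1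
  have h3 : verschiebung (Vdiv a) • t ∈ D.Q := by rw [verschiebung_Vdiv]; exact h2
  have e2 := VinvP_verschiebung_smul D (Vdiv a) t h3
  rw [← e2]
  unfold VinvP
  congr 1
  apply Subtype.ext
  show (a : W) • t = verschiebung (Vdiv a) • t
  rw [verschiebung_Vdiv]

/-- `⋀^r` of the projection onto `L`. -/
noncomputable def Lam : ⋀[W]^r P →ₗ[W] ⋀[W]^r P := exteriorPower.map r (prL L T hLT)

lemma Lam_ιMulti (x : Fin r → P) :
    Lam L T hLT r (exteriorPower.ιMulti W r x) =
      exteriorPower.ιMulti W r (fun i => prL L T hLT (x i)) := by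
  rw [Lam, exteriorPower.map_apply_ιMulti]
  rfl

lemma Lam_idem : IsIdempotentElem (Lam L T hLT r) := by
  show Lam L T hLT r * Lam L T hLT r = Lam L T hLT r
  rw [Module.End.mul_eq_comp, Lam, ← exteriorPower.map_comp]
  congr 1
  ext x
  exact prL_of_mem_L L T hLT (prL_mem L T hLT x)

/-- the `L`-part of `⋀^r P` -/
noncomputable def Lr : Submodule W (⋀[W]^r P) := LinearMap.range (Lam L T hLT r)

/-- the `T`-part of `⋀^r P` -/
noncomputable def Tr : Submodule W (⋀[W]^r P) := LinearMap.ker (Lam L T hLT r)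

lemma isCompl_Lr_Tr : IsCompl (Lr L T hLT r) (Tr L T hLT r) :=
  LinearMap.IsIdempotentElem.isCompl (Lam_idem L T hLT r)

lemma ιMulti_mem_Lr {l : Fin r → P} (hl : ∀ i, l i ∈ L) :
    exteriorPower.ιMulti W r l ∈ Lr L T hLT r := by
  refine ⟨exteriorPower.ιMulti W r l, ?_⟩
  rw [Lam_ιMulti]
  congr 1
  funext i
  exact prL_of_mem_L L T hLT (hl i)

include ht in
lemma ιMulti_update_mem_Tr (l : Fin r → P) (i : Fin r) :
    exteriorPower.ιMulti W r (Function.update l i t) ∈ Tr L T hLT r := by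
  show Lam L T hLT r _ = 0
  rw [Lam_ιMulti]
  apply (exteriorPower.ιMulti W r).map_coord_zero i
  simp only [Function.update_self]
  exact prL_of_mem_T L T hLT ht

/-- the set of wedges of elements of `Q` -/
def wedgesQ : Set (⋀[W]^r P) :=
  Set.range fun q : Fin r → D.Q => exteriorPower.ιMulti W r (fun i => (q i : P))

lemma ιMulti_mem_wedgesQ {x : Fin r → P} (hx : ∀ i, x i ∈ D.Q) :
    exteriorPower.ιMulti W r x ∈ wedgesQ D r :=
  ⟨fun i => ⟨x i, hx i⟩, rfl⟩

include ht in
lemma wedge_decomp_mem (l : Fin r → P) (hl : ∀ i, l i ∈ L) (a : Fin r → W4c1extbt610.IV p R) :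
    exteriorPower.ιMulti W r (fun i => l i + (a i : W) • t) ∈ QN (Lr L T hLT r) (Tr L T hLT r) := by
  rw [map_add_smul_const]
  refine Submodule.add_mem_sup (ιMulti_mem_Lr L T hLT r hl) ?_
  refine Submodule.sum_mem _ fun i _ => ?_
  exact Submodule.smul_mem_smul (a i).2 (ιMulti_update_mem_Tr L T hLT t ht r l i)

include hQ ht hgen in
theorem span_wedgesQ_le :
    Submodule.span W (wedgesQ D r) ≤ QN (Lr L T hLT r) (Tr L T hLT r) := by
  rw [Submodule.span_le]
  rintro _ ⟨q, rfl⟩
  choose l a hl hq using fun i => exists_decomp D L T hQ t hgen (q i)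
  have : (fun i => ((q i : D.Q) : P)) = fun i => l i + (a i : W) • t := funext hq
  show exteriorPower.ιMulti W r (fun i => ((q i : D.Q) : P)) ∈ _
  rw [this]
  exact wedge_decomp_mem L T hLT t ht r l hl a

include hQ in
lemma Lr_le_span : Lr L T hLT r ≤ Submodule.span W (wedgesQ D r) := by
  rw [Lr, LinearMap.range_eq_map, ← exteriorPower.ιMulti_span, Submodule.map_span,
    Submodule.span_le]
  rintro _ ⟨_, ⟨x, rfl⟩, rfl⟩
  rw [Lam_ιMulti]
  apply Submodule.subset_span
  exact ιMulti_mem_wedgesQ D r fun i => L_le_Q D L T hQ (prL_mem L T hLT (x i))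

include hQ ht hgen in
lemma smul_sub_Lam_mem (a : W4c1extbt610.IV p R) (y : ⋀[W]^r P) :
    (a : W) • (y - Lam L T hLT r y) ∈ Submodule.span W (wedgesQ D r) := by
  have hy : y ∈ Submodule.span W (Set.range (exteriorPower.ιMulti W r (M := P))) := by
    rw [exteriorPower.ιMulti_span]; exact Submodule.mem_top
  induction hy using Submodule.span_induction with
  | mem y hy =>
    obtain ⟨x, rfl⟩ := hy
    have hb : ∀ i, ∃ b : W, prT L T hLT (x i) = b • t := fun i => hgen _ (prT_mem L T hLT (x i))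
    choose b hb using hb
    have hx : x = fun i => prL L T hLT (x i) + b i • t := by
      funext i
      rw [← hb i, prL_add_prT]
    have key : exteriorPower.ιMulti W r x - Lam L T hLT r (exteriorPower.ιMulti W r x) =
        ∑ i, b i • exteriorPower.ιMulti W r
          (Function.update (fun j => prL L T hLT (x j)) i t) := by
      have e1 : exteriorPower.ιMulti W r x =
          exteriorPower.ιMulti W r (fun i => prL L T hLT (x i) + b i • t) :=
        congrArg (exteriorPower.ιMulti W r) hx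
      rw [Lam_ιMulti, e1, map_add_smul_const, add_sub_cancel_left]
    rw [key, Finset.smul_sum]
    refine Submodule.sum_mem _ fun i _ => ?_
    rw [smul_comm, ← AlternatingMap.map_update_smul]
    refine Submodule.smul_mem _ _ (Submodule.subset_span ?_)
    apply ιMulti_mem_wedgesQ
    intro j
    by_cases hj : j = i
    · subst hj
      rw [Function.update_self]
      exact smul_t_mem_Q D L T hQ t ht a
    · rw [Function.update_of_ne hj]
      exact L_le_Q D L T hQ (prL_mem L T hLT (x j))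
  | zero => simp
  | add y z _ _ hy hz =>
    have : (a : W) • (y + z - Lam L T hLT r (y + z)) =
        (a : W) • (y - Lam L T hLT r y) + (a : W) • (z - Lam L T hLT r z) := by
      rw [map_add, ← smul_add]; congr 1; abel
    rw [this]
    exact Submodule.add_mem _ hy hz
  | smul c y _ hy =>
    have : (a : W) • (c • y - Lam L T hLT r (c • y)) = c • ((a : W) • (y - Lam L T hLT r y)) := by
      rw [map_smul, smul_sub, smul_sub, smul_sub, smul_comm (a : W) c y,
        smul_comm (a : W) c (Lam L T hLT r y)]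
    rw [this]
    exact Submodule.smul_mem _ _ hy

include hQ ht hgen in
theorem QN_eq_span :
    QN (Lr L T hLT r) (Tr L T hLT r) = Submodule.span W (wedgesQ D r) := by
  apply le_antisymm
  · rw [QN, sup_le_iff]
    refine ⟨Lr_le_span D L T hLT hQ r, ?_⟩
    rw [Submodule.smul_le]
    intro a ha τ hτ
    have h := smul_sub_Lam_mem D L T hLT hQ t ht hgen r ⟨a, ha⟩ τ
    have h0 : Lam L T hLT r τ = 0 := hτ
    rwa [h0, sub_zero] at h
  · exact span_wedgesQ_le D L T hLT hQ t ht hgen r

end Basic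

section Assemble

variable {p : ℕ} [Fact p.Prime] {R : Type u} [CommRing R]
variable {P : Type v} [AddCommGroup P] [Module (WittVector p R) P]
variable (D : W4c1extbt610.Display3n p R P)
variable (L T : Submodule (WittVector p R) P) (hLT : IsCompl L T)
  (hQ : D.Q = L ⊔ W4c1extbt610.IV p R • T)
variable (t : P) (ht : t ∈ T) (hgen : ∀ τ ∈ T, ∃ a : WittVector p R, τ = a • t)
variable (r : ℕ)
variable {n : ℕ} (m : Fin n → ⋀[WittVector p R]^r P)
  (c : Fin n → (⋀[WittVector p R]^r P →ₗ[WittVector p R] WittVector p R))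
  (hmc : ∀ x, x = ∑ i, c i x • m i)

local notation "σ" => (WittVector.frobenius : WittVector p R →+* WittVector p R)
local notation "W" => WittVector p R

/-- `⋀^r Φ` -/
noncomputable def Phir : ⋀[W]^r P →ₛₗ[σ] ⋀[W]^r P := extSemi σ r (Phi D L T hLT hQ)

lemma Phir_ιMulti (x : Fin r → P) :
    Phir D L T hLT hQ r (exteriorPower.ιMulti W r x) =
      exteriorPower.ιMulti W r (fun i => Phi D L T hLT hQ (x i)) := extSemi_ιMulti σ r _ x

lemma span_range_Phir : Submodule.span W (Set.range (Phir D L T hLT hQ r)) = ⊤ :=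
  span_range_extSemi σ r _ (span_range_Phi D L T hLT hQ)

/-- the exterior power display -/
noncomputable def Emk : W4c1extbt610.Display3n p R (⋀[W]^r P) :=
  haveI := D.finite
  haveI := D.projective
  haveI : Module.Projective W (⋀[W]^r P) := projective_exteriorPower r
  ofNormal (Lr L T hLT r) (Tr L T hLT r) (isCompl_Lr_Tr L T hLT r) (Phir D L T hLT hQ r) m c hmc
    (span_range_Phir D L T hLT hQ r)

lemma Emk_Q : (Emk D L T hLT hQ r m c hmc).Q = QN (Lr L T hLT r) (Tr L T hLT r) := rfl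

lemma Emk_Vinv : (Emk D L T hLT hQ r m c hmc).Vinv =
    VinvN (Lr L T hLT r) (Tr L T hLT r) (isCompl_Lr_Tr L T hLT r) (Phir D L T hLT hQ r) m c := rfl

lemma comp_update' {α β : Type*} (Φ : α → β) (l : Fin r → α) (i : Fin r) (y : α) :
    (fun j => Φ (Function.update l i y j)) = Function.update (fun j => Φ (l j)) i (Φ y) := by
  funext j
  by_cases hj : j = i
  · subst hj; simp
  · simp [Function.update_of_ne hj]

include ht hgen in
theorem isExtPow_Emk : W4c1extbt610.IsExtPow D r (Emk D L T hLT hQ r m c hmc) := by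
  refine ⟨QN_eq_span D L T hLT hQ t ht hgen r, fun q hq => ?_⟩
  choose l a hl hq' using fun i => exists_decomp D L T hQ t hgen (q i)
  have e1 : (fun i => ((q i : D.Q) : P)) = fun i => l i + (a i : W) • t := funext hq'
  have e2 : (fun i => D.Vinv (q i)) =
      fun i => Phi D L T hLT hQ (l i) + Vdiv (a i) • Phi D L T hLT hQ t := by
    funext i
    have hmem : l i + (a i : W) • t ∈ D.Q := by rw [← hq' i]; exact (q i).2
    have : q i = ⟨l i + (a i : W) • t, hmem⟩ := Subtype.ext (hq' i)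
    rw [this]
    exact Vinv_decomp D L T hLT hQ t ht (hl i) (a i) hmem
  rw [e2, map_add_smul_const]
  have hL : exteriorPower.ιMulti W r l ∈ QN (Lr L T hLT r) (Tr L T hLT r) :=
    L_le_QN _ _ (ιMulti_mem_Lr L T hLT r hl)
  have hT : ∀ i, (a i : W) • exteriorPower.ιMulti W r (Function.update l i t) ∈
      QN (Lr L T hLT r) (Tr L T hLT r) := fun i =>
    IVT_le_QN _ _ (Submodule.smul_mem_smul (a i).2 (ιMulti_update_mem_Tr L T hLT t ht r l i))
  have e3 : (⟨exteriorPower.ιMulti W r (fun i => ((q i : D.Q) : P)), hq⟩ :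
      QN (Lr L T hLT r) (Tr L T hLT r)) =
      ⟨_, hL⟩ + ∑ i, ⟨_, hT i⟩ := by
    apply Subtype.ext
    rw [Submodule.coe_add, Submodule.coe_sum]
    show exteriorPower.ιMulti W r (fun i => ((q i : D.Q) : P)) = _
    rw [e1, map_add_smul_const]
  show VinvN (Lr L T hLT r) (Tr L T hLT r) (isCompl_Lr_Tr L T hLT r) (Phir D L T hLT hQ r) m c
    ⟨_, hq⟩ = _
  rw [e3, map_add, map_sum,
    VinvN_of_mem_L _ _ _ _ m c (ιMulti_mem_Lr L T hLT r hl), Phir_ιMulti]
  congr 1
  refine Finset.sum_congr rfl fun i _ => ?_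
  rw [VinvN_smul_of_mem_T _ _ _ _ m c hmc (a i) (ιMulti_update_mem_Tr L T hLT t ht r l i),
    Phir_ιMulti, comp_update']

end Assemble

section Unique

variable {p : ℕ} [Fact p.Prime] {R : Type u} [CommRing R]

local notation "σ" => (WittVector.frobenius : WittVector p R →+* WittVector p R)
local notation "W" => WittVector p R

lemma semilin_ext_on_span {M : Type*} {N : Type*} [AddCommGroup M] [Module (WittVector p R) M]
    [AddCommGroup N] [Module (WittVector p R) N] (Q : Submodule (WittVector p R) M) (S : Set M)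
    (hQ : Q = Submodule.span (WittVector p R) S)
    (f g : Q →ₛₗ[σ] N)
    (h : ∀ s (hs : s ∈ Q), s ∈ S → f ⟨s, hs⟩ = g ⟨s, hs⟩) : f = g := by
  subst hQ
  ext ⟨x, hx⟩
  induction hx using Submodule.span_induction with
  | mem x hx => exact h x _ hx
  | zero =>
    have : (⟨0, Submodule.zero_mem _⟩ : Submodule.span (WittVector p R) S) = 0 := rfl
    rw [this, map_zero, map_zero]
  | add x y hx hy ihx ihy =>
    have : (⟨x + y, Submodule.add_mem _ hx hy⟩ : Submodule.span (WittVector p R) S) =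
      ⟨x, hx⟩ + ⟨y, hy⟩ := rfl
    rw [this, map_add, map_add, ihx, ihy]
  | smul a x hx ih =>
    have : (⟨a • x, Submodule.smul_mem _ a hx⟩ : Submodule.span (WittVector p R) S) =
      a • ⟨x, hx⟩ := rfl
    rw [this, LinearMap.map_smulₛₗ, LinearMap.map_smulₛₗ, ih]

variable {P : Type v} [AddCommGroup P] [Module (WittVector p R) P]

lemma V1_smul_mem (D : W4c1extbt610.Display3n p R P) (x : P) :
    verschiebung (1 : WittVector p R) • x ∈ D.Q :=
  D.IV_smul_le (Submodule.smul_mem_smul (W4c1extbt610.verschiebung_mem_IV p R 1) Submodule.mem_top)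

lemma F_eq_Vinv (D : W4c1extbt610.Display3n p R P) (x : P) :
    D.F x = D.Vinv ⟨verschiebung (1 : WittVector p R) • x, V1_smul_mem D x⟩ := by
  have := D.Vinv_verschiebung_smul 1 x
  rw [one_smul] at this
  rw [← this]

theorem isExtPow_unique (D : W4c1extbt610.Display3n p R P) (r : ℕ)
    (E E' : W4c1extbt610.Display3n p R (⋀[W]^r P))
    (h : W4c1extbt610.IsExtPow D r E) (h' : W4c1extbt610.IsExtPow D r E') : E' = E := by
  have hF : ∀ E₁ : W4c1extbt610.Display3n p R (⋀[W]^r P), ∀ x, E₁.F x =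
      E₁.Vinv ⟨verschiebung (1 : WittVector p R) • x, V1_smul_mem E₁ x⟩ := fun E₁ x => F_eq_Vinv E₁ x
  have hF1 := hF E
  have hF2 := hF E'
  obtain ⟨hQ₁, hV₁⟩ := h
  obtain ⟨hQ₂, hV₂⟩ := h'
  obtain ⟨Q₁, F₁, V₁, a1, a2, a3, a4, a5, a6⟩ := E
  obtain ⟨Q₂, F₂, V₂, b1, b2, b3, b4, b5, b6⟩ := E'
  simp only at hQ₁ hQ₂ hV₁ hV₂ hF1 hF2
  have hQQ : Q₂ = Q₁ := hQ₂.trans hQ₁.symm
  subst hQQ
  have hV : V₂ = V₁ := by
    refine semilin_ext_on_span Q₂ _ hQ₁ _ _ ?_
    rintro s hs ⟨q, rfl⟩
    rw [hV₁ q hs, hV₂ q hs]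
  subst hV
  have hFF : F₂ = F₁ := by
    apply LinearMap.ext
    intro x
    rw [hF1, hF2]
  subst hFF
  rfl

end Unique

end Groth.Agent.Lib.Helper86.DispExtPow
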