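import Mathlib
import Groth.Prelude.Def_Dieu
import Groth.Prelude.Def_Disp2
import Groth.Agent.Lib.Helper86.DispExtPow

set_option autoImplicit false
set_option linter.unusedSectionVars false
universe u v

namespace Groth.Agent.Lib.Helper86.DispExtRank

open Dieu WittVector Groth.Agent.Lib.Helper86.VSharpExists Groth.Agent.Lib.Helper86.DispBC
  Groth.Agent.Lib.Helper86.DispBCExists Groth.Agent.Lib.Helper86.DispOfNormal
  Groth.Agent.Lib.Helper86.ExtSemi Groth.Agent.Lib.Helper86.DispExtPow

open Module

section General

variable {A : Type*} [CommRing A] {M : Type*} [AddCommGroup M] [Module A M]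

/-- If an endomorphism is "diagonal with entries `0, 1`" in some basis, every complement of its
range is free. -/
theorem free_of_isCompl_range {ι : Type*} (B : Basis ι A M) (f : M →ₗ[A] M)
    (hf : ∀ i, f (B i) = B i ∨ f (B i) = 0) (T' : Submodule A M)
    (h : IsCompl (LinearMap.range f) T') : Module.Free A T' := by
  classical
  let K : Set ι := {i | f (B i) = 0}
  have hrange : LinearMap.range f = Submodule.span A (B '' Kᶜ) := by
    rw [LinearMap.range_eq_map, ← B.span_eq, Submodule.map_span]
    apply le_antisymm
    · rw [Submodule.span_le]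
      rintro _ ⟨_, ⟨i, rfl⟩, rfl⟩
      rcases hf i with h1 | h1
      · by_cases hi : i ∈ K
        · have h2 : f (B i) = 0 := hi
          rw [SetLike.mem_coe, h2]
          exact Submodule.zero_mem _
        · rw [h1]
          exact Submodule.subset_span ⟨i, hi, rfl⟩
      · rw [h1]
        exact Submodule.zero_mem _
    · rw [Submodule.span_le]
      rintro _ ⟨i, hi, rfl⟩
      have h2 : f (B i) = B i := (hf i).resolve_right hi
      exact Submodule.subset_span ⟨B i, ⟨i, rfl⟩, h2⟩
  have h0 : IsCompl (LinearMap.range f) (Submodule.span A (B '' K)) := by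
    rw [hrange]
    exact B.linearIndependent.isCompl_span_image B.span_eq isCompl_compl.symm
  have e : T' ≃ₗ[A] Submodule.span A (B '' K) :=
    (Submodule.quotientEquivOfIsCompl _ _ h).symm ≪≫ₗ Submodule.quotientEquivOfIsCompl _ _ h0
  have hfree : Module.Free A (Submodule.span A (B '' K)) := by
    have hli : LinearIndependent A (fun i : K => B i) :=
      B.linearIndependent.comp _ Subtype.val_injective
    have hr : Set.range (fun i : K => B i) = B '' K := by
      ext x
      simp
    have := Module.Free.of_basis (Basis.span hli)
    rwa [hr] at this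
  exact Module.Free.of_equiv e.symm

theorem finrank_eq_add_of_isCompl [Nontrivial A] (L' T' : Submodule A M) (h : IsCompl L' T')
    [Module.Free A L'] [Module.Free A T'] [Module.Finite A L'] [Module.Finite A T'] :
    finrank A M = finrank A L' + finrank A T' := by
  rw [← (Submodule.prodEquivOfIsCompl L' T' h).finrank_eq, Module.finrank_prod]

end General

section Rank

variable {p : ℕ} [Fact p.Prime] {R : Type u} [CommRing R] [Nontrivial R]
variable {P : Type v} [AddCommGroup P] [Module (WittVector p R) P]
variable (L T : Submodule (WittVector p R) P) (hLT : IsCompl L T)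

local notation "W" => WittVector p R

theorem Tr_free_finrank (m r : ℕ) (hr : 1 ≤ r) [Module.Finite W P] (hL : Module.Free W L)
    (hLr : finrank W L = m) (e : T ≃ₗ[W] W) :
    Module.Free W (Tr L T hLT r) ∧ finrank W (Tr L T hLT r) = m.choose (r - 1) := by
  classical
  have : Nontrivial W := inferInstance
  have : Module.Finite W L :=
    Module.Finite.of_surjective (L.projectionOnto T hLT) (Submodule.projectionOnto_surjective hLT)
  have : Module.Free W T := Module.Free.of_equiv e.symm
  have : Module.Finite W T :=
    Module.Finite.of_surjective (T.projectionOnto L hLT.symm)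
      (Submodule.projectionOnto_surjective hLT.symm)
  let bL := Module.Free.chooseBasis W L
  let bT : Basis (Fin 1) W T := (Basis.singleton (Fin 1) W).map e.symm
  let b : Basis (Module.Free.ChooseBasisIndex W L ⊕ Fin 1) W P :=
    (bL.prod bT).map (Submodule.prodEquivOfIsCompl L T hLT)
  have hb : ∀ i, b i ∈ L ∨ b i ∈ T := by
    rintro (i | j)
    · left
      have : b (Sum.inl i) = (bL i : P) := by
        simp [b, Basis.map_apply, Submodule.coe_prodEquivOfIsCompl']
      rw [this]
      exact (bL i).2
    · right
      have : b (Sum.inr j) = (bT j : P) := by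
        simp [b, Basis.map_apply, Submodule.coe_prodEquivOfIsCompl']
      rw [this]
      exact (bT j).2
  let _ : LinearOrder (Module.Free.ChooseBasisIndex W L ⊕ Fin 1) := linearOrderOfSTO WellOrderingRel
  let B := b.exteriorPower r
  have hB : ∀ S, Lam L T hLT r (B S) = B S ∨ Lam L T hLT r (B S) = 0 := by
    intro S
    have hBS : B S = exteriorPower.ιMulti W r (b ∘ (Set.powersetCard.ofFinEmbEquiv.symm S)) := by
      rw [exteriorPower.basis_apply]
      rfl
    rw [hBS, Lam_ιMulti]
    by_cases h : ∀ j, (b ∘ (Set.powersetCard.ofFinEmbEquiv.symm S)) j ∈ L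
    · left
      congr 1
      funext j
      exact prL_of_mem_L L T hLT (h j)
    · right
      push Not at h
      obtain ⟨j, hj⟩ := h
      apply (exteriorPower.ιMulti W r).map_coord_zero j
      exact prL_of_mem_T L T hLT ((hb _).resolve_left hj)
  have hfree : Module.Free W (Tr L T hLT r) :=
    free_of_isCompl_range B (Lam L T hLT r) hB _ (isCompl_Lr_Tr L T hLT r)
  refine ⟨hfree, ?_⟩
  have hinj : Function.Injective (exteriorPower.map r L.subtype) :=
    exteriorPower.map_injective (L.projectionOnto T hLT) (by ext x; simp)
  have hrange : LinearMap.range (exteriorPower.map r L.subtype) = Lr L T hLT r := by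
    unfold Lr Lam
    have h1 : prL L T hLT = L.subtype ∘ₗ L.projectionOnto T hLT := rfl
    rw [h1, exteriorPower.map_comp, LinearMap.range_comp,
      LinearMap.range_eq_top.mpr
        (exteriorPower.map_surjective (Submodule.projectionOnto_surjective hLT)),
      Submodule.map_top]
  let eL : ⋀[W]^r L ≃ₗ[W] Lr L T hLT r :=
    (LinearEquiv.ofInjective _ hinj).trans (LinearEquiv.ofEq _ _ hrange)
  have : Module.Free W (Lr L T hLT r) := Module.Free.of_equiv eL
  have : Module.Finite W (Lr L T hLT r) := Module.Finite.equiv eL
  have : Module.Finite W (Tr L T hLT r) :=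
    Module.Finite.of_surjective ((Tr L T hLT r).projectionOnto (Lr L T hLT r)
      (isCompl_Lr_Tr L T hLT r).symm) (Submodule.projectionOnto_surjective _)
  have h1 : finrank W (Lr L T hLT r) = m.choose r := by
    rw [← eL.finrank_eq, exteriorPower.finrank_eq, hLr]
  have : Module.Free W P := Module.Free.of_basis b
  have h2 : finrank W P = m + 1 := by
    rw [← (Submodule.prodEquivOfIsCompl L T hLT).finrank_eq, Module.finrank_prod, hLr,
      e.finrank_eq, Module.finrank_self]
  have h3 : finrank W (⋀[W]^r P) = (m + 1).choose r := by
    rw [exteriorPower.finrank_eq, h2]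
  have h4 := finrank_eq_add_of_isCompl (Lr L T hLT r) (Tr L T hLT r) (isCompl_Lr_Tr L T hLT r)
  obtain ⟨k, rfl⟩ : ∃ k, r = k + 1 := ⟨r - 1, by omega⟩
  rw [h3, h1, Nat.choose_succ_succ'] at h4
  rw [Nat.add_sub_cancel]
  omega

end Rank

end Groth.Agent.Lib.Helper86.DispExtRank
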