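import Mathlib
import Groth.Prelude.Def_Dieu
import Groth.Prelude.Def_Disp2
import Groth.Agent.Lib.Helper86.VSharpPow
import Groth.Agent.Lib.Helper86.VSharpExists
import Groth.Agent.Lib.Helper86.DispBCExists

set_option autoImplicit false
set_option linter.unusedSectionVars false
universe u v w

namespace Groth.Agent.Lib.Helper86.DispMatrix

open Dieu WittVector Groth.Agent.Lib.Helper86.VSharpPow Groth.Agent.Lib.Helper86.VSharpExists
  Groth.Agent.Lib.Helper86.DispBCExists

section Coord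

variable {p : ℕ} [Fact p.Prime] {R : Type u} [CommRing R]
variable {P : Type v} [AddCommGroup P] [Module (WittVector p R) P]
variable {ι : Type w} [Fintype ι] [DecidableEq ι]
variable (e : Module.Basis ι (WittVector p R) P)

local notation "σ" => (WittVector.frobenius : WittVector p R →+* WittVector p R)

/-- the matrices of the iterates `V^{(n+1)#}` -/
noncomputable def Mn (M : Matrix ι ι (WittVector p R)) : ℕ → Matrix ι ι (WittVector p R)
  | 0 => M
  | n + 1 => (Mn M n).map σ * M

theorem vSharpPow_basis (Vs : P →ₗ[WittVector p R] BC σ P) (M : Matrix ι ι (WittVector p R))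
    (hM : ∀ k, Vs (e k) = ∑ j, M j k • BC.tmul σ 1 (e j)) (n : ℕ) (k : ι) :
    vSharpPow Vs n (e k) = ∑ j, Mn M n j k • BC.tmul (σ ^ (n + 1)) 1 (e j) := by
  induction n generalizing k with
  | zero =>
    rw [vSharpPow_zero_apply, hM, map_sum]
    refine Finset.sum_congr rfl fun j _ => ?_
    rw [map_smul, BC.castHom_tmul]
    rfl
  | succ n ih =>
    rw [vSharpPow_succ_apply, lift_push_map, hM, map_sum, map_sum]
    have h1 : ∀ j, BC.castHom (comp_pow_eq_pow_succ σ (n + 1))
        (tw σ (σ ^ (n + 1)) (vSharpPow Vs n) (M j k • BC.tmul σ 1 (e j))) =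
        ∑ i, (M j k * σ (Mn M n i j)) • BC.tmul (σ ^ (n + 1 + 1)) 1 (e i) := by
      intro j
      have h2 : BC.push (σ ^ (n + 1)) σ (vSharpPow Vs n (e j)) =
          ∑ i, σ (Mn M n i j) • BC.tmul ((σ).comp (σ ^ (n + 1))) 1 (e i) := by
        rw [ih, map_sum]
        refine Finset.sum_congr rfl fun i _ => ?_
        rw [LinearMap.map_smulₛₗ, BC.push_tmul, map_one]
      rw [map_smul (tw σ (σ ^ (n + 1)) (vSharpPow Vs n)), tw_tmul, one_smul, h2,
        map_smul (BC.castHom (comp_pow_eq_pow_succ σ (n + 1))), map_sum, Finset.smul_sum]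
      refine Finset.sum_congr rfl fun i _ => ?_
      rw [map_smul, BC.castHom_tmul, smul_smul]
    rw [Finset.sum_congr rfl fun j _ => h1 j, Finset.sum_comm]
    refine Finset.sum_congr rfl fun i _ => ?_
    rw [← Finset.sum_smul]
    congr 1
    show _ = ((Mn M n).map σ * M) i k
    rw [Matrix.mul_apply]
    refine Finset.sum_congr rfl fun j _ => ?_
    rw [Matrix.map_apply, mul_comm]

theorem forall_mem_iff (g : WittVector p R →+* WittVector p R) (F : P →ₗ[WittVector p R] BC g P)
    (Mx : Matrix ι ι (WittVector p R)) (hF : ∀ k, F (e k) = ∑ j, Mx j k • BC.tmul g 1 (e j))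
    (𝔟 : Ideal (WittVector p R)) :
    (∀ x, F x ∈ 𝔟 • (⊤ : Submodule (WittVector p R) (BC g P))) ↔ ∀ j k, Mx j k ∈ 𝔟 := by
  constructor
  · intro h j k
    have hC : ∀ z : BC g P, z ∈ 𝔟 • (⊤ : Submodule (WittVector p R) (BC g P)) →
        bcFun g (e.coord j) z ∈ 𝔟 := by
      intro z hz
      refine Submodule.smul_induction_on hz (fun c hc z' _ => ?_) (fun z₁ z₂ h₁ h₂ => ?_)
      · rw [map_smul, smul_eq_mul]
        exact Ideal.mul_mem_right _ _ hc
      · rw [map_add]; exact Ideal.add_mem _ h₁ h₂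
    have h2 := hC _ (h (e k))
    rw [hF, map_sum] at h2
    have h3 : ∀ i, bcFun g (e.coord j) (Mx i k • BC.tmul g 1 (e i)) =
        if i = j then Mx i k else 0 := by
      intro i
      rw [map_smul, bcFun_tmul, one_mul, Module.Basis.coord_apply, Module.Basis.repr_self,
        Finsupp.single_apply, smul_eq_mul]
      split_ifs with hij
      · rw [map_one, mul_one]
      · rw [map_zero, mul_zero]
    rw [Finset.sum_congr rfl fun i _ => h3 i, Finset.sum_ite_eq' Finset.univ j] at h2
    simpa using h2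
  · intro h x
    rw [← e.sum_repr x, map_sum]
    refine Submodule.sum_mem _ fun k _ => ?_
    rw [map_smul, hF]
    refine Submodule.smul_mem _ _ (Submodule.sum_mem _ fun j _ => ?_)
    exact Submodule.smul_mem_smul (h j k) Submodule.mem_top

end Coord

/-! ### The quotient `W(R) → R/pR` -/
section Quot

variable (p : ℕ) [Fact p.Prime] (R : Type u) [CommRing R]

local notation "σ" => (WittVector.frobenius : WittVector p R →+* WittVector p R)

/-- `w ↦ w₀(w) mod p` -/
noncomputable def q : WittVector p R →+* R ⧸ Ideal.span {(p : R)} :=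
  (Ideal.Quotient.mk (Ideal.span {(p : R)})).comp constantCoeff

lemma q_apply (w : WittVector p R) :
    q p R w = Ideal.Quotient.mk (Ideal.span {(p : R)}) (constantCoeff w) := rfl

lemma q_eq_zero_iff (w : WittVector p R) :
    q p R w = 0 ↔ w ∈ W4c1extbt610.IV p R ⊔ Ideal.span {(p : WittVector p R)} := by
  constructor
  · intro h
    rw [q_apply, Ideal.Quotient.eq_zero_iff_mem, Ideal.mem_span_singleton'] at h
    obtain ⟨r, hr⟩ := h
    have h1 : w - (p : WittVector p R) * teichmuller p r ∈ W4c1extbt610.IV p R := by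
      rw [IV_eq_ker, RingHom.mem_ker, map_sub, map_mul, map_natCast]
      have : constantCoeff (teichmuller p r) = r := teichmuller_coeff_zero p r
      rw [this, ← hr, mul_comm, sub_self]
    have h2 : (p : WittVector p R) * teichmuller p r ∈ Ideal.span {(p : WittVector p R)} :=
      Ideal.mul_mem_right _ _ (Ideal.mem_span_singleton_self _)
    have : w = (w - (p : WittVector p R) * teichmuller p r) + (p : WittVector p R) * teichmuller p r := by
      ring
    rw [this]
    exact Ideal.add_mem _ (Ideal.mem_sup_left h1) (Ideal.mem_sup_right h2)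
  · intro h
    have hle : W4c1extbt610.IV p R ⊔ Ideal.span {(p : WittVector p R)} ≤ RingHom.ker (q p R) := by
      rw [sup_le_iff]
      constructor
      · intro a ha
        rw [IV_eq_ker, RingHom.mem_ker] at ha
        rw [RingHom.mem_ker, q_apply, ha, map_zero]
      · rw [Ideal.span_le, Set.singleton_subset_iff, SetLike.mem_coe, RingHom.mem_ker, q_apply,
          map_natCast, Ideal.Quotient.eq_zero_iff_mem]
        exact Ideal.mem_span_singleton_self _
    exact hle h

lemma q_frobenius (w : WittVector p R) : q p R (σ w) = q p R w ^ p := by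
  have h := (q_eq_zero_iff p R _).mpr (frobenius_sub_pow_mem w)
  rw [map_sub, map_pow, sub_eq_zero] at h
  exact h

/-- The Frobenius endomorphism of `R/pR` (no `CharP` instance needed). -/
noncomputable def frob : (R ⧸ Ideal.span {(p : R)}) →+* (R ⧸ Ideal.span {(p : R)}) where
  toFun x := x ^ p
  map_one' := one_pow _
  map_mul' x y := mul_pow x y p
  map_zero' := zero_pow (Fact.out : p.Prime).ne_zero
  map_add' x y := by
    obtain ⟨r, hr⟩ := exists_add_pow_prime_eq (Fact.out : p.Prime) x y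
    have hp0 : ((p : ℕ) : R ⧸ Ideal.span {(p : R)}) = 0 := by
      rw [← map_natCast (Ideal.Quotient.mk (Ideal.span {(p : R)})), Ideal.Quotient.eq_zero_iff_mem]
      exact Ideal.mem_span_singleton_self _
    rw [hr, hp0, zero_mul, zero_mul, zero_mul, add_zero]

lemma frob_apply (x : R ⧸ Ideal.span {(p : R)}) : frob p R x = x ^ p := rfl

lemma q_comp_frobenius : (q p R).comp σ = (frob p R).comp (q p R) :=
  RingHom.ext fun w => q_frobenius p R w

end Quot

/-! ### Matrix algebra -/
section MatAlg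

variable {A : Type u} [CommRing A] (φ : A →+* A)
variable {ιT ιL : Type w} [Fintype ιT] [Fintype ιL] [DecidableEq ιT] [DecidableEq ιL]

/-- `X_n = φ(X_{n-1}) X₀` -/
def Xn (X₀ : Matrix (ιT ⊕ ιL) (ιT ⊕ ιL) A) : ℕ → Matrix (ιT ⊕ ιL) (ιT ⊕ ιL) A
  | 0 => X₀
  | n + 1 => (Xn X₀ n).map φ * X₀

/-- `Y_n = φ(Y_{n-1}) B` -/
def Yn (B : Matrix ιL ιL A) : ℕ → Matrix ιL ιL A
  | 0 => B
  | n + 1 => (Yn B n).map φ * B

variable (X₀ : Matrix (ιT ⊕ ιL) (ιT ⊕ ιL) A) (hX₀ : ∀ t c, X₀ (Sum.inl t) c = 0)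

include hX₀ in
lemma Xn_inl (n : ℕ) (t : ιT) (c : ιT ⊕ ιL) : Xn φ X₀ n (Sum.inl t) c = 0 := by
  induction n generalizing c with
  | zero => exact hX₀ t c
  | succ n ih =>
    show ((Xn φ X₀ n).map φ * X₀) (Sum.inl t) c = 0
    rw [Matrix.mul_apply]
    refine Finset.sum_eq_zero fun j _ => ?_
    rw [Matrix.map_apply, ih, map_zero, zero_mul]

include hX₀ in
lemma Xn_succ_inr (n : ℕ) (k : ιL) (c : ιT ⊕ ιL) :
    Xn φ X₀ (n + 1) (Sum.inr k) c =
      ∑ l : ιL, φ (Xn φ X₀ n (Sum.inr k) (Sum.inr l)) * X₀ (Sum.inr l) c := by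
  show ((Xn φ X₀ n).map φ * X₀) (Sum.inr k) c = _
  rw [Matrix.mul_apply, Fintype.sum_sum_type]
  have : ∑ t : ιT, (Xn φ X₀ n).map φ (Sum.inr k) (Sum.inl t) * X₀ (Sum.inl t) c = 0 :=
    Finset.sum_eq_zero fun t _ => by rw [hX₀, mul_zero]
  rw [this, zero_add]
  rfl

include hX₀ in
lemma Xn_inr_inr (n : ℕ) (k l : ιL) :
    Xn φ X₀ n (Sum.inr k) (Sum.inr l) =
      Yn φ (Matrix.of fun k l : ιL => X₀ (Sum.inr k) (Sum.inr l)) n k l := by
  induction n generalizing k l with
  | zero => rfl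
  | succ n ih =>
    rw [Xn_succ_inr φ X₀ hX₀]
    show _ = ((Yn φ (Matrix.of fun k l : ιL => X₀ (Sum.inr k) (Sum.inr l)) n).map φ *
      (Matrix.of fun k l : ιL => X₀ (Sum.inr k) (Sum.inr l))) k l
    rw [Matrix.mul_apply]
    refine Finset.sum_congr rfl fun l' _ => ?_
    rw [ih, Matrix.map_apply]
    rfl

include hX₀ in
lemma Xn_succ_eq_zero (n : ℕ)
    (h : Yn φ (Matrix.of fun k l : ιL => X₀ (Sum.inr k) (Sum.inr l)) n = 0) :
    Xn φ X₀ (n + 1) = 0 := by
  ext r c
  rcases r with t | k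
  · exact Xn_inl φ X₀ hX₀ _ t c
  · rw [Xn_succ_inr φ X₀ hX₀]
    refine Finset.sum_eq_zero fun l _ => ?_
    rw [Xn_inr_inr φ X₀ hX₀, h, Matrix.zero_apply, map_zero, zero_mul]

/-- the list product of the statement -/
def Zn (p : ℕ) (B : Matrix ιL ιL A) (N : ℕ) : Matrix ιL ιL A :=
  ((List.range N).reverse.map fun i : ℕ => B.map fun x : A => x ^ p ^ i).prod

lemma Zn_zero (p : ℕ) (B : Matrix ιL ιL A) : Zn p B 0 = 1 := rfl

lemma Zn_succ (p : ℕ) (B : Matrix ιL ιL A) (N : ℕ) :
    Zn p B (N + 1) = (B.map fun x : A => x ^ p ^ N) * Zn p B N := by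
  unfold Zn
  rw [List.range_succ, List.reverse_append, List.reverse_singleton, List.singleton_append,
    List.map_cons, List.prod_cons]

lemma Zn_succ' (p : ℕ) (hφ : ∀ x, φ x = x ^ p) (B : Matrix ιL ιL A) (N : ℕ) :
    Zn p B (N + 1) = (Zn p B N).map φ * B := by
  induction N with
  | zero =>
    rw [Zn_succ, Zn_zero, mul_one, Matrix.map_one φ (map_zero φ) (map_one φ), one_mul]
    ext k l
    rw [Matrix.map_apply, pow_zero, pow_one]
  | succ N ih =>
    conv_lhs => rw [Zn_succ p B (N + 1), ih, ← mul_assoc]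
    congr 1
    rw [Zn_succ, Matrix.map_mul]
    congr 1
    ext k l
    rw [Matrix.map_apply, Matrix.map_apply, Matrix.map_apply, hφ, ← pow_mul, ← pow_succ]

lemma Yn_eq_Zn (p : ℕ) (hφ : ∀ x, φ x = x ^ p) (B : Matrix ιL ιL A) (n : ℕ) :
    Yn φ B n = Zn p B (n + 1) := by
  induction n with
  | zero =>
    rw [Zn_succ' φ p hφ, Zn_zero, Matrix.map_one φ (map_zero φ) (map_one φ), one_mul]
    rfl
  | succ n ih =>
    rw [Zn_succ' φ p hφ B (n + 1), ← ih]
    rfl

end MatAlg


/-! ### The criterion -/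
section Main

variable {p : ℕ} [Fact p.Prime] {R : Type u} [CommRing R]
variable {P : Type v} [AddCommGroup P] [Module (WittVector p R) P]
variable (D : W4c1extbt610.Display3n p R P)
variable (L T : Submodule (WittVector p R) P) (hLT : IsCompl L T) (hLQ : L ≤ D.Q)
variable {ιT ιL : Type w} [Fintype ιT] [Fintype ιL] [DecidableEq ιT] [DecidableEq ιL]
variable (bT : Module.Basis ιT (WittVector p R) T) (bL : Module.Basis ιL (WittVector p R) L)
variable (α β : Matrix (ιT ⊕ ιL) (ιT ⊕ ιL) (WittVector p R)) (hαβ : α * β = 1)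

local notation "σ" => (WittVector.frobenius : WittVector p R →+* WittVector p R)

/-- the basis of `P` formed by the `t_j` followed by the `l_k` -/
noncomputable def eB : Module.Basis (ιT ⊕ ιL) (WittVector p R) P :=
  (bT.prod bL).map (Submodule.prodEquivOfIsCompl T L hLT.symm)

lemma eB_apply (i : ιT ⊕ ιL) : eB L T hLT bT bL i =
    Sum.elim (fun a : ιT => (bT a : P)) (fun a : ιL => (bL a : P)) i := by
  rcases i with a | a
  · rw [eB, Module.Basis.map_apply, Submodule.coe_prodEquivOfIsCompl', Module.Basis.prod_apply_inl_fst,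
      Module.Basis.prod_apply_inl_snd, Submodule.coe_zero, add_zero, Sum.elim_inl]
  · rw [eB, Module.Basis.map_apply, Submodule.coe_prodEquivOfIsCompl', Module.Basis.prod_apply_inr_fst,
      Module.Basis.prod_apply_inr_snd, Submodule.coe_zero, zero_add, Sum.elim_inr]

/-- `p` on the `T`-indices, `1` on the `L`-indices -/
noncomputable def eps : ιT ⊕ ιL → WittVector p R := Sum.elim (fun _ => (p : WittVector p R)) (fun _ => 1)

/-- the matrix of `V^#` -/
noncomputable def MV : Matrix (ιT ⊕ ιL) (ιT ⊕ ιL) (WittVector p R) :=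
  Matrix.of fun j k => eps (p := p) (R := R) j * β j k

include hαβ in
theorem Vs_basis (Vs : P →ₗ[WittVector p R] BC σ P) (hVs : IsVSharp D Vs)
    (hF : ∀ j : ιT, D.F (bT j : P) =
      Finset.univ.sum fun i : ιT ⊕ ιL => α i (Sum.inl j) • Sum.elim (fun a : ιT => (bT a : P)) (fun a : ιL => (bL a : P)) i)
    (hV : ∀ k : ιL, D.Vinv ⟨(bL k : P), hLQ (bL k).2⟩ =
      Finset.univ.sum fun i : ιT ⊕ ιL => α i (Sum.inr k) • Sum.elim (fun a : ιT => (bT a : P)) (fun a : ιL => (bL a : P)) i)
    (k : ιT ⊕ ιL) :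
    Vs (eB L T hLT bT bL k) = ∑ j, MV β j k • BC.tmul σ 1 (eB L T hLT bT bL j) := by
  have hΦ : ∀ c : ιT ⊕ ιL, Vs (∑ i, α i c • eB L T hLT bT bL i) =
      eps (p := p) (R := R) c • BC.tmul σ 1 (eB L T hLT bT bL c) := by
    intro c
    have h0 : ∑ i, α i c • eB L T hLT bT bL i =
        ∑ i, α i c • Sum.elim (fun a : ιT => (bT a : P)) (fun a : ιL => (bL a : P)) i :=
      Finset.sum_congr rfl fun i _ => by rw [eB_apply]
    rw [h0]
    rcases c with j | k'
    · rw [← hF j]
      have := hVs.app_smul_F 1 (bT j : P)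
      rw [one_smul] at this
      rw [this, eB_apply]
      rfl
    · rw [← hV k']
      have := hVs.app_smul_Vinv 1 ⟨(bL k' : P), hLQ (bL k').2⟩
      rw [one_smul] at this
      rw [this, eB_apply]
      show _ = (1 : WittVector p R) • _
      rw [one_smul]
      rfl
  have h1 : eB L T hLT bT bL k = ∑ c, β c k • ∑ i, α i c • eB L T hLT bT bL i := by
    have h2 : ∀ c, β c k • ∑ i, α i c • eB L T hLT bT bL i =
        ∑ i, (α i c * β c k) • eB L T hLT bT bL i := by
      intro c
      rw [Finset.smul_sum]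
      refine Finset.sum_congr rfl fun i _ => ?_
      rw [smul_smul, mul_comm]
    rw [Finset.sum_congr rfl fun c _ => h2 c, Finset.sum_comm]
    have h3 : ∀ i, ∑ c, (α i c * β c k) • eB L T hLT bT bL i =
        (if i = k then (1 : WittVector p R) else 0) • eB L T hLT bT bL i := by
      intro i
      rw [← Finset.sum_smul, ← Matrix.mul_apply, hαβ, Matrix.one_apply]
    rw [Finset.sum_congr rfl fun i _ => h3 i]
    simp only [ite_smul, one_smul, zero_smul, Finset.sum_ite_eq', Finset.mem_univ, if_true]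
  conv_lhs => rw [h1]
  rw [map_sum]
  refine Finset.sum_congr rfl fun c _ => ?_
  rw [map_smul, hΦ, smul_smul]
  congr 1
  show _ = eps (p := p) (R := R) c * β c k
  rw [mul_comm]

lemma map_q_Mn (M : Matrix (ιT ⊕ ιL) (ιT ⊕ ιL) (WittVector p R)) (n : ℕ) :
    (Mn M n).map (q p R) = Xn (frob p R) (M.map (q p R)) n := by
  induction n with
  | zero => rfl
  | succ n ih =>
    show ((Mn M n).map σ * M).map (q p R) = (Xn (frob p R) (M.map (q p R)) n).map (frob p R) * _
    rw [Matrix.map_mul, ← ih, Matrix.map_map, Matrix.map_map]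
    congr 2
    funext w
    exact q_frobenius p R w

include hLT in
theorem isDisplay_iff (hp : IsNilpotent (p : R)) (hαβ : α * β = 1)
    (hF : ∀ j : ιT, D.F (bT j : P) =
      Finset.univ.sum fun i : ιT ⊕ ιL => α i (Sum.inl j) • Sum.elim (fun a : ιT => (bT a : P)) (fun a : ιL => (bL a : P)) i)
    (hV : ∀ k : ιL, D.Vinv ⟨(bL k : P), hLQ (bL k).2⟩ =
      Finset.univ.sum fun i : ιT ⊕ ιL => α i (Sum.inr k) • Sum.elim (fun a : ιT => (bT a : P)) (fun a : ιL => (bL a : P)) i) :
    IsDisplay D ↔ ∃ N : ℕ, 0 < N ∧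
      Zn p (Matrix.of fun k l : ιL => q p R (β (Sum.inr k) (Sum.inr l))) N = 0 := by
  obtain ⟨Vs, hVs⟩ := exists_isVSharp D hp
  have huniq : ∀ Vs', IsVSharp D Vs' → Vs' = Vs := by
    intro Vs' hVs'
    apply LinearMap.ext_on D.span_range_Vinv
    rintro _ ⟨y, rfl⟩
    have h1 := hVs.app_smul_Vinv 1 y
    have h2 := hVs'.app_smul_Vinv 1 y
    rw [one_smul] at h1 h2
    rw [h1, h2]
  set e := eB L T hLT bT bL with he
  set M : Matrix (ιT ⊕ ιL) (ιT ⊕ ιL) (WittVector p R) := MV β with hMdef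
  have hM : ∀ k, Vs (e k) = ∑ j, M j k • BC.tmul σ 1 (e j) :=
    Vs_basis D L T hLT hLQ bT bL α β hαβ Vs hVs hF hV
  set X₀ := M.map (q p R) with hX₀def
  have key : ∀ n, (∀ x, vSharpPow Vs n x ∈
      (W4c1extbt610.IV p R ⊔ Ideal.span {(p : WittVector p R)}) •
        (⊤ : Submodule (WittVector p R) (BC (σ ^ (n + 1)) P))) ↔ Xn (frob p R) X₀ n = 0 := by
    intro n
    rw [forall_mem_iff e (σ ^ (n + 1)) (vSharpPow Vs n) (Mn M n) (vSharpPow_basis e Vs M hM n),
      ← map_q_Mn]
    constructor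
    · intro h
      ext j k
      rw [Matrix.map_apply, Matrix.zero_apply, q_eq_zero_iff]
      exact h j k
    · intro h j k
      rw [← q_eq_zero_iff]
      have := congrFun (congrFun h j) k
      rwa [Matrix.map_apply] at this
  have hqp : q p R (p : WittVector p R) = 0 := by
    rw [q_eq_zero_iff]
    exact Ideal.mem_sup_right (Ideal.mem_span_singleton_self _)
  have hX₀ : ∀ t c, X₀ (Sum.inl t) c = 0 := by
    intro t c
    show q p R (eps (p := p) (R := R) (Sum.inl t) * β (Sum.inl t) c) = 0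
    rw [map_mul]
    show q p R (p : WittVector p R) * _ = 0
    rw [hqp, zero_mul]
  have hB : (Matrix.of fun k l : ιL => X₀ (Sum.inr k) (Sum.inr l)) =
      Matrix.of fun k l : ιL => q p R (β (Sum.inr k) (Sum.inr l)) := by
    ext k l
    show q p R (eps (p := p) (R := R) (Sum.inr k) * β (Sum.inr k) (Sum.inr l)) = _
    show q p R ((1 : WittVector p R) * _) = _
    rw [one_mul]
    rfl
  have hφ : ∀ x, frob p R x = x ^ p := frob_apply p R
  constructor
  · rintro ⟨Vs', hVs', n, hn⟩
    rw [huniq Vs' hVs'] at hn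
    have hX := (key n).mp hn
    refine ⟨n + 1, Nat.succ_pos n, ?_⟩
    rw [← hB, ← Yn_eq_Zn (frob p R) p hφ]
    ext k l
    rw [← Xn_inr_inr (frob p R) X₀ hX₀, hX]
    rfl
  · rintro ⟨N, hN, hZ⟩
    obtain ⟨n, rfl⟩ := Nat.exists_eq_succ_of_ne_zero hN.ne'
    refine ⟨Vs, hVs, n + 1, (key (n + 1)).mpr ?_⟩
    apply Xn_succ_eq_zero (frob p R) X₀ hX₀
    rw [hB, Yn_eq_Zn (frob p R) p hφ]
    exact hZ

end Main


end Groth.Agent.Lib.Helper86.DispMatrix
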