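import Mathlib

set_option autoImplicit false
set_option linter.unusedSectionVars false
universe u v w

open TensorProduct Coalgebra WithConv

namespace Groth.Agent.Lib.Helper86.DualBC

section BC

variable {R : Type u} [CommRing R] (T : Type w) [CommRing T] [Algebra R T]
  {A : Type v} [CommRing A] [Bialgebra R A]

/-- base change of a linear functional. -/
noncomputable def bc (φ : A →ₗ[R] R) : T ⊗[R] A →ₗ[T] T :=
  LinearMap.liftBaseChange T ((Algebra.linearMap R T).comp φ)

lemma bc_tmul (φ : A →ₗ[R] R) (t : T) (a : A) :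
    bc T φ (t ⊗ₜ[R] a) = t * algebraMap R T (φ a) := by
  rw [bc, LinearMap.liftBaseChange_tmul]
  rfl

lemma bc_convMul (φ ψ : WithConv (A →ₗ[R] R)) (x : T ⊗[R] A) :
    (toConv (bc T φ.ofConv) * toConv (bc T ψ.ofConv)) x = bc T (φ * ψ).ofConv x := by
  induction x using TensorProduct.induction_on with
  | zero => simp
  | add x y hx hy =>
    have h1 : ∀ F : WithConv (T ⊗[R] A →ₗ[T] T), F (x + y) = F x + F y := fun F => map_add F.ofConv x y
    rw [h1, hx, hy, map_add]
  | tmul t a =>
    rw [LinearMap.convMul_apply, TensorProduct.comul_tmul, CommSemiring.comul_apply, bc_tmul]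
    have h2 : (φ * ψ).ofConv a = LinearMap.mul' R R (TensorProduct.map φ.ofConv ψ.ofConv (comul a)) :=
      LinearMap.convMul_apply φ ψ a
    rw [h2]
    generalize comul (R := R) a = u
    induction u using TensorProduct.induction_on with
    | zero => simp
    | add u v hu hv =>
      rw [TensorProduct.tmul_add, map_add, map_add, map_add, hu, hv, map_add, map_add, map_add,
        mul_add]
    | tmul a1 a2 =>
      rw [TensorProduct.AlgebraTensorModule.tensorTensorTensorComm_tmul]
      simp only [TensorProduct.map_tmul, LinearMap.mul'_apply, bc_tmul, map_mul]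
      ring

lemma bc_convOne : toConv (bc T (1 : WithConv (A →ₗ[R] R)).ofConv) = 1 := by
  apply WithConv.ext
  apply TensorProduct.AlgebraTensorModule.ext
  intro t a
  show bc T (1 : WithConv (A →ₗ[R] R)).ofConv (t ⊗ₜ[R] a) =
    (1 : WithConv (T ⊗[R] A →ₗ[T] T)) (t ⊗ₜ[R] a)
  have h1 : (1 : WithConv (A →ₗ[R] R)).ofConv a = algebraMap R R (counit (R := R) a) :=
    LinearMap.convOne_apply a
  have h2 : (1 : WithConv (T ⊗[R] A →ₗ[T] T)) (t ⊗ₜ[R] a) =
      algebraMap T T (counit (R := T) (t ⊗ₜ[R] a)) := LinearMap.convOne_apply _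
  rw [bc_tmul, h1, h2, TensorProduct.counit_tmul]
  simp [Algebra.smul_def, mul_comm]

end BC

section Phi

variable {R : Type u} [CommRing R] (T : Type w) [CommRing T] [Algebra R T]
  {A : Type v} [CommRing A] [Bialgebra R A]

noncomputable local instance instRDC : RightDistribClass (T ⊗[R] WithConv (A →ₗ[R] R)) := by
  let _ : Semiring (T ⊗[R] WithConv (A →ₗ[R] R)) := inferInstance
  infer_instance

noncomputable local instance instLDC : LeftDistribClass (T ⊗[R] WithConv (A →ₗ[R] R)) := by
  let _ : Semiring (T ⊗[R] WithConv (A →ₗ[R] R)) := inferInstance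
  infer_instance

noncomputable local instance instMZC : MulZeroClass (T ⊗[R] WithConv (A →ₗ[R] R)) := by
  let _ : Semiring (T ⊗[R] WithConv (A →ₗ[R] R)) := inferInstance
  infer_instance

/-- base change of functionals, linear in the functional. -/
noncomputable def bcLin : WithConv (A →ₗ[R] R) →ₗ[R] (T ⊗[R] A →ₗ[T] T) where
  toFun φ := bc T φ.ofConv
  map_add' φ ψ := by
    apply TensorProduct.AlgebraTensorModule.ext
    intro t a
    rw [LinearMap.add_apply, bc_tmul, bc_tmul, bc_tmul]
    show t * algebraMap R T (φ.ofConv a + ψ.ofConv a) = _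
    rw [map_add, mul_add]
  map_smul' c φ := by
    apply TensorProduct.AlgebraTensorModule.ext
    intro t a
    rw [RingHom.id_apply, LinearMap.smul_apply, bc_tmul, bc_tmul]
    show t * algebraMap R T (c * φ.ofConv a) = _
    rw [map_mul, Algebra.smul_def]
    ring

lemma bcLin_apply (φ : WithConv (A →ₗ[R] R)) : bcLin T φ = bc T φ.ofConv := rfl

/-- the comparison map from the base change of the dual to the dual of the base change. -/
noncomputable def Phi : T ⊗[R] WithConv (A →ₗ[R] R) →ₗ[T] (T ⊗[R] A →ₗ[T] T) :=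
  LinearMap.liftBaseChange T (bcLin T)

lemma Phi_tmul (t : T) (φ : WithConv (A →ₗ[R] R)) :
    Phi T (t ⊗ₜ[R] φ) = t • bc T φ.ofConv := by
  rw [Phi, LinearMap.liftBaseChange_tmul]
  rfl

lemma Phi_one : toConv (Phi T (1 : T ⊗[R] WithConv (A →ₗ[R] R))) = 1 := by
  rw [Algebra.TensorProduct.one_def, Phi_tmul, one_smul, bc_convOne]

lemma Phi_mul (x y : T ⊗[R] WithConv (A →ₗ[R] R)) :
    toConv (Phi T (x * y)) = toConv (Phi T x) * toConv (Phi T y) := by
  induction x using TensorProduct.induction_on with
  | zero => rw [zero_mul, map_zero, toConv_zero, zero_mul]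
  | add x1 x2 h1 h2 => rw [add_mul, map_add, toConv_add, h1, h2, map_add, toConv_add, add_mul]
  | tmul t φ =>
    induction y using TensorProduct.induction_on with
    | zero => rw [mul_zero, map_zero, toConv_zero, mul_zero]
    | add y1 y2 h1 h2 => rw [mul_add, map_add, toConv_add, h1, h2, map_add, toConv_add, mul_add]
    | tmul t' φ' =>
      rw [Algebra.TensorProduct.tmul_mul_tmul, Phi_tmul, Phi_tmul, Phi_tmul, toConv_smul,
        toConv_smul, toConv_smul, smul_mul_smul_comm]
      congr 1
      apply WithConv.ext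
      apply LinearMap.ext
      intro z
      exact (bc_convMul T φ φ' z).symm

lemma Phi_pow (x : T ⊗[R] WithConv (A →ₗ[R] R)) (j : ℕ) :
    toConv (Phi T (x ^ j)) = toConv (Phi T x) ^ j := by
  induction j with
  | zero => rw [pow_zero, pow_zero, Phi_one]
  | succ j ih => rw [pow_succ, pow_succ, Phi_mul, ih]

theorem Phi_surjective {n : ℕ} (a : Module.Basis (Fin n) R A) :
    Function.Surjective (Phi (R := R) (A := A) T) := by
  intro Ψ
  refine ⟨∑ i, Ψ ((1 : T) ⊗ₜ[R] a i) ⊗ₜ[R] toConv (a.coord i), ?_⟩
  apply TensorProduct.AlgebraTensorModule.ext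
  intro t b
  rw [map_sum, LinearMap.sum_apply]
  have h1 : ∀ i, (Phi T (Ψ ((1 : T) ⊗ₜ[R] a i) ⊗ₜ[R] toConv (a.coord i))) (t ⊗ₜ[R] b) =
      t * (algebraMap R T (a.coord i b) * Ψ ((1 : T) ⊗ₜ[R] a i)) := by
    intro i
    rw [Phi_tmul, LinearMap.smul_apply, bc_tmul, smul_eq_mul]
    show Ψ ((1 : T) ⊗ₜ[R] a i) * (t * algebraMap R T (a.coord i b)) = _
    ring
  rw [Finset.sum_congr rfl (fun i _ => h1 i), ← Finset.mul_sum]
  have h2 : t ⊗ₜ[R] b = t • ((1 : T) ⊗ₜ[R] b) := by
    rw [TensorProduct.smul_tmul', smul_eq_mul, mul_one]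
  have h3 : (1 : T) ⊗ₜ[R] b = ∑ i, algebraMap R T (a.coord i b) • ((1 : T) ⊗ₜ[R] a i) := by
    conv_lhs => rw [← a.sum_repr b, TensorProduct.tmul_sum]
    refine Finset.sum_congr rfl fun i _ => ?_
    rw [TensorProduct.tmul_smul, TensorProduct.smul_tmul', TensorProduct.smul_tmul',
      Algebra.smul_def, mul_one, smul_eq_mul, mul_one]
    rfl
  rw [h2, map_smul, smul_eq_mul, h3, map_sum]
  congr 1
  refine Finset.sum_congr rfl fun i _ => ?_
  rw [map_smul, smul_eq_mul]

end Phi

section Sep

variable {R : Type u} [CommRing R] {A : Type v} [CommRing A] [Bialgebra R A]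
  [Module.Finite R A] [Module.Projective R A]

/-- products of functionals separate the points of the tensor square of a finite projective
module. -/
theorem eq_zero_of_forall_dual_tmul (t : A ⊗[R] A)
    (h : ∀ φ ψ : A →ₗ[R] R, LinearMap.mul' R R (TensorProduct.map φ ψ t) = 0) : t = 0 := by
  classical
  obtain ⟨n, π, i, -, -, hπ⟩ := Module.Finite.exists_comp_eq_id_of_projective R A
  let b := Pi.basisFun R (Fin n)
  have h1 : TensorProduct.map i i t = 0 := by
    apply (b.tensorProduct b).repr.injective
    ext ⟨k, l⟩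
    rw [map_zero, Finsupp.zero_apply]
    have h2 : ∀ s : (Fin n → R) ⊗[R] (Fin n → R), (b.tensorProduct b).repr s (k, l) =
        LinearMap.mul' R R (TensorProduct.map (b.coord k) (b.coord l) s) := by
      intro s
      induction s using TensorProduct.induction_on with
      | zero => simp
      | tmul x y =>
        rw [Module.Basis.tensorProduct_repr_tmul_apply, TensorProduct.map_tmul,
          LinearMap.mul'_apply]
        simp [mul_comm]
      | add x y hx hy => rw [map_add, Finsupp.add_apply, hx, hy, map_add, map_add]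
    rw [h2, TensorProduct.map_map]
    exact h _ _
  have h3 : TensorProduct.map π π (TensorProduct.map i i t) = t := by
    rw [TensorProduct.map_map, hπ, TensorProduct.map_id, LinearMap.id_apply]
  rw [← h3, h1, map_zero]

/-- a finite projective bialgebra whose dual is commutative is cocommutative. -/
theorem isCocomm_of_conv_comm (h : ∀ φ ψ : WithConv (A →ₗ[R] R), φ * ψ = ψ * φ) :
    Coalgebra.IsCocomm R A := by
  refine ⟨LinearMap.ext fun a => ?_⟩
  apply sub_eq_zero.1
  apply eq_zero_of_forall_dual_tmul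
  intro φ ψ
  rw [map_sub, map_sub, sub_eq_zero, LinearMap.comp_apply]
  have h1 := congrArg (fun F : WithConv (A →ₗ[R] R) => F a) (h (toConv φ) (toConv ψ))
  simp only [LinearMap.convMul_apply] at h1
  rw [h1]
  show (LinearMap.mul' R R) ((TensorProduct.map φ ψ) ((TensorProduct.comm R A A) (comul a))) = _
  rw [TensorProduct.map_comm, LinearMap.mul'_comm]

end Sep

end Groth.Agent.Lib.Helper86.DualBC
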