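import Mathlib

set_option autoImplicit false
universe u
open scoped TensorProduct

namespace Groth.Agent.Lib.Helper86.EqDesc

section Coord
variable {K : Type*} [Field K] {S T : Type*} [CommRing S] [CommRing T] [Algebra K S] [Algebra K T]

lemma coord_nat (ρ : S →ₐ[K] T) {M : Type*} [AddCommGroup M] [Module K M] {β : Type*}
    [DecidableEq β] (𝒞 : Module.Basis β K M) (y : S ⊗[K] M) (j : β) :
    TensorProduct.equivFinsuppOfBasisRight 𝒞
        (TensorProduct.map ρ.toLinearMap LinearMap.id y) j =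
      ρ (TensorProduct.equivFinsuppOfBasisRight 𝒞 y j) := by
  induction y using TensorProduct.induction_on with
  | zero => simp
  | tmul s m =>
    rw [TensorProduct.map_tmul, TensorProduct.equivFinsuppOfBasisRight_apply_tmul_apply,
      TensorProduct.equivFinsuppOfBasisRight_apply_tmul_apply, map_smul]
    rfl
  | add x y hx hy => simp only [map_add, Finsupp.add_apply, hx, hy]

end Coord

section EQ
variable {K : Type u} [Field K] {ιv ιe : Type u} [Finite ιv]
    {Kv : ιv → Type u} [∀ i, CommRing (Kv i)] [∀ i, Algebra K (Kv i)]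
    {Ke : ιe → Type u} [∀ k, CommRing (Ke k)] [∀ k, Algebra K (Ke k)]
    {l r : ιe → ιv} (ρl : ∀ k, Kv (l k) →ₐ[K] Ke k) (ρr : ∀ k, Kv (r k) →ₐ[K] Ke k)
    (hlim : ∀ x : (∀ i, Kv i), (∀ k, ρl k (x (l k)) = ρr k (x (r k))) →
      ∃! a : K, ∀ i, algebraMap K (Kv i) a = x i)

include hlim in
theorem existsUnique_descend (M : Type*) [AddCommGroup M] [Module K M]
    (y : ∀ i, Kv i ⊗[K] M)
    (hy : ∀ k, TensorProduct.map (ρl k).toLinearMap LinearMap.id (y (l k)) =
      TensorProduct.map (ρr k).toLinearMap LinearMap.id (y (r k))) :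
    ∃! m : M, ∀ i, y i = (1 : Kv i) ⊗ₜ[K] m := by
  classical
  have := Fintype.ofFinite ιv
  let 𝒞 := Module.Basis.ofVectorSpace K M
  let c : ∀ i, (Module.Basis.ofVectorSpaceIndex K M) →₀ Kv i :=
    fun i => TensorProduct.equivFinsuppOfBasisRight 𝒞 (y i)
  have hcompat : ∀ j k, ρl k (c (l k) j) = ρr k (c (r k) j) := by
    intro j k
    rw [← coord_nat, ← coord_nat, hy k]
  have hex := fun j => hlim (fun i => c i j) (hcompat j)
  choose a ha ha' using fun j => (hex j)
  have ha0 : ∀ j, (∀ i, c i j = 0) → a j = 0 := by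
    intro j hj
    exact (ha' j 0 (fun i => by simp [hj i])).symm
  let Sup : Finset (Module.Basis.ofVectorSpaceIndex K M) :=
    Finset.univ.biUnion (fun i => (c i).support)
  let af : (Module.Basis.ofVectorSpaceIndex K M) →₀ K := Finsupp.onFinset Sup a (by
    intro j hj
    by_contra hns
    apply hj
    apply ha0
    intro i
    by_contra hne
    apply hns
    exact Finset.mem_biUnion.mpr ⟨i, Finset.mem_univ _, Finsupp.mem_support_iff.mpr hne⟩)
  have haf : ∀ j, af j = a j := fun j => rfl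
  refine ⟨𝒞.repr.symm af, ?_, ?_⟩
  · intro i
    apply (TensorProduct.equivFinsuppOfBasisRight (M := Kv i) 𝒞).injective
    ext j
    rw [TensorProduct.equivFinsuppOfBasisRight_apply_tmul_apply, LinearEquiv.apply_symm_apply, haf,
      ← Algebra.algebraMap_eq_smul_one, ha j i]
  · intro m' hm'
    apply 𝒞.repr.injective
    rw [LinearEquiv.apply_symm_apply]
    ext j
    rw [haf]
    apply ha' j
    intro i
    show _ = TensorProduct.equivFinsuppOfBasisRight 𝒞 (y i) j
    rw [hm' i, TensorProduct.equivFinsuppOfBasisRight_apply_tmul_apply,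
      Algebra.algebraMap_eq_smul_one]

include hlim in
theorem tmul_injective (M : Type*) [AddCommGroup M] [Module K M] {m m' : M}
    (h : ∀ i, (1 : Kv i) ⊗ₜ[K] m = (1 : Kv i) ⊗ₜ[K] m') : m = m' := by
  have h1 := existsUnique_descend ρl ρr hlim M (fun i => (1 : Kv i) ⊗ₜ[K] m) (by
    intro k
    simp [TensorProduct.map_tmul])
  exact h1.unique (fun i => rfl) h

omit [Finite ιv] in
include hlim in
theorem algebraMap_injective' {c c' : K}
    (h : ∀ i, algebraMap K (Kv i) c = algebraMap K (Kv i) c') : c = c' := by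
  have h1 := hlim (fun i => algebraMap K (Kv i) c) (by intro k; simp)
  exact h1.unique (fun i => rfl) (fun i => (h i).symm)

end EQ

section Twist
variable {K : Type*} [Field K] {S T : Type*} [CommRing S] [CommRing T] [Algebra K S] [Algebra K T]
  {M N P : Type*} [AddCommGroup M] [Module K M] [AddCommGroup N] [Module K N]
  [AddCommGroup P] [Module K P]

lemma map_smul_semilinear (ρ : S →ₐ[K] T) (s : S) (w : S ⊗[K] N) :
    TensorProduct.map ρ.toLinearMap (LinearMap.id : N →ₗ[K] N) (s • w) =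
      ρ s • TensorProduct.map ρ.toLinearMap (LinearMap.id : N →ₗ[K] N) w := by
  induction w using TensorProduct.induction_on with
  | zero => simp
  | tmul s' n =>
    rw [TensorProduct.smul_tmul', TensorProduct.map_tmul, TensorProduct.map_tmul,
      TensorProduct.smul_tmul']
    simp
  | add x y hx hy => rw [smul_add, map_add, hx, hy, map_add, smul_add]

/-- the base change along `ρ` of an `S`-linear map `S ⊗ M → S ⊗ N`. -/
noncomputable def tw (ρ : S →ₐ[K] T) (f : S ⊗[K] M →ₗ[S] S ⊗[K] N) : T ⊗[K] M →ₗ[T] T ⊗[K] N :=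
  LinearMap.liftBaseChange T
    ((TensorProduct.map ρ.toLinearMap (LinearMap.id : N →ₗ[K] N)) ∘ₗ (f.restrictScalars K) ∘ₗ
      (TensorProduct.mk K S M 1))

lemma tw_tmul (ρ : S →ₐ[K] T) (f : S ⊗[K] M →ₗ[S] S ⊗[K] N) (t : T) (m : M) :
    tw ρ f (t ⊗ₜ[K] m) = t • TensorProduct.map ρ.toLinearMap (LinearMap.id : N →ₗ[K] N)
      (f ((1 : S) ⊗ₜ[K] m)) := by
  rw [tw, LinearMap.liftBaseChange_tmul]
  rfl

lemma tw_nat (ρ : S →ₐ[K] T) (f : S ⊗[K] M →ₗ[S] S ⊗[K] N) (z : S ⊗[K] M) :
    TensorProduct.map ρ.toLinearMap (LinearMap.id : N →ₗ[K] N) (f z) =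
      tw ρ f (TensorProduct.map ρ.toLinearMap (LinearMap.id : M →ₗ[K] M) z) := by
  induction z using TensorProduct.induction_on with
  | zero => simp
  | tmul s m =>
    have h1 : s ⊗ₜ[K] m = s • ((1 : S) ⊗ₜ[K] m) := by
      rw [TensorProduct.smul_tmul', smul_eq_mul, mul_one]
    rw [h1, map_smul, map_smul_semilinear, map_smul_semilinear, map_smul, TensorProduct.map_tmul,
      tw_tmul, AlgHom.toLinearMap_apply, map_one, one_smul, LinearMap.id_apply]
  | add x y hx hy => rw [map_add, map_add, hx, hy, map_add, map_add]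

lemma tw_comp_eq_id (ρ : S →ₐ[K] T) (f : S ⊗[K] M →ₗ[S] S ⊗[K] N)
    (g : S ⊗[K] N →ₗ[S] S ⊗[K] M) (hgf : ∀ z, g (f z) = z) (x : T ⊗[K] M) :
    tw ρ g (tw ρ f x) = x := by
  induction x using TensorProduct.induction_on with
  | zero => simp
  | tmul t m =>
    rw [tw_tmul, map_smul, ← tw_nat, hgf, TensorProduct.map_tmul, AlgHom.toLinearMap_apply,
      map_one, TensorProduct.smul_tmul', smul_eq_mul, mul_one, LinearMap.id_apply]
  | add x y hx hy => rw [map_add, map_add, hx, hy]

end Twist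

end Groth.Agent.Lib.Helper86.EqDesc
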