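import Mathlib
import Groth.Prelude
import Groth.Agent.S0599
import Groth.Agent.S0600
import Groth.Agent.S0543
import Groth.Agent.Lib.Helper31.ArtinApproxEtale

/-! S8823 modulo Popescu (helper86): étale neighbourhoods approximating maps of completions. -/

set_option autoImplicit false
universe u
open TensorProduct

namespace Groth.Agent.Lib.Helper86.EtNbhd

section modJ

variable {C C' : Type u} [CommRing C] [CommRing C'] [Algebra C C'] (J : Ideal C) (N : ℕ)

/-- From bijectivity modulo `J^N` (`N ≥ 1`) to surjectivity modulo `J`, elementwise. -/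
theorem surj_mod (_hN : 1 ≤ N)
    (hbij : Function.Bijective (algebraMap (C ⧸ J ^ N) (C' ⧸ (J ^ N).map (algebraMap C C'))))
    (c' : C') : ∃ c : C, algebraMap C C' c - c' ∈ (J ^ N).map (algebraMap C C') := by
  obtain ⟨q, hq⟩ := hbij.2 (Ideal.Quotient.mk _ c')
  obtain ⟨c, rfl⟩ := Ideal.Quotient.mk_surjective q
  refine ⟨c, ?_⟩
  rw [← Ideal.Quotient.eq]
  exact hq

theorem pow_map_le (hN : 1 ≤ N) : (J ^ N).map (algebraMap C C') ≤ J.map (algebraMap C C') :=
  Ideal.map_mono (Ideal.pow_le_self (by omega))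

/-- From bijectivity modulo `J^N` (`N ≥ 1`) to injectivity modulo `J`, elementwise. -/
theorem inj_mod (hN : 1 ≤ N)
    (hbij : Function.Bijective (algebraMap (C ⧸ J ^ N) (C' ⧸ (J ^ N).map (algebraMap C C'))))
    (c : C) (hc : algebraMap C C' c ∈ J.map (algebraMap C C')) : c ∈ J := by
  have key : ∀ y ∈ J.map (algebraMap C C'), ∃ c₀ ∈ J,
      y - algebraMap C C' c₀ ∈ (J ^ N).map (algebraMap C C') := by
    intro y hy
    refine Submodule.span_induction ?_ ?_ ?_ ?_ hy
    · rintro _ ⟨a, ha, rfl⟩
      exact ⟨a, ha, by rw [sub_self]; exact zero_mem _⟩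
    · exact ⟨0, zero_mem _, by rw [map_zero, sub_self]; exact zero_mem _⟩
    · rintro y₁ y₂ _ _ ⟨c₁, hc₁, h₁⟩ ⟨c₂, hc₂, h₂⟩
      refine ⟨c₁ + c₂, add_mem hc₁ hc₂, ?_⟩
      have : y₁ + y₂ - algebraMap C C' (c₁ + c₂) =
          (y₁ - algebraMap C C' c₁) + (y₂ - algebraMap C C' c₂) := by rw [map_add]; ring
      rw [this]; exact add_mem h₁ h₂
    · rintro s y₁ _ ⟨c₁, hc₁, h₁⟩
      obtain ⟨t, ht⟩ := surj_mod J N hN hbij s
      refine ⟨t * c₁, Ideal.mul_mem_left _ _ hc₁, ?_⟩
      have : s • y₁ - algebraMap C C' (t * c₁) =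
          s * (y₁ - algebraMap C C' c₁) - (algebraMap C C' t - s) * algebraMap C C' c₁ := by
        rw [map_mul, smul_eq_mul]; ring
      rw [this]
      exact sub_mem (Ideal.mul_mem_left _ _ h₁) (Ideal.mul_mem_right _ _ ht)
  obtain ⟨c₀, hc₀, h⟩ := key _ hc
  have h2 : algebraMap (C ⧸ J ^ N) (C' ⧸ (J ^ N).map (algebraMap C C'))
      (Ideal.Quotient.mk _ (c - c₀)) = 0 := by
    change Ideal.Quotient.mk _ (algebraMap C C' (c - c₀)) = 0
    rw [Ideal.Quotient.eq_zero_iff_mem, map_sub]
    exact h
  have h3 : Ideal.Quotient.mk (J ^ N) (c - c₀) = 0 := hbij.1 (by rw [h2, map_zero])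
  rw [Ideal.Quotient.eq_zero_iff_mem] at h3
  have h4 : c - c₀ ∈ J := Ideal.pow_le_self (by omega) h3
  have : c = (c - c₀) + c₀ := by ring
  rw [this]; exact add_mem h4 hc₀

end modJ

section main

open Groth.Agent.Lib.Helper31.ArtinApprox

/-- S8823 with Popescu's theorem (the statement of S0595) as a hypothesis. -/
theorem exists_etale_nbhd_of_popescu
    (hpop : ∀ (R : Type u) [CommRing R] [IsNoetherianRing R] (Λ : Type u)
      [CommRing Λ] [IsNoetherianRing Λ] [Algebra R Λ] (_ : CAlg.IsRegularHom R Λ) (A : Type u)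
      [CommRing A] [Algebra R A] [Algebra.FinitePresentation R A] (f : A →ₐ[R] Λ),
      ∃ (B : Type u) (_ : CommRing B) (_ : Algebra R B), Algebra.Smooth R B ∧
        ∃ (g : A →ₐ[R] B) (h : B →ₐ[R] Λ), h.comp g = f)
    (A : Type u) [CommRing A] (hA : CAlg.IsGRing A) (I : Ideal A) (B C : Type u) [CommRing B]
    [Algebra A B] [Algebra.FiniteType A B] [CommRing C] [Algebra A C] [Algebra.FiniteType A C]
    (φ : (AdicCompletion (I.map (algebraMap A B)) B) →ₐ[A]
      (AdicCompletion (I.map (algebraMap A C)) C)) (N : ℕ) (hN : 1 ≤ N) :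
    ∃ (C' : Type u) (_ : CommRing C') (_ : Algebra C C') (_ : Algebra A C')
      (_ : IsScalarTower A C C') (_ : Algebra.Etale C C') (ψ : B →ₐ[A] C'),
      ((∀ c' : C', ∃ c : C, algebraMap C C' c - c' ∈ I.map (algebraMap A C')) ∧
        ∀ c : C, algebraMap C C' c ∈ I.map (algebraMap A C') → c ∈ I.map (algebraMap A C)) ∧
      ∀ b : B, ∃ c : C, ψ b - algebraMap C C' c ∈ (I.map (algebraMap A C')) ^ N ∧
        AdicCompletion.eval (I.map (algebraMap A C)) C N
          (φ (AdicCompletion.of (I.map (algebraMap A B)) B b)) = Submodule.Quotient.mk c := by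
  classical
  have hAN : IsNoetherianRing A := hA.1
  have hCN : IsNoetherianRing C := Algebra.FiniteType.isNoetherianRing A C
  have hGC : CAlg.IsGRing C := Groth.Agent.S0599.result A hA C
  have hreg : CAlg.IsRegularHom C (AdicCompletion (Ideal.map (algebraMap A C) I) C) := Groth.Agent.S0600.result C hGC (Ideal.map (algebraMap A C) I)
  have hCcN : IsNoetherianRing (AdicCompletion (Ideal.map (algebraMap A C) I) C) := Groth.Agent.S0543.result C (Ideal.map (algebraMap A C) I)
  have hpopC : PopescuFor C (AdicCompletion (Ideal.map (algebraMap A C) I) C) :=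
    fun P _ _ _ f => hpop C (AdicCompletion (Ideal.map (algebraMap A C) I) C) hreg P f
  have hfpB : Algebra.FinitePresentation A B :=
    Algebra.FinitePresentation.of_finiteType.mp inferInstance
  -- the map `C ⊗ B → C^`
  let ofB : B →ₐ[A] AdicCompletion (I.map (algebraMap A B)) B :=
    IsScalarTower.toAlgHom A B (AdicCompletion (I.map (algebraMap A B)) B)
  let f : C ⊗[A] B →ₐ[C] AdicCompletion (Ideal.map (algebraMap A C) I) C :=
    Algebra.TensorProduct.lift (Algebra.ofId C (AdicCompletion (Ideal.map (algebraMap A C) I) C)) (φ.comp ofB)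
      (fun _ _ => Commute.all _ _)
  obtain ⟨M, rfl⟩ : ∃ M, N = M + 1 := ⟨N - 1, by omega⟩
  obtain ⟨C', _, _, hEt, hbij, ψ₀, σ, hσ⟩ := exists_etale_algHom_approx C (Ideal.map (algebraMap A C) I) hpopC (C ⊗[A] B) f M
  let algAC' : Algebra A C' := ((algebraMap C C').comp (algebraMap A C)).toAlgebra
  have tower : IsScalarTower A C C' := IsScalarTower.of_algebraMap_eq (fun _ => rfl)
  have hmap : I.map (algebraMap A C') = (Ideal.map (algebraMap A C) I).map (algebraMap C C') := by
    rw [Ideal.map_map]; rfl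
  let ψ : B →ₐ[A] C' :=
    (σ.restrictScalars A).comp (Algebra.TensorProduct.includeRight : B →ₐ[A] C ⊗[A] B)
  refine ⟨C', inferInstance, inferInstance, algAC', tower, hEt, ψ, ⟨?_, ?_⟩, ?_⟩
  · intro c'
    obtain ⟨c, hc⟩ := surj_mod (Ideal.map (algebraMap A C) I) (M + 1) hN hbij c'
    exact ⟨c, by rw [hmap]; exact pow_map_le (Ideal.map (algebraMap A C) I) (M + 1) hN hc⟩
  · intro c hc
    rw [hmap] at hc
    exact inj_mod (Ideal.map (algebraMap A C) I) (M + 1) hN hbij c hc
  · intro b
    obtain ⟨c, hc⟩ := surj_mod (Ideal.map (algebraMap A C) I) (M + 1) hN hbij (ψ b)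
    refine ⟨c, ?_, ?_⟩
    · rw [hmap, ← Ideal.map_pow]
      have : ψ b - algebraMap C C' c = -(algebraMap C C' c - ψ b) := by ring
      rw [this]; exact neg_mem hc
    · -- `φ (of b) - of c ∈ (Ideal.map (algebraMap A C) I)^(M+1) C^`
      have h1 : f ((1 : C) ⊗ₜ[A] b) = φ (AdicCompletion.of (I.map (algebraMap A B)) B b) := by
        simp only [f, Algebra.TensorProduct.lift_tmul, map_one, one_mul, AlgHom.comp_apply, ofB]
        rfl
      have h2 := hσ ((1 : C) ⊗ₜ[A] b)
      rw [h1] at h2
      have h3 : ψ₀ (ψ b) - algebraMap C (AdicCompletion (Ideal.map (algebraMap A C) I) C) c ∈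
          ((Ideal.map (algebraMap A C) I) ^ (M + 1)).map (algebraMap C (AdicCompletion (Ideal.map (algebraMap A C) I) C)) := by
        rw [← ψ₀.commutes c, ← map_sub]
        have h4 : ψ b - algebraMap C C' c ∈ ((Ideal.map (algebraMap A C) I) ^ (M + 1)).map (algebraMap C C') := by
          have : ψ b - algebraMap C C' c = -(algebraMap C C' c - ψ b) := by ring
          rw [this]; exact neg_mem hc
        have hle : ((Ideal.map (algebraMap A C) I) ^ (M + 1)).map (algebraMap C C') ≤
            (((Ideal.map (algebraMap A C) I) ^ (M + 1)).map (algebraMap C (AdicCompletion (Ideal.map (algebraMap A C) I) C))).comap ψ₀ := by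
          rw [Ideal.map_le_iff_le_comap]
          intro z hz
          change ψ₀ (algebraMap C C' z) ∈
            ((Ideal.map (algebraMap A C) I) ^ (M + 1)).map (algebraMap C (AdicCompletion (Ideal.map (algebraMap A C) I) C))
          rw [ψ₀.commutes]
          exact Ideal.mem_map_of_mem _ hz
        exact hle h4
      have h5 : φ (AdicCompletion.of (I.map (algebraMap A B)) B b) -
          algebraMap C (AdicCompletion (Ideal.map (algebraMap A C) I) C) c ∈
          ((Ideal.map (algebraMap A C) I) ^ (M + 1)).map (algebraMap C (AdicCompletion (Ideal.map (algebraMap A C) I) C)) := by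
        have : φ (AdicCompletion.of (I.map (algebraMap A B)) B b) -
            algebraMap C (AdicCompletion (Ideal.map (algebraMap A C) I) C) c =
            (φ (AdicCompletion.of (I.map (algebraMap A B)) B b) - ψ₀ (σ ((1 : C) ⊗ₜ[A] b))) +
            (ψ₀ (ψ b) - algebraMap C (AdicCompletion (Ideal.map (algebraMap A C) I) C) c) := by
          change _ = _ + (ψ₀ (σ ((1 : C) ⊗ₜ[A] b)) - _)
          ring
        rw [this]; exact add_mem h2 h3
      -- evaluate
      have hker : ∀ z ∈ ((Ideal.map (algebraMap A C) I) ^ (M + 1)).map (algebraMap C (AdicCompletion (Ideal.map (algebraMap A C) I) C)),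
          AdicCompletion.evalₐ (Ideal.map (algebraMap A C) I) (M + 1) z = 0 := by
        intro z hz
        have h6 := Ideal.mem_map_of_mem (AdicCompletion.evalₐ (Ideal.map (algebraMap A C) I) (M + 1)).toRingHom hz
        have h7 : ((AdicCompletion.evalₐ (Ideal.map (algebraMap A C) I) (M + 1)).toRingHom.comp
            (algebraMap C (AdicCompletion (Ideal.map (algebraMap A C) I) C))) = Ideal.Quotient.mk ((Ideal.map (algebraMap A C) I) ^ (M + 1)) := by
          ext w
          exact (AdicCompletion.evalₐ (Ideal.map (algebraMap A C) I) (M + 1)).commutes w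
        rw [Ideal.map_map, h7, Ideal.map_quotient_self] at h6
        exact h6
      have h8 := hker _ h5
      rw [map_sub, sub_eq_zero] at h8
      have h9 : algebraMap C (AdicCompletion (Ideal.map (algebraMap A C) I) C) c = AdicCompletion.of (Ideal.map (algebraMap A C) I) C c := rfl
      rw [h9, AdicCompletion.evalₐ_of] at h8
      have hle : (Ideal.map (algebraMap A C) I) ^ (M + 1) ≤ ((Ideal.map (algebraMap A C) I) ^ (M + 1) • ⊤ : Ideal C) := by
        rw [smul_eq_mul, Ideal.mul_top]
      rw [← AdicCompletion.factor_evalₐ_eq_eval (Ideal.map (algebraMap A C) I) _ hle, h8]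
      rfl

end main

end Groth.Agent.Lib.Helper86.EtNbhd
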