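import Mathlib
import Groth.Prelude
import Groth.Agent.Lib.Helper31.ComplBij
import Groth.Agent.Lib.Helper31.LocComplIso
import Groth.Agent.Lib.Helper71.FibreCritNoeth

/-! Algebra for S7203 (helper86): a local homomorphism approximating an isomorphism of completions
is flat and unramified. -/

set_option autoImplicit false
universe u
open IsLocalRing

namespace Groth.Agent.Lib.Helper86.EtNbhdIso

open Groth.Agent.Lib.Helper31

section S1

variable {A L : Type u} [CommRing A] [CommRing L] [IsLocalRing A] [IsLocalRing L]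

/-- Surjectivity modulo all powers of the maximal ideal for an unramified local map with trivial
residue field extension. -/
theorem exists_sub_mem_pow (g : A →+* L) (hm : (maximalIdeal A).map g = maximalIdeal L)
    (hres : ∀ w : L, ∃ a : A, w - g a ∈ maximalIdeal L) (n : ℕ) (w : L) :
    ∃ a : A, w - g a ∈ maximalIdeal L ^ n := by
  induction n generalizing w with
  | zero => exact ⟨0, by rw [pow_zero, Ideal.one_eq_top]; trivial⟩
  | succ n ih =>
    obtain ⟨a₀, ha₀⟩ := ih w
    have key : ∀ v ∈ (maximalIdeal A ^ n).map g, ∃ a : A, v - g a ∈ maximalIdeal L ^ (n + 1) := by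
      intro v hv
      have hvn : ∀ v ∈ (maximalIdeal A ^ n).map g, v ∈ maximalIdeal L ^ n := by
        intro v hv
        rw [Ideal.map_pow, hm] at hv
        exact hv
      refine Submodule.span_induction (p := fun v _ => ∃ a : A, v - g a ∈ maximalIdeal L ^ (n + 1))
        ?_ ?_ ?_ ?_ hv
      · rintro _ ⟨a, _, rfl⟩
        exact ⟨a, by rw [sub_self]; exact zero_mem _⟩
      · exact ⟨0, by rw [map_zero, sub_self]; exact zero_mem _⟩
      · rintro v₁ v₂ _ _ ⟨a₁, h₁⟩ ⟨a₂, h₂⟩
        refine ⟨a₁ + a₂, ?_⟩
        have : v₁ + v₂ - g (a₁ + a₂) = (v₁ - g a₁) + (v₂ - g a₂) := by rw [map_add]; ring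
        rw [this]; exact add_mem h₁ h₂
      · rintro l v hv' ⟨a, ha⟩
        obtain ⟨c, hc⟩ := hres l
        refine ⟨c * a, ?_⟩
        have : l • v - g (c * a) = g c * (v - g a) + (l - g c) * v := by
          rw [map_mul, smul_eq_mul]; ring
        rw [this]
        refine add_mem (Ideal.mul_mem_left _ _ ha) ?_
        rw [pow_succ']
        exact Ideal.mul_mem_mul hc (hvn v hv')
    have hv : w - g a₀ ∈ (maximalIdeal A ^ n).map g := by
      rw [Ideal.map_pow, hm]; exact ha₀
    obtain ⟨a₁, ha₁⟩ := key _ hv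
    refine ⟨a₀ + a₁, ?_⟩
    have : w - g (a₀ + a₁) = w - g a₀ - g a₁ := by rw [map_add]; ring
    rw [this]; exact ha₁

end S1

section S4

/-- A surjective ring endomorphism of a Noetherian ring is injective. -/
theorem injective_of_surjective_ringEnd {R : Type u} [CommRing R] [IsNoetherianRing R]
    (h : R →+* R) (hs : Function.Surjective h) : Function.Injective h := by
  let K : ℕ →o Ideal R :=
    ⟨fun n => RingHom.ker (h ^ n), by
      intro m n hmn x hx
      rw [RingHom.mem_ker] at hx ⊢
      obtain ⟨k, rfl⟩ := Nat.exists_eq_add_of_le hmn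
      rw [add_comm, pow_add]
      show (h ^ k) ((h ^ m) x) = 0
      rw [hx, map_zero]⟩
  obtain ⟨n, hn⟩ := monotone_stabilizes_iff_noetherian.2 inferInstance K
  rw [injective_iff_map_eq_zero]
  intro x hx
  have hsn : Function.Surjective (h ^ n) := by
    rw [RingHom.coe_pow]
    exact hs.iterate n
  obtain ⟨y, rfl⟩ := hsn x
  have h1 : y ∈ K (n + 1) := by
    show y ∈ RingHom.ker (h ^ (n + 1))
    rw [RingHom.mem_ker, pow_succ']
    exact hx
  rw [← hn (n + 1) (Nat.le_succ n)] at h1
  exact h1

end S4


section S3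

variable {A L : Type u} [CommRing A] [CommRing L] [IsLocalRing A] [IsLocalRing L]

open Groth.Agent.Lib.Helper31

/-- the maps `A/m^n → L/m^n` are surjective for an unramified map with trivial residue ext. -/
theorem gq_surjective (g : A →+* L) (hm : (maximalIdeal A).map g = maximalIdeal L)
    (hres : ∀ w : L, ∃ a : A, w - g a ∈ maximalIdeal L) (n : ℕ) :
    Function.Surjective (ComplBij.gq (maximalIdeal A) (maximalIdeal L) g hm.le n) := by
  intro y
  obtain ⟨w, rfl⟩ := Ideal.Quotient.mk_surjective y
  obtain ⟨a, ha⟩ := exists_sub_mem_pow g hm hres n w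
  refine ⟨Ideal.Quotient.mk _ a, ?_⟩
  rw [Ideal.quotientMap_mk]
  exact (Ideal.Quotient.eq.2 ha).symm

/-- the maps `A/m^n → L/m^n` are injective for a flat local map with `m_A L = m_L`. -/
theorem gq_injective (g : A →+* L) (hm : (maximalIdeal A).map g = maximalIdeal L)
    (hflat : g.Flat) (n : ℕ) :
    Function.Injective (ComplBij.gq (maximalIdeal A) (maximalIdeal L) g hm.le n) := by
  let _ : Algebra A L := g.toAlgebra
  have hfl : Module.Flat A L := hflat
  have hloc : IsLocalHom (algebraMap A L) := by
    refine ⟨fun a ha => ?_⟩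
    by_contra hna
    have h1 : a ∈ maximalIdeal A := (IsLocalRing.mem_maximalIdeal a).2 hna
    have h2 : g a ∈ maximalIdeal L := by
      rw [← hm]; exact Ideal.mem_map_of_mem g h1
    exact ((IsLocalRing.mem_maximalIdeal _).1 h2) ha
  have hff : Module.FaithfullyFlat A L := Module.FaithfullyFlat.of_flat_of_isLocalHom
  rw [injective_iff_map_eq_zero]
  intro x hx
  obtain ⟨a, rfl⟩ := Ideal.Quotient.mk_surjective x
  rw [Ideal.quotientMap_mk, Ideal.Quotient.eq_zero_iff_mem, ← hm, ← Ideal.map_pow] at hx
  rw [Ideal.Quotient.eq_zero_iff_mem]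
  have := Ideal.comap_map_eq_self_of_faithfullyFlat (B := L) (maximalIdeal A ^ n)
  rw [← this]
  exact hx

end S3

section S5

variable {A B : Type u} [CommRing A] [CommRing B] [IsLocalRing A] [IsLocalRing B]
  [IsNoetherianRing A] [IsNoetherianRing B]

/-- a ring isomorphism between the completions preserves the powers of the maximal ideals. -/
theorem map_pow_mem (ψ : AdicCompletion (maximalIdeal B) B ≃+* AdicCompletion (maximalIdeal A) A)
    (n : ℕ) (z : AdicCompletion (maximalIdeal B) B)
    (hz : z ∈ (maximalIdeal B ^ n).map (algebraMap B (AdicCompletion (maximalIdeal B) B))) :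
    ψ z ∈ (maximalIdeal A ^ n).map (algebraMap A (AdicCompletion (maximalIdeal A) A)) := by
  rw [Ideal.map_pow, ← AdicCompletion.maximalIdeal_eq_map] at hz ⊢
  have hle : maximalIdeal (AdicCompletion (maximalIdeal B) B) ≤
      (maximalIdeal (AdicCompletion (maximalIdeal A) A)).comap (ψ : _ →+* _) := by
    intro w hw
    rw [Ideal.mem_comap, IsLocalRing.mem_maximalIdeal, mem_nonunits_iff] at *
    intro hu
    apply hw
    have := hu.map ψ.symm.toRingHom
    simpa using this
  have h2 : maximalIdeal (AdicCompletion (maximalIdeal B) B) ^ n ≤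
      (maximalIdeal (AdicCompletion (maximalIdeal A) A) ^ n).comap (ψ : _ →+* _) := by
    rw [← Ideal.map_le_iff_le_comap, Ideal.map_pow]
    exact Ideal.pow_right_mono (Ideal.map_le_iff_le_comap.2 hle) n
  exact h2 hz

/-- the map `B/m^n → A/m^n` induced by an isomorphism of completions -/
noncomputable def rhoN (ψ : AdicCompletion (maximalIdeal B) B ≃+* AdicCompletion (maximalIdeal A) A)
    (n : ℕ) : B ⧸ maximalIdeal B ^ n →+* A ⧸ maximalIdeal A ^ n :=
  Ideal.Quotient.lift (maximalIdeal B ^ n)
    ((AdicCompletion.evalₐ (maximalIdeal A) n).toRingHom.comp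
      ((ψ : _ →+* _).comp (algebraMap B (AdicCompletion (maximalIdeal B) B))))
    (by
      intro b hb
      have h1 := map_pow_mem ψ n _ (Ideal.mem_map_of_mem (algebraMap B _) hb)
      rw [← LocComplIso.ker_evalₐ (maximalIdeal A) n (maximalIdeal A).fg_of_isNoetherianRing] at h1
      exact h1)

theorem rhoN_mk (ψ : AdicCompletion (maximalIdeal B) B ≃+* AdicCompletion (maximalIdeal A) A)
    (n : ℕ) (b : B) : rhoN ψ n (Ideal.Quotient.mk _ b) =
      AdicCompletion.evalₐ (maximalIdeal A) n (ψ (algebraMap B _ b)) := rfl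

theorem rhoN_surjective
    (ψ : AdicCompletion (maximalIdeal B) B ≃+* AdicCompletion (maximalIdeal A) A) (n : ℕ) :
    Function.Surjective (rhoN ψ n) := by
  intro y
  obtain ⟨a, rfl⟩ := Ideal.Quotient.mk_surjective y
  obtain ⟨b, hb⟩ := LocComplIso.hsurj_adic (maximalIdeal B) (maximalIdeal B).fg_of_isNoetherianRing n
    (ψ.symm (algebraMap A _ a))
  refine ⟨Ideal.Quotient.mk _ b, ?_⟩
  rw [rhoN_mk]
  have h1 := map_pow_mem ψ n _ hb
  rw [map_sub, RingEquiv.apply_symm_apply,
    ← LocComplIso.ker_evalₐ (maximalIdeal A) n (maximalIdeal A).fg_of_isNoetherianRing,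
    RingHom.mem_ker] at h1
  have h2 : AdicCompletion.evalₐ (maximalIdeal A) n (algebraMap A _ a - ψ (algebraMap B _ b)) = 0 :=
    h1
  rw [map_sub, sub_eq_zero, AlgHom.commutes] at h2
  exact h2.symm

end S5


section S6

variable {A B L : Type u} [CommRing A] [CommRing B] [CommRing L] [IsLocalRing A] [IsLocalRing B]
  [IsLocalRing L] [IsNoetherianRing A] [IsNoetherianRing B] [IsNoetherianRing L]

open Groth.Agent.Lib.Helper18

/-- A local map all of whose truncations are bijective is flat. -/
theorem flat_of_gq_bijective (τ : A →+* L) (hle : (maximalIdeal A).map τ ≤ maximalIdeal L)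
    (hbij : ∀ n, Function.Bijective (ComplBij.gq (maximalIdeal A) (maximalIdeal L) τ hle n)) :
    τ.Flat := by
  let _ : Algebra A L := τ.toAlgebra
  have hloc : IsLocalHom (algebraMap A L) := by
    refine ⟨fun a ha => ?_⟩
    by_contra hna
    have h1 : a ∈ maximalIdeal A := (IsLocalRing.mem_maximalIdeal a).2 hna
    have h2 : τ a ∈ maximalIdeal L := hle (Ideal.mem_map_of_mem τ h1)
    exact ((IsLocalRing.mem_maximalIdeal _).1 h2) ha
  have hb := ComplBij.complMap_bijective (maximalIdeal A) (maximalIdeal L) τ hle hbij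
  let e := RingEquiv.ofBijective _ hb
  let el : AdicCompletion (maximalIdeal A) A ≃ₗ[A] AdicCompletion (maximalIdeal L) L :=
    { e.toAddEquiv with
      map_smul' := fun a z => by
        show FSch.complMap (maximalIdeal A) (maximalIdeal L) τ hle (a • z) =
          a • FSch.complMap (maximalIdeal A) (maximalIdeal L) τ hle z
        rw [Algebra.smul_def, map_mul, AdicCompletion.algebraMap_apply, Algebra.algebraMap_self,
          RingHom.id_apply, complMap_of, ← IsScalarTower.algebraMap_smul L a
            (FSch.complMap (maximalIdeal A) (maximalIdeal L) τ hle z), Algebra.smul_def,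
          AdicCompletion.algebraMap_apply, Algebra.algebraMap_self, RingHom.id_apply]
        rfl }
  have hfl : Module.Flat A (AdicCompletion (maximalIdeal L) L) := Module.Flat.of_linearEquiv el.symm
  have hff : Module.FaithfullyFlat L (AdicCompletion (maximalIdeal L) L) :=
    Module.FaithfullyFlat.of_flat_of_isLocalHom
  exact Groth.Agent.Lib.Helper71.FibreCritNoeth.flat_base_of_faithfullyFlat
    (AdicCompletion (maximalIdeal L) L)

end S6


section S7

variable {A B L : Type u} [CommRing A] [CommRing B] [CommRing L] [IsLocalRing A] [IsLocalRing B]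
  [IsLocalRing L] [IsNoetherianRing A] [IsNoetherianRing B] [IsNoetherianRing L]

/-- **Main algebraic lemma for S7203**: if `τ : A → L` agrees modulo `m_L^N` (`N ≥ 2`) with
`ε ∘ φ`, where `φ : A^ ≃ B^` and `ε : B → L` is flat, unramified with trivial residue field
extension, then `τ` is flat, unramified, with trivial residue field extension. -/
theorem flat_unramified_of_approx (τ : A →+* L) (ε : B →+* L)
    (φ : AdicCompletion (maximalIdeal A) A ≃+* AdicCompletion (maximalIdeal B) B)
    (hεm : (maximalIdeal B).map ε = maximalIdeal L) (hεflat : ε.Flat)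
    (hεres : ∀ w : L, ∃ c : B, w - ε c ∈ maximalIdeal L)
    (hτloc : ∀ a ∈ maximalIdeal A, τ a ∈ maximalIdeal L)
    (N : ℕ) (hN : 2 ≤ N)
    (happrox : ∀ (a : A) (c : B),
      AdicCompletion.evalₐ (maximalIdeal B) N (φ (algebraMap A _ a)) = Ideal.Quotient.mk _ c →
      Ideal.Quotient.mk (maximalIdeal L ^ N) (τ a) = Ideal.Quotient.mk (maximalIdeal L ^ N) (ε c)) :
    (maximalIdeal A).map τ = maximalIdeal L ∧ (∀ w : L, ∃ a : A, w - τ a ∈ maximalIdeal L) ∧
      τ.Flat := by
  have hle : (maximalIdeal A).map τ ≤ maximalIdeal L := Ideal.map_le_iff_le_comap.2 hτloc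
  -- Step 1
  have key : ∀ w : L, ∃ a : A, w - τ a ∈ maximalIdeal L ^ 2 := by
    intro w
    obtain ⟨c₀, hc₀⟩ := exists_sub_mem_pow ε hεm hεres 2 w
    obtain ⟨a, ha⟩ := LocComplIso.hsurj_adic (maximalIdeal A)
      (maximalIdeal A).fg_of_isNoetherianRing N (φ.symm (algebraMap B _ c₀))
    have h1 := map_pow_mem (A := B) (B := A) φ N _ ha
    rw [map_sub, RingEquiv.apply_symm_apply,
      ← LocComplIso.ker_evalₐ (maximalIdeal B) N (maximalIdeal B).fg_of_isNoetherianRing,
      RingHom.mem_ker] at h1
    have h2 : AdicCompletion.evalₐ (maximalIdeal B) N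
        (algebraMap B _ c₀ - φ (algebraMap A _ a)) = 0 := h1
    rw [map_sub, sub_eq_zero, AlgHom.commutes] at h2
    have h3 := happrox a c₀ h2.symm
    rw [Ideal.Quotient.eq] at h3
    refine ⟨a, ?_⟩
    have h4 : w - τ a = (w - ε c₀) - (τ a - ε c₀) := by ring
    rw [h4]
    exact sub_mem hc₀ (Ideal.pow_le_pow_right hN h3)
  have hres : ∀ w : L, ∃ a : A, w - τ a ∈ maximalIdeal L := by
    intro w
    obtain ⟨a, ha⟩ := key w
    exact ⟨a, Ideal.pow_le_self (by norm_num) ha⟩
  -- Step 2: `m_A L = m_L`
  have hm : (maximalIdeal A).map τ = maximalIdeal L := by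
    refine le_antisymm hle ?_
    apply Submodule.le_of_le_smul_of_le_jacobson_bot (I := maximalIdeal L)
      (maximalIdeal L).fg_of_isNoetherianRing
    · rw [IsLocalRing.jacobson_eq_maximalIdeal ⊥ bot_ne_top]
    · intro w hw
      obtain ⟨a, ha⟩ := key w
      have ha' : a ∈ maximalIdeal A := by
        rw [IsLocalRing.mem_maximalIdeal, mem_nonunits_iff]
        intro hu
        have h1 : τ a ∈ maximalIdeal L := by
          have := sub_mem hw (Ideal.pow_le_self (by norm_num) ha)
          rwa [sub_sub_cancel] at this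
        exact ((IsLocalRing.mem_maximalIdeal _).1 h1) (hu.map τ)
      have : w = τ a + (w - τ a) := by ring
      rw [this]
      refine Submodule.add_mem_sup (Ideal.mem_map_of_mem τ ha') ?_
      rw [smul_eq_mul, ← pow_two]
      exact ha
  refine ⟨hm, hres, ?_⟩
  -- Step 3: truncations are bijective
  apply flat_of_gq_bijective τ hle
  intro n
  have hsurj : Function.Surjective (ComplBij.gq (maximalIdeal A) (maximalIdeal L) τ hle n) :=
    gq_surjective τ hm hres n
  refine ⟨?_, hsurj⟩
  have hεbij : Function.Bijective (ComplBij.gq (maximalIdeal B) (maximalIdeal L) ε hεm.le n) :=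
    ⟨gq_injective ε hεm hεflat n, gq_surjective ε hεm hεres n⟩
  let εe := RingEquiv.ofBijective _ hεbij
  let χ : L ⧸ maximalIdeal L ^ n →+* A ⧸ maximalIdeal A ^ n :=
    (rhoN φ.symm n).comp (εe.symm : _ →+* _)
  have hχ : Function.Surjective χ := (rhoN_surjective φ.symm n).comp εe.symm.surjective
  have hcomp : Function.Injective (χ.comp (ComplBij.gq (maximalIdeal A) (maximalIdeal L) τ hle n)) :=
    injective_of_surjective_ringEnd _ (hχ.comp hsurj)
  have hcomp' : Function.Injective (⇑χ ∘ ⇑(ComplBij.gq (maximalIdeal A) (maximalIdeal L) τ hle n)) := by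
    rw [← RingHom.coe_comp]; exact hcomp
  exact Function.Injective.of_comp hcomp'

end S7

end Groth.Agent.Lib.Helper86.EtNbhdIso
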