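import Mathlib
import Groth.Prelude
import Groth.Agent.Lib.Helper31.ArtinApproxEtaleLoc

/-! S7202 modulo Popescu, algebra part (helper86): étale neighbourhoods at a prime approximating a
map of a finitely presented algebra into the completion of a local ring. -/

set_option autoImplicit false
universe u
open IsLocalRing

namespace Groth.Agent.Lib.Helper86.EtNbhdSch

open Groth.Agent.Lib.Helper31 Groth.Agent.Lib.Helper31.ArtinApprox

/-- `atPrime_etale_approx` of helper31 for an arbitrary model `Rp` of the localization at `p`. -/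
theorem atPrime_etale_approx' {R : Type u} [CommRing R] [IsNoetherianRing R]
    (p : Ideal R) [p.IsPrime] (Rp : Type u) [CommRing Rp] [Algebra R Rp]
    [IsLocalization.AtPrime Rp p] [IsLocalRing Rp]
    (hpop : PopescuFor Rp (AdicCompletion (maximalIdeal Rp) Rp))
    {n m : ℕ} (F : Fin m → MvPolynomial (Fin n) R)
    (a : Fin n → AdicCompletion (maximalIdeal Rp) Rp)
    (ha : ∀ j, MvPolynomial.aeval a (MvPolynomial.map (algebraMap R Rp) (F j)) = 0) (N : ℕ) :
    ∃ (R' : Type u) (_ : CommRing R') (_ : Algebra R R'), Algebra.Etale R R' ∧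
      ∃ (ψ : R' →+* AdicCompletion (maximalIdeal Rp) Rp)
        (p' : Ideal R'), p'.IsPrime ∧
        (∀ r : R, ψ (algebraMap R R' r) = algebraMap Rp _ (algebraMap R Rp r)) ∧
        p'.comap (algebraMap R R') = p ∧
        (∀ x : R', ∃ r s : R, s ∉ p ∧ algebraMap R R' s * x - algebraMap R R' r ∈ p') ∧
        (∀ x ∈ p', ψ x ∈ (maximalIdeal Rp).map
          (algebraMap Rp (AdicCompletion (maximalIdeal Rp) Rp))) ∧
        ∃ b : Fin n → R', (∀ j, MvPolynomial.aeval b (F j) = 0) ∧
          ∀ i, a i - ψ (b i) ∈ (maximalIdeal Rp ^ N).map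
            (algebraMap Rp (AdicCompletion (maximalIdeal Rp) Rp)) := by
  have : IsNoetherianRing Rp := IsLocalization.isNoetherianRing p.primeCompl _ inferInstance
  obtain ⟨E, _, _, hE, ψ₁, m', hm', hcomap, hres, hψm, b₁, hb₁, hab₁⟩ :=
    local_etale_approx Rp hpop (fun j => MvPolynomial.map (algebraMap R Rp) (F j)) a ha N
  let _ : Algebra R E := ((algebraMap Rp E).comp (algebraMap R Rp)).toAlgebra
  have : IsScalarTower R Rp E := IsScalarTower.of_algebraMap_eq (fun _ => rfl)
  have hb₁' : ∀ j, MvPolynomial.aeval b₁ (F j) = 0 := by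
    intro j
    rw [← MvPolynomial.aeval_map_algebraMap Rp]
    exact hb₁ j
  obtain ⟨R', _, _, hR', ι, b, hb, hιb⟩ :=
    EtaleSpread.exists_etale_solution p.primeCompl Rp E F b₁ hb₁'
  refine ⟨R', inferInstance, inferInstance, hR', ψ₁.toRingHom.comp ι.toRingHom,
    m'.comap ι, Ideal.comap_isPrime _ _, ?_, ?_, ?_, ?_, b, hb, ?_⟩
  · intro r
    show ψ₁ (ι (algebraMap R R' r)) = _
    rw [ι.commutes, IsScalarTower.algebraMap_apply R Rp E, ψ₁.commutes]
  · ext r
    rw [Ideal.mem_comap, Ideal.mem_comap, ι.commutes,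
      IsScalarTower.algebraMap_apply R Rp E, ← Ideal.mem_comap, hcomap,
      ← Ideal.mem_comap]
    have := IsLocalization.AtPrime.under_maximalIdeal Rp p
    rw [Ideal.under_def] at this
    rw [this]
  · intro x
    obtain ⟨y, hy⟩ := hres (ι x)
    obtain ⟨⟨r, s⟩, hrs⟩ := IsLocalization.surj p.primeCompl y
    refine ⟨r, s, s.2, ?_⟩
    rw [Ideal.mem_comap, map_sub, map_mul, ι.commutes, ι.commutes,
      IsScalarTower.algebraMap_apply R Rp E,
      IsScalarTower.algebraMap_apply R Rp E r, ← hrs, map_mul]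
    have : algebraMap Rp E (algebraMap R Rp s) * ι x -
        algebraMap Rp E y *
          algebraMap Rp E (algebraMap R Rp s) =
        algebraMap Rp E (algebraMap R Rp s) *
          (ι x - algebraMap Rp E y) := by ring
    rw [this]
    exact Ideal.mul_mem_left _ _ hy
  · intro x hx
    exact hψm (ι x) hx
  · intro i
    show a i - ψ₁ (ι (b i)) ∈ _
    rw [hιb]
    exact hab₁ i

/-- Finitely presented algebra version of `atPrime_etale_approx'`. -/
theorem exists_etale_ringHom_atPrime {A₀ R P : Type u} [CommRing A₀] [CommRing R] [CommRing P]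
    [Algebra A₀ R] [Algebra A₀ P] [IsNoetherianRing R] [Algebra.FinitePresentation A₀ P]
    (p : Ideal R) [p.IsPrime] (Rp : Type u) [CommRing Rp] [Algebra R Rp]
    [IsLocalization.AtPrime Rp p] [IsLocalRing Rp]
    (hpop : PopescuFor Rp (AdicCompletion (maximalIdeal Rp) Rp))
    (g : P →+* AdicCompletion (maximalIdeal Rp) Rp)
    (hg : ∀ a : A₀, g (algebraMap A₀ P a) =
      algebraMap Rp _ (algebraMap R Rp (algebraMap A₀ R a))) (N : ℕ) :
    ∃ (R' : Type u) (_ : CommRing R') (_ : Algebra R R'), Algebra.Etale R R' ∧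
      ∃ (ψ : R' →+* AdicCompletion (maximalIdeal Rp) Rp)
        (p' : Ideal R'), p'.IsPrime ∧
        (∀ r : R, ψ (algebraMap R R' r) = algebraMap Rp _ (algebraMap R Rp r)) ∧
        p'.comap (algebraMap R R') = p ∧
        (∀ x : R', ∃ r s : R, s ∉ p ∧ algebraMap R R' s * x - algebraMap R R' r ∈ p') ∧
        (∀ x ∈ p', ψ x ∈ (maximalIdeal Rp).map
          (algebraMap Rp (AdicCompletion (maximalIdeal Rp) Rp))) ∧
        ∃ σ : P →+* R', (∀ a : A₀, σ (algebraMap A₀ P a) = algebraMap R R' (algebraMap A₀ R a)) ∧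
          ∀ z : P, g z - ψ (σ z) ∈ (maximalIdeal Rp ^ N).map
            (algebraMap Rp (AdicCompletion (maximalIdeal Rp) Rp)) := by
  classical
  obtain ⟨n, f, hf, s, hs⟩ := Algebra.FinitePresentation.out (R := A₀) (A := P)
  let F₀ : Fin s.card → MvPolynomial (Fin n) A₀ := fun j => (s.equivFin.symm j : MvPolynomial (Fin n) A₀)
  have hF₀ : Ideal.span (Set.range F₀) = RingHom.ker f.toRingHom := by
    rw [← hs]
    congr 1
    ext x
    constructor
    · rintro ⟨j, rfl⟩
      exact (s.equivFin.symm j).2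
    · intro hx
      exact ⟨s.equivFin ⟨x, hx⟩, by simp [F₀]⟩
  let F : Fin s.card → MvPolynomial (Fin n) R := fun j => MvPolynomial.map (algebraMap A₀ R) (F₀ j)
  let a : Fin n → AdicCompletion (maximalIdeal Rp) Rp := fun i => g (f (MvPolynomial.X i))
  have hcomp : ((MvPolynomial.aeval a : MvPolynomial (Fin n) Rp →ₐ[Rp] _).toRingHom.comp
      ((MvPolynomial.map (algebraMap R Rp)).comp (MvPolynomial.map (algebraMap A₀ R)))) =
      g.comp f.toRingHom := by
    apply MvPolynomial.ringHom_ext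
    · intro c
      simp only [RingHom.comp_apply, MvPolynomial.map_C, AlgHom.toRingHom_eq_coe, RingHom.coe_coe,
        MvPolynomial.aeval_C]
      rw [← MvPolynomial.algebraMap_eq, f.commutes, hg]
    · intro i
      simp [a]
  have ha : ∀ j, MvPolynomial.aeval a (MvPolynomial.map (algebraMap R Rp) (F j)) = 0 := by
    intro j
    have h1 := DFunLike.congr_fun hcomp (F₀ j)
    have h2 : f (F₀ j) = 0 := by
      have : F₀ j ∈ RingHom.ker f.toRingHom := by
        rw [← hF₀]; exact Ideal.subset_span ⟨j, rfl⟩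
      exact this
    simp only [RingHom.comp_apply, AlgHom.toRingHom_eq_coe, RingHom.coe_coe] at h1
    rw [h2, map_zero] at h1
    exact h1
  obtain ⟨R', _, _, hR', ψ, p', hp', hψ, hcomap, hres, hψm, b, hb, hab⟩ :=
    atPrime_etale_approx' p Rp hpop F a ha N
  refine ⟨R', inferInstance, inferInstance, hR', ψ, p', hp', hψ, hcomap, hres, hψm, ?_⟩
  let σ₀ : MvPolynomial (Fin n) A₀ →+* R' :=
    MvPolynomial.eval₂Hom ((algebraMap R R').comp (algebraMap A₀ R)) b
  have hσ₀F : ∀ j, σ₀ (F₀ j) = 0 := by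
    intro j
    have := hb j
    simp only [F, MvPolynomial.aeval_def, MvPolynomial.eval₂_map] at this
    exact this
  have hker : RingHom.ker f.toRingHom ≤ RingHom.ker σ₀ := by
    rw [← hF₀, Ideal.span_le]
    rintro _ ⟨j, rfl⟩
    exact hσ₀F j
  have hfs : Function.Surjective f.toRingHom := hf
  let σ : P →+* R' := f.toRingHom.liftOfSurjective hfs ⟨σ₀, hker⟩
  have hσ : ∀ x, σ (f x) = σ₀ x := fun x =>
    RingHom.liftOfSurjective_comp_apply f.toRingHom hfs ⟨σ₀, hker⟩ x
  refine ⟨σ, ?_, ?_⟩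
  · intro c
    rw [← f.commutes, hσ, MvPolynomial.algebraMap_eq]
    simp [σ₀]
  · intro z
    obtain ⟨w, rfl⟩ := hf z
    rw [hσ]
    set J := (maximalIdeal Rp ^ N).map (algebraMap Rp (AdicCompletion (maximalIdeal Rp) Rp)) with hJ
    have h12 : (Ideal.Quotient.mk J).comp (g.comp f.toRingHom) =
        (Ideal.Quotient.mk J).comp (ψ.comp σ₀) := by
      apply MvPolynomial.ringHom_ext
      · intro c
        simp only [RingHom.comp_apply, AlgHom.toRingHom_eq_coe, RingHom.coe_coe]
        congr 1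
        rw [← MvPolynomial.algebraMap_eq, f.commutes, hg]
        simp only [σ₀, MvPolynomial.algebraMap_eq, MvPolynomial.coe_eval₂Hom,
          MvPolynomial.eval₂_C, RingHom.comp_apply]
        rw [hψ]
      · intro i
        simp only [RingHom.comp_apply, AlgHom.toRingHom_eq_coe, RingHom.coe_coe]
        rw [Ideal.Quotient.eq]
        simp only [σ₀, MvPolynomial.coe_eval₂Hom, MvPolynomial.eval₂_X]
        exact hab i
    have := DFunLike.congr_fun h12 w
    simp only [RingHom.comp_apply, AlgHom.toRingHom_eq_coe, RingHom.coe_coe] at this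
    rwa [Ideal.Quotient.eq] at this


section compl

variable (Rp : Type u) [CommRing Rp] [IsLocalRing Rp]

theorem map_maximalIdeal_le_ker_evalₐ_one :
    (maximalIdeal Rp).map (algebraMap Rp (AdicCompletion (maximalIdeal Rp) Rp)) ≤
      RingHom.ker (AdicCompletion.evalₐ (maximalIdeal Rp) 1).toRingHom := by
  rw [Ideal.map_le_iff_le_comap]
  intro a ha
  rw [Ideal.mem_comap, RingHom.mem_ker]
  show AdicCompletion.evalₐ (maximalIdeal Rp) 1 (algebraMap Rp _ a) = 0
  rw [AlgHom.commutes, Ideal.Quotient.algebraMap_eq, Ideal.Quotient.eq_zero_iff_mem, pow_one]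
  exact ha

theorem not_isUnit_of_mem_map_maximalIdeal (x : AdicCompletion (maximalIdeal Rp) Rp)
    (hx : x ∈ (maximalIdeal Rp).map (algebraMap Rp (AdicCompletion (maximalIdeal Rp) Rp))) :
    ¬ IsUnit x := by
  intro hu
  have h0 : AdicCompletion.evalₐ (maximalIdeal Rp) 1 x = 0 :=
    map_maximalIdeal_le_ker_evalₐ_one Rp hx
  have h1 := hu.map (AdicCompletion.evalₐ (maximalIdeal Rp) 1)
  rw [h0] at h1
  have hnt : Nontrivial (Rp ⧸ maximalIdeal Rp ^ 1) := by
    rw [pow_one]; infer_instance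
  exact not_isUnit_zero h1

theorem mem_maximalIdeal_of_algebraMap_mem (a : Rp)
    (ha : algebraMap Rp (AdicCompletion (maximalIdeal Rp) Rp) a ∈
      (maximalIdeal Rp).map (algebraMap Rp (AdicCompletion (maximalIdeal Rp) Rp))) :
    a ∈ maximalIdeal Rp := by
  have h0 : AdicCompletion.evalₐ (maximalIdeal Rp) 1 (algebraMap Rp _ a) = 0 :=
    map_maximalIdeal_le_ker_evalₐ_one Rp ha
  rw [AlgHom.commutes, Ideal.Quotient.algebraMap_eq, Ideal.Quotient.eq_zero_iff_mem, pow_one] at h0
  exact h0

end compl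

/-- **Main algebraic statement** behind S7202. -/
theorem exists_etale_nbhd_alg {A₀ R P : Type u} [CommRing A₀] [CommRing R] [CommRing P]
    [Algebra A₀ R] [Algebra A₀ P] [IsNoetherianRing R] [Algebra.FinitePresentation A₀ P]
    (p : Ideal R) [p.IsPrime] (Rp : Type u) [CommRing Rp] [Algebra R Rp]
    [IsLocalization.AtPrime Rp p] [IsLocalRing Rp]
    (q : Ideal P) [q.IsPrime] (Pq : Type u) [CommRing Pq] [Algebra P Pq]
    [IsLocalization.AtPrime Pq q] [IsLocalRing Pq]
    (hpop : PopescuFor Rp (AdicCompletion (maximalIdeal Rp) Rp))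
    (φ : Pq →+* AdicCompletion (maximalIdeal Rp) Rp)
    (hφ : ∀ a : A₀, φ (algebraMap P Pq (algebraMap A₀ P a)) =
      algebraMap Rp _ (algebraMap R Rp (algebraMap A₀ R a)))
    (hloc : ∀ b ∈ maximalIdeal Pq, φ b ∈ (maximalIdeal Rp).map
      (algebraMap Rp (AdicCompletion (maximalIdeal Rp) Rp)))
    (N : ℕ) (hN : 1 ≤ N) :
    ∃ (R' : Type u) (_ : CommRing R') (_ : Algebra R R'), Algebra.Etale R R' ∧
      ∃ (p' : Ideal R'), p'.IsPrime ∧ p'.comap (algebraMap R R') = p ∧
        (∀ x : R', ∃ r s : R, s ∉ p ∧ algebraMap R R' s * x - algebraMap R R' r ∈ p') ∧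
        ∃ σ : P →+* R', (∀ a : A₀, σ (algebraMap A₀ P a) = algebraMap R R' (algebraMap A₀ R a)) ∧
          p'.comap σ = q ∧
          ∀ (L : Type u) [CommRing L] [IsLocalRing L] (ℓ : R' →+* L)
            (_ : ∀ z ∈ p', ℓ z ∈ maximalIdeal L) (ε : Rp →+* L)
            (_ : ∀ r : R, ε (algebraMap R Rp r) = ℓ (algebraMap R R' r)) (τ : Pq →+* L)
            (_ : ∀ z : P, τ (algebraMap P Pq z) = ℓ (σ z)) (b : Pq) (c : Rp),
            AdicCompletion.evalₐ (maximalIdeal Rp) N (φ b) =
              Ideal.Quotient.mk (maximalIdeal Rp ^ N) c →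
            Ideal.Quotient.mk (maximalIdeal L ^ N) (τ b) =
              Ideal.Quotient.mk (maximalIdeal L ^ N) (ε c) := by
  classical
  obtain ⟨R', _, _, hR', ψ, p', hp', hψ, hcomap, hres, hψm, σ, hσ, hgσ⟩ :=
    exists_etale_ringHom_atPrime (A₀ := A₀) (P := P) p Rp hpop (φ.comp (algebraMap P Pq))
      (fun a => hφ a) N
  have hJle : (maximalIdeal Rp ^ N).map (algebraMap Rp (AdicCompletion (maximalIdeal Rp) Rp)) ≤
      (maximalIdeal Rp).map (algebraMap Rp (AdicCompletion (maximalIdeal Rp) Rp)) :=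
    Ideal.map_mono (Ideal.pow_le_self (by omega))
  -- `ψ⁻¹(m^) ⊆ p'`
  have hψinv : ∀ x : R', ψ x ∈ (maximalIdeal Rp).map
      (algebraMap Rp (AdicCompletion (maximalIdeal Rp) Rp)) → x ∈ p' := by
    intro x hx
    obtain ⟨r, s, hs, hrs⟩ := hres x
    have h1 := hψm _ hrs
    rw [map_sub, map_mul, hψ, hψ] at h1
    have h2 : algebraMap Rp (AdicCompletion (maximalIdeal Rp) Rp) (algebraMap R Rp r) ∈
        (maximalIdeal Rp).map (algebraMap Rp (AdicCompletion (maximalIdeal Rp) Rp)) := by
      have h3 := Ideal.sub_mem _ (Ideal.mul_mem_left _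
        (algebraMap Rp (AdicCompletion (maximalIdeal Rp) Rp) (algebraMap R Rp s)) hx) h1
      rwa [sub_sub_cancel] at h3
    have h4 : algebraMap R Rp r ∈ maximalIdeal Rp := mem_maximalIdeal_of_algebraMap_mem Rp _ h2
    have h5 : r ∈ p := (IsLocalization.AtPrime.to_map_mem_maximal_iff Rp p r).1 h4
    have h6 : algebraMap R R' r ∈ p' := by rw [← hcomap] at h5; exact h5
    have h7 : algebraMap R R' s * x ∈ p' := by
      have := Ideal.add_mem _ hrs h6
      rwa [sub_add_cancel] at this
    rcases hp'.mem_or_mem h7 with h8 | h8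
    · exact absurd (by rw [← hcomap]; exact h8) hs
    · exact h8
  refine ⟨R', inferInstance, inferInstance, hR', p', hp', hcomap, hres, σ, hσ, ?_, ?_⟩
  · -- `σ⁻¹ p' = q`
    ext z
    rw [Ideal.mem_comap]
    constructor
    · intro hz
      by_contra hzq
      have hu : IsUnit (algebraMap P Pq z) := IsLocalization.map_units Pq (⟨z, hzq⟩ : q.primeCompl)
      have hu' : IsUnit (φ (algebraMap P Pq z)) := hu.map φ
      have h1 := hJle (hgσ z)
      have h2 := hψm _ hz
      have h3 := Ideal.add_mem _ h1 h2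
      rw [sub_add_cancel] at h3
      exact not_isUnit_of_mem_map_maximalIdeal Rp _ h3 hu'
    · intro hz
      apply hψinv
      have h0 : algebraMap P Pq z ∈ maximalIdeal Pq :=
        (IsLocalization.AtPrime.to_map_mem_maximal_iff Pq q z).2 hz
      have h1 := hloc _ h0
      have h2 := hJle (hgσ z)
      have h3 := Ideal.sub_mem _ h1 h2
      rw [RingHom.comp_apply, sub_sub_cancel] at h3
      exact h3
  · intro L _ _ ℓ hℓ ε hε τ hτ
    -- `ε` is local
    have hεm : ∀ a ∈ maximalIdeal Rp, ε a ∈ maximalIdeal L := by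
      have : maximalIdeal Rp ≤ (maximalIdeal L).comap ε := by
        rw [← IsLocalization.AtPrime.map_eq_maximalIdeal p Rp, Ideal.map_le_iff_le_comap]
        intro r hr
        rw [Ideal.mem_comap, Ideal.mem_comap, hε]
        apply hℓ
        rw [← hcomap] at hr
        exact hr
      exact this
    have hεN : maximalIdeal Rp ^ N ≤ (maximalIdeal L ^ N).comap ε := by
      rw [← Ideal.map_le_iff_le_comap, Ideal.map_pow]
      exact Ideal.pow_right_mono (Ideal.map_le_iff_le_comap.2 hεm) N
    let ε' : Rp ⧸ maximalIdeal Rp ^ N →+* L ⧸ maximalIdeal L ^ N :=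
      Ideal.quotientMap (maximalIdeal L ^ N) ε hεN
    let Φ : AdicCompletion (maximalIdeal Rp) Rp →+* L ⧸ maximalIdeal L ^ N :=
      ε'.comp (AdicCompletion.evalₐ (maximalIdeal Rp) N).toRingHom
    have hΦ : ∀ a : Rp, Φ (algebraMap Rp _ a) = Ideal.Quotient.mk (maximalIdeal L ^ N) (ε a) := by
      intro a
      show ε' (AdicCompletion.evalₐ (maximalIdeal Rp) N (algebraMap Rp _ a)) = _
      rw [AlgHom.commutes, Ideal.Quotient.algebraMap_eq]
      exact Ideal.quotientMap_mk
    let n : Ideal (L ⧸ maximalIdeal L ^ N) := (maximalIdeal L).map (Ideal.Quotient.mk _)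
    have hn : IsNilpotent n := by
      refine ⟨N, ?_⟩
      rw [← Ideal.map_pow, Ideal.map_quotient_self, Ideal.zero_eq_bot]
    have hΦm : (maximalIdeal Rp).map (algebraMap Rp (AdicCompletion (maximalIdeal Rp) Rp)) ≤
        n.comap Φ := by
      rw [Ideal.map_le_iff_le_comap]
      intro a ha
      rw [Ideal.mem_comap, Ideal.mem_comap, hΦ]
      exact Ideal.mem_map_of_mem _ (hεm a ha)
    have hΦJ : ∀ w ∈ (maximalIdeal Rp ^ N).map
        (algebraMap Rp (AdicCompletion (maximalIdeal Rp) Rp)), Φ w = 0 := by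
      have : (maximalIdeal Rp ^ N).map (algebraMap Rp (AdicCompletion (maximalIdeal Rp) Rp)) ≤
          RingHom.ker Φ := by
        rw [Ideal.map_le_iff_le_comap]
        intro a ha
        rw [Ideal.mem_comap, RingHom.mem_ker, hΦ, Ideal.Quotient.eq_zero_iff_mem]
        exact hεN ha
      exact this
    -- the two `R`-algebra maps `R' → L/m^N`
    let _ : Algebra R (L ⧸ maximalIdeal L ^ N) :=
      ((Ideal.Quotient.mk (maximalIdeal L ^ N)).comp (ℓ.comp (algebraMap R R'))).toAlgebra
    let h₂ : R' →ₐ[R] L ⧸ maximalIdeal L ^ N :=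
      { (Ideal.Quotient.mk (maximalIdeal L ^ N)).comp ℓ with
        commutes' := fun r => rfl }
    let h₁ : R' →ₐ[R] L ⧸ maximalIdeal L ^ N :=
      { Φ.comp ψ with
        commutes' := fun r => by
          show Φ (ψ (algebraMap R R' r)) = Ideal.Quotient.mk _ (ℓ (algebraMap R R' r))
          rw [hψ, hΦ, hε] }
    have h12 : h₁ = h₂ := by
      apply Algebra.FormallyUnramified.ext n hn
      intro z
      rw [Ideal.Quotient.eq]
      obtain ⟨r, s, hs, hrs⟩ := hres z
      have e1 : h₁ (algebraMap R R' s * z - algebraMap R R' r) ∈ n := hΦm (hψm _ hrs)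
      have e2 : h₂ (algebraMap R R' s * z - algebraMap R R' r) ∈ n :=
        Ideal.mem_map_of_mem _ (hℓ _ hrs)
      have e3 := Ideal.sub_mem _ e1 e2
      rw [map_sub, map_sub, map_mul, map_mul, h₁.commutes, h₁.commutes, h₂.commutes,
        h₂.commutes] at e3
      have e4 : algebraMap R (L ⧸ maximalIdeal L ^ N) s * h₁ z - algebraMap R _ r -
          (algebraMap R (L ⧸ maximalIdeal L ^ N) s * h₂ z - algebraMap R _ r) =
          algebraMap R (L ⧸ maximalIdeal L ^ N) s * (h₁ z - h₂ z) := by ring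
      rw [e4] at e3
      have hu : IsUnit (algebraMap R (L ⧸ maximalIdeal L ^ N) s) := by
        have : algebraMap R (L ⧸ maximalIdeal L ^ N) s =
            Ideal.Quotient.mk (maximalIdeal L ^ N) (ε (algebraMap R Rp s)) := by
          rw [hε]; rfl
        rw [this]
        exact ((IsLocalization.map_units Rp (⟨s, hs⟩ : p.primeCompl)).map ε).map _
      exact (Ideal.unit_mul_mem_iff_mem n hu).1 e3
    have h12' : ∀ z : R', Φ (ψ z) = Ideal.Quotient.mk (maximalIdeal L ^ N) (ℓ z) :=
      fun z => DFunLike.congr_fun h12 z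
    -- the two maps on `Pq`
    have hαβ : (Ideal.Quotient.mk (maximalIdeal L ^ N)).comp τ = Φ.comp φ := by
      apply IsLocalization.ringHom_ext q.primeCompl
      ext z
      simp only [RingHom.comp_apply]
      rw [hτ, ← h12']
      have := hΦJ _ (hgσ z)
      rw [map_sub, sub_eq_zero] at this
      exact this.symm
    intro b c hbc
    have h1 := DFunLike.congr_fun hαβ b
    simp only [RingHom.comp_apply] at h1
    rw [h1]
    show ε' (AdicCompletion.evalₐ (maximalIdeal Rp) N (φ b)) = _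
    rw [hbc]
    exact Ideal.quotientMap_mk

end Groth.Agent.Lib.Helper86.EtNbhdSch
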