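import Mathlib
import Groth.Prelude
import Groth.Agent.S0600
import Groth.Agent.S0543
import Groth.Agent.H8.NormalHomLoc
import Groth.Agent.Lib.Helper86.EtNbhdSch1

set_option autoImplicit false
universe u
open AlgebraicGeometry CategoryTheory Opposite IsLocalRing

namespace Groth.Agent.Lib.Helper86.EtNbhdSch

open Groth.Agent.Lib.Helper31.ArtinApprox

section pieces

variable {X : Scheme.{u}} {V : X.Opens} (hV : IsAffineOpen V) {R' : CommRingCat.{u}}
  (θ : Γ(X, V) ⟶ R')

theorem SpecMap_fromSpec_app :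
    (Spec.map θ ≫ hV.fromSpec).app V = θ ≫ (Scheme.ΓSpecIso R').inv ≫
      (Spec R').presheaf.map (homOfLE le_top).op := by
  rw [Scheme.Hom.comp_app, hV.fromSpec_app_self, Category.assoc]
  have h1 := (Spec.map θ).naturality (eqToHom hV.fromSpec_preimage_self).op
  rw [h1, Scheme.ΓSpecIso_inv_naturality_assoc]
  rfl

theorem stalkMap_SpecMap_fromSpec_germ (u : Spec R')
    (hu : (Spec.map θ ≫ hV.fromSpec) u ∈ V) (r : Γ(X, V)) :
    ((Spec.map θ ≫ hV.fromSpec).stalkMap u).hom (X.presheaf.germ V _ hu r) =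
      (Spec R').presheaf.germ ⊤ u trivial ((Scheme.ΓSpecIso R').inv.hom (θ.hom r)) := by
  have h1 := Scheme.Hom.germ_stalkMap_apply (Spec.map θ ≫ hV.fromSpec) V u hu r
  rw [h1, SpecMap_fromSpec_app]
  simp only [CommRingCat.comp_apply]
  exact TopCat.Presheaf.germ_res_apply _ _ _ _ _

theorem SpecMap_fromSpec_apply (u : Spec R') (x : X) (hx : x ∈ V)
    (h : u.asIdeal.comap θ.hom = (hV.primeIdealOf ⟨x, hx⟩).asIdeal) :
    (Spec.map θ ≫ hV.fromSpec) u = x := by
  rw [Scheme.Hom.comp_apply]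
  have : (Spec.map θ) u = hV.primeIdealOf ⟨x, hx⟩ := PrimeSpectrum.ext h
  rw [this, hV.fromSpec_primeIdealOf]

end pieces

theorem germ_mem_maximalIdeal_of_mem {R' : CommRingCat.{u}} (u : Spec R') (z : R')
    (hz : z ∈ u.asIdeal) :
    (Spec R').presheaf.germ ⊤ u trivial ((Scheme.ΓSpecIso R').inv.hom z) ∈
      maximalIdeal ((Spec R').presheaf.stalk u) := by
  rw [IsLocalRing.mem_maximalIdeal, mem_nonunits_iff, ← Scheme.mem_basicOpen_top,
    basicOpen_eq_of_affine]
  exact fun h => h hz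

theorem residueField_map_bijective {R R' : Type*} [CommRing R] [CommRing R'] (θ : R →+* R')
    (p : Ideal R) [p.IsPrime] (p' : Ideal R') [p'.IsPrime] (h : p = p'.comap θ)
    (hres : ∀ x : R', ∃ r s : R, s ∉ p ∧ θ s * x - θ r ∈ p') :
    Function.Bijective (Ideal.ResidueField.map p p' θ h) := by
  refine ⟨RingHom.injective _, ?_⟩
  intro w
  obtain ⟨a, b, hb, rfl⟩ := IsFractionRing.div_surjective (A := R' ⧸ p') w
  obtain ⟨z, rfl⟩ := Ideal.Quotient.mk_surjective a
  obtain ⟨t, rfl⟩ := Ideal.Quotient.mk_surjective b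
  rw [Ideal.algebraMap_quotient_residueField_mk, Ideal.algebraMap_quotient_residueField_mk]
  have ht : algebraMap R' p'.ResidueField t ≠ 0 := by
    rw [Ne, Ideal.algebraMap_residueField_eq_zero]
    intro htp
    have : Ideal.Quotient.mk p' t = 0 := Ideal.Quotient.eq_zero_iff_mem.2 htp
    rw [this] at hb
    exact (nonZeroDivisors.ne_zero hb) rfl
  obtain ⟨r₁, s₁, hs₁, h₁⟩ := hres z
  obtain ⟨r₂, s₂, hs₂, h₂⟩ := hres t
  have e₁ : algebraMap R' p'.ResidueField (θ s₁) * algebraMap R' p'.ResidueField z =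
      algebraMap R' p'.ResidueField (θ r₁) := by
    rw [← map_mul, ← sub_eq_zero, ← map_sub, Ideal.algebraMap_residueField_eq_zero]
    exact h₁
  have e₂ : algebraMap R' p'.ResidueField (θ s₂) * algebraMap R' p'.ResidueField t =
      algebraMap R' p'.ResidueField (θ r₂) := by
    rw [← map_mul, ← sub_eq_zero, ← map_sub, Ideal.algebraMap_residueField_eq_zero]
    exact h₂
  have hs₁' : algebraMap R' p'.ResidueField (θ s₁) ≠ 0 := by
    rw [Ne, Ideal.algebraMap_residueField_eq_zero]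
    intro hc
    exact hs₁ (by rw [h]; exact hc)
  have hs₂' : algebraMap R' p'.ResidueField (θ s₂) ≠ 0 := by
    rw [Ne, Ideal.algebraMap_residueField_eq_zero]
    intro hc
    exact hs₂ (by rw [h]; exact hc)
  refine ⟨(algebraMap R p.ResidueField r₁ / algebraMap R p.ResidueField s₁) /
    (algebraMap R p.ResidueField r₂ / algebraMap R p.ResidueField s₂), ?_⟩
  rw [map_div₀, map_div₀, map_div₀, Ideal.ResidueField.map_algebraMap,
    Ideal.ResidueField.map_algebraMap, Ideal.ResidueField.map_algebraMap,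
    Ideal.ResidueField.map_algebraMap, ← e₁, ← e₂]
  field_simp

theorem stalkCongr_inv_germ {X : Scheme.{u}} (V : X.Opens) {x x' : X} (h : x' = x) (hx : x ∈ V)
    (r : Γ(X, V)) :
    (X.presheaf.stalkCongr (Inseparable.of_eq h)).inv.hom (X.presheaf.germ V x hx r) =
      X.presheaf.germ V x' (h ▸ hx) r := by
  subst h
  simp [TopCat.Presheaf.stalkCongr]

theorem stalkCongr_hom_germ {X : Scheme.{u}} (V : X.Opens) {x x' : X} (h : x' = x) (hx : x' ∈ V)
    (r : Γ(X, V)) :
    (X.presheaf.stalkCongr (Inseparable.of_eq h)).hom.hom (X.presheaf.germ V x' hx r) =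
      X.presheaf.germ V x (h ▸ hx) r := by
  subst h
  simp [TopCat.Presheaf.stalkCongr]

theorem stalkMap_germ_appLE {X Y : Scheme.{u}} (f : X ⟶ Y) (U : Y.Opens) (V : X.Opens)
    (e : V ≤ f ⁻¹ᵁ U) (x : X) (hx : x ∈ V) (a : Γ(Y, U)) :
    (f.stalkMap x).hom (Y.presheaf.germ U (f x) (e hx) a) =
      X.presheaf.germ V x hx ((f.appLE U V e).hom a) := by
  rw [Scheme.Hom.germ_stalkMap_apply, Scheme.Hom.appLE]
  simp only [CommRingCat.comp_apply]
  exact (TopCat.Presheaf.germ_res_apply _ _ _ _ _).symm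


/-- Surjectivity of the residue field map transfers along an isomorphism of arrows
(copied from helper22's `EtaleNbhdPieces`). -/
theorem surjective_residueFieldMap_of_ringEquiv {A B A' B' : Type*} [CommRing A] [CommRing B]
    [CommRing A'] [CommRing B'] [IsLocalRing A] [IsLocalRing B] [IsLocalRing A'] [IsLocalRing B']
    (ψ : A →+* B) (ψ' : A' →+* B') [IsLocalHom ψ] [IsLocalHom ψ'] (e₁ : A ≃+* A') (e₂ : B ≃+* B')
    (h : ∀ a, e₂ (ψ a) = ψ' (e₁ a))
    (hs : Function.Surjective (IsLocalRing.ResidueField.map ψ')) :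
    Function.Surjective (IsLocalRing.ResidueField.map ψ) := by
  intro z
  obtain ⟨b, rfl⟩ := IsLocalRing.residue_surjective z
  obtain ⟨y', hy'⟩ := hs (IsLocalRing.residue B' (e₂ b))
  obtain ⟨a', rfl⟩ := IsLocalRing.residue_surjective y'
  refine ⟨IsLocalRing.residue A (e₁.symm a'), ?_⟩
  rw [IsLocalRing.ResidueField.map_residue] at hy' ⊢
  rw [← sub_eq_zero, ← map_sub, IsLocalRing.residue_eq_zero_iff] at hy' ⊢
  have h2 : e₂ (ψ (e₁.symm a') - b) = ψ' a' - e₂ b := by
    rw [map_sub, h, RingEquiv.apply_symm_apply]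
  rw [← h2] at hy'
  rw [IsLocalRing.mem_maximalIdeal, mem_nonunits_iff] at hy' ⊢
  intro hu
  exact hy' (hu.map e₂)

set_option backward.isDefEq.respectTransparency false in
/-- The residue field map of `Spec.map φ` at a prime is bijective as soon as the algebraic one is
(copied from helper22's `EtaleNbhdPieces`). -/
theorem bijective_residueFieldMap_SpecMap {A R : CommRingCat.{u}} (φ : A ⟶ R) (P : PrimeSpectrum R)
    (I : Ideal A) [I.IsPrime] (hI : I = P.asIdeal.comap φ.hom)
    (h : Function.Bijective (Ideal.ResidueField.map I P.asIdeal φ.hom hI)) :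
    Function.Bijective ((Spec.map φ).residueFieldMap P).hom := by
  subst hI
  refine ⟨RingHom.injective _, ?_⟩
  let e := Scheme.arrowStalkMapSpecIso φ P
  have hw := e.hom.w
  let e₁ := (Arrow.leftFunc.mapIso e).commRingCatIsoToRingEquiv
  let e₂ := (Arrow.rightFunc.mapIso e).commRingCatIsoToRingEquiv
  change Function.Surjective (IsLocalRing.ResidueField.map ((Spec.map φ).stalkMap P).hom)
  refine surjective_residueFieldMap_of_ringEquiv _ (Localization.localRingHom
      (PrimeSpectrum.comap φ.hom P).asIdeal P.asIdeal φ.hom rfl) e₁ e₂ ?_ h.2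
  intro a
  have := congrArg (fun k => k.hom a) hw
  exact this.symm


/-- S7202 with Popescu's theorem (the statement of S0595) as a hypothesis. -/
theorem exists_etale_nbhd_morphism_of_popescu
    (hpop : ∀ (R : Type u) [CommRing R] [IsNoetherianRing R] (Λ : Type u)
      [CommRing Λ] [IsNoetherianRing Λ] [Algebra R Λ] (_ : CAlg.IsRegularHom R Λ) (A : Type u)
      [CommRing A] [Algebra R A] [Algebra.FinitePresentation R A] (f : A →ₐ[R] Λ),
      ∃ (B : Type u) (_ : CommRing B) (_ : Algebra R B), Algebra.Smooth R B ∧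
        ∃ (g : A →ₐ[R] B) (h : B →ₐ[R] Λ), h.comp g = f)
    {X Y S : Scheme.{u}} [IsLocallyNoetherian S]
    (p : X ⟶ S) (q : Y ⟶ S) [LocallyOfFiniteType p] [LocallyOfFiniteType q] (x : X) (y : Y)
    (hxy : p x = q y)
    (hG : CAlg.IsGRing ↑(S.presheaf.stalk (p x)))
    (φ : ↑(Y.presheaf.stalk y) →+* (AdicCompletion (IsLocalRing.maximalIdeal ↑(X.presheaf.stalk x)) ↑(X.presheaf.stalk x)))
    (hφ : φ.comp ((q.stalkMap y).hom.comp (S.presheaf.stalkCongr (Inseparable.of_eq hxy)).hom.hom) =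
      (algebraMap ↑(X.presheaf.stalk x) (AdicCompletion (IsLocalRing.maximalIdeal ↑(X.presheaf.stalk x)) ↑(X.presheaf.stalk x))).comp (p.stalkMap x).hom)
    (hloc : ∀ b ∈ IsLocalRing.maximalIdeal ↑(Y.presheaf.stalk y),
      φ b ∈ (IsLocalRing.maximalIdeal ↑(X.presheaf.stalk x)).map (algebraMap ↑(X.presheaf.stalk x) (AdicCompletion (IsLocalRing.maximalIdeal ↑(X.presheaf.stalk x)) ↑(X.presheaf.stalk x))))
    (N : ℕ) (hN : 1 ≤ N) :
    ∃ (U : Scheme.{u}) (e : U ⟶ X) (u : U) (heu : e u = x) (f : U ⟶ Y) (hfu : f u = y),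
      Etale e ∧ Function.Bijective (e.residueFieldMap u) ∧ f ≫ q = e ≫ p ∧
      ∀ (b : ↑(Y.presheaf.stalk y)) (c : ↑(X.presheaf.stalk x)),
        AdicCompletion.evalₐ (IsLocalRing.maximalIdeal ↑(X.presheaf.stalk x)) N (φ b) =
          Ideal.Quotient.mk (IsLocalRing.maximalIdeal ↑(X.presheaf.stalk x) ^ N) c →
        Ideal.Quotient.mk (IsLocalRing.maximalIdeal ↑(U.presheaf.stalk u) ^ N)
            ((f.stalkMap u).hom ((Y.presheaf.stalkCongr (Inseparable.of_eq hfu)).inv.hom b)) =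
          Ideal.Quotient.mk (IsLocalRing.maximalIdeal ↑(U.presheaf.stalk u) ^ N)
            ((e.stalkMap u).hom ((X.presheaf.stalkCongr (Inseparable.of_eq heu)).inv.hom c)) := by
  classical
  -- Popescu for the stalk
  have hess : (p.stalkMap x).hom.EssFiniteType := LocallyOfFiniteType.stalkMap p x
  have hGx : CAlg.IsGRing (X.presheaf.stalk x) := by
    let _ : Algebra (S.presheaf.stalk (p x)) (X.presheaf.stalk x) := (p.stalkMap x).hom.toAlgebra
    have : Algebra.EssFiniteType (S.presheaf.stalk (p x)) (X.presheaf.stalk x) := hess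
    exact Groth.Agent.H8.NormalHomLoc.isGRing_of_essFiniteType _ hG _
  have hNx : IsNoetherianRing (X.presheaf.stalk x) := hGx.1
  have hreg := Groth.Agent.S0600.result _ hGx (maximalIdeal (X.presheaf.stalk x))
  have hNc := Groth.Agent.S0543.result (X.presheaf.stalk x) (maximalIdeal (X.presheaf.stalk x))
  have hpopx : PopescuFor (X.presheaf.stalk x)
      (AdicCompletion (maximalIdeal (X.presheaf.stalk x)) (X.presheaf.stalk x)) :=
    fun P _ _ _ f => hpop _ _ hreg P f
  -- affine opens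
  obtain ⟨W, hW, hsW, -⟩ := TopologicalSpace.Opens.isBasis_iff_nbhd.mp S.isBasis_affineOpens
    (show p x ∈ (⊤ : S.Opens) from trivial)
  obtain ⟨V, hV, hxV, hVW⟩ := TopologicalSpace.Opens.isBasis_iff_nbhd.mp X.isBasis_affineOpens
    (show x ∈ p ⁻¹ᵁ W from hsW)
  have hyW : y ∈ q ⁻¹ᵁ W := by
    show q y ∈ W
    rw [← hxy]; exact hsW
  obtain ⟨V', hV', hyV', hV'W⟩ := TopologicalSpace.Opens.isBasis_iff_nbhd.mp Y.isBasis_affineOpens hyW
  -- algebra structures
  let _ : Algebra Γ(S, W) Γ(X, V) := (p.appLE W V hVW).hom.toAlgebra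
  let _ : Algebra Γ(S, W) Γ(Y, V') := (q.appLE W V' hV'W).hom.toAlgebra
  have hA₀N : IsNoetherianRing Γ(S, W) := IsLocallyNoetherian.component_noetherian ⟨W, hW⟩
  have hftR : Algebra.FiniteType Γ(S, W) Γ(X, V) :=
    HasRingHomProperty.appLE @LocallyOfFiniteType p inferInstance ⟨W, hW⟩ ⟨V, hV⟩ hVW
  have hftP : Algebra.FiniteType Γ(S, W) Γ(Y, V') :=
    HasRingHomProperty.appLE @LocallyOfFiniteType q inferInstance ⟨W, hW⟩ ⟨V', hV'⟩ hV'W
  have hRN : IsNoetherianRing Γ(X, V) := Algebra.FiniteType.isNoetherianRing Γ(S, W) _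
  have hfpP : Algebra.FinitePresentation Γ(S, W) Γ(Y, V') :=
    Algebra.FinitePresentation.of_finiteType.mp hftP
  let _ : Algebra Γ(X, V) (X.presheaf.stalk x) :=
    TopCat.Presheaf.algebra_section_stalk X.presheaf ⟨x, hxV⟩
  have : IsLocalization.AtPrime (X.presheaf.stalk x) (hV.primeIdealOf ⟨x, hxV⟩).asIdeal :=
    hV.isLocalization_stalk ⟨x, hxV⟩
  let _ : Algebra Γ(Y, V') (Y.presheaf.stalk y) :=
    TopCat.Presheaf.algebra_section_stalk Y.presheaf ⟨y, hyV'⟩
  have : IsLocalization.AtPrime (Y.presheaf.stalk y) (hV'.primeIdealOf ⟨y, hyV'⟩).asIdeal :=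
    hV'.isLocalization_stalk ⟨y, hyV'⟩
  -- compatibility of `φ` with the base
  have hφ' : ∀ a : Γ(S, W), φ (algebraMap Γ(Y, V') (Y.presheaf.stalk y)
      (algebraMap Γ(S, W) Γ(Y, V') a)) =
      algebraMap (X.presheaf.stalk x) _ (algebraMap Γ(X, V) (X.presheaf.stalk x)
        (algebraMap Γ(S, W) Γ(X, V) a)) := by
    intro a
    have h1 := DFunLike.congr_fun hφ (S.presheaf.germ W (p x) hsW a)
    simp only [RingHom.comp_apply] at h1
    rw [stalkCongr_hom_germ W hxy hsW a, stalkMap_germ_appLE q W V' hV'W y hyV' a,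
      stalkMap_germ_appLE p W V hVW x hxV a] at h1
    exact h1
  obtain ⟨R', _, _, hR', p', hp', hcomap, hres, σ, hσ, hσq, hmain⟩ :=
    exists_etale_nbhd_alg (A₀ := Γ(S, W)) (R := Γ(X, V)) (P := Γ(Y, V'))
      (hV.primeIdealOf ⟨x, hxV⟩).asIdeal (X.presheaf.stalk x)
      (hV'.primeIdealOf ⟨y, hyV'⟩).asIdeal (Y.presheaf.stalk y) hpopx φ hφ' hloc N hN
  let θ : Γ(X, V) ⟶ CommRingCat.of R' := CommRingCat.ofHom (algebraMap Γ(X, V) R')
  let σ' : Γ(Y, V') ⟶ CommRingCat.of R' := CommRingCat.ofHom σ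
  let u : Spec (CommRingCat.of R') := ⟨p', hp'⟩
  have heu : (Spec.map θ ≫ hV.fromSpec) u = x := SpecMap_fromSpec_apply hV θ u x hxV hcomap
  have hfu : (Spec.map σ' ≫ hV'.fromSpec) u = y := SpecMap_fromSpec_apply hV' σ' u y hyV' hσq
  refine ⟨Spec (CommRingCat.of R'), Spec.map θ ≫ hV.fromSpec, u, heu,
    Spec.map σ' ≫ hV'.fromSpec, hfu, ?_, ?_, ?_, ?_⟩
  · have : Etale (Spec.map θ) :=
      (HasRingHomProperty.Spec_iff (P := @Etale)).2 (RingHom.etale_algebraMap.2 hR')
    infer_instance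
  · have h1 : Function.Bijective ((Spec.map θ).residueFieldMap u).hom :=
      bijective_residueFieldMap_SpecMap θ u _ hcomap.symm
        (residueField_map_bijective _ _ _ hcomap.symm hres)
    have h2 : Function.Bijective (hV.fromSpec.residueFieldMap ((Spec.map θ) u)).hom :=
      ConcreteCategory.bijective_of_isIso _
    rw [Scheme.residueFieldMap_comp]
    exact h1.comp h2
  · rw [Category.assoc, Category.assoc, ← IsAffineOpen.SpecMap_appLE_fromSpec q hW hV' hV'W,
      ← IsAffineOpen.SpecMap_appLE_fromSpec p hW hV hVW, ← Spec.map_comp_assoc,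
      ← Spec.map_comp_assoc]
    congr 2
    ext a
    exact hσ a
  · have hℓ : ∀ z ∈ p', ((Spec (CommRingCat.of R')).presheaf.germ ⊤ u trivial).hom.comp
        (Scheme.ΓSpecIso (CommRingCat.of R')).inv.hom z ∈
        maximalIdeal ((Spec (CommRingCat.of R')).presheaf.stalk u) :=
      fun z hz => germ_mem_maximalIdeal_of_mem u z hz
    intro b c hbc
    refine hmain ((Spec (CommRingCat.of R')).presheaf.stalk u)
      (((Spec (CommRingCat.of R')).presheaf.germ ⊤ u trivial).hom.comp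
        (Scheme.ΓSpecIso (CommRingCat.of R')).inv.hom) hℓ
      (((Spec.map θ ≫ hV.fromSpec).stalkMap u).hom.comp
        (X.presheaf.stalkCongr (Inseparable.of_eq heu)).inv.hom) ?_
      (((Spec.map σ' ≫ hV'.fromSpec).stalkMap u).hom.comp
        (Y.presheaf.stalkCongr (Inseparable.of_eq hfu)).inv.hom) ?_ b c hbc
    · intro r
      show ((Spec.map θ ≫ hV.fromSpec).stalkMap u).hom
        ((X.presheaf.stalkCongr (Inseparable.of_eq heu)).inv.hom (X.presheaf.germ V x hxV r)) = _
      rw [stalkCongr_inv_germ V heu hxV r, stalkMap_SpecMap_fromSpec_germ hV θ u _ r]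
      rfl
    · intro z
      show ((Spec.map σ' ≫ hV'.fromSpec).stalkMap u).hom
        ((Y.presheaf.stalkCongr (Inseparable.of_eq hfu)).inv.hom (Y.presheaf.germ V' y hyV' z)) = _
      rw [stalkCongr_inv_germ V' hfu hyV' z, stalkMap_SpecMap_fromSpec_germ hV' σ' u _ z]
      rfl

end Groth.Agent.Lib.Helper86.EtNbhdSch
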