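import Mathlib
import Groth.Prelude
import Groth.Agent.Lib.Helper86.EtNbhdSch2
import Groth.Agent.Lib.Helper86.EtNbhdIso1
import Groth.Agent.Lib.Helper24.EtaleAtStalk

/-! S7203 modulo Popescu (helper86): common étale neighbourhoods from an isomorphism of completed
local rings. -/

set_option autoImplicit false
universe u
open AlgebraicGeometry CategoryTheory Opposite IsLocalRing

namespace Groth.Agent.Lib.Helper86.EtNbhdIso

open Groth.Agent.Lib.Helper31 Groth.Agent.Lib.Helper86.EtNbhdSch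

section transport

variable {B B₀ L : Type u} [CommRing B] [CommRing B₀] [CommRing L] [IsLocalRing B] [IsLocalRing B₀]
  [IsLocalRing L] (g₀ : B₀ →+* L) (ι : B →+* B₀) (ι' : B₀ →+* B) (h1 : ∀ b, ι' (ι b) = b)
  (h2 : ∀ b₀, ι (ι' b₀) = b₀)

include h1 h2 in
theorem map_maximalIdeal_of_inverse : (maximalIdeal B).map ι = maximalIdeal B₀ := by
  apply le_antisymm
  · rw [Ideal.map_le_iff_le_comap]
    intro b hb
    rw [Ideal.mem_comap, IsLocalRing.mem_maximalIdeal, mem_nonunits_iff] at *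
    intro hu
    apply hb
    have := hu.map ι'
    rwa [h1] at this
  · intro b₀ hb₀
    have : ι' b₀ ∈ maximalIdeal B := by
      rw [IsLocalRing.mem_maximalIdeal, mem_nonunits_iff] at *
      intro hu
      apply hb₀
      have := hu.map ι
      rwa [h2] at this
    have h3 := Ideal.mem_map_of_mem ι this
    rwa [h2] at h3

include h1 h2 in
theorem transport_flat (hfl : g₀.Flat) : (g₀.comp ι).Flat := by
  refine RingHom.Flat.comp (RingHom.Flat.of_bijective ⟨?_, ?_⟩) hfl
  · intro a b hab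
    rw [← h1 a, ← h1 b, hab]
  · intro b₀
    exact ⟨ι' b₀, h2 b₀⟩

include h1 h2 in
theorem transport_map (hm : (maximalIdeal B₀).map g₀ = maximalIdeal L) :
    (maximalIdeal B).map (g₀.comp ι) = maximalIdeal L := by
  rw [← Ideal.map_map, map_maximalIdeal_of_inverse ι ι' h1 h2, hm]

include h2 in
theorem transport_res (hres : ∀ w : L, ∃ c₀ : B₀, w - g₀ c₀ ∈ maximalIdeal L) :
    ∀ w : L, ∃ c : B, w - (g₀.comp ι) c ∈ maximalIdeal L := by
  intro w
  obtain ⟨c₀, hc₀⟩ := hres w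
  exact ⟨ι' c₀, by rw [RingHom.comp_apply, h2]; exact hc₀⟩

end transport

section residue

variable {X Y : Scheme.{u}} (f : X ⟶ Y) (x : X)

theorem exists_sub_mem_of_residueFieldMap_surjective
    (h : Function.Surjective (f.residueFieldMap x)) :
    ∀ w : X.presheaf.stalk x, ∃ c : Y.presheaf.stalk (f x),
      w - (f.stalkMap x).hom c ∈ maximalIdeal (X.presheaf.stalk x) := by
  intro w
  obtain ⟨r, hr⟩ := h (IsLocalRing.residue _ w)
  obtain ⟨c, rfl⟩ := IsLocalRing.residue_surjective r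
  refine ⟨c, ?_⟩
  have h1 : IsLocalRing.residue _ ((f.stalkMap x).hom c) = IsLocalRing.residue _ w := hr
  rw [← IsLocalRing.residue_eq_zero_iff, map_sub, h1, sub_self]

theorem residueFieldMap_bijective_of_exists_sub_mem
    (h : ∀ w : X.presheaf.stalk x, ∃ c : Y.presheaf.stalk (f x),
      w - (f.stalkMap x).hom c ∈ maximalIdeal (X.presheaf.stalk x)) :
    Function.Bijective (f.residueFieldMap x) := by
  refine ⟨(f.residueFieldMap x).hom.injective, ?_⟩
  intro r
  obtain ⟨w, rfl⟩ := IsLocalRing.residue_surjective r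
  obtain ⟨c, hc⟩ := h w
  refine ⟨IsLocalRing.residue _ c, ?_⟩
  show IsLocalRing.residue _ ((f.stalkMap x).hom c) = IsLocalRing.residue _ w
  rw [← IsLocalRing.residue_eq_zero_iff, map_sub] at hc
  rw [sub_eq_zero] at hc
  exact hc.symm

end residue


section main

open Groth.Agent.Lib.Helper24

/-- S7203 with Popescu's theorem (the statement of S0595) as a hypothesis. -/
theorem exists_common_etale_nbhd_of_popescu
    (hpop : ∀ (R : Type u) [CommRing R] [IsNoetherianRing R] (Λ : Type u)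
      [CommRing Λ] [IsNoetherianRing Λ] [Algebra R Λ] (_ : CAlg.IsRegularHom R Λ) (A : Type u)
      [CommRing A] [Algebra R A] [Algebra.FinitePresentation R A] (f : A →ₐ[R] Λ),
      ∃ (B : Type u) (_ : CommRing B) (_ : Algebra R B), Algebra.Smooth R B ∧
        ∃ (g : A →ₐ[R] B) (h : B →ₐ[R] Λ), h.comp g = f)
    {X Y S : Scheme.{u}} [IsLocallyNoetherian S]
    (p : X ⟶ S) (q : Y ⟶ S) [LocallyOfFiniteType p] [LocallyOfFiniteType q] (x : X) (y : Y) (hxy : p x = q y)
    (hG : CAlg.IsGRing ↑(S.presheaf.stalk (p x)))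
    (φ : (AdicCompletion (IsLocalRing.maximalIdeal ↑(Y.presheaf.stalk y)) ↑(Y.presheaf.stalk y)) ≃+* (AdicCompletion (IsLocalRing.maximalIdeal ↑(X.presheaf.stalk x)) ↑(X.presheaf.stalk x)))
    (hφ : φ.toRingHom.comp ((algebraMap ↑(Y.presheaf.stalk y) (AdicCompletion (IsLocalRing.maximalIdeal ↑(Y.presheaf.stalk y)) ↑(Y.presheaf.stalk y))).comp
        ((q.stalkMap y).hom.comp (S.presheaf.stalkCongr (Inseparable.of_eq hxy)).hom.hom)) =
      (algebraMap ↑(X.presheaf.stalk x) (AdicCompletion (IsLocalRing.maximalIdeal ↑(X.presheaf.stalk x)) ↑(X.presheaf.stalk x))).comp (p.stalkMap x).hom)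
    (N : ℕ) (hN : 1 ≤ N) :
    ∃ (U : Scheme.{u}) (u : U) (e : U ⟶ X) (heu : e u = x) (f : U ⟶ Y) (hfu : f u = y),
      Etale e ∧ Function.Bijective (e.residueFieldMap u) ∧ Etale f ∧ Function.Bijective (f.residueFieldMap u) ∧
      f ≫ q = e ≫ p ∧
      ∀ (b : (AdicCompletion (IsLocalRing.maximalIdeal ↑(Y.presheaf.stalk y)) ↑(Y.presheaf.stalk y))) (cY : ↑(Y.presheaf.stalk y)) (cX : ↑(X.presheaf.stalk x)),
        AdicCompletion.evalₐ (IsLocalRing.maximalIdeal ↑(Y.presheaf.stalk y)) N b =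
          Ideal.Quotient.mk (IsLocalRing.maximalIdeal ↑(Y.presheaf.stalk y) ^ N) cY →
        AdicCompletion.evalₐ (IsLocalRing.maximalIdeal ↑(X.presheaf.stalk x)) N (φ b) =
          Ideal.Quotient.mk (IsLocalRing.maximalIdeal ↑(X.presheaf.stalk x) ^ N) cX →
        Ideal.Quotient.mk (IsLocalRing.maximalIdeal ↑(U.presheaf.stalk u) ^ N)
            ((f.stalkMap u).hom ((Y.presheaf.stalkCongr (Inseparable.of_eq hfu)).inv.hom cY)) =
          Ideal.Quotient.mk (IsLocalRing.maximalIdeal ↑(U.presheaf.stalk u) ^ N)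
            ((e.stalkMap u).hom ((X.presheaf.stalkCongr (Inseparable.of_eq heu)).inv.hom cX)) := by
  classical
  have hXN : IsLocallyNoetherian X := LocallyOfFiniteType.isLocallyNoetherian p
  have hYN : IsLocallyNoetherian Y := LocallyOfFiniteType.isLocallyNoetherian q
  let φ₀ : ↑(Y.presheaf.stalk y) →+* AdicCompletion (maximalIdeal ↑(X.presheaf.stalk x))
      ↑(X.presheaf.stalk x) := φ.toRingHom.comp (algebraMap _ _)
  have hφ₀ : φ₀.comp ((q.stalkMap y).hom.comp
      (S.presheaf.stalkCongr (Inseparable.of_eq hxy)).hom.hom) =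
      (algebraMap ↑(X.presheaf.stalk x) _).comp (p.stalkMap x).hom := by
    rw [← hφ]; rfl
  have hloc₀ : ∀ b ∈ maximalIdeal ↑(Y.presheaf.stalk y),
      φ₀ b ∈ (maximalIdeal ↑(X.presheaf.stalk x)).map (algebraMap ↑(X.presheaf.stalk x)
        (AdicCompletion (maximalIdeal ↑(X.presheaf.stalk x)) ↑(X.presheaf.stalk x))) := by
    intro b hb
    have h1 : algebraMap ↑(Y.presheaf.stalk y) (AdicCompletion (maximalIdeal ↑(Y.presheaf.stalk y))
        ↑(Y.presheaf.stalk y)) b ∈ (maximalIdeal ↑(Y.presheaf.stalk y) ^ 1).map (algebraMap _ _) := by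
      rw [pow_one]; exact Ideal.mem_map_of_mem _ hb
    have h2 := map_pow_mem (A := ↑(X.presheaf.stalk x)) (B := ↑(Y.presheaf.stalk y)) φ 1 _ h1
    rwa [pow_one] at h2
  obtain ⟨U, e, u, heu, f, hfu, hE, hres, hcomm, happ⟩ :=
    exists_etale_nbhd_morphism_of_popescu hpop p q x y hxy hG φ₀ hφ₀ hloc₀ (N + 1) (by omega)
  have hUN : IsLocallyNoetherian U := LocallyOfFiniteType.isLocallyNoetherian e
  -- the local maps
  let ιx : ↑(X.presheaf.stalk x) →+* ↑(X.presheaf.stalk (e u)) :=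
    (X.presheaf.stalkCongr (Inseparable.of_eq heu)).inv.hom
  let ιx' : ↑(X.presheaf.stalk (e u)) →+* ↑(X.presheaf.stalk x) :=
    (X.presheaf.stalkCongr (Inseparable.of_eq heu)).hom.hom
  have hx1 : ∀ b, ιx' (ιx b) = b := fun b => by
    show ((X.presheaf.stalkCongr (Inseparable.of_eq heu)).inv ≫
      (X.presheaf.stalkCongr (Inseparable.of_eq heu)).hom).hom b = b
    rw [Iso.inv_hom_id]; rfl
  have hx2 : ∀ b, ιx (ιx' b) = b := fun b => by
    show ((X.presheaf.stalkCongr (Inseparable.of_eq heu)).hom ≫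
      (X.presheaf.stalkCongr (Inseparable.of_eq heu)).inv).hom b = b
    rw [Iso.hom_inv_id]; rfl
  let ιy : ↑(Y.presheaf.stalk y) →+* ↑(Y.presheaf.stalk (f u)) :=
    (Y.presheaf.stalkCongr (Inseparable.of_eq hfu)).inv.hom
  let ιy' : ↑(Y.presheaf.stalk (f u)) →+* ↑(Y.presheaf.stalk y) :=
    (Y.presheaf.stalkCongr (Inseparable.of_eq hfu)).hom.hom
  have hy1 : ∀ b, ιy' (ιy b) = b := fun b => by
    show ((Y.presheaf.stalkCongr (Inseparable.of_eq hfu)).inv ≫
      (Y.presheaf.stalkCongr (Inseparable.of_eq hfu)).hom).hom b = b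
    rw [Iso.inv_hom_id]; rfl
  have hy2 : ∀ b, ιy (ιy' b) = b := fun b => by
    show ((Y.presheaf.stalkCongr (Inseparable.of_eq hfu)).hom ≫
      (Y.presheaf.stalkCongr (Inseparable.of_eq hfu)).inv).hom b = b
    rw [Iso.hom_inv_id]; rfl
  let ε : ↑(X.presheaf.stalk x) →+* ↑(U.presheaf.stalk u) := (e.stalkMap u).hom.comp ιx
  let τ : ↑(Y.presheaf.stalk y) →+* ↑(U.presheaf.stalk u) := (f.stalkMap u).hom.comp ιy
  have hflat₀ : (e.stalkMap u).hom.Flat := Flat.stalkMap e u
  have hunr₀ : (e.stalkMap u).hom.FormallyUnramified := FormallyUnramified.stalkMap e u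
  have hm₀ := ((formallyUnramified_stalkMap_iff_residue e u).1 hunr₀).1
  have hres₀ := exists_sub_mem_of_residueFieldMap_surjective e u hres.2
  have hεflat : ε.Flat := transport_flat _ ιx ιx' hx1 hx2 hflat₀
  have hεm : (maximalIdeal ↑(X.presheaf.stalk x)).map ε = maximalIdeal ↑(U.presheaf.stalk u) :=
    transport_map _ ιx ιx' hx1 hx2 hm₀
  have hεres : ∀ w : ↑(U.presheaf.stalk u), ∃ c : ↑(X.presheaf.stalk x),
      w - ε c ∈ maximalIdeal ↑(U.presheaf.stalk u) := transport_res _ ιx ιx' hx2 hres₀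
  have hτloc : ∀ a ∈ maximalIdeal ↑(Y.presheaf.stalk y),
      τ a ∈ maximalIdeal ↑(U.presheaf.stalk u) := by
    intro a ha
    rw [IsLocalRing.mem_maximalIdeal, mem_nonunits_iff] at *
    intro hu
    apply ha
    have h1 : IsUnit (ιy a) := (isUnit_map_iff (f.stalkMap u).hom _).1 hu
    have := h1.map ιy'
    rwa [hy1] at this
  obtain ⟨hτm, hτres, hτflat⟩ := flat_unramified_of_approx τ ε φ hεm hεflat hεres hτloc (N + 1)
    (by omega) (fun a c h => happ a c h)
  have hτ₀ : τ.comp ιy' = (f.stalkMap u).hom := by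
    ext c
    show (f.stalkMap u).hom (ιy (ιy' c)) = _
    rw [hy2]
  have hflatf : (f.stalkMap u).hom.Flat := hτ₀ ▸ transport_flat τ ιy' ιy hy2 hy1 hτflat
  have hmf : (maximalIdeal ↑(Y.presheaf.stalk (f u))).map (f.stalkMap u).hom =
      maximalIdeal ↑(U.presheaf.stalk u) := hτ₀ ▸ transport_map τ ιy' ιy hy2 hy1 hτm
  have hresf : ∀ w : ↑(U.presheaf.stalk u), ∃ c : ↑(Y.presheaf.stalk (f u)),
      w - (f.stalkMap u).hom c ∈ maximalIdeal ↑(U.presheaf.stalk u) :=
    hτ₀ ▸ transport_res τ ιy' ιy hy1 hτres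
  have hbijf : Function.Bijective (f.residueFieldMap u) :=
    residueFieldMap_bijective_of_exists_sub_mem f u hresf
  have hLFTf : LocallyOfFiniteType f := by
    have : LocallyOfFiniteType (f ≫ q) := by rw [hcomm]; infer_instance
    exact locallyOfFiniteType_of_comp f q
  have hunrf : (f.stalkMap u).hom.FormallyUnramified := by
    rw [formallyUnramified_stalkMap_iff_residue]
    refine ⟨hmf, ?_, ?_⟩
    · let _ := (f.residueFieldMap u).hom.toAlgebra
      exact Module.Finite.of_surjective (Algebra.linearMap _ _) hbijf.2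
    · let _ := (f.residueFieldMap u).hom.toAlgebra
      refine ⟨fun z => ?_⟩
      obtain ⟨r, rfl⟩ := hbijf.2 z
      exact isSeparable_algebraMap r
  obtain ⟨U', hu', hEf⟩ := exists_opens_etale_of_flat_of_formallyUnramified_stalk f u hflatf hunrf
  have heu' : (U'.ι ≫ e) ⟨u, hu'⟩ = x := heu
  have hfu' : (U'.ι ≫ f) ⟨u, hu'⟩ = y := hfu
  refine ⟨U'.toScheme, ⟨u, hu'⟩, U'.ι ≫ e, heu', U'.ι ≫ f, hfu', inferInstance, ?_, hEf, ?_, ?_, ?_⟩
  · rw [Scheme.residueFieldMap_comp]
    have h2 : Function.Bijective (U'.ι.residueFieldMap ⟨u, hu'⟩).hom :=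
      ConcreteCategory.bijective_of_isIso _
    exact h2.comp hres
  · rw [Scheme.residueFieldMap_comp]
    have h2 : Function.Bijective (U'.ι.residueFieldMap ⟨u, hu'⟩).hom :=
      ConcreteCategory.bijective_of_isIso _
    exact h2.comp hbijf
  · rw [Category.assoc, Category.assoc, hcomm]
  · intro b cY cX hbY hbX
    -- approximation at level `N + 1`
    obtain ⟨c, hc⟩ := Ideal.Quotient.mk_surjective
      (AdicCompletion.evalₐ (maximalIdeal ↑(X.presheaf.stalk x)) (N + 1) (φ₀ cY))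
    have h1 := happ cY c hc.symm
    rw [Ideal.Quotient.eq] at h1
    have h1' : τ cY - ε c ∈ maximalIdeal ↑(U.presheaf.stalk u) ^ N :=
      Ideal.pow_le_pow_right (Nat.le_succ N) h1
    -- `c ≡ cX` modulo `m_x^N`
    have h2 : AdicCompletion.evalₐ (maximalIdeal ↑(X.presheaf.stalk x)) N (φ₀ cY) =
        Ideal.Quotient.mk _ c := by
      rw [← ComplBij.factorPow_evalₐ (maximalIdeal ↑(X.presheaf.stalk x)) (Nat.le_succ N), ← hc]
      rfl
    have h3 : b - algebraMap ↑(Y.presheaf.stalk y) _ cY ∈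
        (maximalIdeal ↑(Y.presheaf.stalk y) ^ N).map (algebraMap ↑(Y.presheaf.stalk y)
          (AdicCompletion (maximalIdeal ↑(Y.presheaf.stalk y)) ↑(Y.presheaf.stalk y))) := by
      rw [← LocComplIso.ker_evalₐ (maximalIdeal ↑(Y.presheaf.stalk y)) N
        (maximalIdeal ↑(Y.presheaf.stalk y)).fg_of_isNoetherianRing, RingHom.mem_ker]
      show AdicCompletion.evalₐ (maximalIdeal ↑(Y.presheaf.stalk y)) N (b - algebraMap _ _ cY) = 0
      rw [map_sub, AlgHom.commutes, hbY, sub_eq_zero]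
      rfl
    have h4 := map_pow_mem (A := ↑(X.presheaf.stalk x)) (B := ↑(Y.presheaf.stalk y)) φ N _ h3
    rw [← LocComplIso.ker_evalₐ (maximalIdeal ↑(X.presheaf.stalk x)) N
      (maximalIdeal ↑(X.presheaf.stalk x)).fg_of_isNoetherianRing, RingHom.mem_ker] at h4
    have h5 : AdicCompletion.evalₐ (maximalIdeal ↑(X.presheaf.stalk x)) N
        (φ b - φ₀ cY) = 0 := by
      rw [← h4]; simp [φ₀]
    rw [map_sub, sub_eq_zero, hbX, h2, Ideal.Quotient.eq] at h5
    have h6 : ε (c - cX) ∈ maximalIdeal ↑(U.presheaf.stalk u) ^ N := by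
      have hle : (maximalIdeal ↑(X.presheaf.stalk x) ^ N).map ε ≤
          maximalIdeal ↑(U.presheaf.stalk u) ^ N := by
        rw [Ideal.map_pow, hεm]
      apply hle
      apply Ideal.mem_map_of_mem
      have : c - cX = -(cX - c) := by ring
      rw [this]; exact neg_mem h5
    have h7 : τ cY - ε cX ∈ maximalIdeal ↑(U.presheaf.stalk u) ^ N := by
      have : τ cY - ε cX = (τ cY - ε c) + ε (c - cX) := by rw [map_sub]; ring
      rw [this]; exact add_mem h1' h6
    -- transport to `U'`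
    rw [Scheme.Hom.stalkMap_comp, Scheme.Hom.stalkMap_comp, Ideal.Quotient.eq]
    show (U'.ι.stalkMap ⟨u, hu'⟩).hom (τ cY) - (U'.ι.stalkMap ⟨u, hu'⟩).hom (ε cX) ∈ _
    rw [← map_sub]
    have hle : (maximalIdeal ↑(U.presheaf.stalk u) ^ N).map (U'.ι.stalkMap ⟨u, hu'⟩).hom ≤
        maximalIdeal ↑(U'.toScheme.presheaf.stalk ⟨u, hu'⟩) ^ N := by
      rw [Ideal.map_pow]
      apply Ideal.pow_right_mono
      rw [Ideal.map_le_iff_le_comap]
      intro w hw
      rw [Ideal.mem_comap, IsLocalRing.mem_maximalIdeal, mem_nonunits_iff] at *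
      intro hu
      exact hw ((isUnit_map_iff (U'.ι.stalkMap ⟨u, hu'⟩).hom _).1 hu)
    exact hle (Ideal.mem_map_of_mem _ h7)

end main

end Groth.Agent.Lib.Helper86.EtNbhdIso
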