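import Mathlib
import Groth.Prelude
import Groth.Agent.Lib.Helper31.LocComplIso

/-! Algebra for S7201 (Stacks 0CAT) (helper86). -/

set_option autoImplicit false
universe u
open IsLocalRing

namespace Groth.Agent.Lib.Helper86.FTRefine

open Groth.Agent.Lib.Helper31

theorem exists_ft_refinement {A B : Type u} [CommRing A] [CommRing B] [Algebra A B]
    [IsNoetherianRing A] [Algebra.FiniteType A B]
    (p : Ideal A) [p.IsPrime] (Ap : Type u) [CommRing Ap] [Algebra A Ap]
    [IsLocalization.AtPrime Ap p] [IsLocalRing Ap] [IsNoetherianRing Ap]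
    (q : Ideal B) [q.IsPrime] (Bq : Type u) [CommRing Bq] [Algebra B Bq]
    [IsLocalization.AtPrime Bq q] [IsLocalRing Bq]
    (η : Ap →+* Bq) (hη : ∀ a : A, η (algebraMap A Ap a) = algebraMap B Bq (algebraMap A B a))
    (σ : Bq →+* AdicCompletion (maximalIdeal Ap) Ap)
    (hσ : σ.comp η = algebraMap Ap (AdicCompletion (maximalIdeal Ap) Ap))
    (hloc : ∀ b ∈ maximalIdeal Bq, σ b ∈ (maximalIdeal Ap).map
      (algebraMap Ap (AdicCompletion (maximalIdeal Ap) Ap))) (N : ℕ) :
    ∃ (B' : Type u) (_ : CommRing B') (_ : Algebra B B'), Algebra.FiniteType B B' ∧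
      ∃ (q' : Ideal B') (_ : q'.IsPrime), q'.comap (algebraMap B B') = q ∧
      ∀ (L' : Type u) [CommRing L'] [Algebra B' L'] [IsLocalization.AtPrime L' q']
        (γ : Bq →+* L')
        (_ : ∀ b : B, γ (algebraMap B Bq b) = algebraMap B' L' (algebraMap B B' b)),
        ∃ τ : L' →+* AdicCompletion (maximalIdeal Ap) Ap, τ.comp γ = σ ∧
          ∀ (σ' : Bq →+* AdicCompletion (maximalIdeal Ap) Ap),
            σ'.comp η = algebraMap Ap (AdicCompletion (maximalIdeal Ap) Ap) →
            (∃ τ' : L' →+* AdicCompletion (maximalIdeal Ap) Ap, τ'.comp γ = σ') →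
            ∀ a : Bq, σ a - σ' a ∈ (maximalIdeal Ap ^ N).map
              (algebraMap Ap (AdicCompletion (maximalIdeal Ap) Ap)) := by
  classical
  -- notation
  let O' := AdicCompletion (maximalIdeal Ap) Ap
  let algO : Ap →+* O' := algebraMap Ap O'
  set J : Ideal O' := (maximalIdeal Ap ^ N).map algO with hJ
  -- generators
  obtain ⟨s, hs⟩ := (Algebra.FiniteType.out : (⊤ : Subalgebra A B).FG)
  obtain ⟨c, hc⟩ := (p ^ N).fg_of_isNoetherianRing
  have hJspan : J = Ideal.span (Set.range fun j : ↥c => algO (algebraMap A Ap (j : A))) := by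
    have hm : maximalIdeal Ap ^ N = (p ^ N).map (algebraMap A Ap) := by
      rw [Ideal.map_pow, IsLocalization.AtPrime.map_eq_maximalIdeal p Ap]
    rw [hJ, hm, ← hc, Ideal.map_span, Ideal.map_span]
    congr 1
    ext z
    simp only [Set.mem_image, Set.mem_range, Finset.mem_coe, Subtype.exists, exists_prop,
      exists_exists_and_eq_and]
  have hA : ∀ a : A, σ (algebraMap B Bq (algebraMap A B a)) = algO (algebraMap A Ap a) := by
    intro a
    rw [← hη]
    exact DFunLike.congr_fun hσ _
  -- approximations of the generators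
  have h1 : ∀ b : B, ∃ (a : A) (f : A) (lam : ↥c → O'), f ∉ p ∧
      algO (algebraMap A Ap f) * σ (algebraMap B Bq b) =
        algO (algebraMap A Ap a) + algO (algebraMap A Ap f) *
          ∑ j : ↥c, lam j * algO (algebraMap A Ap (j : A)) := by
    intro b
    obtain ⟨α, hα⟩ := LocComplIso.hsurj_adic (maximalIdeal Ap)
      (maximalIdeal Ap).fg_of_isNoetherianRing N (σ (algebraMap B Bq b))
    obtain ⟨⟨a, f⟩, haf⟩ := IsLocalization.surj p.primeCompl α
    have hα' : σ (algebraMap B Bq b) - algO α ∈ J := hα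
    rw [hJspan, Ideal.mem_span_range_iff_exists_fun] at hα'
    obtain ⟨lam, hlam⟩ := hα'
    refine ⟨a, f, lam, f.2, ?_⟩
    rw [hlam]
    have : algO (algebraMap A Ap a) = algO α * algO (algebraMap A Ap f) := by
      rw [← map_mul]; congr 1; exact haf.symm
    rw [this]
    ring
  choose aa ff lam hff hrel using h1
  -- the algebra `B'`
  let ι := ↥s × ↥c
  let rel : ↥s → MvPolynomial ι B := fun i =>
    MvPolynomial.C (algebraMap A B (ff i)) * MvPolynomial.C (i : B) -
      MvPolynomial.C (algebraMap A B (aa i)) -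
      MvPolynomial.C (algebraMap A B (ff i)) *
        ∑ j : ↥c, MvPolynomial.X (i, j) * MvPolynomial.C (algebraMap A B (j : A))
  let I : Ideal (MvPolynomial ι B) := Ideal.span (Set.range rel)
  let B' := MvPolynomial ι B ⧸ I
  have hFT : Algebra.FiniteType B B' := inferInstance
  -- the map `B' → O'`
  let ev : MvPolynomial ι B →+* O' :=
    MvPolynomial.eval₂Hom (σ.comp (algebraMap B Bq)) (fun ij : ι => lam ij.1 ij.2)
  have hevC : ∀ b : B, ev (MvPolynomial.C b) = σ (algebraMap B Bq b) := by
    intro b; simp [ev]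
  have hevX : ∀ ij : ι, ev (MvPolynomial.X ij) = lam ij.1 ij.2 := by
    intro ij; simp [ev]
  have hevI : ∀ z ∈ I, ev z = 0 := by
    have : I ≤ RingHom.ker ev := by
      rw [Ideal.span_le]
      rintro _ ⟨i, rfl⟩
      rw [SetLike.mem_coe, RingHom.mem_ker]
      simp only [rel, map_sub, map_mul, map_sum, hevC, hevX, hA]
      rw [hrel]
      ring
    exact this
  let τ₀ : B' →+* O' := Ideal.Quotient.lift I ev hevI
  have hτ₀B : ∀ b : B, τ₀ (algebraMap B B' b) = σ (algebraMap B Bq b) := by
    intro b
    show τ₀ (Ideal.Quotient.mk I (MvPolynomial.C b)) = _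
    rw [Ideal.Quotient.lift_mk, hevC]
  -- the prime `q'`
  have hmax : maximalIdeal O' = (maximalIdeal Ap).map algO := AdicCompletion.maximalIdeal_eq_map
  let q' : Ideal B' := (maximalIdeal O').comap τ₀
  have hq' : q'.IsPrime := Ideal.comap_isPrime _ _
  have hq'q : q'.comap (algebraMap B B') = q := by
    ext b
    rw [Ideal.mem_comap, Ideal.mem_comap, hτ₀B]
    constructor
    · intro hb
      by_contra hbq
      have hu : IsUnit (algebraMap B Bq b) := IsLocalization.map_units Bq (⟨b, hbq⟩ : q.primeCompl)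
      exact ((IsLocalRing.mem_maximalIdeal _).1 hb) (hu.map σ)
    · intro hb
      rw [hmax]
      exact hloc _ ((IsLocalization.AtPrime.to_map_mem_maximal_iff Bq q b).2 hb)
  refine ⟨B', inferInstance, inferInstance, hFT, q', hq', hq'q, ?_⟩
  intro L' _ _ _ γ hγ
  have hunit : ∀ y : q'.primeCompl, IsUnit (τ₀ y) := by
    intro y
    by_contra hy
    exact y.2 ((IsLocalRing.mem_maximalIdeal _).2 hy)
  let τ : L' →+* O' := IsLocalization.lift (M := q'.primeCompl) (g := τ₀) hunit
  have hτ : ∀ z : B', τ (algebraMap B' L' z) = τ₀ z := fun z => IsLocalization.lift_eq hunit z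
  refine ⟨τ, ?_, ?_⟩
  · apply IsLocalization.ringHom_ext q.primeCompl
    ext b
    simp only [RingHom.comp_apply]
    rw [hγ, hτ, hτ₀B]
  · rintro σ' hσ' ⟨τ', hτ'⟩ a
    have hA' : ∀ a : A, σ' (algebraMap B Bq (algebraMap A B a)) = algO (algebraMap A Ap a) := by
      intro a
      rw [← hη]
      exact DFunLike.congr_fun hσ' _
    have hτ'B : ∀ b : B, τ' (algebraMap B' L' (algebraMap B B' b)) = σ' (algebraMap B Bq b) := by
      intro b
      rw [← hγ]
      exact DFunLike.congr_fun hτ' _
    -- generators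
    have hgen : ∀ i : ↥s, σ (algebraMap B Bq (i : B)) - σ' (algebraMap B Bq (i : B)) ∈ J := by
      intro i
      have h0 : (Ideal.Quotient.mk I (rel i) : B') = 0 :=
        Ideal.Quotient.eq_zero_iff_mem.2 (Ideal.subset_span ⟨i, rfl⟩)
      have h1 := congrArg (fun z => τ' (algebraMap B' L' z)) h0
      simp only [rel, map_sub, map_mul, map_sum, map_zero] at h1
      have hC : ∀ b : B, τ' (algebraMap B' L' (Ideal.Quotient.mk I (MvPolynomial.C b))) =
          σ' (algebraMap B Bq b) := hτ'B
      simp only [hC, hA'] at h1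
      have hu : IsUnit (algO (algebraMap A Ap (ff i))) :=
        (IsLocalization.map_units Ap (⟨ff i, hff i⟩ : p.primeCompl)).map algO
      have h2 := hrel i
      have h3 : algO (algebraMap A Ap (ff i)) *
          (σ (algebraMap B Bq (i : B)) - σ' (algebraMap B Bq (i : B)) -
            ∑ j : ↥c, (lam i j - τ' (algebraMap B' L' (Ideal.Quotient.mk I (MvPolynomial.X (i, j))))) *
              algO (algebraMap A Ap (j : A))) = 0 := by
        simp only [sub_mul, Finset.sum_sub_distrib, mul_sub]
        linear_combination h2 - h1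
      have h4 := (hu.mul_right_eq_zero).1 h3
      rw [sub_eq_zero] at h4
      rw [h4, hJspan]
      refine Ideal.sum_mem _ (fun j _ => Ideal.mul_mem_left _ _ (Ideal.subset_span ⟨j, rfl⟩))
    -- the two `A`-algebra maps `B → O'/J`
    let _ : Algebra A (O' ⧸ J) :=
      ((Ideal.Quotient.mk J).comp (algO.comp (algebraMap A Ap))).toAlgebra
    let g₁ : B →ₐ[A] O' ⧸ J :=
      { (Ideal.Quotient.mk J).comp (σ.comp (algebraMap B Bq)) with
        commutes' := fun a => by
          show Ideal.Quotient.mk J (σ (algebraMap B Bq (algebraMap A B a))) = _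
          rw [hA]; rfl }
    let g₂ : B →ₐ[A] O' ⧸ J :=
      { (Ideal.Quotient.mk J).comp (σ'.comp (algebraMap B Bq)) with
        commutes' := fun a => by
          show Ideal.Quotient.mk J (σ' (algebraMap B Bq (algebraMap A B a))) = _
          rw [hA']; rfl }
    have hg : g₁ = g₂ := by
      apply AlgHom.ext_of_adjoin_eq_top hs
      intro b hb
      show Ideal.Quotient.mk J (σ (algebraMap B Bq b)) = Ideal.Quotient.mk J (σ' (algebraMap B Bq b))
      rw [Ideal.Quotient.eq]
      exact hgen ⟨b, hb⟩
    have hfin : (Ideal.Quotient.mk J).comp σ = (Ideal.Quotient.mk J).comp σ' := by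
      apply IsLocalization.ringHom_ext q.primeCompl
      ext b
      exact DFunLike.congr_fun hg b
    have := DFunLike.congr_fun hfin a
    simp only [RingHom.comp_apply] at this
    rwa [Ideal.Quotient.eq] at this

end Groth.Agent.Lib.Helper86.FTRefine
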