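import Mathlib
import Groth.Prelude
import Groth.Agent.Lib.Helper86.EtNbhdSch2
import Groth.Agent.Lib.Helper86.FTRefine1

/-! S7201 (Stacks 0CAT), scheme layer (helper86). -/

set_option autoImplicit false
universe u
open AlgebraicGeometry CategoryTheory Opposite IsLocalRing

namespace Groth.Agent.Lib.Helper86.FTRefine

open Groth.Agent.Lib.Helper86.EtNbhdSch

theorem exists_finiteType_refinement {T S : Scheme.{u}} [IsNoetherian T] [IsNoetherian S]
    (h : T ⟶ S) [LocallyOfFiniteType h] [QuasiCompact h] (t : T)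
    (σ : ↑(T.presheaf.stalk t) →+* (AdicCompletion (IsLocalRing.maximalIdeal ↑(S.presheaf.stalk (h t))) ↑(S.presheaf.stalk (h t))))
    (hσ : σ.comp (h.stalkMap t).hom = algebraMap ↑(S.presheaf.stalk (h t)) (AdicCompletion (IsLocalRing.maximalIdeal ↑(S.presheaf.stalk (h t))) ↑(S.presheaf.stalk (h t))))
    (hloc : ∀ a ∈ IsLocalRing.maximalIdeal ↑(T.presheaf.stalk t),
      σ a ∈ (IsLocalRing.maximalIdeal ↑(S.presheaf.stalk (h t))).map (algebraMap ↑(S.presheaf.stalk (h t)) (AdicCompletion (IsLocalRing.maximalIdeal ↑(S.presheaf.stalk (h t))) ↑(S.presheaf.stalk (h t)))))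
    (N : ℕ) :
    ∃ (T' : Scheme.{u}) (g : T' ⟶ T) (t' : T') (hg : g t' = t) (τ : ↑(T'.presheaf.stalk t') →+* (AdicCompletion (IsLocalRing.maximalIdeal ↑(S.presheaf.stalk (h t))) ↑(S.presheaf.stalk (h t)))),
      LocallyOfFiniteType g ∧ QuasiCompact g ∧
      τ.comp ((g.stalkMap t').hom.comp (T.presheaf.stalkCongr (Inseparable.of_eq hg)).inv.hom) = σ ∧
      ∀ (σ' : ↑(T.presheaf.stalk t) →+* (AdicCompletion (IsLocalRing.maximalIdeal ↑(S.presheaf.stalk (h t))) ↑(S.presheaf.stalk (h t)))),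
        σ'.comp (h.stalkMap t).hom = algebraMap ↑(S.presheaf.stalk (h t)) (AdicCompletion (IsLocalRing.maximalIdeal ↑(S.presheaf.stalk (h t))) ↑(S.presheaf.stalk (h t))) →
        (∃ τ' : ↑(T'.presheaf.stalk t') →+* (AdicCompletion (IsLocalRing.maximalIdeal ↑(S.presheaf.stalk (h t))) ↑(S.presheaf.stalk (h t))),
          τ'.comp ((g.stalkMap t').hom.comp (T.presheaf.stalkCongr (Inseparable.of_eq hg)).inv.hom) = σ') →
        ∀ a : ↑(T.presheaf.stalk t), σ a - σ' a ∈ (IsLocalRing.maximalIdeal ↑(S.presheaf.stalk (h t)) ^ N).map (algebraMap ↑(S.presheaf.stalk (h t)) (AdicCompletion (IsLocalRing.maximalIdeal ↑(S.presheaf.stalk (h t))) ↑(S.presheaf.stalk (h t)))) := by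
  classical
  obtain ⟨W, hW, hsW, -⟩ := TopologicalSpace.Opens.isBasis_iff_nbhd.mp S.isBasis_affineOpens
    (show h t ∈ (⊤ : S.Opens) from trivial)
  obtain ⟨V, hV, htV, hVW⟩ := TopologicalSpace.Opens.isBasis_iff_nbhd.mp T.isBasis_affineOpens
    (show t ∈ h ⁻¹ᵁ W from hsW)
  let _ : Algebra Γ(S, W) Γ(T, V) := (h.appLE W V hVW).hom.toAlgebra
  have hAN : IsNoetherianRing Γ(S, W) := IsLocallyNoetherian.component_noetherian ⟨W, hW⟩
  have hft : Algebra.FiniteType Γ(S, W) Γ(T, V) :=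
    HasRingHomProperty.appLE @LocallyOfFiniteType h inferInstance ⟨W, hW⟩ ⟨V, hV⟩ hVW
  let _ : Algebra Γ(S, W) (S.presheaf.stalk (h t)) :=
    TopCat.Presheaf.algebra_section_stalk S.presheaf ⟨h t, hsW⟩
  have : IsLocalization.AtPrime (S.presheaf.stalk (h t)) (hW.primeIdealOf ⟨h t, hsW⟩).asIdeal :=
    hW.isLocalization_stalk ⟨h t, hsW⟩
  let _ : Algebra Γ(T, V) (T.presheaf.stalk t) :=
    TopCat.Presheaf.algebra_section_stalk T.presheaf ⟨t, htV⟩
  have : IsLocalization.AtPrime (T.presheaf.stalk t) (hV.primeIdealOf ⟨t, htV⟩).asIdeal :=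
    hV.isLocalization_stalk ⟨t, htV⟩
  have hη : ∀ a : Γ(S, W), (h.stalkMap t).hom (algebraMap Γ(S, W) (S.presheaf.stalk (h t)) a) =
      algebraMap Γ(T, V) (T.presheaf.stalk t) (algebraMap Γ(S, W) Γ(T, V) a) :=
    fun a => stalkMap_germ_appLE h W V hVW t htV a
  obtain ⟨B', _, _, hFT, q', hq', hq'q, H⟩ :=
    exists_ft_refinement (A := Γ(S, W)) (B := Γ(T, V)) (hW.primeIdealOf ⟨h t, hsW⟩).asIdeal
      (S.presheaf.stalk (h t)) (hV.primeIdealOf ⟨t, htV⟩).asIdeal (T.presheaf.stalk t)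
      (h.stalkMap t).hom hη σ hσ hloc N
  let θ : Γ(T, V) ⟶ CommRingCat.of B' := CommRingCat.ofHom (algebraMap Γ(T, V) B')
  let t' : Spec (CommRingCat.of B') := ⟨q', hq'⟩
  have hg : (Spec.map θ ≫ hV.fromSpec) t' = t := SpecMap_fromSpec_apply hV θ t' t htV hq'q
  let _ : Algebra B' ((Spec (CommRingCat.of B')).presheaf.stalk t') :=
    (((Spec (CommRingCat.of B')).presheaf.germ ⊤ t' trivial).hom.comp
      (Scheme.ΓSpecIso (CommRingCat.of B')).inv.hom).toAlgebra
  have hlocL : IsLocalization.AtPrime ((Spec (CommRingCat.of B')).presheaf.stalk t') q' :=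
    StructureSheaf.IsLocalization.to_stalk B' t'
  let γ : ↑(T.presheaf.stalk t) →+* ↑((Spec (CommRingCat.of B')).presheaf.stalk t') :=
    ((Spec.map θ ≫ hV.fromSpec).stalkMap t').hom.comp
      (T.presheaf.stalkCongr (Inseparable.of_eq hg)).inv.hom
  have hγ : ∀ b : Γ(T, V), γ (algebraMap Γ(T, V) (T.presheaf.stalk t) b) =
      algebraMap B' ((Spec (CommRingCat.of B')).presheaf.stalk t') (algebraMap Γ(T, V) B' b) := by
    intro b
    show ((Spec.map θ ≫ hV.fromSpec).stalkMap t').hom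
      ((T.presheaf.stalkCongr (Inseparable.of_eq hg)).inv.hom (T.presheaf.germ V t htV b)) = _
    rw [stalkCongr_inv_germ V hg htV b, stalkMap_SpecMap_fromSpec_germ hV θ t' _ b]
    rfl
  obtain ⟨τ, hτ, Huniq⟩ := H ((Spec (CommRingCat.of B')).presheaf.stalk t') γ hγ
  refine ⟨Spec (CommRingCat.of B'), Spec.map θ ≫ hV.fromSpec, t', hg, τ, ?_, ?_, hτ, ?_⟩
  · have : LocallyOfFiniteType (Spec.map θ) :=
      (HasRingHomProperty.Spec_iff (P := @LocallyOfFiniteType)).2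
        (RingHom.finiteType_algebraMap.2 hFT)
    infer_instance
  · infer_instance
  · intro σ' hσ' hex a
    exact Huniq σ' hσ' hex a

end Groth.Agent.Lib.Helper86.FTRefine
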