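import Mathlib

set_option autoImplicit false
set_option linter.unusedSectionVars false
universe u v w

open TensorProduct MvPolynomial

namespace Groth.Agent.Lib.Helper86.GenComm

section Generic

variable {R : Type u} [CommRing R] {K : Type w} [Field K] [Algebra R K]
  {B : Type v} [Ring B] [Algebra R B] {n : ℕ}

/-- A finite free algebra over a local ring is commutative as soon as some geometric fibre is
generated by one element (the generic element argument). -/
theorem commutative_of_generic
    (hloc : ∀ r : R, algebraMap R K r ≠ 0 → IsUnit r)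
    (e : Module.Basis (Fin n) R B)
    (β : K ⊗[R] B) (hβ : LinearIndependent K (fun j : Fin n => β ^ (j : ℕ))) :
    ∀ x y : B, x * y = y * x := by
  classical
  let S := MvPolynomial (Fin n) R
  let eS : Module.Basis (Fin n) S (S ⊗[R] B) := Algebra.TensorProduct.basis S e
  let eK : Module.Basis (Fin n) K (K ⊗[R] B) := Algebra.TensorProduct.basis K e
  let βc : Fin n → K := fun i => eK.repr β i
  let ev : S →ₐ[R] K := MvPolynomial.aeval βc
  let Θ : S ⊗[R] B →ₐ[R] K ⊗[R] B := Algebra.TensorProduct.map ev (AlgHom.id R B)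
  let g : S ⊗[R] B := ∑ i, (X i : S) ⊗ₜ[R] e i
  have hΘg : Θ g = β := by
    show Θ (∑ i, (X i : S) ⊗ₜ[R] e i) = β
    rw [map_sum]
    conv_rhs => rw [← eK.sum_repr β]
    refine Finset.sum_congr rfl fun i _ => ?_
    show Algebra.TensorProduct.map ev (AlgHom.id R B) ((X i : S) ⊗ₜ[R] e i) = _
    rw [Algebra.TensorProduct.map_tmul, AlgHom.id_apply]
    show (MvPolynomial.aeval βc (X i : S)) ⊗ₜ[R] e i = eK.repr β i • eK i
    rw [MvPolynomial.aeval_X]
    show βc i ⊗ₜ[R] e i = βc i • (Algebra.TensorProduct.basis K e) i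
    rw [Algebra.TensorProduct.basis_apply, TensorProduct.smul_tmul', smul_eq_mul, mul_one]
  have hrepr : ∀ (x : S ⊗[R] B) (i : Fin n), eK.repr (Θ x) i = ev (eS.repr x i) := by
    intro x i
    induction x using TensorProduct.induction_on with
    | zero => simp
    | tmul s b =>
      show (Algebra.TensorProduct.basis K e).repr
          (Algebra.TensorProduct.map ev (AlgHom.id R B) (s ⊗ₜ[R] b)) i =
        ev ((Algebra.TensorProduct.basis S e).repr (s ⊗ₜ[R] b) i)
      rw [Algebra.TensorProduct.map_tmul, Algebra.TensorProduct.basis_repr_tmul,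
        Algebra.TensorProduct.basis_repr_tmul]
      simp only [Finsupp.smul_apply, Finsupp.mapRange_apply, smul_eq_mul, AlgHom.id_apply, map_mul,
        AlgHom.commutes]
    | add x y hx hy =>
      rw [map_add, map_add, Finsupp.add_apply, hx, hy, map_add, Finsupp.add_apply, map_add]
  let M : Matrix (Fin n) (Fin n) S := Matrix.of fun i j => eS.repr (g ^ (j : ℕ)) i
  have hD : ev M.det = eK.det (fun j : Fin n => β ^ (j : ℕ)) := by
    rw [Module.Basis.det_apply, AlgHom.map_det]
    congr 1
    ext i j
    show ev (eS.repr (g ^ (j : ℕ)) i) = eK.repr (β ^ (j : ℕ)) i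
    rw [← hrepr, map_pow, hΘg]
  have hDne : ev M.det ≠ 0 := by
    rw [hD]
    have hfd : FiniteDimensional K (K ⊗[R] B) := Module.Finite.of_basis eK
    have hspan : Submodule.span K (Set.range fun j : Fin n => β ^ (j : ℕ)) = ⊤ :=
      hβ.span_eq_top_of_card_eq_finrank' (Module.finrank_eq_card_basis eK).symm
    exact ((Module.Basis.is_basis_iff_det eK).1 ⟨hβ, hspan⟩).ne_zero
  -- Cramer
  have hg : ∀ j : Fin n, g ^ (j : ℕ) = ∑ l, M l j • eS l := by
    intro j
    conv_lhs => rw [← eS.sum_repr (g ^ (j : ℕ))]
    rfl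
  have hC : ∀ i : Fin n, M.det • eS i = ∑ j, M.adjugate j i • g ^ (j : ℕ) := by
    intro i
    have h1 : ∑ j, M.adjugate j i • g ^ (j : ℕ) = ∑ l, (∑ j, M l j * M.adjugate j i) • eS l := by
      have h0 : ∀ j : Fin n, M.adjugate j i • g ^ (j : ℕ) =
          ∑ l, (M l j * M.adjugate j i) • eS l := by
        intro j
        rw [hg j, Finset.smul_sum]
        refine Finset.sum_congr rfl fun l _ => ?_
        rw [smul_smul, mul_comm]
      rw [Finset.sum_congr rfl (fun j _ => h0 j), Finset.sum_comm]
      refine Finset.sum_congr rfl fun l _ => ?_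
      rw [Finset.sum_smul]
    have h2 : ∀ l, ∑ j, M l j * M.adjugate j i = if l = i then M.det else 0 := by
      intro l
      have h3 : (M * M.adjugate) l i = (M.det • (1 : Matrix (Fin n) (Fin n) S)) l i := by
        rw [Matrix.mul_adjugate]
      rw [Matrix.mul_apply, Matrix.smul_apply, Matrix.one_apply, smul_eq_mul, mul_ite, mul_one,
        mul_zero] at h3
      exact h3
    rw [h1, Finset.sum_congr rfl (fun l _ => by rw [h2 l])]
    simp only [ite_smul, zero_smul]
    rw [Finset.sum_ite_eq', if_pos (Finset.mem_univ _)]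
  have hcomm : ∀ i i' : Fin n, Commute (M.det • eS i) (M.det • eS i') := by
    intro i i'
    rw [hC, hC]
    refine Commute.sum_left _ _ _ fun j _ => Commute.sum_right _ _ _ fun j' _ => ?_
    exact ((Commute.refl g).pow_pow _ _).smul_left _ |>.smul_right _
  have hz : ∀ i i' : Fin n, e i * e i' = e i' * e i := by
    intro i i'
    have h1 : (M.det ^ 2) • ((1 : S) ⊗ₜ[R] (e i * e i' - e i' * e i)) = 0 := by
      have h2 := (hcomm i i').eq
      rw [smul_mul_smul_comm, smul_mul_smul_comm] at h2
      have h3 : eS i * eS i' = (1 : S) ⊗ₜ[R] (e i * e i') := by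
        show (Algebra.TensorProduct.basis S e) i * (Algebra.TensorProduct.basis S e) i' = _
        rw [Algebra.TensorProduct.basis_apply, Algebra.TensorProduct.basis_apply,
          Algebra.TensorProduct.tmul_mul_tmul, mul_one]
      have h4 : eS i' * eS i = (1 : S) ⊗ₜ[R] (e i' * e i) := by
        show (Algebra.TensorProduct.basis S e) i' * (Algebra.TensorProduct.basis S e) i = _
        rw [Algebra.TensorProduct.basis_apply, Algebra.TensorProduct.basis_apply,
          Algebra.TensorProduct.tmul_mul_tmul, mul_one]
      rw [h3, h4, ← pow_two] at h2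
      rw [TensorProduct.tmul_sub, smul_sub, h2, sub_self]
    -- a unit coefficient of det^2
    have h5 : ev (M.det ^ 2) ≠ 0 := by
      rw [map_pow]
      exact pow_ne_zero _ hDne
    obtain ⟨mon, hmon⟩ : ∃ mon, algebraMap R K (coeff mon (M.det ^ 2)) ≠ 0 := by
      by_contra hcon
      push Not at hcon
      apply h5
      show MvPolynomial.aeval βc (M.det ^ 2) = 0
      rw [MvPolynomial.aeval_def, MvPolynomial.eval₂_eq]
      refine Finset.sum_eq_zero fun d _ => ?_
      rw [hcon d, zero_mul]
    have hunit := hloc _ hmon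
    apply sub_eq_zero.1
    apply e.repr.injective
    ext l
    rw [map_zero, Finsupp.zero_apply]
    have h6 := congrArg (fun t => eS.repr t l) h1
    simp only [map_smul, map_zero, Finsupp.smul_apply, Finsupp.zero_apply] at h6
    have h7 : eS.repr ((1 : S) ⊗ₜ[R] (e i * e i' - e i' * e i)) l =
        C (e.repr (e i * e i' - e i' * e i) l) := by
      show (Algebra.TensorProduct.basis S e).repr _ l = _
      rw [Algebra.TensorProduct.basis_repr_tmul]
      simp only [Finsupp.smul_apply, Finsupp.mapRange_apply, smul_eq_mul, one_mul]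
      rfl
    rw [h7, smul_eq_mul, mul_comm] at h6
    have h8 := congrArg (coeff mon) h6
    rw [MvPolynomial.coeff_C_mul, MvPolynomial.coeff_zero, mul_comm] at h8
    exact (hunit.mul_right_eq_zero).1 h8
  intro x y
  have key : LinearMap.mul R B = (LinearMap.mul R B).flip := by
    refine e.ext fun i => e.ext fun i' => ?_
    simp only [LinearMap.mul_apply', LinearMap.flip_apply]
    exact hz i i'
  have := LinearMap.congr_fun (LinearMap.congr_fun key x) y
  simpa using this

end Generic

end Groth.Agent.Lib.Helper86.GenComm
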