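import Mathlib
import Groth.Prelude.Def_Isoc

/-!
# Library for `Def_Isoc` (helper86): lattices in isocrystals, `pPow`, `latImg`, orders.
-/

set_option autoImplicit false

noncomputable section

open scoped Pointwise Isocrystal

universe u v

namespace Groth.Agent.Lib.Helper86

section Basic

variable {p : ℕ} [Fact p.Prime] {k : Type u} [Field k] [CharP k p]
variable {N : Type v} [AddCommGroup N] [Module (WittVector p k) N] [Module K(p, k) N]
  [IsScalarTower (WittVector p k) K(p, k) N]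

/-- `p ≠ 0` in the fraction field of the Witt vectors. -/
theorem pL_ne_zero : (p : K(p, k)) ≠ 0 := by
  have h : (p : WittVector p k) ≠ 0 := WittVector.p_nonzero p k
  have : (p : K(p, k)) = algebraMap (WittVector p k) K(p, k) (p : WittVector p k) := by
    rw [map_natCast]
  rw [this]
  exact (map_ne_zero_iff _ (IsFractionRing.injective (WittVector p k) K(p, k))).mpr h

theorem pL_zpow_ne_zero (r : ℤ) : (p : K(p, k)) ^ r ≠ 0 := zpow_ne_zero r pL_ne_zero

theorem mem_pPow_iff {r : ℤ} {M : Submodule (WittVector p k) N} {x : N} :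
    x ∈ Isoc.pPow r M ↔ ((p : K(p, k)) ^ (-r)) • x ∈ M := by
  unfold Isoc.pPow
  rw [Submodule.mem_smul_pointwise_iff_exists]
  constructor
  · rintro ⟨y, hy, rfl⟩
    rw [smul_smul, ← zpow_add₀ pL_ne_zero, neg_add_cancel, zpow_zero, one_smul]
    exact hy
  · intro h
    refine ⟨_, h, ?_⟩
    rw [smul_smul, ← zpow_add₀ pL_ne_zero, add_neg_cancel, zpow_zero, one_smul]

theorem smul_mem_pPow {r : ℤ} {M : Submodule (WittVector p k) N} {x : N} (hx : x ∈ M) :
    ((p : K(p, k)) ^ r) • x ∈ Isoc.pPow r M :=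
  Submodule.smul_mem_pointwise_smul _ _ _ hx

theorem pPow_zero (M : Submodule (WittVector p k) N) : Isoc.pPow 0 M = M := by
  unfold Isoc.pPow
  rw [zpow_zero, one_smul]

theorem pPow_pPow (r s : ℤ) (M : Submodule (WittVector p k) N) :
    Isoc.pPow r (Isoc.pPow s M) = Isoc.pPow (r + s) M := by
  unfold Isoc.pPow
  rw [smul_smul, ← zpow_add₀ pL_ne_zero]

theorem pPow_mono (r : ℤ) {M M' : Submodule (WittVector p k) N} (h : M ≤ M') :
    Isoc.pPow r M ≤ Isoc.pPow r M' := by
  intro x hx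
  rw [mem_pPow_iff] at hx ⊢
  exact h hx

theorem pPow_le_pPow_iff (r : ℤ) {M M' : Submodule (WittVector p k) N} :
    Isoc.pPow r M ≤ Isoc.pPow r M' ↔ M ≤ M' := by
  refine ⟨fun h => ?_, pPow_mono r⟩
  have := pPow_mono (-r) h
  rwa [pPow_pPow, pPow_pPow, neg_add_cancel, pPow_zero, pPow_zero] at this

theorem natCast_smul_eq (n : ℕ) (x : N) :
    ((p : K(p, k)) ^ n) • x = ((p : WittVector p k) ^ n) • x := by
  rw [← algebraMap_smul K(p, k) ((p : WittVector p k) ^ n) x, map_pow, map_natCast]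

/-- `p^r M ⊆ p^s M` for `s ≤ r`. -/
theorem pPow_anti {r s : ℤ} (h : s ≤ r) (M : Submodule (WittVector p k) N) :
    Isoc.pPow r M ≤ Isoc.pPow s M := by
  obtain ⟨n, hn⟩ := Int.eq_ofNat_of_zero_le (sub_nonneg.mpr h)
  obtain rfl : r = s + n := by omega
  rw [← pPow_pPow]
  apply pPow_mono
  intro x hx
  rw [mem_pPow_iff] at hx
  have : x = ((p : K(p, k)) ^ (n : ℤ)) • (((p : K(p, k)) ^ (-(n : ℤ))) • x) := by
    rw [smul_smul, ← zpow_add₀ pL_ne_zero, add_neg_cancel, zpow_zero, one_smul]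
  rw [this, zpow_natCast, natCast_smul_eq]
  exact M.smul_mem _ hx

theorem pPow_le_iff {r : ℤ} {M M' : Submodule (WittVector p k) N} :
    Isoc.pPow r M ≤ M' ↔ M ≤ Isoc.pPow (-r) M' := by
  constructor
  · intro h
    have := pPow_mono (-r) h
    rwa [pPow_pPow, neg_add_cancel, pPow_zero] at this
  · intro h
    have := pPow_mono r h
    rwa [pPow_pPow, add_neg_cancel, pPow_zero] at this

theorem le_pPow_iff {r : ℤ} {M M' : Submodule (WittVector p k) N} :
    M ≤ Isoc.pPow r M' ↔ Isoc.pPow (-r) M ≤ M' := by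
  rw [pPow_le_iff, neg_neg]

end Basic

section Semilinear

variable {p : ℕ} [Fact p.Prime] {k : Type u} [Field k] [CharP k p]
variable {N : Type v} [AddCommGroup N] [Module (WittVector p k) N] [Module K(p, k) N]
  [IsScalarTower (WittVector p k) K(p, k) N]

/-- The ring endomorphism `τ` of `L` restricts to the automorphism `e` of `W`. -/
structure WCompat (τ : K(p, k) →+* K(p, k)) (e : WittVector p k ≃+* WittVector p k) : Prop where
  comm : ∀ w, τ (algebraMap (WittVector p k) K(p, k) w) =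
    algebraMap (WittVector p k) K(p, k) (e w)

namespace WCompat

variable {τ : K(p, k) →+* K(p, k)} {e : WittVector p k ≃+* WittVector p k}

theorem map_p (h : WCompat τ e) : τ (p : K(p, k)) = p := by
  have : (p : K(p, k)) = algebraMap (WittVector p k) K(p, k) (p : WittVector p k) := by
    rw [map_natCast]
  rw [this, h.comm, map_natCast]

theorem map_p_zpow (h : WCompat τ e) (r : ℤ) : τ ((p : K(p, k)) ^ r) = (p : K(p, k)) ^ r := by
  rw [map_zpow₀, h.map_p]

theorem pow (h : WCompat τ e) (n : ℕ) : WCompat (τ ^ n) (e ^ n) := by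
  induction n with
  | zero => exact ⟨fun w => rfl⟩
  | succ n ih =>
    refine ⟨fun w => ?_⟩
    rw [pow_succ, pow_succ, RingHom.mul_def, RingHom.comp_apply, h.comm, ih.comm]
    rfl

theorem surjective (h : WCompat τ e) : Function.Surjective τ := by
  intro x
  obtain ⟨a, b, hb, rfl⟩ := IsFractionRing.div_surjective (A := WittVector p k) x
  refine ⟨algebraMap _ _ (e.symm a) / algebraMap _ _ (e.symm b), ?_⟩
  rw [map_div₀, h.comm, h.comm, e.apply_symm_apply, e.apply_symm_apply]

theorem frob [PerfectRing k p] (a : ℤ) :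
    WCompat (Isoc.frob p k a) (WittVector.frobeniusEquiv p k ^ a) :=
  ⟨fun w => Isoc.frob_algebraMap p k a w⟩

end WCompat

variable {τ : K(p, k) →+* K(p, k)} {e : WittVector p k ≃+* WittVector p k}

/-- A `τ`-semilinear map over `L` seen as an `e`-semilinear map over `W`. -/
def toW (F : N →ₛₗ[τ] N) (h : WCompat τ e) : N →ₛₗ[(e : WittVector p k →+* WittVector p k)] N where
  toFun := F
  map_add' := F.map_add
  map_smul' w x := by
    show F (w • x) = e w • F x
    rw [← algebraMap_smul K(p, k) w x, F.map_smulₛₗ, h.comm, algebraMap_smul]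

@[simp] theorem toW_apply (F : N →ₛₗ[τ] N) (h : WCompat τ e) (x : N) : toW F h x = F x := rfl

theorem latImg_eq_map (h : WCompat τ e) (F : N →ₛₗ[τ] N) (s : ℕ)
    (M : Submodule (WittVector p k) N) :
    Isoc.latImg F s M = M.map (toW (Isoc.iter F s) (h.pow s)) := by
  unfold Isoc.latImg
  have : (⇑F)^[s] '' (M : Set N) = ((M.map (toW (Isoc.iter F s) (h.pow s)) :
      Submodule (WittVector p k) N) : Set N) := by
    ext y
    simp only [Set.mem_image, SetLike.mem_coe, Submodule.mem_map, toW_apply, Isoc.iter_apply]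
  rw [this, Submodule.span_eq]

theorem mem_latImg (h : WCompat τ e) {F : N →ₛₗ[τ] N} {s : ℕ}
    {M : Submodule (WittVector p k) N} {y : N} :
    y ∈ Isoc.latImg F s M ↔ ∃ x ∈ M, (⇑F)^[s] x = y := by
  rw [latImg_eq_map h, Submodule.mem_map]
  rfl

theorem latImg_mono (F : N →ₛₗ[τ] N) (s : ℕ) {M M' : Submodule (WittVector p k) N}
    (hM : M ≤ M') : Isoc.latImg F s M ≤ Isoc.latImg F s M' := by
  unfold Isoc.latImg
  exact Submodule.span_mono (Set.image_mono hM)

theorem latImg_zero (F : N →ₛₗ[τ] N) (M : Submodule (WittVector p k) N) :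
    Isoc.latImg F 0 M = M := by
  unfold Isoc.latImg
  simp

theorem latImg_add (h : WCompat τ e) (F : N →ₛₗ[τ] N) (s t : ℕ)
    (M : Submodule (WittVector p k) N) :
    Isoc.latImg F (s + t) M = Isoc.latImg F s (Isoc.latImg F t M) := by
  ext y
  rw [mem_latImg h, mem_latImg h]
  constructor
  · rintro ⟨x, hx, rfl⟩
    refine ⟨(⇑F)^[t] x, (mem_latImg h).mpr ⟨x, hx, rfl⟩, ?_⟩
    rw [← Function.iterate_add_apply]
  · rintro ⟨z, hz, rfl⟩
    obtain ⟨x, hx, rfl⟩ := (mem_latImg h).mp hz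
    exact ⟨x, hx, by rw [Function.iterate_add_apply]⟩

theorem iterate_smul_p (h : WCompat τ e) (F : N →ₛₗ[τ] N) (s : ℕ) (r : ℤ) (x : N) :
    (⇑F)^[s] (((p : K(p, k)) ^ r) • x) = ((p : K(p, k)) ^ r) • (⇑F)^[s] x := by
  have := (Isoc.iter F s).map_smulₛₗ ((p : K(p, k)) ^ r) x
  rw [(h.pow s).map_p_zpow] at this
  exact this

theorem latImg_pPow (h : WCompat τ e) (F : N →ₛₗ[τ] N) (s : ℕ) (r : ℤ)
    (M : Submodule (WittVector p k) N) :
    Isoc.latImg F s (Isoc.pPow r M) = Isoc.pPow r (Isoc.latImg F s M) := by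
  ext y
  rw [mem_latImg h, mem_pPow_iff, mem_latImg h]
  constructor
  · rintro ⟨x, hx, rfl⟩
    rw [mem_pPow_iff] at hx
    exact ⟨_, hx, iterate_smul_p h F s _ x⟩
  · rintro ⟨x, hx, hxy⟩
    refine ⟨((p : K(p, k)) ^ r) • x, smul_mem_pPow hx, ?_⟩
    rw [iterate_smul_p h, hxy, smul_smul, ← zpow_add₀ pL_ne_zero, add_neg_cancel, zpow_zero,
      one_smul]

end Semilinear

section Lattice

variable {p : ℕ} [Fact p.Prime] {k : Type u} [Field k] [CharP k p] [PerfectRing k p]
variable {N : Type v} [AddCommGroup N] [Module (WittVector p k) N] [Module K(p, k) N]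
  [IsScalarTower (WittVector p k) K(p, k) N]

/-- Every element of `L` becomes integral after multiplication by a power of `p`. -/
theorem exists_pow_mul_eq_algebraMap (x : K(p, k)) :
    ∃ (n : ℕ) (w : WittVector p k), (p : K(p, k)) ^ n * x = algebraMap (WittVector p k) K(p, k) w := by
  obtain ⟨a, b, hb, rfl⟩ := IsFractionRing.div_surjective (A := WittVector p k) x
  have hb0 : b ≠ 0 := nonZeroDivisors.ne_zero hb
  obtain ⟨m, u, rfl⟩ := WittVector.exists_eq_pow_p_mul' b hb0
  refine ⟨m, a * ((u⁻¹ : (WittVector p k)ˣ) : WittVector p k), ?_⟩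
  have hu : algebraMap (WittVector p k) K(p, k) (u : WittVector p k) ≠ 0 :=
    (map_ne_zero_iff _ (IsFractionRing.injective (WittVector p k) K(p, k))).mpr u.ne_zero
  have hinv : algebraMap (WittVector p k) K(p, k) ((u⁻¹ : (WittVector p k)ˣ) : WittVector p k) =
      (algebraMap (WittVector p k) K(p, k) (u : WittVector p k))⁻¹ := by
    apply eq_inv_of_mul_eq_one_left
    rw [← map_mul, Units.inv_mul, map_one]
  rw [map_mul, map_mul, map_pow, map_natCast, hinv]
  have hp : (p : K(p, k)) ^ m ≠ 0 := pow_ne_zero _ pL_ne_zero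
  field_simp

theorem exists_pow_smul_mem_of_mem_span {M : Submodule (WittVector p k) N} {x : N}
    (hx : x ∈ Submodule.span K(p, k) (M : Set N)) : ∃ n : ℕ, ((p : K(p, k)) ^ n) • x ∈ M := by
  induction hx using Submodule.span_induction with
  | mem x hx => exact ⟨0, by simpa using hx⟩
  | zero => exact ⟨0, by simp⟩
  | add x y _ _ hx hy =>
    obtain ⟨n₁, h₁⟩ := hx
    obtain ⟨n₂, h₂⟩ := hy
    refine ⟨n₁ + n₂, ?_⟩
    rw [smul_add]
    apply M.add_mem
    · rw [add_comm, pow_add, mul_smul, natCast_smul_eq]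
      exact M.smul_mem _ h₁
    · rw [pow_add, mul_smul, natCast_smul_eq]
      exact M.smul_mem _ h₂
  | smul a x _ hx =>
    obtain ⟨n, hn⟩ := hx
    obtain ⟨m, w, hw⟩ := exists_pow_mul_eq_algebraMap (p := p) (k := k) a
    refine ⟨m + n, ?_⟩
    have : ((p : K(p, k)) ^ (m + n)) • a • x = w • (((p : K(p, k)) ^ n) • x) := by
      rw [← algebraMap_smul K(p, k) w, ← hw, smul_smul, smul_smul, pow_add]
      congr 1
      ring
    rw [this]
    exact M.smul_mem _ hn

theorem exists_pPow_le_of_fg {M₁ M₂ : Submodule (WittVector p k) N} (h₁ : M₁.FG)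
    (h₂ : Submodule.span K(p, k) (M₂ : Set N) = ⊤) : ∃ c : ℕ, Isoc.pPow c M₁ ≤ M₂ := by
  classical
  obtain ⟨S, rfl⟩ := h₁
  have hex : ∀ x : N, ∃ n : ℕ, ((p : K(p, k)) ^ n) • x ∈ M₂ := fun x =>
    exists_pow_smul_mem_of_mem_span (by rw [h₂]; trivial)
  choose n hn using hex
  refine ⟨S.sup n, ?_⟩
  rw [pPow_le_iff, Submodule.span_le]
  intro x hx
  rw [SetLike.mem_coe, mem_pPow_iff, neg_neg, zpow_natCast]
  have hle : n x ≤ S.sup n := Finset.le_sup hx
  obtain ⟨d, hd⟩ := Nat.exists_eq_add_of_le hle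
  rw [hd, add_comm, pow_add, mul_smul, natCast_smul_eq]
  exact M₂.smul_mem _ (hn x)

theorem isLattice_pPow {M : Submodule (WittVector p k) N} (hM : M.IsLattice K(p, k)) (r : ℤ) :
    (Isoc.pPow r M).IsLattice K(p, k) where
  fg := by
    unfold Isoc.pPow
    rw [Submodule.pointwise_smul_def]
    exact hM.fg.map _
  span_eq_top := by
    rw [eq_top_iff, ← hM.span_eq_top, Submodule.span_le]
    intro y hy
    have : y = ((p : K(p, k)) ^ (-r)) • (((p : K(p, k)) ^ r) • y) := by
      rw [smul_smul, ← zpow_add₀ pL_ne_zero, neg_add_cancel, zpow_zero, one_smul]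
    rw [this]
    exact Submodule.smul_mem _ _ (Submodule.subset_span (smul_mem_pPow hy))

theorem isLattice_latImg {τ : K(p, k) →+* K(p, k)} {e : WittVector p k ≃+* WittVector p k}
    (h : WCompat τ e) {F : N →ₛₗ[τ] N} (hF : Function.Bijective F)
    {M : Submodule (WittVector p k) N} (hM : M.IsLattice K(p, k)) (s : ℕ) :
    (Isoc.latImg F s M).IsLattice K(p, k) where
  fg := by
    rw [latImg_eq_map h]
    exact hM.fg.map _
  span_eq_top := by
    rw [eq_top_iff]
    intro y hy
    clear hy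
    obtain ⟨x, rfl⟩ := (hF.iterate s).surjective y
    have hx : x ∈ Submodule.span K(p, k) (M : Set N) := by rw [hM.span_eq_top]; trivial
    induction hx using Submodule.span_induction with
    | mem x hx => exact Submodule.subset_span ((mem_latImg h).mpr ⟨x, hx, rfl⟩)
    | zero =>
      have : (⇑F)^[s] 0 = 0 := (Isoc.iter F s).map_zero
      rw [this]; exact Submodule.zero_mem _
    | add x y _ _ hx hy =>
      have : (⇑F)^[s] (x + y) = (⇑F)^[s] x + (⇑F)^[s] y := (Isoc.iter F s).map_add x y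
      rw [this]; exact Submodule.add_mem _ hx hy
    | smul a x _ hx =>
      have : (⇑F)^[s] (a • x) = ((τ ^ s) a) • (⇑F)^[s] x := (Isoc.iter F s).map_smulₛₗ a x
      rw [this]; exact Submodule.smul_mem _ _ hx

/-- Nakayama for `p`: a finitely generated `W`-submodule with `M ≤ p M` is zero. -/
theorem eq_bot_of_le_pPow_one {M : Submodule (WittVector p k) N} (hfg : M.FG)
    (h : M ≤ Isoc.pPow 1 M) : M = ⊥ := by
  apply Submodule.eq_bot_of_le_smul_of_le_jacobson_bot (Ideal.span {(p : WittVector p k)}) M hfg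
  · intro x hx
    have hx' := h hx
    unfold Isoc.pPow at hx'
    rw [Submodule.mem_smul_pointwise_iff_exists] at hx'
    obtain ⟨y, hy, rfl⟩ := hx'
    rw [zpow_one]
    have : (p : K(p, k)) • y = (p : WittVector p k) • y := by
      rw [← algebraMap_smul K(p, k) (p : WittVector p k) y, map_natCast]
    rw [this]
    exact Submodule.smul_mem_smul (Ideal.subset_span rfl) hy
  · rw [IsLocalRing.jacobson_eq_maximalIdeal ⊥ bot_ne_top, Ideal.span_le]
    intro x hx
    rw [Set.mem_singleton_iff] at hx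
    rw [hx]
    exact (IsLocalRing.mem_maximalIdeal _).mpr (WittVector.irreducible p).not_isUnit

theorem isLattice_ne_bot [Nontrivial N] {M : Submodule (WittVector p k) N}
    (hM : M.IsLattice K(p, k)) : M ≠ ⊥ := by
  intro h
  have := hM.span_eq_top
  rw [h] at this
  simp at this

theorem isOrd_le_iff {τ : K(p, k) →+* K(p, k)} {F : N →ₛₗ[τ] N}
    {M : Submodule (WittVector p k) N} {s : ℕ} {r : ℤ} (h : Isoc.IsOrd M F s r) (j : ℤ) :
    Isoc.latImg F s M ≤ Isoc.pPow j M ↔ j ≤ r := by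
  constructor
  · intro hj
    by_contra hlt
    push Not at hlt
    exact h.2 (hj.trans (pPow_anti (by omega) M))
  · intro hj
    exact h.1.trans (pPow_anti hj M)

theorem isOrd_unique {τ : K(p, k) →+* K(p, k)} {F : N →ₛₗ[τ] N}
    {M : Submodule (WittVector p k) N} {s : ℕ} {r r' : ℤ} (h : Isoc.IsOrd M F s r)
    (h' : Isoc.IsOrd M F s r') : r = r' :=
  le_antisymm ((isOrd_le_iff h' r).mp h.1) ((isOrd_le_iff h r').mp h'.1)

theorem exists_isOrd [Nontrivial N] {τ : K(p, k) →+* K(p, k)}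
    {e : WittVector p k ≃+* WittVector p k}
    (h : WCompat τ e) {F : N →ₛₗ[τ] N} (hF : Function.Bijective F)
    {M : Submodule (WittVector p k) N} (hM : M.IsLattice K(p, k)) (s : ℕ) :
    ∃ r : ℤ, Isoc.IsOrd M F s r := by
  have hM' := isLattice_latImg h hF hM s
  obtain ⟨c, hc⟩ := exists_pPow_le_of_fg hM'.fg hM.span_eq_top
  obtain ⟨c', hc'⟩ := exists_pPow_le_of_fg hM.fg hM'.span_eq_top
  have hbdd : ∃ b : ℤ, ∀ z : ℤ, Isoc.latImg F s M ≤ Isoc.pPow z M → z ≤ b := by
    refine ⟨c', fun z hz => ?_⟩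
    by_contra hlt
    push Not at hlt
    have h1 : Isoc.latImg F s M ≤ Isoc.pPow (z - c') (Isoc.latImg F s M) := by
      refine hz.trans ?_
      have : Isoc.pPow z M = Isoc.pPow (z - c') (Isoc.pPow c' M) := by
        rw [pPow_pPow]; congr 1; ring
      rw [this]
      exact pPow_mono _ hc'
    have h2 : Isoc.latImg F s M ≤ Isoc.pPow 1 (Isoc.latImg F s M) :=
      h1.trans (pPow_anti (by omega) _)
    exact isLattice_ne_bot hM' (eq_bot_of_le_pPow_one hM'.fg h2)
  have hne : ∃ z : ℤ, Isoc.latImg F s M ≤ Isoc.pPow z M :=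
    ⟨-(c : ℤ), by rw [← pPow_le_iff]; exact hc⟩
  obtain ⟨r, hr, hmax⟩ := Int.exists_greatest_of_bdd hbdd hne
  refine ⟨r, hr, fun hcon => ?_⟩
  have := hmax (r + 1) hcon
  omega

theorem latImg_le_pPow_add {τ : K(p, k) →+* K(p, k)} {e : WittVector p k ≃+* WittVector p k}
    (h : WCompat τ e) {F : N →ₛₗ[τ] N} {M : Submodule (WittVector p k) N} {n m : ℕ} {a b : ℤ}
    (hn : Isoc.latImg F n M ≤ Isoc.pPow a M) (hm : Isoc.latImg F m M ≤ Isoc.pPow b M) :
    Isoc.latImg F (n + m) M ≤ Isoc.pPow (a + b) M := by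
  rw [latImg_add h]
  refine (latImg_mono F n hm).trans ?_
  rw [latImg_pPow h, add_comm a b, ← pPow_pPow]
  exact pPow_mono b hn

theorem latImg_le_pPow_mul {τ : K(p, k) →+* K(p, k)} {e : WittVector p k ≃+* WittVector p k}
    (h : WCompat τ e) {F : N →ₛₗ[τ] N} {M : Submodule (WittVector p k) N} {s : ℕ} {r : ℤ}
    (hs : Isoc.latImg F s M ≤ Isoc.pPow r M) (j : ℕ) :
    Isoc.latImg F (s * j) M ≤ Isoc.pPow (r * j) M := by
  induction j with
  | zero => simp [latImg_zero, pPow_zero]
  | succ j ih =>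
    have := latImg_le_pPow_add h ih hs
    have e1 : s * (j + 1) = s * j + s := by ring
    have e2 : r * ((j + 1 : ℕ) : ℤ) = r * j + r := by push_cast; ring
    rw [e1, e2]
    exact this

theorem pPow_le_latImg_add {τ : K(p, k) →+* K(p, k)} {e : WittVector p k ≃+* WittVector p k}
    (h : WCompat τ e) {F : N →ₛₗ[τ] N} {M : Submodule (WittVector p k) N} {n m : ℕ} {a b : ℤ}
    (hn : Isoc.pPow a M ≤ Isoc.latImg F n M) (hm : Isoc.pPow b M ≤ Isoc.latImg F m M) :
    Isoc.pPow (a + b) M ≤ Isoc.latImg F (n + m) M := by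
  rw [latImg_add h]
  refine le_trans ?_ (latImg_mono F n hm)
  rw [latImg_pPow h, add_comm a b, ← pPow_pPow]
  exact pPow_mono b hn

theorem pPow_le_latImg_mul {τ : K(p, k) →+* K(p, k)} {e : WittVector p k ≃+* WittVector p k}
    (h : WCompat τ e) {F : N →ₛₗ[τ] N} {M : Submodule (WittVector p k) N} {s : ℕ} {r : ℤ}
    (hs : Isoc.pPow r M ≤ Isoc.latImg F s M) (j : ℕ) :
    Isoc.pPow (r * j) M ≤ Isoc.latImg F (s * j) M := by
  induction j with
  | zero => simp [latImg_zero, pPow_zero]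
  | succ j ih =>
    have := pPow_le_latImg_add h ih hs
    have e1 : s * (j + 1) = s * j + s := by ring
    have e2 : r * ((j + 1 : ℕ) : ℤ) = r * j + r := by push_cast; ring
    rw [e1, e2]
    exact this

theorem le_of_pPow_le_pPow [Nontrivial N] {M : Submodule (WittVector p k) N}
    (hM : M.IsLattice K(p, k)) {a b : ℤ} (h : Isoc.pPow a M ≤ Isoc.pPow b M) : b ≤ a := by
  by_contra hlt
  push Not at hlt
  have h1 : Isoc.pPow a M ≤ Isoc.pPow (a + 1) M := h.trans (pPow_anti (by omega) M)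
  have h2 : M ≤ Isoc.pPow 1 M := by
    have := pPow_mono (-a) h1
    rwa [pPow_pPow, pPow_pPow, neg_add_cancel, pPow_zero, neg_add_cancel_left] at this
  exact isLattice_ne_bot hM (eq_bot_of_le_pPow_one hM.fg h2)

/-- Linear upper bound for the orders of the iterates. -/
theorem exists_bound_of_latImg_le [Nontrivial N] {τ : K(p, k) →+* K(p, k)}
    {e : WittVector p k ≃+* WittVector p k}
    (h : WCompat τ e) {F : N →ₛₗ[τ] N} (hF : Function.Bijective F)
    {M : Submodule (WittVector p k) N} (hM : M.IsLattice K(p, k)) :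
    ∃ c : ℕ, ∀ (n : ℕ) (r : ℤ), Isoc.latImg F n M ≤ Isoc.pPow r M → r ≤ c * n := by
  obtain ⟨c, hc⟩ := exists_pPow_le_of_fg hM.fg (isLattice_latImg h hF hM 1).span_eq_top
  refine ⟨c, fun n r hr => ?_⟩
  have h1 := pPow_le_latImg_mul h hc n
  rw [one_mul] at h1
  exact le_of_pPow_le_pPow hM (h1.trans hr)

/-- Existence of the orders of all iterates together with convergence of `o n / n` (Fekete). -/
theorem exists_ord_tendsto [Nontrivial N] {τ : K(p, k) →+* K(p, k)}
    {e : WittVector p k ≃+* WittVector p k}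
    (h : WCompat τ e) {F : N →ₛₗ[τ] N} (hF : Function.Bijective F)
    {M : Submodule (WittVector p k) N} (hM : M.IsLattice K(p, k)) :
    ∃ o : ℕ → ℤ, (∀ n : ℕ, Isoc.IsOrd M F n (o n)) ∧
      ∃ lam : ℝ, Filter.Tendsto (fun n : ℕ => (o n : ℝ) / n) Filter.atTop (nhds lam) := by
  choose o ho using fun n => exists_isOrd h hF hM n
  refine ⟨o, ho, ?_⟩
  have hsub : Subadditive (fun n => -(o n : ℝ)) := by
    intro m n
    have h1 := latImg_le_pPow_add h (ho m).1 (ho n).1
    have h2 := (isOrd_le_iff (ho (m + n)) _).mp h1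
    have h3 : ((o m + o n : ℤ) : ℝ) ≤ (o (m + n) : ℝ) := by exact_mod_cast h2
    push_cast at h3
    linarith
  obtain ⟨c, hc⟩ := exists_bound_of_latImg_le h hF hM
  have hbdd : BddBelow (Set.range fun n : ℕ => -(o n : ℝ) / n) := by
    refine ⟨-(c : ℝ), ?_⟩
    rintro _ ⟨n, rfl⟩
    rcases Nat.eq_zero_or_pos n with hn | hn
    · subst hn
      simp
    · have h1 : (o n : ℝ) ≤ (c : ℝ) * n := by exact_mod_cast hc n (o n) (ho n).1
      have hn' : (0 : ℝ) < n := by exact_mod_cast hn
      show -(c : ℝ) ≤ -(o n : ℝ) / n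
      rw [le_div_iff₀ hn']
      linarith
  refine ⟨-hsub.lim, ?_⟩
  have := (hsub.tendsto_lim hbdd).neg
  refine this.congr (fun n => ?_)
  ring

end Lattice

end Groth.Agent.Lib.Helper86
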