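import Mathlib
import Groth.Agent.Lib.Helper86.Isoc

/-!
# Library for `Def_Isoc` (helper86), part 2: isoclinic subspaces in ambient form.
-/

set_option autoImplicit false

noncomputable section

open scoped Pointwise Isocrystal

universe u v w

namespace Groth.Agent.Lib.Helper86

/-- An injective semilinear endomorphism of a finite-dimensional space (twist surjective) is
surjective. -/
theorem surjective_of_injective_semilinear {K : Type*} [Field K] {τ : K →+* K}
    (hτ : Function.Surjective τ) {V : Type*} [AddCommGroup V] [Module K V] [FiniteDimensional K V]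
    (F : V →ₛₗ[τ] V) (hF : Function.Injective F) : Function.Surjective F := by
  classical
  rcases Nat.eq_zero_or_pos (Module.finrank K V) with h0 | hpos
  · haveI : Subsingleton V := Module.finrank_zero_iff.mp h0
    intro y
    exact ⟨0, Subsingleton.elim _ _⟩
  haveI : Nonempty (Fin (Module.finrank K V)) := ⟨⟨0, hpos⟩⟩
  let b := Module.finBasis K V
  have hli : LinearIndependent K (F ∘ b) :=
    b.linearIndependent.map_of_surjective_injectiveₛ τ F.toAddMonoidHom hτ hF
      (fun r m => F.map_smulₛₗ r m)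
  let b' := basisOfLinearIndependentOfCardEqFinrank hli (by simp)
  intro y
  choose c hc using fun i => hτ (b'.repr y i)
  refine ⟨∑ i, c i • b i, ?_⟩
  rw [map_sum]
  conv_rhs => rw [← b'.sum_repr y]
  apply Finset.sum_congr rfl
  intro i _
  rw [F.map_smulₛₗ, hc]
  simp [b']

section Amb

variable {p : ℕ} [Fact p.Prime] {k : Type u} [Field k] [CharP k p] [PerfectRing k p]
variable {N : Type v} [AddCommGroup N] [Module (WittVector p k) N] [Module K(p, k) N]
  [IsScalarTower (WittVector p k) K(p, k) N]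
variable {τ : K(p, k) →+* K(p, k)} {e : WittVector p k ≃+* WittVector p k}

/-- Relative version of `exists_pPow_le_of_fg`. -/
theorem exists_pPow_le_of_fg_of_le_span {M₁ M₂ : Submodule (WittVector p k) N} (h₁ : M₁.FG)
    (h₂ : (M₁ : Set N) ⊆ Submodule.span K(p, k) (M₂ : Set N)) : ∃ c : ℕ, Isoc.pPow c M₁ ≤ M₂ := by
  classical
  obtain ⟨S, rfl⟩ := h₁
  have hex : ∀ x : N, ∃ n : ℕ, x ∈ Submodule.span (WittVector p k) (S : Set N) →
      ((p : K(p, k)) ^ n) • x ∈ M₂ := by
    intro x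
    by_cases hx : x ∈ Submodule.span (WittVector p k) (S : Set N)
    · obtain ⟨n, hn⟩ := exists_pow_smul_mem_of_mem_span (h₂ hx)
      exact ⟨n, fun _ => hn⟩
    · exact ⟨0, fun h => absurd h hx⟩
  choose n hn using hex
  refine ⟨S.sup n, ?_⟩
  rw [pPow_le_iff, Submodule.span_le]
  intro x hx
  rw [SetLike.mem_coe, mem_pPow_iff, neg_neg, zpow_natCast]
  have hle : n x ≤ S.sup n := Finset.le_sup hx
  obtain ⟨d, hd⟩ := Nat.exists_eq_add_of_le hle
  rw [hd, add_comm, pow_add, mul_smul, natCast_smul_eq]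
  exact M₂.smul_mem _ (hn x (Submodule.subset_span hx))

/-- Ambient form of "the `F`-stable subspace `P` is isoclinic with `F^s M = p^r M`". -/
def AmbIsoclinic (F : N →ₛₗ[τ] N) (P : Submodule K(p, k) N) (r : ℤ) (s : ℕ) : Prop :=
  ∃ M : Submodule (WittVector p k) N, M.FG ∧ Submodule.span K(p, k) (M : Set N) = P ∧
    Isoc.latImg F s M = Isoc.pPow r M

theorem AmbIsoclinic.pow (h : WCompat τ e) {F : N →ₛₗ[τ] N} {P : Submodule K(p, k) N} {r : ℤ}
    {s : ℕ} (hP : AmbIsoclinic F P r s) (j : ℕ) : AmbIsoclinic F P (r * j) (s * j) := by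
  obtain ⟨M, hfg, hspan, hM⟩ := hP
  exact ⟨M, hfg, hspan, le_antisymm (latImg_le_pPow_mul h hM.le j) (pPow_le_latImg_mul h hM.ge j)⟩

theorem latImg_sup (h : WCompat τ e) (F : N →ₛₗ[τ] N) (s : ℕ)
    (M₁ M₂ : Submodule (WittVector p k) N) :
    Isoc.latImg F s (M₁ ⊔ M₂) = Isoc.latImg F s M₁ ⊔ Isoc.latImg F s M₂ := by
  rw [latImg_eq_map h, latImg_eq_map h, latImg_eq_map h, Submodule.map_sup]

theorem pPow_sup (r : ℤ) (M₁ M₂ : Submodule (WittVector p k) N) :
    Isoc.pPow r (M₁ ⊔ M₂) = Isoc.pPow r M₁ ⊔ Isoc.pPow r M₂ := by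
  unfold Isoc.pPow
  exact Submodule.smul_sup' _ _ _

theorem AmbIsoclinic.sup (h : WCompat τ e) {F : N →ₛₗ[τ] N} {P₁ P₂ : Submodule K(p, k) N}
    {r : ℤ} {s : ℕ} (h₁ : AmbIsoclinic F P₁ r s) (h₂ : AmbIsoclinic F P₂ r s) :
    AmbIsoclinic F (P₁ ⊔ P₂) r s := by
  obtain ⟨M₁, hfg₁, hspan₁, hM₁⟩ := h₁
  obtain ⟨M₂, hfg₂, hspan₂, hM₂⟩ := h₂
  refine ⟨M₁ ⊔ M₂, hfg₁.sup hfg₂, ?_, ?_⟩
  · rw [← hspan₁, ← hspan₂, Submodule.coe_sup, ← Submodule.span_union]
    apply le_antisymm
    · rw [Submodule.span_le]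
      rintro x ⟨a, ha, b, hb, rfl⟩
      exact Submodule.add_mem _ (Submodule.subset_span (Or.inl ha)) (Submodule.subset_span (Or.inr hb))
    · apply Submodule.span_mono
      rintro x (hx | hx)
      · exact ⟨x, hx, 0, M₂.zero_mem, add_zero x⟩
      · exact ⟨0, M₁.zero_mem, x, hx, zero_add x⟩
  · rw [latImg_sup h, pPow_sup, hM₁, hM₂]

/-- The zero subspace is isoclinic for all data. -/
theorem AmbIsoclinic.bot (h : WCompat τ e) (F : N →ₛₗ[τ] N) (r : ℤ) (s : ℕ) :
    AmbIsoclinic F (⊥ : Submodule K(p, k) N) r s := by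
  refine ⟨⊥, Submodule.fg_bot, by simp, ?_⟩
  rw [latImg_eq_map h, Submodule.map_bot]
  unfold Isoc.pPow
  rw [Submodule.smul_bot']

/-- Uniqueness of the slope of a nonzero isoclinic subspace. -/
theorem AmbIsoclinic.slope_unique (h : WCompat τ e) {F : N →ₛₗ[τ] N} {P : Submodule K(p, k) N}
    {r r' : ℤ} {s s' : ℕ} (hP : AmbIsoclinic F P r s) (hP' : AmbIsoclinic F P r' s')
    (hne : P ≠ ⊥) : r * s' = r' * s := by
  -- it suffices to prove one inequality for arbitrary data
  have key : ∀ {r r' : ℤ} {s s' : ℕ}, AmbIsoclinic F P r s → AmbIsoclinic F P r' s' →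
      r' * s ≤ r * s' := by
    intro r r' s s' hP hP'
    obtain ⟨M, hfg, hspan, hM⟩ := hP
    obtain ⟨M', hfg', hspan', hM'⟩ := hP'
    have hMne : M ≠ ⊥ := by
      intro h0; rw [h0] at hspan; simp at hspan; exact hne hspan.symm
    obtain ⟨c, hc⟩ := exists_pPow_le_of_fg_of_le_span (M₁ := M) (M₂ := M') hfg
      (by rw [hspan', ← hspan]; exact Submodule.subset_span)
    obtain ⟨c', hc'⟩ := exists_pPow_le_of_fg_of_le_span (M₁ := M') (M₂ := M) hfg'
      (by rw [hspan, ← hspan']; exact Submodule.subset_span)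
    -- for all j : p^(r s' j + c) M ≤ p^(r' s j - c') M
    have hj : ∀ j : ℕ, Isoc.pPow (r * s' * j + c) M ≤ Isoc.pPow (r' * s * j - c') M := by
      intro j
      have e1 : Isoc.latImg F (s * (s' * j)) M = Isoc.pPow (r * ((s' * j : ℕ) : ℤ)) M :=
        le_antisymm (latImg_le_pPow_mul h hM.le _) (pPow_le_latImg_mul h hM.ge _)
      have e2 : Isoc.latImg F (s' * (s * j)) M' = Isoc.pPow (r' * ((s * j : ℕ) : ℤ)) M' :=
        le_antisymm (latImg_le_pPow_mul h hM'.le _) (pPow_le_latImg_mul h hM'.ge _)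
      have e3 : s * (s' * j) = s' * (s * j) := by ring
      calc Isoc.pPow (r * s' * j + c) M
          = Isoc.pPow (r * ((s' * j : ℕ) : ℤ)) (Isoc.pPow c M) := by
            rw [pPow_pPow]; congr 1; push_cast; ring
        _ = Isoc.latImg F (s * (s' * j)) (Isoc.pPow c M) := by
            rw [latImg_pPow h, e1, pPow_pPow, pPow_pPow, add_comm]
        _ ≤ Isoc.latImg F (s * (s' * j)) M' := latImg_mono F _ hc
        _ = Isoc.pPow (r' * ((s * j : ℕ) : ℤ)) M' := by rw [e3, e2]
        _ ≤ Isoc.pPow (r' * ((s * j : ℕ) : ℤ)) (Isoc.pPow (-(c' : ℤ)) M) := by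
            apply pPow_mono
            rw [← pPow_le_iff]; exact hc'
        _ = Isoc.pPow (r' * s * j - c') M := by
            rw [pPow_pPow]; congr 1; push_cast; ring
    -- a nonzero finitely generated M: p^a M ≤ p^b M → b ≤ a
    have hle : ∀ {a b : ℤ}, Isoc.pPow a M ≤ Isoc.pPow b M → b ≤ a := by
      intro a b hab
      by_contra hlt
      push Not at hlt
      have h1 : Isoc.pPow a M ≤ Isoc.pPow (a + 1) M := hab.trans (pPow_anti (by omega) M)
      have h2 : M ≤ Isoc.pPow 1 M := by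
        have := pPow_mono (-a) h1
        rwa [pPow_pPow, pPow_pPow, neg_add_cancel, pPow_zero, neg_add_cancel_left] at this
      exact hMne (eq_bot_of_le_pPow_one hfg h2)
    by_contra hlt
    push Not at hlt
    have := hle (hj (c + c' + 1))
    push_cast at this
    nlinarith
  exact le_antisymm (key hP' hP) (key hP hP')

section Map

variable {N' : Type w} [AddCommGroup N'] [Module (WittVector p k) N'] [Module K(p, k) N']
  [IsScalarTower (WittVector p k) K(p, k) N']

theorem iterate_comm {F : N →ₛₗ[τ] N} {F' : N' →ₛₗ[τ] N'} (g : N →ₗ[K(p, k)] N')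
    (hg : ∀ x, g (F x) = F' (g x)) (s : ℕ) (x : N) : g ((⇑F)^[s] x) = (⇑F')^[s] (g x) := by
  induction s generalizing x with
  | zero => rfl
  | succ s ih => rw [Function.iterate_succ_apply, Function.iterate_succ_apply, ih, hg]

theorem map_latImg (h : WCompat τ e) {F : N →ₛₗ[τ] N} {F' : N' →ₛₗ[τ] N'}
    (g : N →ₗ[K(p, k)] N') (hg : ∀ x, g (F x) = F' (g x)) (s : ℕ)
    (M : Submodule (WittVector p k) N) :
    (Isoc.latImg F s M).map (g.restrictScalars (WittVector p k)) =
      Isoc.latImg F' s (M.map (g.restrictScalars (WittVector p k))) := by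
  ext y
  simp only [Submodule.mem_map, mem_latImg h, LinearMap.restrictScalars_apply]
  constructor
  · rintro ⟨_, ⟨x, hx, rfl⟩, rfl⟩
    exact ⟨g x, ⟨x, hx, rfl⟩, (iterate_comm g hg s x).symm⟩
  · rintro ⟨_, ⟨x, hx, rfl⟩, rfl⟩
    exact ⟨_, ⟨x, hx, rfl⟩, iterate_comm g hg s x⟩

theorem map_pPow (g : N →ₗ[K(p, k)] N') (r : ℤ) (M : Submodule (WittVector p k) N) :
    (Isoc.pPow r M).map (g.restrictScalars (WittVector p k)) =
      Isoc.pPow r (M.map (g.restrictScalars (WittVector p k))) := by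
  ext y
  unfold Isoc.pPow
  simp only [Submodule.mem_map, Submodule.mem_smul_pointwise_iff_exists,
    LinearMap.restrictScalars_apply]
  constructor
  · rintro ⟨_, ⟨x, hx, rfl⟩, rfl⟩
    exact ⟨g x, ⟨x, hx, rfl⟩, (g.map_smul _ x).symm⟩
  · rintro ⟨_, ⟨x, hx, rfl⟩, rfl⟩
    exact ⟨_, ⟨x, hx, rfl⟩, g.map_smul _ x⟩

theorem span_map (g : N →ₗ[K(p, k)] N') (M : Submodule (WittVector p k) N) :
    Submodule.span K(p, k) ((M.map (g.restrictScalars (WittVector p k)) :
      Submodule (WittVector p k) N') : Set N') =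
      (Submodule.span K(p, k) (M : Set N)).map g := by
  rw [Submodule.map_span]
  rfl

theorem AmbIsoclinic.map (h : WCompat τ e) {F : N →ₛₗ[τ] N} {F' : N' →ₛₗ[τ] N'}
    (g : N →ₗ[K(p, k)] N') (hg : ∀ x, g (F x) = F' (g x)) {P : Submodule K(p, k) N} {r : ℤ}
    {s : ℕ} (hP : AmbIsoclinic F P r s) : AmbIsoclinic F' (P.map g) r s := by
  obtain ⟨M, hfg, hspan, hM⟩ := hP
  refine ⟨M.map (g.restrictScalars (WittVector p k)), hfg.map _, ?_, ?_⟩
  · rw [span_map, hspan]
  · rw [← map_latImg h g hg, hM, map_pPow]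

theorem AmbIsoclinic.of_map_injective (h : WCompat τ e) {F : N →ₛₗ[τ] N} {F' : N' →ₛₗ[τ] N'}
    (g : N →ₗ[K(p, k)] N') (hg : ∀ x, g (F x) = F' (g x)) (hinj : Function.Injective g)
    {P : Submodule K(p, k) N} {r : ℤ} {s : ℕ} (hP : AmbIsoclinic F' (P.map g) r s) :
    AmbIsoclinic F P r s := by
  obtain ⟨M', hfg, hspan, hM'⟩ := hP
  have hinjW : Function.Injective (g.restrictScalars (WittVector p k)) := hinj
  have hle : M' ≤ LinearMap.range (g.restrictScalars (WittVector p k)) := by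
    intro y hy
    have : y ∈ P.map g := by rw [← hspan]; exact Submodule.subset_span hy
    obtain ⟨x, -, rfl⟩ := this
    exact ⟨x, rfl⟩
  have hmap : (M'.comap (g.restrictScalars (WittVector p k))).map
      (g.restrictScalars (WittVector p k)) = M' := by
    rw [Submodule.map_comap_eq, inf_eq_right.mpr hle]
  refine ⟨M'.comap (g.restrictScalars (WittVector p k)), ?_, ?_, ?_⟩
  · apply Submodule.fg_of_fg_map_injective _ hinjW
    rw [hmap]; exact hfg
  · apply Submodule.map_injective_of_injective hinj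
    rw [← span_map, hmap, hspan]
  · apply Submodule.map_injective_of_injective hinjW
    rw [map_latImg h g hg, map_pPow, hmap, hM']

end Map

/-- A lattice form of `IsIsoclinic` is `AmbIsoclinic` for the whole space. -/
theorem isIsoclinic_iff_amb_top (F : N →ₛₗ[τ] N) (μ : ℚ) :
    Isoc.IsIsoclinic F μ ↔ ∃ (r : ℤ) (s : ℕ), 0 < s ∧ (r : ℚ) / s = μ ∧ AmbIsoclinic F ⊤ r s := by
  constructor
  · rintro ⟨M, hM, r, s, hs, hrs, hFM⟩
    exact ⟨r, s, hs, hrs, M, hM.fg, hM.span_eq_top, hFM⟩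
  · rintro ⟨r, s, hs, hrs, M, hfg, hspan, hFM⟩
    exact ⟨M, ⟨hfg, hspan⟩, r, s, hs, hrs, hFM⟩

/-- Bridge between `IsIsoclinic` of a restriction and the ambient form. -/
theorem isIsoclinic_restrict_iff (h : WCompat τ e) (F : N →ₛₗ[τ] N) (P : Submodule K(p, k) N)
    (hP : ∀ x ∈ P, F x ∈ P) (μ : ℚ) :
    Isoc.IsIsoclinic (F.restrict hP) μ ↔
      ∃ (r : ℤ) (s : ℕ), 0 < s ∧ (r : ℚ) / s = μ ∧ AmbIsoclinic F P r s := by
  rw [isIsoclinic_iff_amb_top]
  have hcomm : ∀ x : P, P.subtype (F.restrict hP x) = F (P.subtype x) := fun x => rfl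
  have htop : (⊤ : Submodule K(p, k) P).map P.subtype = P := Submodule.map_subtype_top P
  constructor
  · rintro ⟨r, s, hs, hrs, hamb⟩
    refine ⟨r, s, hs, hrs, ?_⟩
    have := hamb.map h P.subtype hcomm
    rwa [htop] at this
  · rintro ⟨r, s, hs, hrs, hamb⟩
    refine ⟨r, s, hs, hrs, ?_⟩
    apply AmbIsoclinic.of_map_injective h P.subtype hcomm P.injective_subtype
    rwa [htop]

/-- Sub-isocrystals of an isoclinic isocrystal are isoclinic (ambient form). -/
theorem AmbIsoclinic.sub (h : WCompat τ e) {F : N →ₛₗ[τ] N} (hF : Function.Injective F)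
    [Module.Finite K(p, k) N] {r : ℤ} {s : ℕ} (htop : AmbIsoclinic F ⊤ r s)
    (P : Submodule K(p, k) N) (hP : ∀ x ∈ P, F x ∈ P) : AmbIsoclinic F P r s := by
  obtain ⟨M, hfg, hspan, hM⟩ := htop
  have hPs : ∀ (j : ℕ) (x : N), x ∈ P → (⇑F)^[j] x ∈ P := by
    intro j
    induction j with
    | zero => intro x hx; exact hx
    | succ j ih => intro x hx; rw [Function.iterate_succ_apply']; exact hP _ (ih x hx)
  -- surjectivity of the restriction of `F^s` to `P`
  have hsurj : ∀ y ∈ P, ∃ x ∈ P, (⇑F)^[s] x = y := by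
    have h1 : Function.Surjective (F.restrict hP) :=
      surjective_of_injective_semilinear h.surjective (F.restrict hP) (by
        intro x y hxy
        apply Subtype.ext
        apply hF
        exact congrArg Subtype.val hxy)
    have h2 : Function.Surjective ((⇑(F.restrict hP))^[s]) := h1.iterate s
    intro y hy
    obtain ⟨x, hx⟩ := h2 ⟨y, hy⟩
    refine ⟨x, x.2, ?_⟩
    have := iterate_comm (F := F.restrict hP) (F' := F) P.subtype (fun x => rfl) s x
    rw [hx] at this
    exact this.symm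
  refine ⟨M ⊓ P.restrictScalars (WittVector p k), ?_, ?_, ?_⟩
  · haveI : Module.Finite (WittVector p k) M := Module.Finite.iff_fg.mpr hfg
    haveI : IsNoetherian (WittVector p k) M := inferInstance
    haveI : IsNoetherian (WittVector p k) ↥(M ⊓ P.restrictScalars (WittVector p k)) :=
      isNoetherian_of_le inf_le_left
    rw [← Module.Finite.iff_fg]
    infer_instance
  · apply le_antisymm
    · rw [Submodule.span_le]
      intro x hx
      exact hx.2
    · intro x hx
      obtain ⟨n, hn⟩ := exists_pow_smul_mem_of_mem_span (M := M) (x := x)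
        (by rw [hspan]; trivial)
      have : x = ((p : K(p, k)) ^ n)⁻¹ • (((p : K(p, k)) ^ n) • x) := by
        rw [smul_smul, inv_mul_cancel₀ (pow_ne_zero _ pL_ne_zero), one_smul]
      rw [this]
      exact Submodule.smul_mem _ _ (Submodule.subset_span ⟨hn, P.smul_mem _ hx⟩)
  · apply le_antisymm
    · intro y hy
      obtain ⟨x, hx, rfl⟩ := (mem_latImg h).mp hy
      have h1 : (⇑F)^[s] x ∈ Isoc.pPow r M := by
        rw [← hM]; exact (mem_latImg h).mpr ⟨x, hx.1, rfl⟩
      rw [mem_pPow_iff] at h1 ⊢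
      exact ⟨h1, P.smul_mem _ (hPs s x hx.2)⟩
    · intro y hy
      rw [mem_pPow_iff] at hy
      have hyP : y ∈ P := by
        have := P.smul_mem ((p : K(p, k)) ^ r) hy.2
        rwa [smul_smul, ← zpow_add₀ pL_ne_zero, add_neg_cancel, zpow_zero, one_smul] at this
      have h1 : y ∈ Isoc.latImg F s M := by
        rw [hM, mem_pPow_iff]; exact hy.1
      obtain ⟨x, hx, hxy⟩ := (mem_latImg h).mp h1
      obtain ⟨x', hx', hx'y⟩ := hsurj y hyP
      have : x = x' := (hF.iterate s) (hxy.trans hx'y.symm)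
      exact (mem_latImg h).mpr ⟨x, ⟨hx, this ▸ hx'⟩, hxy⟩

end Amb

end Groth.Agent.Lib.Helper86
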