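import Mathlib
import Groth.Prelude.Def_Isoc
import Groth.Agent.Lib.Helper86.Isoc

/-!
# Library for `Def_Isoc` (helper86), part 3: matrices and determinants of semilinear maps,
the standard lattice of a basis, comparison of `ord` with `orddet`.
-/

set_option autoImplicit false
set_option linter.unusedSectionVars false

noncomputable section

open scoped Pointwise Isocrystal

universe u v

namespace Groth.Agent.Lib.Helper86

section Det

variable {p : ℕ} [Fact p.Prime] {k : Type u} [Field k] [CharP k p]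
variable {N : Type v} [AddCommGroup N] [Module K(p, k) N]
variable {τ : K(p, k) →+* K(p, k)} {e : WittVector p k ≃+* WittVector p k}

/-- The matrix of a semilinear map in a basis (columns = coordinates of the images). -/
def mat {h : ℕ} (b : Module.Basis (Fin h) K(p, k) N) (F : N →ₛₗ[τ] N) :
    Matrix (Fin h) (Fin h) K(p, k) :=
  Matrix.of fun i j => b.repr (F (b j)) i

theorem mat_apply {h : ℕ} (b : Module.Basis (Fin h) K(p, k) N) (F : N →ₛₗ[τ] N) (i j : Fin h) :
    mat b F i j = b.repr (F (b j)) i := rfl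

theorem detCoeff_eq {h : ℕ} (b : Module.Basis (Fin h) K(p, k) N) (F : N →ₛₗ[τ] N) :
    Isoc.detCoeff b F = (mat b F).det := rfl

theorem repr_apply_semilinear {h : ℕ} (b : Module.Basis (Fin h) K(p, k) N) (F : N →ₛₗ[τ] N)
    (x : N) (i : Fin h) :
    b.repr (F x) i = ∑ j, mat b F i j * τ (b.repr x j) := by
  conv_lhs => rw [← b.sum_repr x]
  rw [map_sum, map_sum, Finsupp.finsetSum_apply]
  refine Finset.sum_congr rfl fun j _ => ?_
  rw [map_smulₛₗ, map_smul, Finsupp.smul_apply, smul_eq_mul, mat_apply, mul_comm]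

theorem mat_iter_zero {h : ℕ} (b : Module.Basis (Fin h) K(p, k) N) (F : N →ₛₗ[τ] N) :
    mat b (Isoc.iter F 0) = 1 := by
  ext i j
  rw [mat_apply, Isoc.iter_apply, Function.iterate_zero, id, Module.Basis.repr_self_apply,
    Matrix.one_apply]
  simp only [eq_comm]

theorem mat_iter_succ {h : ℕ} (b : Module.Basis (Fin h) K(p, k) N) (F : N →ₛₗ[τ] N) (n : ℕ) :
    mat b (Isoc.iter F (n + 1)) = mat b F * (mat b (Isoc.iter F n)).map τ := by
  ext i j
  rw [Matrix.mul_apply, mat_apply, Isoc.iter_apply, Function.iterate_succ_apply',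
    repr_apply_semilinear]
  rfl

theorem detCoeff_iter_zero {h : ℕ} (b : Module.Basis (Fin h) K(p, k) N) (F : N →ₛₗ[τ] N) :
    Isoc.detCoeff b (Isoc.iter F 0) = 1 := by
  rw [detCoeff_eq, mat_iter_zero, Matrix.det_one]

theorem detCoeff_iter_succ {h : ℕ} (b : Module.Basis (Fin h) K(p, k) N) (F : N →ₛₗ[τ] N) (n : ℕ) :
    Isoc.detCoeff b (Isoc.iter F (n + 1)) =
      Isoc.detCoeff b F * τ (Isoc.detCoeff b (Isoc.iter F n)) := by
  rw [detCoeff_eq, mat_iter_succ, Matrix.det_mul, detCoeff_eq, detCoeff_eq, RingHom.map_det,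
    RingHom.mapMatrix_apply]

theorem isOrdP_one : Isoc.IsOrdP (1 : K(p, k)) 0 :=
  ⟨1, by simp⟩

theorem IsOrdP.mul {c c' : K(p, k)} {r r' : ℤ} (h : Isoc.IsOrdP c r) (h' : Isoc.IsOrdP c' r') :
    Isoc.IsOrdP (c * c') (r + r') := by
  obtain ⟨u, rfl⟩ := h
  obtain ⟨u', rfl⟩ := h'
  refine ⟨u * u', ?_⟩
  rw [zpow_add₀ pL_ne_zero, Units.val_mul, map_mul]
  ring

theorem IsOrdP.map (hτ : WCompat τ e) {c : K(p, k)} {r : ℤ} (h : Isoc.IsOrdP c r) :
    Isoc.IsOrdP (τ c) r := by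
  obtain ⟨u, rfl⟩ := h
  refine ⟨Units.map (e : WittVector p k →* WittVector p k) u, ?_⟩
  rw [map_mul, hτ.map_p_zpow, hτ.comm]
  rfl

theorem isOrdP_detCoeff_iter (hτ : WCompat τ e) {h : ℕ} (b : Module.Basis (Fin h) K(p, k) N)
    (F : N →ₛₗ[τ] N) {d : ℤ} (hd : Isoc.IsOrdP (Isoc.detCoeff b F) d) (n : ℕ) :
    Isoc.IsOrdP (Isoc.detCoeff b (Isoc.iter F n)) (n * d) := by
  induction n with
  | zero =>
    rw [detCoeff_iter_zero]
    simpa using isOrdP_one
  | succ n ih =>
    rw [detCoeff_iter_succ]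
    have := IsOrdP.mul hd (IsOrdP.map hτ ih)
    have e : ((n + 1 : ℕ) : ℤ) * d = d + n * d := by push_cast; ring
    rw [e]
    exact this

/-- Comparison of orders: `p^D w = p^T u` with `w ∈ W`, `u ∈ Wˣ` forces `D ≤ T`. -/
theorem le_of_zpow_mul_eq {D T : ℤ} {w : WittVector p k} {u : (WittVector p k)ˣ}
    (h : (p : K(p, k)) ^ D * algebraMap (WittVector p k) K(p, k) w =
      (p : K(p, k)) ^ T * algebraMap (WittVector p k) K(p, k) (u : WittVector p k)) : D ≤ T := by
  by_contra hlt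
  push Not at hlt
  obtain ⟨n, hn⟩ := Int.eq_ofNat_of_zero_le (show 0 ≤ D - T - 1 by omega)
  have hD : D = T + ((n + 1 : ℕ) : ℤ) := by push_cast; omega
  rw [hD, zpow_add₀ pL_ne_zero, mul_assoc] at h
  have h2 := mul_left_cancel₀ (pL_zpow_ne_zero T) h
  rw [zpow_natCast] at h2
  have h3 : algebraMap (WittVector p k) K(p, k) ((p : WittVector p k) ^ (n + 1) * w) =
      algebraMap (WittVector p k) K(p, k) (u : WittVector p k) := by
    rw [map_mul, map_pow, map_natCast]
    exact h2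
  have h4 := IsFractionRing.injective (WittVector p k) K(p, k) h3
  have hunit : IsUnit ((p : WittVector p k) ^ (n + 1) * w) := h4 ▸ u.isUnit
  have hp : IsUnit (p : WittVector p k) := by
    have h5 := isUnit_of_mul_isUnit_left hunit
    exact (isUnit_pow_iff (Nat.succ_ne_zero n)).mp h5
  exact (WittVector.irreducible p).not_isUnit hp

theorem IsOrdP.unique {c : K(p, k)} {r r' : ℤ} (h : Isoc.IsOrdP c r) (h' : Isoc.IsOrdP c r') :
    r = r' := by
  obtain ⟨u, hu⟩ := h
  obtain ⟨u', hu'⟩ := h'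
  exact le_antisymm (le_of_zpow_mul_eq (hu.symm.trans hu')) (le_of_zpow_mul_eq (hu'.symm.trans hu))

end Det

section StdLat

variable {p : ℕ} [Fact p.Prime] {k : Type u} [Field k] [CharP k p] [PerfectRing k p]
variable {N : Type v} [AddCommGroup N] [Module (WittVector p k) N] [Module K(p, k) N]
  [IsScalarTower (WittVector p k) K(p, k) N]
variable {τ : K(p, k) →+* K(p, k)} {e : WittVector p k ≃+* WittVector p k}

/-- The standard `W`-lattice spanned by an `L`-basis. -/
def stdLat {h : ℕ} (b : Module.Basis (Fin h) K(p, k) N) : Submodule (WittVector p k) N :=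
  Submodule.span (WittVector p k) (Set.range b)

theorem mem_stdLat_iff {h : ℕ} (b : Module.Basis (Fin h) K(p, k) N) (x : N) :
    x ∈ stdLat b ↔ ∀ i, b.repr x i ∈ Set.range (algebraMap (WittVector p k) K(p, k)) :=
  b.mem_span_iff_repr_mem (WittVector p k) x

theorem basis_mem_stdLat {h : ℕ} (b : Module.Basis (Fin h) K(p, k) N) (i : Fin h) :
    b i ∈ stdLat b := Submodule.subset_span (Set.mem_range_self i)

theorem isLattice_stdLat {h : ℕ} (b : Module.Basis (Fin h) K(p, k) N) :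
    (stdLat b).IsLattice K(p, k) where
  fg := Submodule.fg_span (Set.finite_range b)
  span_eq_top := by
    unfold stdLat
    rw [Submodule.span_span_of_tower, b.span_eq]

theorem mem_pPow_stdLat_iff {h : ℕ} (b : Module.Basis (Fin h) K(p, k) N) (t : ℤ) (x : N) :
    x ∈ Isoc.pPow t (stdLat b) ↔
      ∀ i, ∃ w : WittVector p k, b.repr x i = (p : K(p, k)) ^ t * algebraMap _ _ w := by
  rw [mem_pPow_iff, mem_stdLat_iff]
  refine forall_congr' fun i => ?_
  rw [map_smul, Finsupp.smul_apply, smul_eq_mul, Set.mem_range]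
  refine exists_congr fun w => ?_
  constructor
  · intro hw
    rw [hw, ← mul_assoc, ← zpow_add₀ pL_ne_zero, add_neg_cancel, zpow_zero, one_mul]
  · intro hw
    rw [hw, ← mul_assoc, ← zpow_add₀ pL_ne_zero, neg_add_cancel, zpow_zero, one_mul]

/-- Lower bound: if `G` maps the standard lattice into `p^t` times it, then `det G ∈ p^(t h) W`. -/
theorem det_eq_of_forall_mem_pPow {h : ℕ} (b : Module.Basis (Fin h) K(p, k) N) (G : N →ₛₗ[τ] N)
    (t : ℤ) (hG : ∀ j, G (b j) ∈ Isoc.pPow t (stdLat b)) :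
    ∃ w : WittVector p k, Isoc.detCoeff b G = (p : K(p, k)) ^ (t * h) * algebraMap _ _ w := by
  have hex : ∀ j i, ∃ w : WittVector p k,
      b.repr (G (b j)) i = (p : K(p, k)) ^ t * algebraMap _ _ w := fun j =>
    (mem_pPow_stdLat_iff b t _).mp (hG j)
  choose B hB using hex
  have hmat : mat b G = ((p : K(p, k)) ^ t) •
      (Matrix.of fun i j => B j i).map (algebraMap (WittVector p k) K(p, k)) := by
    ext i j
    rw [mat_apply, hB]
    rfl
  refine ⟨(Matrix.of fun i j => B j i).det, ?_⟩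
  rw [detCoeff_eq, hmat, Matrix.det_smul, Fintype.card_fin, RingHom.map_det,
    RingHom.mapMatrix_apply, zpow_mul, zpow_natCast]

/-- Upper bound: if `p^t b_i ∈ G(M_b)` for all `i`, then `p^(t h) ∈ det G · W`. -/
theorem det_mul_eq_of_forall_exists (hτ : WCompat τ e) {h : ℕ}
    (b : Module.Basis (Fin h) K(p, k) N) (G : N →ₛₗ[τ] N)
    (t : ℤ) (hG : ∀ i, ∃ x ∈ stdLat b, G x = ((p : K(p, k)) ^ t) • b i) :
    ∃ w : WittVector p k, Isoc.detCoeff b G * algebraMap _ _ w = (p : K(p, k)) ^ (t * h) := by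
  choose x hx hGx using hG
  have hex : ∀ i l, ∃ w : WittVector p k, b.repr (x i) l = algebraMap _ _ w := fun i l => by
    obtain ⟨w, hw⟩ := (mem_stdLat_iff b (x i)).mp (hx i) l
    exact ⟨w, hw.symm⟩
  choose B hB using hex
  -- `p^t • 1 = mat b G * E` with `E` integral
  have hmat : ((p : K(p, k)) ^ t) • (1 : Matrix (Fin h) (Fin h) K(p, k)) =
      mat b G * ((Matrix.of fun l i => e (B i l)).map (algebraMap (WittVector p k) K(p, k))) := by
    ext m i
    rw [Matrix.mul_apply, Matrix.smul_apply, Matrix.one_apply, smul_eq_mul]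
    have h1 := repr_apply_semilinear b G (x i) m
    rw [hGx i, map_smul, Finsupp.smul_apply, smul_eq_mul, Module.Basis.repr_self_apply] at h1
    have h2 : (if m = i then (1 : K(p, k)) else 0) = if i = m then 1 else 0 := by
      simp only [eq_comm]
    rw [h2, h1]
    refine Finset.sum_congr rfl fun l _ => ?_
    rw [hB, hτ.comm]
    rfl
  refine ⟨(Matrix.of fun l i => e (B i l)).det, ?_⟩
  have := congrArg Matrix.det hmat
  rw [Matrix.det_smul, Matrix.det_one, mul_one, Fintype.card_fin, Matrix.det_mul] at this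
  rw [detCoeff_eq, RingHom.map_det, RingHom.mapMatrix_apply, ← this, zpow_mul, zpow_natCast]

/-- `ord(F^n)` on the standard lattice is bounded by `orddet`. -/
theorem stdLat_le_det (hτ : WCompat τ e) {h : ℕ} (b : Module.Basis (Fin h) K(p, k) N)
    (F : N →ₛₗ[τ] N) {d : ℤ} (hd : Isoc.IsOrdP (Isoc.detCoeff b F) d) {n : ℕ} {t : ℤ}
    (hle : Isoc.latImg F n (stdLat b) ≤ Isoc.pPow t (stdLat b)) : t * h ≤ n * d := by
  have hG : ∀ j, (Isoc.iter F n) (b j) ∈ Isoc.pPow t (stdLat b) := fun j =>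
    hle ((mem_latImg hτ).mpr ⟨b j, basis_mem_stdLat b j, rfl⟩)
  obtain ⟨w, hw⟩ := det_eq_of_forall_mem_pPow b (Isoc.iter F n) t hG
  obtain ⟨u, hu⟩ := isOrdP_detCoeff_iter hτ b F hd n
  exact le_of_zpow_mul_eq (hw.symm.trans hu)

theorem det_le_stdLat (hτ : WCompat τ e) {h : ℕ} (b : Module.Basis (Fin h) K(p, k) N)
    (F : N →ₛₗ[τ] N) {d : ℤ} (hd : Isoc.IsOrdP (Isoc.detCoeff b F) d) {n : ℕ} {t : ℤ}
    (hle : Isoc.pPow t (stdLat b) ≤ Isoc.latImg F n (stdLat b)) : n * d ≤ t * h := by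
  have hG : ∀ i, ∃ x ∈ stdLat b, (Isoc.iter F n) x = ((p : K(p, k)) ^ t) • b i := fun i =>
    (mem_latImg hτ).mp (hle (smul_mem_pPow (basis_mem_stdLat b i)))
  obtain ⟨w, hw⟩ := det_mul_eq_of_forall_exists (hτ.pow n) b (Isoc.iter F n) t hG
  obtain ⟨u, hu⟩ := isOrdP_detCoeff_iter hτ b F hd n
  rw [hu, mul_assoc, ← map_mul] at hw
  refine le_of_zpow_mul_eq (u := 1) (w := (u : WittVector p k) * w) ?_
  rw [hw, Units.val_one, map_one, mul_one]

theorem exists_sandwich {M M' : Submodule (WittVector p k) N} (hM : M.IsLattice K(p, k))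
    (hM' : M'.IsLattice K(p, k)) :
    ∃ c : ℕ, Isoc.pPow c M ≤ M' ∧ Isoc.pPow c M' ≤ M := by
  obtain ⟨c₁, h₁⟩ := exists_pPow_le_of_fg hM.fg hM'.span_eq_top
  obtain ⟨c₂, h₂⟩ := exists_pPow_le_of_fg hM'.fg hM.span_eq_top
  refine ⟨max c₁ c₂, (pPow_anti ?_ M).trans h₁, (pPow_anti ?_ M').trans h₂⟩
  · exact_mod_cast le_max_left c₁ c₂
  · exact_mod_cast le_max_right c₁ c₂

theorem lim_aux (X C : ℤ) (H : ∀ j : ℕ, (j : ℤ) * X ≤ C) : X ≤ 0 := by
  by_contra hX
  push Not at hX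
  have h0 : 0 ≤ C := by simpa using H 0
  have := H (C.toNat + 1)
  have h1 : ((C.toNat + 1 : ℕ) : ℤ) = C + 1 := by
    push_cast
    rw [Int.toNat_of_nonneg h0]
  rw [h1] at this
  nlinarith

/-- For any lattice `M`: `F^n M ⊆ p^t M` implies `t · h ≤ n · orddet(F)`. -/
theorem latImg_le_det (hτ : WCompat τ e) {h : ℕ} (b : Module.Basis (Fin h) K(p, k) N)
    (F : N →ₛₗ[τ] N) {d : ℤ} (hd : Isoc.IsOrdP (Isoc.detCoeff b F) d)
    {M : Submodule (WittVector p k) N} (hM : M.IsLattice K(p, k)) {n : ℕ} {t : ℤ}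
    (hle : Isoc.latImg F n M ≤ Isoc.pPow t M) : t * h ≤ n * d := by
  obtain ⟨c, hc₁, hc₂⟩ := exists_sandwich hM (isLattice_stdLat b)
  have key : ∀ j : ℕ, (t * j - 2 * c) * h ≤ ((n * j : ℕ) : ℤ) * d := by
    intro j
    apply stdLat_le_det hτ b F hd
    have h1 : stdLat b ≤ Isoc.pPow (-(c : ℤ)) M := pPow_le_iff.mp hc₂
    have h2 : M ≤ Isoc.pPow (-(c : ℤ)) (stdLat b) := pPow_le_iff.mp hc₁
    calc Isoc.latImg F (n * j) (stdLat b)
        ≤ Isoc.latImg F (n * j) (Isoc.pPow (-(c : ℤ)) M) := latImg_mono F _ h1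
      _ = Isoc.pPow (-(c : ℤ)) (Isoc.latImg F (n * j) M) := latImg_pPow hτ F _ _ M
      _ ≤ Isoc.pPow (-(c : ℤ)) (Isoc.pPow (t * j) M) :=
          pPow_mono _ (latImg_le_pPow_mul hτ hle j)
      _ ≤ Isoc.pPow (-(c : ℤ)) (Isoc.pPow (t * j) (Isoc.pPow (-(c : ℤ)) (stdLat b))) :=
          pPow_mono _ (pPow_mono _ h2)
      _ = Isoc.pPow (t * j - 2 * c) (stdLat b) := by
          rw [pPow_pPow, pPow_pPow]
          congr 1
          ring
  have := lim_aux (t * h - n * d) (2 * c * h) (fun j => by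
    have := key j
    push_cast at this
    linarith)
  linarith

/-- For any lattice `M`: `p^t M ⊆ F^n M` implies `n · orddet(F) ≤ t · h`. -/
theorem det_le_latImg (hτ : WCompat τ e) {h : ℕ} (b : Module.Basis (Fin h) K(p, k) N)
    (F : N →ₛₗ[τ] N) {d : ℤ} (hd : Isoc.IsOrdP (Isoc.detCoeff b F) d)
    {M : Submodule (WittVector p k) N} (hM : M.IsLattice K(p, k)) {n : ℕ} {t : ℤ}
    (hle : Isoc.pPow t M ≤ Isoc.latImg F n M) : n * d ≤ t * h := by
  obtain ⟨c, hc₁, hc₂⟩ := exists_sandwich hM (isLattice_stdLat b)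
  have key : ∀ j : ℕ, ((n * j : ℕ) : ℤ) * d ≤ (t * j + 2 * c) * h := by
    intro j
    apply det_le_stdLat hτ b F hd
    calc Isoc.pPow (t * j + 2 * c) (stdLat b)
        = Isoc.pPow c (Isoc.pPow (t * j) (Isoc.pPow c (stdLat b))) := by
          rw [pPow_pPow, pPow_pPow]
          congr 1
          ring
      _ ≤ Isoc.pPow c (Isoc.pPow (t * j) M) := pPow_mono _ (pPow_mono _ hc₂)
      _ ≤ Isoc.pPow c (Isoc.latImg F (n * j) M) := pPow_mono _ (pPow_le_latImg_mul hτ hle j)
      _ = Isoc.latImg F (n * j) (Isoc.pPow c M) := (latImg_pPow hτ F _ _ M).symm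
      _ ≤ Isoc.latImg F (n * j) (stdLat b) := latImg_mono F _ hc₁
  have := lim_aux (n * d - t * h) (2 * c * h) (fun j => by
    have := key j
    push_cast at this
    linarith)
  linarith

end StdLat

end Groth.Agent.Lib.Helper86
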