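import Mathlib
import Groth.Prelude.Def_Isoc
import Groth.Agent.Lib.Helper86.Isoc
import Groth.Agent.Lib.Helper86.Isoc2
import Groth.Agent.Lib.Helper86.Isoc3

/-!
# Library for `Def_Isoc` (helper86), part 4: existence of `orddet`, the standard isocrystals.
-/

set_option autoImplicit false
set_option linter.unusedSectionVars false

noncomputable section

open scoped Pointwise Isocrystal

universe u v

namespace Groth.Agent.Lib.Helper86

section OrdDet

variable {p : ℕ} [Fact p.Prime] {k : Type u} [Field k] [CharP k p] [PerfectRing k p]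
variable {N : Type v} [AddCommGroup N] [Module (WittVector p k) N] [Module K(p, k) N]
  [IsScalarTower (WittVector p k) K(p, k) N]
variable {τ : K(p, k) →+* K(p, k)} {e : WittVector p k ≃+* WittVector p k}

theorem algebraMap_unit_inv (u : (WittVector p k)ˣ) :
    algebraMap (WittVector p k) K(p, k) ((u⁻¹ : (WittVector p k)ˣ) : WittVector p k) =
      (algebraMap (WittVector p k) K(p, k) (u : WittVector p k))⁻¹ := by
  apply eq_inv_of_mul_eq_one_left
  rw [← map_mul, Units.inv_mul, map_one]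

/-- Every non-zero element of `L` has a `p`-adic order. -/
theorem exists_isOrdP_of_ne_zero {c : K(p, k)} (hc : c ≠ 0) : ∃ r : ℤ, Isoc.IsOrdP c r := by
  obtain ⟨a, b, hb, rfl⟩ := IsFractionRing.div_surjective (A := WittVector p k) c
  have hb0 : b ≠ 0 := nonZeroDivisors.ne_zero hb
  have ha0 : a ≠ 0 := by
    rintro rfl
    simp at hc
  obtain ⟨m, u, rfl⟩ := WittVector.exists_eq_pow_p_mul' a ha0
  obtain ⟨n, v, rfl⟩ := WittVector.exists_eq_pow_p_mul' b hb0
  refine ⟨(m : ℤ) - n, u * v⁻¹, ?_⟩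
  have hv : algebraMap (WittVector p k) K(p, k) (v : WittVector p k) ≠ 0 :=
    (map_ne_zero_iff _ (IsFractionRing.injective (WittVector p k) K(p, k))).mpr v.ne_zero
  rw [Units.val_mul, map_mul, map_mul, map_mul, map_pow, map_pow, map_natCast, algebraMap_unit_inv,
    zpow_sub₀ pL_ne_zero, zpow_natCast, zpow_natCast]
  have hp : (p : K(p, k)) ^ n ≠ 0 := pow_ne_zero _ pL_ne_zero
  field_simp

theorem detCoeff_ne_zero (hτ : WCompat τ e) {h : ℕ} (b : Module.Basis (Fin h) K(p, k) N)
    (F : N →ₛₗ[τ] N) (hF : Function.Bijective F) : Isoc.detCoeff b F ≠ 0 := by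
  have hlat := isLattice_latImg hτ hF (isLattice_stdLat b) 1
  obtain ⟨c, hc⟩ := exists_pPow_le_of_fg (isLattice_stdLat b).fg hlat.span_eq_top
  have hG : ∀ i, ∃ x ∈ stdLat b, F x = ((p : K(p, k)) ^ (c : ℤ)) • b i := fun i => by
    obtain ⟨x, hx, hxy⟩ := (mem_latImg hτ).mp (hc (smul_mem_pPow (basis_mem_stdLat b i)))
    exact ⟨x, hx, hxy⟩
  obtain ⟨w, hw⟩ := det_mul_eq_of_forall_exists hτ b F c hG
  intro h0
  rw [h0, zero_mul] at hw
  exact pL_zpow_ne_zero _ hw.symm

theorem exists_isOrdP_detCoeff (hτ : WCompat τ e) {h : ℕ} (b : Module.Basis (Fin h) K(p, k) N)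
    (F : N →ₛₗ[τ] N) (hF : Function.Bijective F) : ∃ d : ℤ, Isoc.IsOrdP (Isoc.detCoeff b F) d :=
  exists_isOrdP_of_ne_zero (detCoeff_ne_zero hτ b F hF)

end OrdDet

section Std

variable {p : ℕ} [Fact p.Prime] {k : Type u} [Field k] [CharP k p] [PerfectRing k p]
variable {τ : K(p, k) →+* K(p, k)} {e : WittVector p k ≃+* WittVector p k}

theorem val_finRotate_symm {h : ℕ} (i : Fin h) :
    ((finRotate h).symm i).val = if i.val = 0 then h - 1 else i.val - 1 := by
  obtain ⟨n, rfl⟩ : ∃ n, h = n + 1 := ⟨h - 1, by have := i.pos; omega⟩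
  obtain ⟨j, rfl⟩ := (finRotate (n + 1)).surjective i
  rw [Equiv.symm_apply_apply, coe_finRotate]
  by_cases hj : j = Fin.last n
  · simp [hj]
  · simp [hj]

theorem stdIsoc_injective (d : ℤ) (h : ℕ) : Function.Injective (Isoc.stdIsoc τ d h) := by
  rw [injective_iff_map_eq_zero]
  intro x hx
  funext i
  have h1 := congrFun hx ((finRotate h) i)
  rw [Isoc.stdIsoc_apply, Equiv.symm_apply_apply, Pi.zero_apply, mul_eq_zero] at h1
  rcases h1 with h1 | h1
  · exfalso
    split_ifs at h1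
    · exact pL_zpow_ne_zero d h1
    · exact one_ne_zero h1
  · exact (map_eq_zero τ).mp h1

theorem stdIsoc_iterate (hτ : WCompat τ e) (d : ℤ) (h : ℕ) (j : ℕ) (hj : j ≤ h)
    (x : Fin h → K(p, k)) (i : Fin h) :
    (⇑(Isoc.stdIsoc τ d h))^[j] x i =
      (if i.val < j then (p : K(p, k)) ^ d else 1) *
        (τ ^ j) (x (((finRotate h).symm ^ j) i)) := by
  induction j generalizing i with
  | zero => simp
  | succ j ih =>
    rw [Function.iterate_succ_apply', Isoc.stdIsoc_apply, ih (by omega), map_mul, pow_succ' τ j,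
      RingHom.mul_def, RingHom.comp_apply, pow_succ ((finRotate h).symm) j, Equiv.Perm.mul_apply,
      apply_ite τ, hτ.map_p_zpow, map_one, val_finRotate_symm]
    by_cases hi : i.val = 0
    · have h1 : ¬ (h - 1 < j) := by omega
      have h2 : i.val < j + 1 := by omega
      rw [if_pos hi, if_pos hi, if_neg h1, if_pos h2, one_mul]
    · have h1 : (i.val - 1 < j) ↔ (i.val < j + 1) := by omega
      rw [if_neg hi, if_neg hi, one_mul]
      simp only [h1]

theorem stdIsoc_latImg (hτ : WCompat τ e) (d : ℤ) (h : ℕ) :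
    Isoc.latImg (Isoc.stdIsoc τ d h) h (stdLat (Pi.basisFun K(p, k) (Fin h))) =
      Isoc.pPow d (stdLat (Pi.basisFun K(p, k) (Fin h))) := by
  ext y
  rw [mem_latImg hτ, mem_pPow_stdLat_iff]
  constructor
  · rintro ⟨x, hx, rfl⟩ i
    rw [mem_stdLat_iff] at hx
    obtain ⟨w, hw⟩ := hx (((finRotate h).symm ^ h) i)
    refine ⟨(e ^ h) w, ?_⟩
    rw [Pi.basisFun_repr, stdIsoc_iterate hτ d h h le_rfl, if_pos i.isLt]
    rw [Pi.basisFun_repr] at hw
    rw [← hw, (hτ.pow h).comm]
  · intro hy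
    choose w hw using hy
    refine ⟨fun i' => algebraMap _ _ ((e ^ h).symm (w ((((finRotate h).symm ^ h)⁻¹ : Equiv.Perm (Fin h)) i'))),
      ?_, ?_⟩
    · rw [mem_stdLat_iff]
      intro i
      rw [Pi.basisFun_repr]
      exact ⟨_, rfl⟩
    · funext i
      rw [stdIsoc_iterate hτ d h h le_rfl, if_pos i.isLt, (hτ.pow h).comm,
        RingEquiv.apply_symm_apply, Equiv.Perm.inv_def, Equiv.symm_apply_apply]
      have := hw i
      rw [Pi.basisFun_repr] at this
      exact this.symm

theorem stdIsoc_amb (hτ : WCompat τ e) (d : ℤ) (h : ℕ) :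
    AmbIsoclinic (Isoc.stdIsoc τ d h) ⊤ d h :=
  ⟨stdLat (Pi.basisFun K(p, k) (Fin h)), (isLattice_stdLat _).fg, (isLattice_stdLat _).span_eq_top,
    stdIsoc_latImg hτ d h⟩

end Std

end Groth.Agent.Lib.Helper86
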