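import Mathlib
import Groth.Prelude.Def_Isoc
import Groth.Agent.Lib.Helper86.Isoc
import Groth.Agent.Lib.Helper86.Isoc2
import Groth.Agent.Lib.Helper86.Isoc3
import Groth.Agent.Lib.Helper86.Isoc4

/-!
# Library for `Def_Isoc` (helper86), part 5: effectiveness (`F^(h+1) M ⊆ p⁻¹ M ⇒` effective).
-/

set_option autoImplicit false
set_option linter.unusedSectionVars false

noncomputable section

open scoped Pointwise Isocrystal

universe u v

namespace Groth.Agent.Lib.Helper86

section Eff

variable {p : ℕ} [Fact p.Prime] {k : Type u} [Field k] [CharP k p] [PerfectRing k p]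
variable {N : Type v} [AddCommGroup N] [Module (WittVector p k) N] [Module K(p, k) N]
  [IsScalarTower (WittVector p k) K(p, k) N]
variable {τ : K(p, k) →+* K(p, k)} {e : WittVector p k ≃+* WittVector p k}

theorem p_smul_eq (z : N) : (p : WittVector p k) • z = (p : K(p, k)) • z := by
  have := natCast_smul_eq (p := p) (k := k) 1 z
  simpa using this.symm

theorem p_smul_eq_zero {z : N} (h : (p : WittVector p k) • z = 0) : z = 0 := by
  rw [p_smul_eq] at h
  exact (smul_eq_zero.mp h).resolve_left pL_ne_zero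

theorem p_smul_mem_pPow_one {Λ : Submodule (WittVector p k) N} {z : N} (hz : z ∈ Λ) :
    (p : WittVector p k) • z ∈ Isoc.pPow 1 Λ := by
  have := smul_mem_pPow (r := 1) hz
  rwa [zpow_one, ← p_smul_eq] at this

theorem dvd_of_not_isUnit {w : WittVector p k} (h : ¬ IsUnit w) : (p : WittVector p k) ∣ w := by
  have h1 : w ∈ IsLocalRing.maximalIdeal (WittVector p k) := (IsLocalRing.mem_maximalIdeal _).mpr h
  rw [(WittVector.irreducible p).maximalIdeal_eq, Ideal.mem_span_singleton] at h1
  exact h1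

/-- A linearly dependent finite family has a `W`-relation with a unit coefficient. -/
theorem exists_normalized_relation {ι : Type*} [Fintype ι] (y : ι → N)
    (hy : ¬ LinearIndependent K(p, k) y) :
    ∃ c : ι → WittVector p k, ∑ i, c i • y i = 0 ∧ ∃ j, IsUnit (c j) := by
  rw [← LinearIndependent.iff_fractionRing (WittVector p k) K(p, k),
    Fintype.not_linearIndependent_iff] at hy
  obtain ⟨g, hg, i0, hi0⟩ := hy
  obtain ⟨n, u, hn⟩ := WittVector.exists_eq_pow_p_mul' (g i0) hi0
  induction n generalizing g with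
  | zero => exact ⟨g, hg, i0, by rw [hn, pow_zero, one_mul]; exact u.isUnit⟩
  | succ n ih =>
    by_cases hex : ∃ j, IsUnit (g j)
    · exact ⟨g, hg, hex⟩
    · push Not at hex
      have hdvd : ∀ j, (p : WittVector p k) ∣ g j := fun j => dvd_of_not_isUnit (hex j)
      choose g' hg' using hdvd
      refine ih g' ?_ ?_ ?_
      · apply p_smul_eq_zero (p := p) (k := k)
        rw [Finset.smul_sum, ← hg]
        refine Finset.sum_congr rfl fun i _ => ?_
        rw [smul_smul, ← hg']
      · intro h0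
        apply hi0
        rw [hg', h0, mul_zero]
      · have := hn
        rw [hg' i0, pow_succ', mul_assoc] at this
        exact mul_left_cancel₀ (WittVector.p_nonzero p k) this

/-- Pigeonhole on a chain of `h + 2` submodules of a lattice in an `h`-dimensional space. -/
theorem exists_step_le [Module.Finite K(p, k) N] {h : ℕ} (hh : Module.finrank K(p, k) N = h)
    (A : ℕ → Submodule (WittVector p k) N) (hA : Monotone A) (Λ : Submodule (WittVector p k) N)
    (hΛ : A (h + 1) ≤ Λ) : ∃ i ≤ h, A (i + 1) ≤ A i ⊔ Isoc.pPow 1 Λ := by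
  classical
  by_contra hcon
  push Not at hcon
  have hex : ∀ i : Fin (h + 1), ∃ y, y ∈ A (i.val + 1) ∧ y ∉ A i.val ⊔ Isoc.pPow 1 Λ := fun i => by
    have := hcon i.val (Nat.lt_succ_iff.mp i.isLt)
    exact SetLike.not_le_iff_exists.mp this
  choose y hy1 hy2 using hex
  have hdep : ¬ LinearIndependent K(p, k) y := by
    intro hli
    have := hli.fintype_card_le_finrank
    rw [Fintype.card_fin, hh] at this
    omega
  obtain ⟨c, hc, hunit⟩ := exists_normalized_relation y hdep
  obtain ⟨j, hj, hjmax⟩ : ∃ j, IsUnit (c j) ∧ ∀ i, IsUnit (c i) → i ≤ j := by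
    have hne : (Finset.univ.filter fun i => IsUnit (c i)).Nonempty := by
      obtain ⟨j, hj⟩ := hunit
      exact ⟨j, by simp [hj]⟩
    refine ⟨(Finset.univ.filter fun i => IsUnit (c i)).max' hne, ?_, ?_⟩
    · have := Finset.max'_mem _ hne
      simpa using this
    · intro i hi
      exact Finset.le_max' _ i (by simp [hi])
  apply hy2 j
  obtain ⟨u, hu⟩ := hj
  have hsum : c j • y j + ∑ i ∈ Finset.univ.erase j, c i • y i = 0 := by
    rw [Finset.add_sum_erase Finset.univ (fun i => c i • y i) (Finset.mem_univ j)]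
    exact hc
  have hmem : ∑ i ∈ Finset.univ.erase j, c i • y i ∈ A j.val ⊔ Isoc.pPow 1 Λ := by
    refine Submodule.sum_mem _ fun i hi => ?_
    have hij : i ≠ j := Finset.ne_of_mem_erase hi
    rcases lt_or_gt_of_ne hij with hlt | hgt
    · apply Submodule.mem_sup_left
      exact Submodule.smul_mem _ _ (hA (Nat.succ_le_of_lt hlt) (hy1 i))
    · apply Submodule.mem_sup_right
      have hnu : ¬ IsUnit (c i) := fun hi' => absurd (hjmax i hi') (not_le.mpr hgt)
      obtain ⟨c', hc'⟩ := dvd_of_not_isUnit hnu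
      have hyΛ : y i ∈ Λ := hΛ (hA (by have := i.isLt; omega) (hy1 i))
      rw [hc', mul_smul]
      exact p_smul_mem_pPow_one (Λ.smul_mem c' hyΛ)
  have hyj : y j = ((u⁻¹ : (WittVector p k)ˣ) : WittVector p k) •
      (-(∑ i ∈ Finset.univ.erase j, c i • y i)) := by
    have h1 : c j • y j = -(∑ i ∈ Finset.univ.erase j, c i • y i) := eq_neg_of_add_eq_zero_left hsum
    rw [← h1, ← hu, smul_smul, Units.inv_mul, one_smul]
  rw [hyj]
  exact Submodule.smul_mem _ _ (Submodule.neg_mem _ hmem)

/-- `M + F M + ... + F^n M`. -/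
def sumIt (F : N →ₛₗ[τ] N) (M : Submodule (WittVector p k) N) : ℕ → Submodule (WittVector p k) N
  | 0 => M
  | n + 1 => M ⊔ Isoc.latImg F 1 (sumIt F M n)

theorem sumIt_zero (F : N →ₛₗ[τ] N) (M : Submodule (WittVector p k) N) : sumIt F M 0 = M := rfl

theorem sumIt_succ (F : N →ₛₗ[τ] N) (M : Submodule (WittVector p k) N) (n : ℕ) :
    sumIt F M (n + 1) = M ⊔ Isoc.latImg F 1 (sumIt F M n) := rfl

theorem le_sumIt (F : N →ₛₗ[τ] N) (M : Submodule (WittVector p k) N) (n : ℕ) :
    M ≤ sumIt F M n := by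
  cases n with
  | zero => exact le_rfl
  | succ n => exact le_sup_left

theorem sumIt_le_succ (F : N →ₛₗ[τ] N) (M : Submodule (WittVector p k) N) (n : ℕ) :
    sumIt F M n ≤ sumIt F M (n + 1) := by
  induction n with
  | zero => exact le_sup_left
  | succ n ih => exact sup_le_sup_left (latImg_mono F 1 ih) M

theorem sumIt_mono (F : N →ₛₗ[τ] N) (M : Submodule (WittVector p k) N) : Monotone (sumIt F M) :=
  monotone_nat_of_le_succ (sumIt_le_succ F M)

theorem latImg_sumIt_le (F : N →ₛₗ[τ] N) (M : Submodule (WittVector p k) N) (n : ℕ) :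
    Isoc.latImg F 1 (sumIt F M n) ≤ sumIt F M (n + 1) := le_sup_right

theorem sumIt_add (hτ : WCompat τ e) (F : N →ₛₗ[τ] N) (M : Submodule (WittVector p k) N)
    (n j : ℕ) :
    sumIt F M (n + j + 1) = sumIt F M j ⊔ Isoc.latImg F (j + 1) (sumIt F M n) := by
  induction j with
  | zero => rfl
  | succ j ih =>
    show M ⊔ Isoc.latImg F 1 (sumIt F M (n + j + 1)) =
      (M ⊔ Isoc.latImg F 1 (sumIt F M j)) ⊔ Isoc.latImg F (j + 1 + 1) (sumIt F M n)
    rw [ih, latImg_sup hτ, sup_assoc, ← latImg_add hτ, add_comm 1 (j + 1)]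

theorem sumIt_fg (hτ : WCompat τ e) (F : N →ₛₗ[τ] N) {M : Submodule (WittVector p k) N}
    (hM : M.FG) (n : ℕ) : (sumIt F M n).FG := by
  induction n with
  | zero => exact hM
  | succ n ih =>
    rw [sumIt_succ, latImg_eq_map hτ]
    exact hM.sup (ih.map _)

theorem isLattice_sumIt (hτ : WCompat τ e) (F : N →ₛₗ[τ] N) {M : Submodule (WittVector p k) N}
    (hM : M.IsLattice K(p, k)) (n : ℕ) : (sumIt F M n).IsLattice K(p, k) where
  fg := sumIt_fg hτ F hM.fg n
  span_eq_top := by
    rw [eq_top_iff, ← hM.span_eq_top]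
    exact Submodule.span_mono (le_sumIt F M n)

theorem latImg_sumIt_le_pPow (hτ : WCompat τ e) (F : N →ₛₗ[τ] N)
    {M : Submodule (WittVector p k) N} {n : ℕ} {r : ℤ}
    (h : Isoc.latImg F n M ≤ Isoc.pPow r M) (j : ℕ) :
    Isoc.latImg F n (sumIt F M j) ≤ Isoc.pPow r (sumIt F M j) := by
  induction j with
  | zero => exact h
  | succ j ih =>
    rw [sumIt_succ, latImg_sup hτ, pPow_sup, ← latImg_add hτ, add_comm n 1, latImg_add hτ,
      ← latImg_pPow hτ]
    exact sup_le_sup h (latImg_mono F 1 ih)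

/-- If `F^j M ⊆ M` for some `j ≥ 1` then `M + F M + ... + F^(j-1) M` is `F`-stable. -/
theorem latImg_sumIt_le_self (hτ : WCompat τ e) (F : N →ₛₗ[τ] N)
    {M : Submodule (WittVector p k) N} (j : ℕ) (h : Isoc.latImg F (j + 1) M ≤ M) :
    Isoc.latImg F 1 (sumIt F M j) ≤ sumIt F M j := by
  refine (latImg_sumIt_le F M j).trans ?_
  have := sumIt_add hτ F M 0 j
  rw [zero_add] at this
  rw [this, sumIt_zero]
  exact sup_le le_rfl (h.trans (le_sumIt F M j))

/-- Effectiveness criterion: `F^(h+1) M ⊆ p⁻¹ M` implies that `M + F M + ... + F^h M` is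
`F`-stable. -/
theorem latImg_sumIt_le_of_le_pPow_neg_one (hτ : WCompat τ e) [Module.Finite K(p, k) N] {h : ℕ}
    (hh : Module.finrank K(p, k) N = h) (F : N →ₛₗ[τ] N)
    {M : Submodule (WittVector p k) N}
    (hFM : Isoc.latImg F (h + 1) M ≤ Isoc.pPow (-1) M) :
    Isoc.latImg F 1 (sumIt F M h) ≤ sumIt F M h := by
  obtain ⟨i, hi, hstep⟩ := exists_step_le hh (sumIt F M) (sumIt_mono F M) (sumIt F M (h + 1)) le_rfl
  -- propagate the step
  have hprop : ∀ j : ℕ, sumIt F M (i + 1 + j) ≤
      sumIt F M (i + j) ⊔ Isoc.pPow 1 (sumIt F M (h + 1 + j)) := by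
    intro j
    induction j with
    | zero => exact hstep
    | succ j ih =>
      show M ⊔ Isoc.latImg F 1 (sumIt F M (i + 1 + j)) ≤ _
      refine sup_le ((le_sumIt F M _).trans le_sup_left) ?_
      refine (latImg_mono F 1 ih).trans ?_
      rw [latImg_sup hτ, latImg_pPow hτ]
      exact sup_le_sup (latImg_sumIt_le F M (i + j)) (pPow_mono 1 (latImg_sumIt_le F M (h + 1 + j)))
  obtain ⟨j, rfl⟩ := Nat.exists_eq_add_of_le hi
  have h1 := hprop j
  -- bound `sumIt (h + 1 + j)`
  have h2 : sumIt F M (i + j + 1 + j) ≤ Isoc.pPow (-1) (sumIt F M (i + j)) := by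
    have e1 : i + j + 1 + j = j + (i + j) + 1 := by ring
    rw [e1, sumIt_add hτ]
    refine sup_le ?_ ?_
    · have := pPow_anti (show (-1 : ℤ) ≤ 0 by norm_num) (sumIt F M (i + j))
      rwa [pPow_zero] at this
    · refine (latImg_sumIt_le_pPow hτ F hFM j).trans ?_
      exact pPow_mono _ (sumIt_mono F M (by omega))
  have h3 : Isoc.pPow 1 (sumIt F M (i + j + 1 + j)) ≤ sumIt F M (i + j) := by
    rw [pPow_le_iff]
    exact h2
  refine (latImg_sumIt_le F M (i + j)).trans ?_
  have e2 : i + 1 + j = i + j + 1 := by ring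
  rw [e2] at h1
  exact h1.trans (sup_le le_rfl h3)

end Eff

end Groth.Agent.Lib.Helper86
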