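import Mathlib
import Groth.Prelude.Def_Isoc
import Groth.Agent.Lib.Helper86.Isoc
import Groth.Agent.Lib.Helper86.Isoc5

/-!
# Library for `Def_Isoc` (helper86), part 9: chain conditions modulo `p^c` and `p`-adic limits in
finitely generated `W`-submodules.
-/

set_option autoImplicit false
set_option linter.unusedSectionVars false

noncomputable section

open scoped Pointwise Isocrystal

universe u v

namespace Groth.Agent.Lib.Helper86

section Chain

variable {p : ℕ} [Fact p.Prime] {k : Type u} [Field k] [CharP k p] [PerfectRing k p]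
variable {N : Type v} [AddCommGroup N] [Module (WittVector p k) N] [Module K(p, k) N]
  [IsScalarTower (WittVector p k) K(p, k) N]

/-- Descending chains between `pΛ` and `Λ` stabilise. -/
theorem dcc_one [Module.Finite K(p, k) N] (Λ : Submodule (WittVector p k) N)
    (B : ℕ → Submodule (WittVector p k) N) (hB : Antitone B) (hlo : ∀ j, Isoc.pPow 1 Λ ≤ B j)
    (hhi : ∀ j, B j ≤ Λ) : ∃ n, ∀ j, n ≤ j → B j = B n := by
  by_contra hcon
  push Not at hcon
  have hlt : ∀ n, ∃ j, n < j ∧ B j < B n := by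
    intro n
    obtain ⟨j, hj, hne⟩ := hcon n
    have hnj : n < j := lt_of_le_of_ne hj (fun h => hne (h ▸ rfl))
    exact ⟨j, hnj, lt_of_le_of_ne (hB hj) hne⟩
  choose f hf1 hf2 using hlt
  set h := Module.finrank K(p, k) N with hh
  have hmono : ∀ a b : ℕ, a ≤ b → f^[a] 0 ≤ f^[b] 0 := by
    intro a b hab
    obtain ⟨c, rfl⟩ := Nat.exists_eq_add_of_le hab
    induction c with
    | zero => exact le_rfl
    | succ c ih =>
      refine (ih (Nat.le_add_right _ _)).trans ?_
      rw [← add_assoc, Function.iterate_succ_apply']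
      exact (hf1 _).le
  let A : ℕ → Submodule (WittVector p k) N := fun i => B (f^[h + 1 - i] 0)
  have hA : Monotone A := by
    intro i i' hii
    exact hB (hmono _ _ (by omega))
  obtain ⟨i, hi, hstep⟩ := exists_step_le hh.symm A hA Λ (hhi _)
  have h1 : A (i + 1) ≤ A i := hstep.trans (sup_le le_rfl (hlo _))
  have h2 : A i < A (i + 1) := by
    show B (f^[h + 1 - i] 0) < B (f^[h + 1 - (i + 1)] 0)
    have e1 : h + 1 - i = (h + 1 - (i + 1)) + 1 := by omega
    rw [e1, Function.iterate_succ_apply']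
    exact hf2 _
  exact absurd h1 (not_le_of_gt h2)

/-- Descending chains between `p^c Λ` and `Λ` stabilise. -/
theorem dcc_pow [Module.Finite K(p, k) N] (Λ : Submodule (WittVector p k) N) (c : ℕ)
    (A : ℕ → Submodule (WittVector p k) N) (hA : Antitone A)
    (hlo : ∀ j, Isoc.pPow c Λ ≤ A j) (hhi : ∀ j, A j ≤ Λ) : ∃ n, ∀ j, n ≤ j → A j = A n := by
  induction c generalizing A with
  | zero =>
    refine ⟨0, fun j _ => ?_⟩
    have h0 : Isoc.pPow ((0 : ℕ) : ℤ) Λ = Λ := by
      rw [Nat.cast_zero, pPow_zero]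
    have e1 : A j = Λ := le_antisymm (hhi j) (h0 ▸ hlo j)
    have e2 : A 0 = Λ := le_antisymm (hhi 0) (h0 ▸ hlo 0)
    rw [e1, e2]
  | succ c ih =>
    -- the chain modulo `p`
    obtain ⟨n₂, hn₂⟩ := dcc_one Λ (fun j => A j ⊔ Isoc.pPow 1 Λ)
      (fun i j hij => sup_le_sup_right (hA hij) _) (fun j => le_sup_right)
      (fun j => sup_le (hhi j) (by
        have := pPow_anti (show (0 : ℤ) ≤ 1 by norm_num) Λ
        rwa [pPow_zero] at this))
    -- the chain inside `pΛ`
    obtain ⟨n₁, hn₁⟩ := ih (fun j => Isoc.pPow (-1) (A j ⊓ Isoc.pPow 1 Λ))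
      (fun i j hij => pPow_mono _ (inf_le_inf_right _ (hA hij)))
      (fun j => by
        rw [← pPow_le_iff, pPow_pPow]
        refine le_inf ?_ ?_
        · have e : (1 : ℤ) + (c : ℤ) = ((c + 1 : ℕ) : ℤ) := by push_cast; ring
          rw [e]
          exact hlo j
        · rw [← pPow_pPow]
          apply pPow_mono
          have := pPow_anti (show (0 : ℤ) ≤ (c : ℤ) by positivity) Λ
          rwa [pPow_zero] at this)
      (fun j => by
        rw [pPow_le_iff, neg_neg]
        exact inf_le_right)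
    refine ⟨max n₁ n₂, fun j hj => ?_⟩
    have hj₁ : n₁ ≤ j := (le_max_left _ _).trans hj
    have hj₂ : n₂ ≤ j := (le_max_right _ _).trans hj
    set n := max n₁ n₂ with hn
    refine le_antisymm (hA hj) ?_
    intro x hx
    have hB : A j ⊔ Isoc.pPow 1 Λ = A n ⊔ Isoc.pPow 1 Λ := by
      have a1 := hn₂ j hj₂
      have a2 := hn₂ n (le_max_right _ _)
      rw [a1, a2]
    have hC : A j ⊓ Isoc.pPow 1 Λ = A n ⊓ Isoc.pPow 1 Λ := by
      have a1 := hn₁ j hj₁
      have a2 := hn₁ n (le_max_left _ _)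
      have := a1.trans a2.symm
      exact le_antisymm ((pPow_le_pPow_iff (-1)).mp this.le) ((pPow_le_pPow_iff (-1)).mp this.ge)
    have hx' : x ∈ A j ⊔ Isoc.pPow 1 Λ := by
      rw [hB]
      exact Submodule.mem_sup_left hx
    obtain ⟨y, hy, z, hz, rfl⟩ := Submodule.mem_sup.mp hx'
    have hz' : z ∈ A n ⊓ Isoc.pPow 1 Λ := by
      refine ⟨?_, hz⟩
      have : z = (y + z) - y := by abel
      rw [this]
      exact (A n).sub_mem hx (hA hj hy)
    rw [← hC] at hz'
    exact (A j).add_mem hy hz'.1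

end Chain

section Lim

variable {p : ℕ} [Fact p.Prime] {k : Type u} [Field k] [CharP k p] [PerfectRing k p]
variable {N : Type v} [AddCommGroup N] [Module (WittVector p k) N] [Module K(p, k) N]
  [IsScalarTower (WittVector p k) K(p, k) N]

/-- `p`-adic limits in `W`. -/
theorem witt_exists_limit (s : ℕ → WittVector p k)
    (hs : ∀ n, (p : WittVector p k) ^ n ∣ s (n + 1) - s n) :
    ∃ a : WittVector p k, ∀ n, (p : WittVector p k) ^ n ∣ a - s n := by
  have hmn : ∀ m n, m ≤ n → (p : WittVector p k) ^ m ∣ s n - s m := by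
    intro m n hmn
    obtain ⟨d, rfl⟩ := Nat.exists_eq_add_of_le hmn
    induction d with
    | zero => simp
    | succ d ih =>
      have h1 := ih (Nat.le_add_right _ _)
      have h2 : (p : WittVector p k) ^ m ∣ s (m + d + 1) - s (m + d) :=
        (pow_dvd_pow _ (Nat.le_add_right m d)).trans (hs (m + d))
      have : s (m + (d + 1)) - s m = (s (m + d + 1) - s (m + d)) + (s (m + d) - s m) := by
        rw [← add_assoc]; ring
      rw [this]
      exact dvd_add h2 h1
  have hpre : IsPrecomplete (Ideal.span {(p : WittVector p k)}) (WittVector p k) :=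
    (WittVector.isAdicCompleteIdealSpanP (p := p) (k := k)).toIsPrecomplete
  obtain ⟨a, ha⟩ := hpre.prec (f := s) (by
    intro m n hmn'
    rw [SModEq.sub_mem, smul_eq_mul, Ideal.mul_top, Ideal.span_singleton_pow,
      Ideal.mem_span_singleton]
    have := hmn m n hmn'
    rw [← neg_sub]
    exact (dvd_neg).mpr this)
  refine ⟨a, fun n => ?_⟩
  have := ha n
  rw [SModEq.sub_mem, smul_eq_mul, Ideal.mul_top, Ideal.span_singleton_pow,
    Ideal.mem_span_singleton] at this
  rw [← neg_sub]
  exact (dvd_neg).mpr this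

theorem pow_smul_mem_pPow {M : Submodule (WittVector p k) N} {y : N} (hy : y ∈ M) (n : ℕ) :
    ((p : WittVector p k) ^ n) • y ∈ Isoc.pPow (n : ℤ) M := by
  have := smul_mem_pPow (r := (n : ℤ)) hy
  rwa [zpow_natCast, natCast_smul_eq] at this

theorem exists_coeffs_of_mem_pPow {M : Submodule (WittVector p k) N} {m : ℕ} {g : Fin m → N}
    (hg : Submodule.span (WittVector p k) (Set.range g) = M) {c : ℕ} {y : N}
    (hy : y ∈ Isoc.pPow (c : ℤ) M) :
    ∃ w : Fin m → WittVector p k, y = ∑ i, ((p : WittVector p k) ^ c * w i) • g i := by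
  rw [mem_pPow_iff, ← hg, Submodule.mem_span_range_iff_exists_fun] at hy
  obtain ⟨w, hw⟩ := hy
  refine ⟨w, ?_⟩
  have h1 : y = ((p : K(p, k)) ^ (c : ℤ)) • (((p : K(p, k)) ^ (-(c : ℤ))) • y) := by
    rw [smul_smul, ← zpow_add₀ pL_ne_zero, add_neg_cancel, zpow_zero, one_smul]
  rw [h1, ← hw, zpow_natCast, natCast_smul_eq, Finset.smul_sum]
  refine Finset.sum_congr rfl fun i _ => ?_
  rw [smul_smul]

/-- `p`-adic limits in a finitely generated `W`-submodule. -/
theorem exists_limit_of_fg {M : Submodule (WittVector p k) N} (hM : M.FG) (u : ℕ → N)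
    (hu : ∀ c : ℕ, u (c + 1) - u c ∈ Isoc.pPow (c : ℤ) M) :
    ∃ x : N, ∀ c : ℕ, x - u c ∈ Isoc.pPow (c : ℤ) M := by
  obtain ⟨m, g, hg⟩ := Submodule.fg_iff_exists_fin_generating_family.mp hM
  have hex : ∀ c : ℕ, ∃ w : Fin m → WittVector p k,
      u (c + 1) - u c = ∑ i, ((p : WittVector p k) ^ c * w i) • g i := fun c =>
    exists_coeffs_of_mem_pPow hg (hu c)
  choose w hw using hex
  set s : Fin m → ℕ → WittVector p k := fun i n =>
    ∑ c ∈ Finset.range n, (p : WittVector p k) ^ c * w c i with hs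
  have hs1 : ∀ i n, s i (n + 1) - s i n = (p : WittVector p k) ^ n * w n i := by
    intro i n
    simp only [hs, Finset.sum_range_succ, add_sub_cancel_left]
  have hlim : ∀ i, ∃ a : WittVector p k, ∀ n, (p : WittVector p k) ^ n ∣ a - s i n := fun i =>
    witt_exists_limit (s i) (fun n => ⟨w n i, hs1 i n⟩)
  choose a ha using hlim
  have hun : ∀ n, u n = u 0 + ∑ i, s i n • g i := by
    intro n
    induction n with
    | zero => simp [hs]
    | succ n ih =>
      have h1 : u (n + 1) = u n + (u (n + 1) - u n) := by abel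
      rw [h1, hw n, ih, add_assoc, ← Finset.sum_add_distrib]
      congr 1
      refine Finset.sum_congr rfl fun i _ => ?_
      rw [← add_smul, ← hs1 i n]
      congr 1
      ring
  refine ⟨u 0 + ∑ i, a i • g i, fun n => ?_⟩
  rw [hun n, add_sub_add_left_eq_sub, ← Finset.sum_sub_distrib]
  refine Submodule.sum_mem _ fun i _ => ?_
  rw [← sub_smul]
  obtain ⟨t, ht⟩ := ha i n
  rw [ht, mul_smul]
  apply pow_smul_mem_pPow
  rw [← hg]
  exact Submodule.smul_mem _ _ (Submodule.subset_span (Set.mem_range_self i))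

end Lim

end Groth.Agent.Lib.Helper86
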