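import Mathlib
import Groth.Prelude.Def_Isoc
import Groth.Agent.Lib.Helper86.Isoc
import Groth.Agent.Lib.Helper86.Isoc2
import Groth.Agent.Lib.Helper86.Isoc5
import Groth.Agent.Lib.Helper86.Isoc9

/-!
# Library for `Def_Isoc` (helper86), part 10: the Fitting decomposition of a lattice with respect
to a semilinear endomorphism (unit-root part and topologically nilpotent part).
-/

set_option autoImplicit false
set_option linter.unusedSectionVars false

noncomputable section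

open scoped Pointwise Isocrystal

universe u v

namespace Groth.Agent.Lib.Helper86

section Fitting

variable {p : ℕ} [Fact p.Prime] {k : Type u} [Field k] [CharP k p] [PerfectRing k p]
variable {N : Type v} [AddCommGroup N] [Module (WittVector p k) N] [Module K(p, k) N]
  [IsScalarTower (WittVector p k) K(p, k) N]
variable {τ : K(p, k) →+* K(p, k)} {e : WittVector p k ≃+* WittVector p k}

theorem iterate_sub (G : N →ₛₗ[τ] N) (j : ℕ) (x y : N) :
    (⇑G)^[j] (x - y) = (⇑G)^[j] x - (⇑G)^[j] y := (Isoc.iter G j).map_sub x y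

theorem iterate_add' (G : N →ₛₗ[τ] N) (j : ℕ) (x y : N) :
    (⇑G)^[j] (x + y) = (⇑G)^[j] x + (⇑G)^[j] y := (Isoc.iter G j).map_add x y

theorem iterate_smul_W (hτ : WCompat τ e) (G : N →ₛₗ[τ] N) (j : ℕ) (w : WittVector p k) (x : N) :
    (⇑G)^[j] (w • x) = ((e ^ j) w) • (⇑G)^[j] x :=
  (toW (Isoc.iter G j) (hτ.pow j)).map_smulₛₗ w x

theorem latImg_succ_le (hτ : WCompat τ e) (G : N →ₛₗ[τ] N) {M : Submodule (WittVector p k) N}
    (hGM : Isoc.latImg G 1 M ≤ M) (j : ℕ) : Isoc.latImg G (j + 1) M ≤ Isoc.latImg G j M := by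
  rw [latImg_add hτ]
  exact latImg_mono G j hGM

theorem latImg_antitone (hτ : WCompat τ e) (G : N →ₛₗ[τ] N) {M : Submodule (WittVector p k) N}
    (hGM : Isoc.latImg G 1 M ≤ M) : Antitone (fun j => Isoc.latImg G j M) :=
  antitone_nat_of_succ_le (latImg_succ_le hτ G hGM)

theorem latImg_le_self (hτ : WCompat τ e) (G : N →ₛₗ[τ] N) {M : Submodule (WittVector p k) N}
    (hGM : Isoc.latImg G 1 M ≤ M) (j : ℕ) : Isoc.latImg G j M ≤ M := by
  have := latImg_antitone hτ G hGM (Nat.zero_le j)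
  simpa [latImg_zero] using this

theorem iterate_mem_latImg (hτ : WCompat τ e) (G : N →ₛₗ[τ] N) {M : Submodule (WittVector p k) N}
    {x : N} (hx : x ∈ M) (j : ℕ) : (⇑G)^[j] x ∈ Isoc.latImg G j M :=
  (mem_latImg hτ).mpr ⟨x, hx, rfl⟩

theorem iterate_mem_pPow (hτ : WCompat τ e) (G : N →ₛₗ[τ] N) {M : Submodule (WittVector p k) N}
    (hGM : Isoc.latImg G 1 M ≤ M) {c : ℤ} {x : N} (hx : x ∈ Isoc.pPow c M) (j : ℕ) :
    (⇑G)^[j] x ∈ Isoc.pPow c M := by
  have h1 : (⇑G)^[j] x ∈ Isoc.latImg G j (Isoc.pPow c M) := iterate_mem_latImg hτ G hx j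
  rw [latImg_pPow hτ] at h1
  exact pPow_mono c (latImg_le_self hτ G hGM j) h1

/-- Uniform exponent for the kernels modulo `p^c`. -/
theorem exists_uniform_ker (hτ : WCompat τ e) (G : N →ₛₗ[τ] N)
    {M : Submodule (WittVector p k) N} (hM : M.FG) (hGM : Isoc.latImg G 1 M ≤ M) (c : ℤ) :
    ∃ n : ℕ, ∀ x ∈ M, (∃ j : ℕ, (⇑G)^[j] x ∈ Isoc.pPow c M) → (⇑G)^[n] x ∈ Isoc.pPow c M := by
  classical
  let Ker : ℕ → Submodule (WittVector p k) N := fun j =>
    M ⊓ (Isoc.pPow c M).comap (toW (Isoc.iter G j) (hτ.pow j))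
  have hmem : ∀ j x, x ∈ Ker j ↔ x ∈ M ∧ (⇑G)^[j] x ∈ Isoc.pPow c M := fun j x => Iff.rfl
  have hmono : Monotone Ker := by
    apply monotone_nat_of_le_succ
    intro j x hx
    rw [hmem] at hx ⊢
    refine ⟨hx.1, ?_⟩
    rw [Function.iterate_succ_apply']
    exact iterate_mem_pPow hτ G hGM hx.2 1
  have hfg : (⨆ j, Ker j).FG := Submodule.FG.of_le hM (iSup_le fun j => inf_le_left)
  obtain ⟨S, hS⟩ := hfg
  have hex : ∀ s : N, ∃ j : ℕ, s ∈ (⨆ j, Ker j) → s ∈ Ker j := by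
    intro s
    by_cases hs : s ∈ ⨆ j, Ker j
    · obtain ⟨j, hj⟩ := (Submodule.mem_iSup_of_directed Ker hmono.directed_le).mp hs
      exact ⟨j, fun _ => hj⟩
    · exact ⟨0, fun h => absurd h hs⟩
  choose jf hjf using hex
  refine ⟨S.sup jf, fun x hx hxj => ?_⟩
  obtain ⟨j, hj⟩ := hxj
  have hxK : x ∈ ⨆ j, Ker j := Submodule.mem_iSup_of_mem j ((hmem j x).mpr ⟨hx, hj⟩)
  have hle : (⨆ j, Ker j) ≤ Ker (S.sup jf) := by
    rw [← hS, Submodule.span_le]
    intro s hs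
    have hsK : s ∈ ⨆ j, Ker j := by
      rw [← hS]
      exact Submodule.subset_span hs
    exact hmono (Finset.le_sup hs) (hjf s hsK)
  exact ((hmem _ x).mp (hle hxK)).2

/-- The stable image modulo `p^c`. -/
theorem exists_stable_img (hτ : WCompat τ e) [Module.Finite K(p, k) N] (G : N →ₛₗ[τ] N)
    {M : Submodule (WittVector p k) N} (hGM : Isoc.latImg G 1 M ≤ M) (c : ℕ) :
    ∃ n : ℕ, ∀ j, n ≤ j →
      Isoc.latImg G j M ⊔ Isoc.pPow c M = Isoc.latImg G n M ⊔ Isoc.pPow c M := by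
  apply dcc_pow M c (fun j => Isoc.latImg G j M ⊔ Isoc.pPow c M)
  · intro i j hij
    exact sup_le_sup_right (latImg_antitone hτ G hGM hij) _
  · intro j
    exact le_sup_right
  · intro j
    refine sup_le (latImg_le_self hτ G hGM j) ?_
    have := pPow_anti (show (0 : ℤ) ≤ (c : ℤ) by positivity) M
    rwa [pPow_zero] at this

/-- Fitting decomposition modulo `p^c`: existence. -/
theorem fitting_mod_exists (hτ : WCompat τ e) [Module.Finite K(p, k) N] (G : N →ₛₗ[τ] N)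
    {M : Submodule (WittVector p k) N} (hGM : Isoc.latImg G 1 M ≤ M) (c : ℕ) {x : N}
    (hx : x ∈ M) :
    ∃ u ∈ M, (∀ j, u ∈ Isoc.latImg G j M ⊔ Isoc.pPow c M) ∧
      ∃ j : ℕ, (⇑G)^[j] (x - u) ∈ Isoc.pPow c M := by
  obtain ⟨n, hn⟩ := exists_stable_img hτ G hGM c
  have h1 : (⇑G)^[n] x ∈ Isoc.latImg G (n + n) M ⊔ Isoc.pPow c M := by
    rw [hn (n + n) (Nat.le_add_right n n)]
    exact Submodule.mem_sup_left (iterate_mem_latImg hτ G hx n)
  obtain ⟨y, hy, z, hz, hyz⟩ := Submodule.mem_sup.mp h1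
  obtain ⟨z₀, hz₀, rfl⟩ := (mem_latImg hτ).mp hy
  have hu : (⇑G)^[n] z₀ ∈ Isoc.latImg G n M := iterate_mem_latImg hτ G hz₀ n
  refine ⟨(⇑G)^[n] z₀, latImg_le_self hτ G hGM n hu, fun j => ?_, n, ?_⟩
  · rcases le_total j n with hjn | hjn
    · exact Submodule.mem_sup_left (latImg_antitone hτ G hGM hjn hu)
    · rw [hn j hjn]
      exact Submodule.mem_sup_left hu
  · rw [iterate_sub, ← Function.iterate_add_apply, ← hyz, add_sub_cancel_left]
    exact hz

/-- Fitting decomposition modulo `p^c`: uniqueness. -/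
theorem fitting_mod_unique (hτ : WCompat τ e) (G : N →ₛₗ[τ] N)
    {M : Submodule (WittVector p k) N} (hM : M.FG) (hGM : Isoc.latImg G 1 M ≤ M) (c : ℕ) {y : N}
    (hy : ∀ j, y ∈ Isoc.latImg G j M ⊔ Isoc.pPow c M)
    (hy' : ∃ j : ℕ, (⇑G)^[j] y ∈ Isoc.pPow c M) : y ∈ Isoc.pPow c M := by
  obtain ⟨n, hn⟩ := exists_uniform_ker hτ G hM hGM c
  obtain ⟨j, hj⟩ := hy'
  obtain ⟨y₁, hy₁, q, hq, rfl⟩ := Submodule.mem_sup.mp (hy n)
  obtain ⟨z, hz, rfl⟩ := (mem_latImg hτ).mp hy₁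
  have h1 : (⇑G)^[j + n] z ∈ Isoc.pPow c M := by
    have h2 : (⇑G)^[j + n] z = (⇑G)^[j] ((⇑G)^[n] z + q) - (⇑G)^[j] q := by
      rw [iterate_add', add_sub_cancel_right, Function.iterate_add_apply]
    rw [h2]
    exact (Isoc.pPow c M).sub_mem hj (iterate_mem_pPow hτ G hGM hq j)
  exact (Isoc.pPow c M).add_mem (hn z hz ⟨_, h1⟩) hq

/-- Fitting decomposition: every element of a `G`-stable lattice is the sum of an element of
`⋂ G^j M` and a topologically nilpotent element. -/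
theorem fitting_exists (hτ : WCompat τ e) [Module.Finite K(p, k) N] (G : N →ₛₗ[τ] N)
    (hG : Function.Injective G)
    {M : Submodule (WittVector p k) N} (hM : M.IsLattice K(p, k))
    (hGM : Isoc.latImg G 1 M ≤ M) {x : N} (hx : x ∈ M) :
    ∃ u : N, (∀ j, u ∈ Isoc.latImg G j M) ∧
      ∀ c : ℕ, ∃ j : ℕ, (⇑G)^[j] (x - u) ∈ Isoc.pPow c M := by
  have hbij : Function.Bijective G := ⟨hG, surjective_of_injective_semilinear hτ.surjective G hG⟩
  choose u hu1 hu2 hu3 using fun c : ℕ => fitting_mod_exists hτ G hGM c hx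
  -- the sequence is Cauchy
  have hcauchy : ∀ c : ℕ, u (c + 1) - u c ∈ Isoc.pPow (c : ℤ) M := by
    intro c
    have hle : Isoc.pPow ((c + 1 : ℕ) : ℤ) M ≤ Isoc.pPow (c : ℤ) M :=
      pPow_anti (by push_cast; omega) M
    apply fitting_mod_unique hτ G hM.fg hGM c
    · intro j
      refine Submodule.sub_mem _ ?_ (hu2 c j)
      exact sup_le_sup_left hle _ (hu2 (c + 1) j)
    · obtain ⟨j₁, hj₁⟩ := hu3 (c + 1)
      obtain ⟨j₂, hj₂⟩ := hu3 c
      refine ⟨j₁ + j₂, ?_⟩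
      have h1 : u (c + 1) - u c = (x - u c) - (x - u (c + 1)) := by abel
      rw [h1, iterate_sub]
      refine Submodule.sub_mem _ ?_ ?_
      · rw [Function.iterate_add_apply]
        exact iterate_mem_pPow hτ G hGM hj₂ j₁
      · rw [add_comm, Function.iterate_add_apply]
        exact hle (iterate_mem_pPow hτ G hGM hj₁ j₂)
  obtain ⟨v, hv⟩ := exists_limit_of_fg hM.fg u hcauchy
  refine ⟨v, fun j => ?_, fun c => ?_⟩
  · -- `v ∈ G^j M` since `G^j M` is a lattice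
    have hlat := isLattice_latImg hτ hbij hM j
    obtain ⟨c₀, hc₀⟩ := exists_pPow_le_of_fg hM.fg hlat.span_eq_top
    have h1 : v = (v - u c₀) + u c₀ := by abel
    rw [h1]
    refine Submodule.add_mem _ (hc₀ (hv c₀)) ?_
    have := hu2 c₀ j
    rwa [sup_eq_left.mpr hc₀] at this
  · obtain ⟨j, hj⟩ := hu3 c
    refine ⟨j, ?_⟩
    have h1 : x - v = (x - u c) - (v - u c) := by abel
    rw [h1, iterate_sub]
    exact Submodule.sub_mem _ hj (iterate_mem_pPow hτ G hGM (hv c) j)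

end Fitting

end Groth.Agent.Lib.Helper86
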