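import Mathlib
import Groth.Prelude.Def_Isoc
import Groth.Agent.Lib.Helper86.Isoc
import Groth.Agent.Lib.Helper86.Isoc2
import Groth.Agent.S17151

/-!
# Library for `Def_Isoc` (helper86), part 11: independence of the slope parts.
-/

set_option autoImplicit false
set_option linter.unusedSectionVars false

noncomputable section

open scoped Pointwise Isocrystal

universe u v w

namespace Groth.Agent.Lib.Helper86

open Groth.Agent.S17151

section Indep

variable {p : ℕ} [Fact p.Prime] {k : Type u} [Field k] [CharP k p] [PerfectRing k p]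
variable {τ : K(p, k) →+* K(p, k)} {e : WittVector p k ≃+* WittVector p k}

section

variable {N : Type v} [AddCommGroup N] [Module (WittVector p k) N] [Module K(p, k) N]
  [IsScalarTower (WittVector p k) K(p, k) N]

theorem restrict_injective {F : N →ₛₗ[τ] N} (hF : Function.Injective F)
    {P : Submodule K(p, k) N} (hP : ∀ x ∈ P, F x ∈ P) : Function.Injective (F.restrict hP) := by
  intro x y hxy
  apply Subtype.ext
  apply hF
  exact congrArg Subtype.val hxy

/-- A stable subspace of a good subspace is good. -/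
theorem Good.mono (hτ : WCompat τ e) [Module.Finite K(p, k) N] {F : N →ₛₗ[τ] N}
    (hF : Function.Injective F) {μ : ℚ} {P T : Submodule K(p, k) N} (hP : Good F μ P)
    (hT : ∀ x ∈ T, F x ∈ T) (hTP : T ≤ P) : Good F μ T := by
  obtain ⟨hPs, j, hj, hamb⟩ := hP
  refine ⟨hT, j, hj, ?_⟩
  have h1 : AmbIsoclinic (F.restrict hPs) ⊤ (μ.num * j) (μ.den * j) :=
    AmbIsoclinic.of_map_injective hτ P.subtype (fun x => rfl) P.subtype_injective
      (by rwa [Submodule.map_subtype_top])
  have h2 := h1.sub hτ (restrict_injective hF hPs) (T.comap P.subtype) (fun x hx => by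
    rw [Submodule.mem_comap] at hx ⊢
    exact hT _ hx)
  have h3 := h2.map hτ P.subtype (F' := F) (fun x => rfl)
  rwa [Submodule.map_comap_subtype, inf_eq_right.mpr hTP] at h3

theorem Good.le_slopePart (hτ : WCompat τ e) {F : N →ₛₗ[τ] N} {μ : ℚ}
    {P : Submodule K(p, k) N} (hP : Good F μ P) : P ≤ Isoc.slopePart F μ := by
  unfold Isoc.slopePart
  exact le_sSup ((good_iff hτ F μ P).mp hP)

theorem Good.slope_unique (hτ : WCompat τ e) {F : N →ₛₗ[τ] N} {μ ν : ℚ}
    {T : Submodule K(p, k) N} (h₁ : Good F μ T) (h₂ : Good F ν T) (hne : T ≠ ⊥) : μ = ν := by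
  obtain ⟨_, j₁, hj₁, a₁⟩ := h₁
  obtain ⟨_, j₂, hj₂, a₂⟩ := h₂
  have key := a₁.slope_unique hτ a₂ hne
  rw [Rat.eq_iff_mul_eq_mul]
  have hj₁' : (j₁ : ℤ) ≠ 0 := by exact_mod_cast hj₁.ne'
  have hj₂' : (j₂ : ℤ) ≠ 0 := by exact_mod_cast hj₂.ne'
  push_cast at key
  have : (μ.num * ν.den) * (j₁ * j₂ : ℤ) = (ν.num * μ.den) * (j₁ * j₂ : ℤ) := by
    linear_combination key
  exact mul_right_cancel₀ (mul_ne_zero hj₁' hj₂') this

end

section

variable {N : Type v} [AddCommGroup N] [Module (WittVector p k) N] [Module K(p, k) N]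
  [IsScalarTower (WittVector p k) K(p, k) N]
variable {N' : Type w} [AddCommGroup N'] [Module (WittVector p k) N'] [Module K(p, k) N']
  [IsScalarTower (WittVector p k) K(p, k) N']

/-- The image of a good subspace under an equivariant linear map is good. -/
theorem Good.map (hτ : WCompat τ e) {F : N →ₛₗ[τ] N} {F' : N' →ₛₗ[τ] N'}
    (g : N →ₗ[K(p, k)] N') (hg : ∀ x, g (F x) = F' (g x)) {μ : ℚ} {P : Submodule K(p, k) N}
    (hP : Good F μ P) : Good F' μ (P.map g) := by
  obtain ⟨hPs, j, hj, hamb⟩ := hP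
  refine ⟨?_, j, hj, hamb.map hτ g hg⟩
  rintro _ ⟨x, hx, rfl⟩
  rw [← hg]
  exact Submodule.mem_map_of_mem (hPs x hx)

end

/-- A good subspace of slope `μ` contained in a finite sum of good subspaces of other slopes is
zero. -/
theorem good_eq_bot_of_le_iSup (hτ : WCompat τ e) (S : Finset ℚ) :
    ∀ (N : Type v) [AddCommGroup N] [Module (WittVector p k) N] [Module K(p, k) N]
      [IsScalarTower (WittVector p k) K(p, k) N] [Module.Finite K(p, k) N]
      (F : N →ₛₗ[τ] N) (_ : Function.Injective F) (μ : ℚ) (_ : μ ∉ S)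
      (T : Submodule K(p, k) N) (_ : Good F μ T) (B : ℚ → Submodule K(p, k) N)
      (_ : ∀ ν ∈ S, Good F ν (B ν)) (_ : T ≤ ⨆ ν ∈ S, B ν), T = ⊥ := by
  classical
  induction S using Finset.induction_on with
  | empty =>
    intro N _ _ _ _ _ F hF μ hμ T hT B hB hle
    simpa using hle
  | insert ν₀ S' hν₀ ih =>
    intro N _ _ _ _ _ F hF μ hμ T hT B hB hle
    have hμ0 : μ ≠ ν₀ := fun h => hμ (h ▸ Finset.mem_insert_self _ _)
    have hμS : μ ∉ S' := fun h => hμ (Finset.mem_insert_of_mem h)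
    have hB₀ := hB ν₀ (Finset.mem_insert_self _ _)
    have hstab : B ν₀ ≤ (B ν₀).comap F := fun x hx => hB₀.1 x hx
    -- the quotient isocrystal
    have hg : ∀ x, (B ν₀).mkQ (F x) = (B ν₀).mapQ (B ν₀) F hstab ((B ν₀).mkQ x) := fun x => rfl
    have hFsurj : Function.Surjective (F.restrict hB₀.1) :=
      surjective_of_injective_semilinear hτ.surjective _ (restrict_injective hF hB₀.1)
    have hF' : Function.Injective ((B ν₀).mapQ (B ν₀) F hstab) := by
      rw [injective_iff_map_eq_zero]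
      intro y hy
      obtain ⟨x, rfl⟩ := (B ν₀).mkQ_surjective y
      rw [← hg, Submodule.mkQ_apply, Submodule.Quotient.mk_eq_zero] at hy
      obtain ⟨z, hz⟩ := hFsurj ⟨F x, hy⟩
      have hzx : F z.1 = F x := congrArg Subtype.val hz
      have : x = z.1 := (hF hzx).symm
      rw [Submodule.mkQ_apply, Submodule.Quotient.mk_eq_zero, this]
      exact z.2
    have hT' := Good.map hτ (B ν₀).mkQ hg hT
    have hle' : T.map (B ν₀).mkQ ≤ ⨆ ν ∈ S', (B ν).map (B ν₀).mkQ := by
      rw [Finset.iSup_insert] at hle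
      have := Submodule.map_mono (f := (B ν₀).mkQ) hle
      rw [Submodule.map_sup, Submodule.mkQ_map_self, bot_sup_eq, Submodule.map_iSup] at this
      refine this.trans (iSup_mono fun ν => ?_)
      rw [Submodule.map_iSup]
    have h0 := ih (N ⧸ B ν₀) ((B ν₀).mapQ (B ν₀) F hstab) hF' μ hμS (T.map (B ν₀).mkQ) hT'
      (fun ν => (B ν).map (B ν₀).mkQ)
      (fun ν hν => Good.map hτ (B ν₀).mkQ hg (hB ν (Finset.mem_insert_of_mem hν))) hle'
    have hTB : T ≤ B ν₀ := by
      rw [← (B ν₀).ker_mkQ, LinearMap.le_ker_iff_map]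
      exact h0
    by_contra hne
    exact hμ0 (Good.slope_unique hτ hT (Good.mono hτ hF hB₀ hT.1 hTB) hne)

end Indep

end Groth.Agent.Lib.Helper86
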