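import Mathlib
import Groth.Prelude.Def_Isoc
import Groth.Agent.Lib.Helper86.Isoc
import Groth.Agent.Lib.Helper86.Isoc5
import Groth.Agent.S17143

/-!
# Library for `Def_Isoc` (helper86), part 6: lattices realising slope bounds.
-/

set_option autoImplicit false
set_option linter.unusedSectionVars false

noncomputable section

open scoped Pointwise Isocrystal

universe u v

namespace Groth.Agent.Lib.Helper86

section Slope

variable {p : ℕ} [Fact p.Prime] {k : Type u} [Field k] [CharP k p] [PerfectRing k p]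
variable {N : Type v} [AddCommGroup N] [Module (WittVector p k) N] [Module K(p, k) N]
  [IsScalarTower (WittVector p k) K(p, k) N]
variable {τ : K(p, k) →+* K(p, k)} {e : WittVector p k ≃+* WittVector p k}

open Groth.Agent.S17143 in
/-- If `F^(n(j+1)) M ⊆ p^(t(j+1)) M` then some lattice `M₁ ⊇ M` has `F^n M₁ ⊆ p^t M₁`. -/
theorem exists_lattice_of_iterate (hτ : WCompat τ e) (F : N →ₛₗ[τ] N)
    {M : Submodule (WittVector p k) N} (hM : M.IsLattice K(p, k)) (n : ℕ) (t : ℤ) (j : ℕ)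
    (h : Isoc.latImg F (n * (j + 1)) M ≤ Isoc.pPow (t * (j + 1)) M) :
    ∃ M₁ : Submodule (WittVector p k) N, M₁.IsLattice K(p, k) ∧ M ≤ M₁ ∧
      Isoc.latImg F n M₁ ≤ Isoc.pPow t M₁ := by
  set G := ((p : K(p, k)) ^ (-t)) • Isoc.iter F n with hG
  have hG1 : Isoc.latImg G (j + 1) M ≤ M := by
    rw [hG, latImg_twist hτ, pPow_le_iff]
    push_cast
    have e1 : -(-t * ((j : ℤ) + 1)) = t * ((j : ℤ) + 1) := by ring
    rw [e1]
    exact h
  have hG2 := latImg_sumIt_le_self (hτ.pow n) G j hG1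
  refine ⟨sumIt G M j, isLattice_sumIt (hτ.pow n) G hM j, le_sumIt G M j, ?_⟩
  have key := latImg_twist hτ F (-t) n 1 (sumIt G M j)
  rw [← hG] at key
  rw [key, pPow_le_iff] at hG2
  simpa using hG2

open Groth.Agent.S17143 in
/-- Strict case: `t / n < λ₁` gives a lattice with `F^n M₁ ⊆ p^t M₁`. -/
theorem exists_lattice_of_lt_slope (hτ : WCompat τ e) (F : N →ₛₗ[τ] N) {lam : ℝ}
    (hlam : Isoc.IsFirstSlope F lam) (n : ℕ) (hn : 0 < n) (t : ℤ) (ht : (t : ℝ) / n < lam) :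
    ∃ M₁ : Submodule (WittVector p k) N, M₁.IsLattice K(p, k) ∧
      Isoc.latImg F n M₁ ≤ Isoc.pPow t M₁ := by
  obtain ⟨M, hM, o, ho, hlim⟩ := hlam
  have hev := hlim.eventually (eventually_gt_nhds ht)
  obtain ⟨N₁, hN₁⟩ := Filter.eventually_atTop.mp hev
  have hge : N₁ ≤ n * (N₁ + 1) := by nlinarith
  have h1 := hN₁ _ hge
  have hpos : 0 < n * (N₁ + 1) := by positivity
  have h2 : t * ((N₁ : ℤ) + 1) < o (n * (N₁ + 1)) := by
    have hn' : (0 : ℝ) < n := by exact_mod_cast hn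
    have hpos' : (0 : ℝ) < ((n * (N₁ + 1) : ℕ) : ℝ) := by exact_mod_cast hpos
    rw [div_lt_div_iff₀ hn' hpos'] at h1
    push_cast at h1
    have h3 : (t : ℝ) * ((N₁ : ℝ) + 1) < (o (n * (N₁ + 1)) : ℝ) := by
      by_contra hcon
      push Not at hcon
      nlinarith
    exact_mod_cast h3
  have h4 : Isoc.latImg F (n * (N₁ + 1)) M ≤ Isoc.pPow (t * ((N₁ : ℤ) + 1)) M :=
    (ho _ hpos).1.trans (pPow_anti h2.le M)
  obtain ⟨M₁, hM₁, _, hle⟩ := exists_lattice_of_iterate hτ F hM n t N₁ h4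
  exact ⟨M₁, hM₁, hle⟩

open Groth.Agent.S17143 in
/-- Non-strict case: `r / s ≤ λ₁` gives a lattice with `F^s M ⊆ p^r M`. -/
theorem exists_lattice_of_le_slope (hτ : WCompat τ e) [Module.Finite K(p, k) N]
    (F : N →ₛₗ[τ] N) {lam : ℝ}
    (hlam : Isoc.IsFirstSlope F lam) (s : ℕ) (hs : 0 < s) (r : ℤ) (hr : (r : ℝ) / s ≤ lam) :
    ∃ M₂ : Submodule (WittVector p k) N, M₂.IsLattice K(p, k) ∧
      Isoc.latImg F s M₂ ≤ Isoc.pPow r M₂ := by
  set h := Module.finrank K(p, k) N with hh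
  have hs' : (0 : ℝ) < s := by exact_mod_cast hs
  have hlt : ((r * ((h : ℤ) + 1) - 1 : ℤ) : ℝ) / ((s * (h + 1) : ℕ) : ℝ) < lam := by
    refine lt_of_lt_of_le ?_ hr
    have hpos : (0 : ℝ) < ((s * (h + 1) : ℕ) : ℝ) := by
      have : 0 < s * (h + 1) := by positivity
      exact_mod_cast this
    rw [div_lt_div_iff₀ hpos hs']
    push_cast
    nlinarith
  obtain ⟨M₁, hM₁, hle⟩ := exists_lattice_of_lt_slope hτ F hlam (s * (h + 1)) (by positivity)
    (r * ((h : ℤ) + 1) - 1) hlt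
  set G := ((p : K(p, k)) ^ (-r)) • Isoc.iter F s with hG
  have hG1 : Isoc.latImg G (h + 1) M₁ ≤ Isoc.pPow (-1) M₁ := by
    rw [hG, latImg_twist hτ]
    refine (pPow_mono _ hle).trans ?_
    rw [pPow_pPow]
    push_cast
    have e1 : -r * ((h : ℤ) + 1) + (r * ((h : ℤ) + 1) - 1) = -1 := by ring
    rw [e1]
  have hG2 := latImg_sumIt_le_of_le_pPow_neg_one (hτ.pow s) hh.symm G hG1
  refine ⟨sumIt G M₁ h, isLattice_sumIt (hτ.pow s) G hM₁ h, ?_⟩
  have key := latImg_twist hτ F (-r) s 1 (sumIt G M₁ h)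
  rw [← hG] at key
  rw [key, pPow_le_iff] at hG2
  simpa using hG2

end Slope

end Groth.Agent.Lib.Helper86
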