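import Mathlib
import Groth.Prelude.Def_Isoc
import Groth.Agent.Lib.Helper86.Isoc
import Groth.Agent.Lib.Helper86.Isoc3
import Groth.Agent.Lib.Helper86.Isoc5
import Groth.Agent.Lib.Helper86.Isoc6
import Groth.Agent.S17143

/-!
# Library for `Def_Isoc` (helper86), part 7: rationality of the first Newton slope.
-/

set_option autoImplicit false
set_option linter.unusedSectionVars false

noncomputable section

open scoped Pointwise Isocrystal

universe u v

namespace Groth.Agent.Lib.Helper86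

section Rational

variable {p : ℕ} [Fact p.Prime] {k : Type u} [Field k] [CharP k p] [PerfectRing k p]
variable {N : Type v} [AddCommGroup N] [Module (WittVector p k) N] [Module K(p, k) N]
  [IsScalarTower (WittVector p k) K(p, k) N]
variable {τ : K(p, k) →+* K(p, k)} {e : WittVector p k ≃+* WittVector p k}

theorem nontrivial_of_isFirstSlope {F : N →ₛₗ[τ] N} {lam : ℝ} (hlam : Isoc.IsFirstSlope F lam) :
    Nontrivial N := by
  obtain ⟨M, hM, o, ho, hlim⟩ := hlam
  rw [← not_subsingleton_iff_nontrivial]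
  intro hsub
  apply (ho 1 le_rfl).2
  intro x _
  rw [Subsingleton.elim x 0]
  exact Submodule.zero_mem _

open Groth.Agent.S17143 in
/-- From `F^(s(h+1)) M₁ ⊆ p^(r(h+1)-1) M₁` to a lattice with `F^s M₂ ⊆ p^r M₂`. -/
theorem exists_lattice_of_succ (hτ : WCompat τ e) [Module.Finite K(p, k) N]
    (F : N →ₛₗ[τ] N) (s : ℕ) (r : ℤ) {M₁ : Submodule (WittVector p k) N}
    (hM₁ : M₁.IsLattice K(p, k))
    (hle : Isoc.latImg F (s * (Module.finrank K(p, k) N + 1)) M₁ ≤
      Isoc.pPow (r * ((Module.finrank K(p, k) N : ℤ) + 1) - 1) M₁) :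
    ∃ M₂ : Submodule (WittVector p k) N, M₂.IsLattice K(p, k) ∧
      Isoc.latImg F s M₂ ≤ Isoc.pPow r M₂ := by
  set h := Module.finrank K(p, k) N with hh
  set G := ((p : K(p, k)) ^ (-r)) • Isoc.iter F s with hG
  have hG1 : Isoc.latImg G (h + 1) M₁ ≤ Isoc.pPow (-1) M₁ := by
    rw [hG, latImg_twist hτ]
    refine (pPow_mono _ hle).trans ?_
    rw [pPow_pPow]
    push_cast
    have e1 : -r * ((h : ℤ) + 1) + (r * ((h : ℤ) + 1) - 1) = -1 := by ring
    rw [e1]
  have hG2 := latImg_sumIt_le_of_le_pPow_neg_one (hτ.pow s) hh.symm G hG1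
  refine ⟨sumIt G M₁ h, isLattice_sumIt (hτ.pow s) G hM₁ h, ?_⟩
  have key := latImg_twist hτ F (-r) s 1 (sumIt G M₁ h)
  rw [← hG] at key
  rw [key, pPow_le_iff] at hG2
  simpa using hG2

/-- `ord_M(F^s) / s ≤ λ₁` for every lattice `M`. -/
theorem le_slope_of_latImg_le (hτ : WCompat τ e) {F : N →ₛₗ[τ] N} {lam : ℝ}
    (hlam : Isoc.IsFirstSlope F lam) {M : Submodule (WittVector p k) N}
    (hM : M.IsLattice K(p, k)) {s : ℕ} (hs : 0 < s) {r : ℤ}
    (hle : Isoc.latImg F s M ≤ Isoc.pPow r M) : (r : ℝ) / s ≤ lam := by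
  obtain ⟨M₀, hM₀, o, ho, hlim⟩ := hlam
  obtain ⟨c, hc₁, hc₂⟩ := exists_sandwich hM hM₀
  have key : ∀ j : ℕ, r * ((j : ℤ) + 1) - 2 * c ≤ o (s * (j + 1)) := by
    intro j
    rw [← isOrd_le_iff (ho (s * (j + 1)) (Nat.succ_le_of_lt (Nat.mul_pos hs (Nat.succ_pos j))))]
    have h1 : M₀ ≤ Isoc.pPow (-(c : ℤ)) M := pPow_le_iff.mp hc₂
    have h2 : M ≤ Isoc.pPow (-(c : ℤ)) M₀ := pPow_le_iff.mp hc₁
    calc Isoc.latImg F (s * (j + 1)) M₀
        ≤ Isoc.latImg F (s * (j + 1)) (Isoc.pPow (-(c : ℤ)) M) := latImg_mono F _ h1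
      _ = Isoc.pPow (-(c : ℤ)) (Isoc.latImg F (s * (j + 1)) M) := latImg_pPow hτ F _ _ M
      _ ≤ Isoc.pPow (-(c : ℤ)) (Isoc.pPow (r * ((j + 1 : ℕ) : ℤ)) M) :=
          pPow_mono _ (latImg_le_pPow_mul hτ hle (j + 1))
      _ ≤ Isoc.pPow (-(c : ℤ)) (Isoc.pPow (r * ((j + 1 : ℕ) : ℤ))
            (Isoc.pPow (-(c : ℤ)) M₀)) := pPow_mono _ (pPow_mono _ h2)
      _ = Isoc.pPow (r * ((j : ℤ) + 1) - 2 * c) M₀ := by
          rw [pPow_pPow, pPow_pPow]
          congr 1
          push_cast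
          ring
  have hs' : (0 : ℝ) < s := by exact_mod_cast hs
  have hmul : Filter.Tendsto (fun j : ℕ => s * (j + 1)) Filter.atTop Filter.atTop := by
    apply Filter.tendsto_atTop_mono (f := fun j : ℕ => j)
    · intro j
      show j ≤ s * (j + 1)
      nlinarith
    · exact Filter.tendsto_id
  have hg := hlim.comp hmul
  have hf : Filter.Tendsto (fun j : ℕ => (r : ℝ) / s - (2 * (c : ℝ) / s) / ((j + 1 : ℕ) : ℝ))
      Filter.atTop (nhds ((r : ℝ) / s - 0)) := by
    apply Filter.Tendsto.const_sub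
    exact (tendsto_const_div_atTop_nhds_zero_nat (2 * (c : ℝ) / s)).comp
      (Filter.tendsto_add_atTop_nat 1)
  rw [sub_zero] at hf
  refine le_of_tendsto_of_tendsto hf hg (Filter.Eventually.of_forall fun j => ?_)
  show (r : ℝ) / s - (2 * (c : ℝ) / s) / ((j + 1 : ℕ) : ℝ) ≤
    (o (s * (j + 1)) : ℝ) / ((s * (j + 1) : ℕ) : ℝ)
  have hj : (0 : ℝ) < ((j + 1 : ℕ) : ℝ) := by positivity
  have h3 : ((r * ((j : ℤ) + 1) - 2 * c : ℤ) : ℝ) ≤ (o (s * (j + 1)) : ℝ) := by
    exact_mod_cast key j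
  push_cast at h3 hj ⊢
  rw [div_sub_div _ _ hs'.ne' hj.ne', div_le_div_iff₀ (by positivity) (by positivity)]
  have h4 : (r * ((j : ℝ) + 1) - 2 * c) * (s * ((j : ℝ) + 1)) ≤
      (o (s * (j + 1)) : ℝ) * (s * ((j : ℝ) + 1)) :=
    mul_le_mul_of_nonneg_right h3 (by positivity)
  have h5 : ((r : ℝ) * ((j : ℝ) + 1) - s * (2 * (c : ℝ) / s)) = r * ((j : ℝ) + 1) - 2 * c := by
    field_simp
  rw [h5]
  linarith

/-- The key step: `λ₁ ≥ r/s - 1/(s(h+1))` forces `λ₁ ≥ r/s`. -/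
theorem slope_step (hτ : WCompat τ e) [Module.Finite K(p, k) N] (F : N →ₛₗ[τ] N) {lam : ℝ}
    (hlam : Isoc.IsFirstSlope F lam) (s : ℕ) (hs : 0 < s) (r : ℤ)
    (h : (r : ℝ) - 1 / ((Module.finrank K(p, k) N : ℝ) + 1) ≤ s * lam) : (r : ℝ) ≤ s * lam := by
  set hh := Module.finrank K(p, k) N with hhdef
  have hs' : (0 : ℝ) < s := by exact_mod_cast hs
  have hpos : (0 : ℝ) < (hh : ℝ) + 1 := by positivity
  have h1 : ((r * ((hh : ℤ) + 1) - 1 : ℤ) : ℝ) / ((s * (hh + 1) : ℕ) : ℝ) ≤ lam := by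
    push_cast
    rw [div_le_iff₀ (by positivity)]
    have := mul_le_mul_of_nonneg_right h hpos.le
    have e1 : ((r : ℝ) - 1 / ((hh : ℝ) + 1)) * ((hh : ℝ) + 1) = r * ((hh : ℝ) + 1) - 1 := by
      field_simp
    rw [e1] at this
    linarith
  obtain ⟨M₁, hM₁, hle⟩ := exists_lattice_of_le_slope hτ F hlam (s * (hh + 1)) (by positivity)
    (r * ((hh : ℤ) + 1) - 1) h1
  obtain ⟨M₂, hM₂, hle₂⟩ := exists_lattice_of_succ hτ F s r hM₁ hle
  have := le_slope_of_latImg_le hτ hlam hM₂ hs hle₂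
  rwa [div_le_iff₀ hs', mul_comm] at this

/-- Rationality of the first Newton slope, with denominator at most the height. -/
theorem slope_rational (hτ : WCompat τ e) [Module.Finite K(p, k) N] (F : N →ₛₗ[τ] N) {lam : ℝ}
    (hlam : Isoc.IsFirstSlope F lam) :
    ∃ (r : ℤ) (s : ℕ), 0 < s ∧ s ≤ Module.finrank K(p, k) N ∧ lam = (r : ℝ) / s := by
  have := nontrivial_of_isFirstSlope hlam
  set h := Module.finrank K(p, k) N with hdef
  have hpos : 0 < h := Module.finrank_pos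
  obtain ⟨r, s', hs'pos, hs'le, habs⟩ := Real.exists_int_int_abs_mul_sub_le lam hpos
  obtain ⟨s, rfl⟩ := Int.eq_ofNat_of_zero_le hs'pos.le
  have hs : 0 < s := by exact_mod_cast hs'pos
  have hsle : s ≤ h := by exact_mod_cast hs'le
  refine ⟨r, s, hs, hsle, ?_⟩
  have hsR : (0 : ℝ) < s := by exact_mod_cast hs
  rw [abs_le] at habs
  obtain ⟨hlo, hhi⟩ := habs
  push_cast at hlo hhi
  -- lower bound
  have h1 : (r : ℝ) ≤ s * lam := slope_step hτ F hlam s hs r (by linarith)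
  -- upper bound by contradiction
  have h2 : (s : ℝ) * lam ≤ r := by
    by_contra hcon
    push Not at hcon
    set x : ℝ := s * lam - r with hx
    have hx0 : 0 < x := by linarith
    have hx1 : x ≤ 1 / ((h : ℝ) + 1) := by linarith
    set m' := ⌈1 / x⌉₊ with hm'
    have hm'1 : (1 : ℝ) / x ≤ m' := Nat.le_ceil _
    have hm'2 : (m' : ℝ) < 1 / x + 1 := Nat.ceil_lt_add_one (by positivity)
    have hh1 : (h : ℝ) + 1 ≤ 1 / x := by
      rw [le_div_iff₀ hx0]
      have := mul_le_mul_of_nonneg_right hx1 (by positivity : (0 : ℝ) ≤ (h : ℝ) + 1)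
      rw [one_div, inv_mul_cancel₀ (by positivity)] at this
      linarith
    have hm'ge : 2 ≤ m' := by
      have : ((2 : ℕ) : ℝ) ≤ (m' : ℝ) := by
        have : (1 : ℝ) ≤ h := by exact_mod_cast hpos
        push_cast
        linarith
      exact_mod_cast this
    obtain ⟨m, hm⟩ : ∃ m, m' = m + 1 := ⟨m' - 1, by omega⟩
    have hm1 : 1 ≤ m := by omega
    -- m x < 1 ≤ (m+1) x
    have hmx1 : (m : ℝ) * x < 1 := by
      have : (m : ℝ) < 1 / x := by
        rw [hm] at hm'2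
        push_cast at hm'2
        linarith
      rw [lt_div_iff₀ hx0] at this
      exact this
    have hmx2 : 1 ≤ ((m : ℝ) + 1) * x := by
      have : (1 : ℝ) / x ≤ (m : ℝ) + 1 := by
        rw [hm] at hm'1
        push_cast at hm'1
        exact hm'1
      rwa [div_le_iff₀ hx0] at this
    have hstep := slope_step hτ F hlam (s * m) (by positivity) (r * m + 1) (by
      push_cast
      have : (m : ℝ) * x = m * (s * lam - r) := by rw [hx]
      nlinarith)
    push_cast at hstep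
    have : (m : ℝ) * x = m * (s * lam - r) := by rw [hx]
    nlinarith
  have h3 : (s : ℝ) * lam = r := le_antisymm h2 h1
  rw [eq_div_iff hsR.ne', mul_comm]
  exact h3

end Rational

end Groth.Agent.Lib.Helper86
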