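import Mathlib
import Groth.Prelude.Def_Isoc
import Groth.Agent.Lib.Helper86.Isoc
import Groth.Agent.Lib.Helper86.Isoc2
import Groth.Agent.Lib.Helper86.Isoc3
import Groth.Agent.Lib.Helper86.Isoc5
import Groth.Agent.Lib.Helper86.Isoc6
import Groth.Agent.Lib.Helper86.Isoc7
import Groth.Agent.Lib.Helper86.Isoc9
import Groth.Agent.Lib.Helper86.Isoc10
import Groth.Agent.Lib.Helper86.Isoc11
import Groth.Agent.S17143
import Groth.Agent.S17151

/-!
# Library for `Def_Isoc` (helper86), part 12: the slope decomposition.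
-/

set_option autoImplicit false
set_option linter.unusedSectionVars false

noncomputable section

open scoped Pointwise Isocrystal

universe u v

namespace Groth.Agent.Lib.Helper86

open Groth.Agent.S17151 Groth.Agent.S17143

section Decomp

variable {p : ℕ} [Fact p.Prime] {k : Type u} [Field k] [CharP k p] [PerfectRing k p]
variable {N : Type v} [AddCommGroup N] [Module (WittVector p k) N] [Module K(p, k) N]
  [IsScalarTower (WittVector p k) K(p, k) N]
variable {τ : K(p, k) →+* K(p, k)} {e : WittVector p k ≃+* WittVector p k}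

theorem stable_iSup {ι : Sort*} (F : N →ₛₗ[τ] N) (A : ι → Submodule K(p, k) N)
    (hA : ∀ i, ∀ x ∈ A i, F x ∈ A i) : ∀ x ∈ ⨆ i, A i, F x ∈ ⨆ i, A i := by
  have : (⨆ i, A i) ≤ (⨆ i, A i).comap F :=
    iSup_le fun i x hx => Submodule.mem_comap.mpr (le_iSup A i (hA i x hx))
  exact fun x hx => this hx

/-- The slope parts are independent. -/
theorem iSupIndep_slopePart (hτ : WCompat τ e) [Module.Finite K(p, k) N] (F : N →ₛₗ[τ] N)
    (hF : Function.Injective F) : iSupIndep (fun μ : ℚ => Isoc.slopePart F μ) := by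
  classical
  rw [iSupIndep_def]
  intro μ
  rw [disjoint_iff]
  have hgood : ∀ ν, Good F ν (Isoc.slopePart F ν) := fun ν => good_slopePart hτ F ν
  have hUstab : ∀ x ∈ ⨆ (ν : ℚ) (_ : ν ≠ μ), Isoc.slopePart F ν,
      F x ∈ ⨆ (ν : ℚ) (_ : ν ≠ μ), Isoc.slopePart F ν :=
    stable_iSup F _ (fun ν => stable_iSup F _ (fun _ => (hgood ν).1))
  have hTstab : ∀ x ∈ Isoc.slopePart F μ ⊓ ⨆ (ν : ℚ) (_ : ν ≠ μ), Isoc.slopePart F ν,
      F x ∈ Isoc.slopePart F μ ⊓ ⨆ (ν : ℚ) (_ : ν ≠ μ), Isoc.slopePart F ν :=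
    fun x hx => ⟨(hgood μ).1 x hx.1, hUstab x hx.2⟩
  have hTgood := Good.mono hτ hF (hgood μ) hTstab inf_le_left
  have hTfg : (Isoc.slopePart F μ ⊓ ⨆ (ν : ℚ) (_ : ν ≠ μ), Isoc.slopePart F ν).FG :=
    IsNoetherian.noetherian _
  have hcomp : IsCompactElement
      (Isoc.slopePart F μ ⊓ ⨆ (ν : ℚ) (_ : ν ≠ μ), Isoc.slopePart F ν) :=
    (Submodule.fg_iff_compact _).mp hTfg
  obtain ⟨S₀, hS₀⟩ := CompleteLattice.IsCompactElement.exists_finset_of_le_iSup _ hcomp
    (fun ν : ℚ => ⨆ (_ : ν ≠ μ), Isoc.slopePart F ν) inf_le_right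
  apply good_eq_bot_of_le_iSup hτ (S₀.erase μ) N F hF μ (Finset.notMem_erase μ S₀) _ hTgood
    (fun ν => Isoc.slopePart F ν) (fun ν _ => hgood ν)
  refine hS₀.trans (iSup₂_le fun ν hν => iSup_le fun hne => ?_)
  exact le_iSup₂_of_le ν (Finset.mem_erase.mpr ⟨hne, hν⟩) le_rfl

/-! ### The unit-root part and the nilpotent part -/

/-- `⋂_j G^j M`. -/
def unitRoot (G : N →ₛₗ[τ] N) (M : Submodule (WittVector p k) N) : Submodule (WittVector p k) N :=
  ⨅ j : ℕ, Isoc.latImg G j M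

theorem mem_unitRoot {G : N →ₛₗ[τ] N} {M : Submodule (WittVector p k) N} {x : N} :
    x ∈ unitRoot G M ↔ ∀ j, x ∈ Isoc.latImg G j M := Submodule.mem_iInf _

theorem unitRoot_le (G : N →ₛₗ[τ] N) (M : Submodule (WittVector p k) N) : unitRoot G M ≤ M := by
  intro x hx
  have := mem_unitRoot.mp hx 0
  rwa [latImg_zero] at this

theorem latImg_unitRoot (hτ : WCompat τ e) (G : N →ₛₗ[τ] N) (hG : Function.Injective G)
    {M : Submodule (WittVector p k) N} (hGM : Isoc.latImg G 1 M ≤ M) :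
    Isoc.latImg G 1 (unitRoot G M) = unitRoot G M := by
  apply le_antisymm
  · intro y hy
    obtain ⟨x, hx, rfl⟩ := (mem_latImg hτ).mp hy
    rw [mem_unitRoot]
    intro j
    apply latImg_succ_le hτ G hGM j
    rw [add_comm, latImg_add hτ]
    exact (mem_latImg hτ).mpr ⟨x, mem_unitRoot.mp hx j, rfl⟩
  · intro y hy
    have h1 := mem_unitRoot.mp hy 1
    obtain ⟨x, hx, hxy⟩ := (mem_latImg hτ).mp h1
    refine (mem_latImg hτ).mpr ⟨x, ?_, hxy⟩
    rw [mem_unitRoot]
    intro j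
    have h2 := mem_unitRoot.mp hy (j + 1)
    obtain ⟨z, hz, hzy⟩ := (mem_latImg hτ).mp h2
    rw [Function.iterate_succ_apply'] at hzy
    have : x = (⇑G)^[j] z := by
      apply hG
      rw [Function.iterate_one] at hxy
      rw [hxy, hzy]
    rw [this]
    exact iterate_mem_latImg hτ G hz j

/-- The topologically nilpotent vectors. -/
def nilPart (hτ : WCompat τ e) (G : N →ₛₗ[τ] N) {M : Submodule (WittVector p k) N}
    (hGM : Isoc.latImg G 1 M ≤ M) : Submodule K(p, k) N where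
  carrier := {x | ∀ c : ℕ, ∃ j : ℕ, (⇑G)^[j] x ∈ Isoc.pPow (c : ℤ) M}
  zero_mem' := by
    intro c
    refine ⟨0, ?_⟩
    rw [Function.iterate_zero, id]
    exact Submodule.zero_mem _
  add_mem' := by
    intro x y hx hy c
    obtain ⟨j₁, hj₁⟩ := hx c
    obtain ⟨j₂, hj₂⟩ := hy c
    refine ⟨j₁ + j₂, ?_⟩
    rw [iterate_add']
    refine Submodule.add_mem _ ?_ ?_
    · rw [add_comm, Function.iterate_add_apply]
      exact iterate_mem_pPow hτ G hGM hj₁ j₂
    · rw [Function.iterate_add_apply]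
      exact iterate_mem_pPow hτ G hGM hj₂ j₁
  smul_mem' := by
    intro a x hx c
    obtain ⟨m, w, hw⟩ := exists_pow_mul_eq_algebraMap (p := p) (k := k) a
    obtain ⟨j, hj⟩ := hx (c + m)
    refine ⟨j, ?_⟩
    have ha : a = ((p : K(p, k)) ^ (-(m : ℤ))) * algebraMap (WittVector p k) K(p, k) w := by
      rw [← hw, ← mul_assoc, ← zpow_natCast, ← zpow_add₀ pL_ne_zero, neg_add_cancel, zpow_zero,
        one_mul]
    have h1 : (⇑G)^[j] (a • x) = ((p : K(p, k)) ^ (-(m : ℤ))) • (((e ^ j) w) • (⇑G)^[j] x) := by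
      rw [ha, mul_smul, iterate_smul_p hτ, algebraMap_smul, iterate_smul_W hτ]
    rw [h1, mem_pPow_iff, smul_smul, ← zpow_add₀ pL_ne_zero]
    have h2 := Submodule.smul_mem _ ((e ^ j) w) hj
    rw [mem_pPow_iff] at h2
    have e1 : -(c : ℤ) + -(m : ℤ) = -((c + m : ℕ) : ℤ) := by push_cast; ring
    rw [e1]
    exact h2

theorem mem_nilPart (hτ : WCompat τ e) (G : N →ₛₗ[τ] N) {M : Submodule (WittVector p k) N}
    (hGM : Isoc.latImg G 1 M ≤ M) {x : N} :
    x ∈ nilPart hτ G hGM ↔ ∀ c : ℕ, ∃ j : ℕ, (⇑G)^[j] x ∈ Isoc.pPow (c : ℤ) M := Iff.rfl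

/-- The Fitting decomposition on the level of `N`. -/
theorem span_unitRoot_sup_nilPart (hτ : WCompat τ e) [Module.Finite K(p, k) N] (G : N →ₛₗ[τ] N)
    (hG : Function.Injective G) {M : Submodule (WittVector p k) N} (hM : M.IsLattice K(p, k))
    (hGM : Isoc.latImg G 1 M ≤ M) :
    Submodule.span K(p, k) (unitRoot G M : Set N) ⊔ nilPart hτ G hGM = ⊤ := by
  rw [eq_top_iff]
  intro x _
  obtain ⟨m, hm⟩ := exists_pow_smul_mem_of_mem_span (M := M) (x := x)
    (by rw [hM.span_eq_top]; trivial)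
  obtain ⟨u, hu1, hu2⟩ := fitting_exists hτ G hG hM hGM hm
  have hx : x = ((p : K(p, k)) ^ m)⁻¹ • u + ((p : K(p, k)) ^ m)⁻¹ • (((p : K(p, k)) ^ m) • x - u) := by
    rw [← smul_add, add_sub_cancel, smul_smul, inv_mul_cancel₀ (pow_ne_zero _ pL_ne_zero), one_smul]
  rw [hx]
  refine Submodule.add_mem_sup (Submodule.smul_mem _ _ (Submodule.subset_span ?_))
    (Submodule.smul_mem _ _ ?_)
  · exact mem_unitRoot.mpr hu1
  · exact (mem_nilPart hτ G hGM).mpr hu2

end Decomp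

end Groth.Agent.Lib.Helper86
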