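import Mathlib
import Groth.Prelude.Def_Isoc
import Groth.Agent.Lib.Helper86.Isoc
import Groth.Agent.Lib.Helper86.Isoc2
import Groth.Agent.Lib.Helper86.Isoc3
import Groth.Agent.Lib.Helper86.Isoc5
import Groth.Agent.Lib.Helper86.Isoc6
import Groth.Agent.Lib.Helper86.Isoc7
import Groth.Agent.Lib.Helper86.Isoc9
import Groth.Agent.Lib.Helper86.Isoc10
import Groth.Agent.Lib.Helper86.Isoc11
import Groth.Agent.Lib.Helper86.Isoc12
import Groth.Agent.S17143
import Groth.Agent.S17151

/-!
# Library for `Def_Isoc` (helper86), part 13: the slope parts span (slope decomposition).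
-/

set_option autoImplicit false
set_option linter.unusedSectionVars false

noncomputable section

open scoped Pointwise Isocrystal

universe u v

namespace Groth.Agent.Lib.Helper86

open Groth.Agent.S17151 Groth.Agent.S17143

section Final

variable {p : ℕ} [Fact p.Prime] {k : Type u} [Field k] [CharP k p] [PerfectRing k p]
variable {N : Type v} [AddCommGroup N] [Module (WittVector p k) N] [Module K(p, k) N]
  [IsScalarTower (WittVector p k) K(p, k) N]
variable {τ : K(p, k) →+* K(p, k)} {e : WittVector p k ≃+* WittVector p k}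
variable {τF : K(p, k) →+* K(p, k)} {eF : WittVector p k ≃+* WittVector p k}

theorem commute_iterate (G : N →ₛₗ[τ] N) (F : N →ₛₗ[τF] N) (hFG : ∀ x, F (G x) = G (F x))
    (j : ℕ) (x : N) : F ((⇑G)^[j] x) = (⇑G)^[j] (F x) := by
  induction j generalizing x with
  | zero => rfl
  | succ j ih => rw [Function.iterate_succ_apply, ih, hFG, ← Function.iterate_succ_apply]

theorem unitRoot_smul_mem (hτ : WCompat τ e) (G : N →ₛₗ[τ] N) (F : N →ₛₗ[τF] N)
    (hFG : ∀ x, F (G x) = G (F x)) {M : Submodule (WittVector p k) N} (c₀ : ℕ)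
    (hFM : ∀ x ∈ M, F x ∈ Isoc.pPow (-(c₀ : ℤ)) M) {x : N} (hx : x ∈ unitRoot G M) :
    ((p : K(p, k)) ^ (c₀ : ℤ)) • F x ∈ unitRoot G M := by
  rw [mem_unitRoot]
  intro j
  obtain ⟨z, hz, rfl⟩ := (mem_latImg hτ).mp (mem_unitRoot.mp hx j)
  rw [commute_iterate G F hFG, ← iterate_smul_p hτ]
  apply iterate_mem_latImg hτ G _ j
  have := hFM z hz
  rwa [mem_pPow_iff, neg_neg] at this

theorem unitRoot_span_stable (hτ : WCompat τ e) (G : N →ₛₗ[τ] N) (F : N →ₛₗ[τF] N)
    (hFG : ∀ x, F (G x) = G (F x)) {M : Submodule (WittVector p k) N} (c₀ : ℕ)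
    (hFM : ∀ x ∈ M, F x ∈ Isoc.pPow (-(c₀ : ℤ)) M) :
    ∀ x ∈ Submodule.span K(p, k) (unitRoot G M : Set N),
      F x ∈ Submodule.span K(p, k) (unitRoot G M : Set N) := by
  intro x hx
  induction hx using Submodule.span_induction with
  | mem x hx =>
    have h1 := unitRoot_smul_mem hτ G F hFG c₀ hFM hx
    have h2 : F x = ((p : K(p, k)) ^ (-(c₀ : ℤ))) • (((p : K(p, k)) ^ (c₀ : ℤ)) • F x) := by
      rw [smul_smul, ← zpow_add₀ pL_ne_zero, neg_add_cancel, zpow_zero, one_smul]
    rw [h2]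
    exact Submodule.smul_mem _ _ (Submodule.subset_span h1)
  | zero => rw [map_zero]; exact Submodule.zero_mem _
  | add x y _ _ hx hy => rw [map_add]; exact Submodule.add_mem _ hx hy
  | smul a x _ hx => rw [map_smulₛₗ]; exact Submodule.smul_mem _ _ hx

theorem nilPart_stable (hτ : WCompat τ e) (hτF : WCompat τF eF) (G : N →ₛₗ[τ] N)
    (F : N →ₛₗ[τF] N) (hFG : ∀ x, F (G x) = G (F x)) {M : Submodule (WittVector p k) N}
    (hGM : Isoc.latImg G 1 M ≤ M) (c₀ : ℕ)
    (hFM : ∀ x ∈ M, F x ∈ Isoc.pPow (-(c₀ : ℤ)) M) :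
    ∀ x ∈ nilPart hτ G hGM, F x ∈ nilPart hτ G hGM := by
  intro x hx c
  obtain ⟨j, hj⟩ := hx (c + c₀)
  refine ⟨j, ?_⟩
  rw [← commute_iterate G F hFG]
  rw [mem_pPow_iff] at hj ⊢
  have h1 := hFM _ hj
  rw [map_smulₛₗ, hτF.map_p_zpow, mem_pPow_iff, neg_neg, smul_smul, ← zpow_add₀ pL_ne_zero] at h1
  have e1 : (c₀ : ℤ) + -((c + c₀ : ℕ) : ℤ) = -(c : ℤ) := by push_cast; ring
  rwa [e1] at h1

theorem nilPart_ne_top (hτ : WCompat τ e) [Nontrivial N] (G : N →ₛₗ[τ] N)
    {M : Submodule (WittVector p k) N} (hM : M.IsLattice K(p, k))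
    (hGM : Isoc.latImg G 1 M ≤ M)
    (hno : ∀ n : ℕ, ¬ Isoc.latImg G (n + 1) M ≤ Isoc.pPow 1 M) : nilPart hτ G hGM ≠ ⊤ := by
  intro htop
  have hall : ∀ x ∈ M, ∃ j : ℕ, (⇑G)^[j] x ∈ Isoc.pPow ((1 : ℕ) : ℤ) M := fun x _ => by
    have hx : x ∈ nilPart hτ G hGM := by rw [htop]; trivial
    exact hx 1
  obtain ⟨n, hn⟩ := exists_uniform_ker hτ G hM.fg hGM ((1 : ℕ) : ℤ)
  apply hno n
  intro y hy
  obtain ⟨x, hx, rfl⟩ := (mem_latImg hτ).mp hy
  rw [Function.iterate_succ_apply']
  have := iterate_mem_pPow hτ G hGM (hn x hx (hall x hx)) 1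
  simpa using this

/-- The slope parts span: by induction on the dimension. -/
theorem iSup_slopePart_eq_top (hτ : WCompat τ e) :
    ∀ (n : ℕ) (N : Type v) [AddCommGroup N] [Module (WittVector p k) N] [Module K(p, k) N]
      [IsScalarTower (WittVector p k) K(p, k) N] [Module.Finite K(p, k) N]
      (F : N →ₛₗ[τ] N) (_ : Function.Injective F), Module.finrank K(p, k) N = n →
      ⨆ μ : ℚ, Isoc.slopePart F μ = ⊤ := by
  intro n
  induction n using Nat.strong_induction_on with
  | _ n ih =>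
    intro N _ _ _ _ _ F hF hn
    rcases Nat.eq_zero_or_pos n with h0 | hpos
    · subst h0
      have : Subsingleton N := Module.finrank_zero_iff.mp hn
      exact Subsingleton.elim _ _
    · have hnt : Nontrivial N := Module.finrank_pos_iff.mp (hn ▸ hpos)
      have hbij : Function.Bijective F :=
        ⟨hF, surjective_of_injective_semilinear hτ.surjective F hF⟩
      have hM₀ := isLattice_stdLat (Module.finBasis K(p, k) N)
      obtain ⟨o, ho, lam, hlim⟩ := exists_ord_tendsto hτ hbij hM₀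
      have hlam : Isoc.IsFirstSlope F lam := ⟨_, hM₀, o, fun n _ => ho n, hlim⟩
      obtain ⟨r, s, hs, -, hrs⟩ := slope_rational hτ F hlam
      obtain ⟨M, hM, hle⟩ := exists_lattice_of_le_slope hτ F hlam s hs r hrs.ge
      have hτ' := hτ.pow s
      have hGlat : ∀ (j : ℕ) (X : Submodule (WittVector p k) N),
          Isoc.latImg (((p : K(p, k)) ^ (-r)) • Isoc.iter F s) j X =
            Isoc.pPow (-r * j) (Isoc.latImg F (s * j) X) :=
        fun j X => latImg_twist hτ F (-r) s j X
      have hGM : Isoc.latImg (((p : K(p, k)) ^ (-r)) • Isoc.iter F s) 1 M ≤ M := by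
        rw [hGlat, pPow_le_iff]
        simpa using hle
      have hGapp : ∀ x, (((p : K(p, k)) ^ (-r)) • Isoc.iter F s) x =
          ((p : K(p, k)) ^ (-r)) • (⇑F)^[s] x := fun x => rfl
      have hGinj : Function.Injective (((p : K(p, k)) ^ (-r)) • Isoc.iter F s) := by
        intro x y hxy
        rw [hGapp, hGapp] at hxy
        exact hF.iterate s (smul_right_injective N (pL_zpow_ne_zero (-r)) hxy)
      have hFG : ∀ x, F ((((p : K(p, k)) ^ (-r)) • Isoc.iter F s) x) =
          (((p : K(p, k)) ^ (-r)) • Isoc.iter F s) (F x) := by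
        intro x
        rw [hGapp, hGapp, map_smulₛₗ, hτ.map_p_zpow, ← Function.iterate_succ_apply,
          Function.iterate_succ_apply']
      obtain ⟨c₀, hc₀⟩ : ∃ c₀ : ℕ, ∀ x ∈ M, F x ∈ Isoc.pPow (-(c₀ : ℤ)) M := by
        obtain ⟨c, hc⟩ := exists_pPow_le_of_fg (isLattice_latImg hτ hbij hM 1).fg hM.span_eq_top
        refine ⟨c, fun x hx => pPow_le_iff.mp hc ?_⟩
        exact (mem_latImg hτ).mpr ⟨x, hx, rfl⟩
      have hPstab := unitRoot_span_stable hτ' _ F hFG c₀ hc₀
      have hQstab := nilPart_stable hτ' hτ _ F hFG hGM c₀ hc₀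
      have hsum := span_unitRoot_sup_nilPart hτ' _ hGinj hM hGM
      have hU := latImg_unitRoot hτ' _ hGinj hGM
      have hPamb : AmbIsoclinic F (Submodule.span K(p, k)
          (unitRoot (((p : K(p, k)) ^ (-r)) • Isoc.iter F s) M : Set N)) r s := by
        refine ⟨_, Submodule.FG.of_le hM.fg (unitRoot_le _ M), rfl, ?_⟩
        rw [hGlat] at hU
        have h1 := congrArg (Isoc.pPow r) hU
        rw [pPow_pPow] at h1
        have e1 : r + -r * ((1 : ℕ) : ℤ) = 0 := by push_cast; ring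
        rw [e1, pPow_zero, mul_one] at h1
        exact h1
      have hPgood : Good F ((r : ℚ) / s) _ := good_of_amb hτ hPstab hs rfl hPamb
      have hQne : nilPart hτ' _ hGM ≠ ⊤ := by
        apply nilPart_ne_top hτ' _ hM hGM
        intro n hcon
        rw [hGlat, pPow_le_iff] at hcon
        have h1 : Isoc.latImg F (s * (n + 1)) M ≤ Isoc.pPow (r * ((n + 1 : ℕ) : ℤ) + 1) M := by
          refine hcon.trans (le_of_eq ?_)
          rw [pPow_pPow]
          congr 1
          ring
        have h2 := le_slope_of_latImg_le hτ hlam hM (Nat.mul_pos hs (Nat.succ_pos n)) h1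
        rw [hrs] at h2
        have hs' : (0 : ℝ) < s := by exact_mod_cast hs
        have hn' : (0 : ℝ) < ((n + 1 : ℕ) : ℝ) := by positivity
        rw [div_le_div_iff₀ (by positivity) hs'] at h2
        push_cast at h2 hn'
        nlinarith
      have hQlt : Module.finrank K(p, k) (nilPart hτ' _ hGM) < n :=
        hn ▸ Submodule.finrank_lt hQne
      have hIH := ih _ hQlt (nilPart hτ' _ hGM) (F.restrict hQstab)
        (restrict_injective hF hQstab) rfl
      have htrans : ∀ μ, (Isoc.slopePart (F.restrict hQstab) μ).map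
          (nilPart hτ' _ hGM).subtype ≤ Isoc.slopePart F μ := fun μ =>
        Good.le_slopePart hτ (Good.map hτ _ (fun x => rfl)
          (good_slopePart hτ (F.restrict hQstab) μ))
      rw [eq_top_iff, ← hsum]
      refine sup_le ((Good.le_slopePart hτ hPgood).trans (le_iSup _ _)) ?_
      have hQ : nilPart hτ' _ hGM =
          (⊤ : Submodule K(p, k) (nilPart hτ' _ hGM)).map (nilPart hτ' _ hGM).subtype :=
        (Submodule.map_subtype_top _).symm
      rw [hQ, ← hIH, Submodule.map_iSup]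
      exact iSup_mono htrans

end Final

end Groth.Agent.Lib.Helper86
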