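import Mathlib
import Groth.Prelude.Def_Isoc
import Groth.Agent.Lib.Helper86.Isoc
import Groth.Agent.Lib.Helper86.Isoc3
import Groth.Agent.Lib.Helper86.Isoc4

/-!
# Library for `Def_Isoc` (helper86), part 8: basis independence of `orddet`, bases of lattices,
unimodular matrices.
-/

set_option autoImplicit false
set_option linter.unusedSectionVars false

noncomputable section

open scoped Pointwise Isocrystal

universe u v

namespace Groth.Agent.Lib.Helper86

section BasisIndep

variable {p : ℕ} [Fact p.Prime] {k : Type u} [Field k] [CharP k p] [PerfectRing k p]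
variable {N : Type v} [AddCommGroup N] [Module (WittVector p k) N] [Module K(p, k) N]
  [IsScalarTower (WittVector p k) K(p, k) N]
variable {τ : K(p, k) →+* K(p, k)} {e : WittVector p k ≃+* WittVector p k}

theorem IsOrdP.of_mul {c c' : K(p, k)} {r r' : ℤ} (h : Isoc.IsOrdP (c * c') (r + r'))
    (hc : Isoc.IsOrdP c r) : Isoc.IsOrdP c' r' := by
  obtain ⟨u, hu⟩ := h
  obtain ⟨v, rfl⟩ := hc
  refine ⟨u * v⁻¹, ?_⟩
  have hv : algebraMap (WittVector p k) K(p, k) (v : WittVector p k) ≠ 0 :=
    (map_ne_zero_iff _ (IsFractionRing.injective (WittVector p k) K(p, k))).mpr v.ne_zero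
  have hp : (p : K(p, k)) ^ r ≠ 0 := pL_zpow_ne_zero r
  rw [Units.val_mul, map_mul, algebraMap_unit_inv]
  rw [zpow_add₀ pL_ne_zero] at hu
  have : c' = ((p : K(p, k)) ^ r * algebraMap (WittVector p k) K(p, k) (v : WittVector p k))⁻¹ *
      ((p : K(p, k)) ^ r * (p : K(p, k)) ^ r' *
        algebraMap (WittVector p k) K(p, k) (u : WittVector p k)) := by
    rw [← hu, ← mul_assoc, inv_mul_cancel₀ (mul_ne_zero hp hv), one_mul]
  rw [this]
  field_simp

theorem mat_change_basis {h : ℕ} (b b' : Module.Basis (Fin h) K(p, k) N) (F : N →ₛₗ[τ] N) :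
    mat b F * (b.toMatrix b').map τ = b.toMatrix b' * mat b' F := by
  ext i j
  rw [Matrix.mul_apply, Matrix.mul_apply]
  have h1 : ∑ l, mat b F i l * (b.toMatrix b').map τ l j = b.repr (F (b' j)) i := by
    rw [repr_apply_semilinear]
    rfl
  rw [h1]
  conv_lhs => rw [← b'.sum_repr (F (b' j))]
  rw [map_sum, Finsupp.finsetSum_apply]
  refine Finset.sum_congr rfl fun l _ => ?_
  rw [map_smul, Finsupp.smul_apply, smul_eq_mul, mul_comm]
  rfl

theorem isOrdP_detCoeff_basis_indep (hτ : WCompat τ e) {h : ℕ}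
    (b b' : Module.Basis (Fin h) K(p, k) N) (F : N →ₛₗ[τ] N) {d : ℤ}
    (hd : Isoc.IsOrdP (Isoc.detCoeff b F) d) : Isoc.IsOrdP (Isoc.detCoeff b' F) d := by
  have hP : (b.toMatrix b').det ≠ 0 := by
    intro h0
    have := congrArg Matrix.det (b.toMatrix_mul_toMatrix_flip b')
    rw [Matrix.det_mul, h0, zero_mul, Matrix.det_one] at this
    exact zero_ne_one this
  obtain ⟨m, hm⟩ := exists_isOrdP_of_ne_zero hP
  have key := congrArg Matrix.det (mat_change_basis b b' F)
  rw [Matrix.det_mul, Matrix.det_mul, ← RingHom.mapMatrix_apply, ← RingHom.map_det,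
    ← detCoeff_eq, ← detCoeff_eq] at key
  have h1 : Isoc.IsOrdP ((b.toMatrix b').det * Isoc.detCoeff b' F) (m + d) := by
    rw [← key, add_comm]
    exact IsOrdP.mul hd (IsOrdP.map hτ hm)
  exact IsOrdP.of_mul h1 hm

/-- A lattice is the standard lattice of some basis. -/
theorem exists_basis_stdLat_eq [Module.Finite K(p, k) N] {M : Submodule (WittVector p k) N}
    (hM : M.IsLattice K(p, k)) {h : ℕ} (hh : Module.finrank K(p, k) N = h) :
    ∃ b' : Module.Basis (Fin h) K(p, k) N, stdLat b' = M := by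
  have := hM
  have hrank : Module.finrank (WittVector p k) M = h := by
    rw [← hh]
    exact Module.finrank_eq_of_rank_eq
      ((Submodule.IsLattice.rank' K(p, k) M).trans (Module.finrank_eq_rank K(p, k) N).symm)
  let β : Module.Basis (Fin h) (WittVector p k) M := Module.finBasisOfFinrankEq _ _ hrank
  refine ⟨β.extendOfIsLattice K(p, k), ?_⟩
  unfold stdLat
  have : Set.range (β.extendOfIsLattice K(p, k)) = M.subtype '' Set.range β := by
    ext y
    simp only [Set.mem_range, Module.Basis.extendOfIsLattice_apply, Set.mem_image,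
      Submodule.subtype_apply, exists_exists_eq_and]
  rw [this, ← Submodule.map_span, β.span_eq, Submodule.map_subtype_top]

theorem pPow_stdLat_le_of_forall_mem {h : ℕ} (b : Module.Basis (Fin h) K(p, k) N) (t : ℤ)
    {K : Submodule (WittVector p k) N} (hK : ∀ i, ((p : K(p, k)) ^ t) • b i ∈ K) :
    Isoc.pPow t (stdLat b) ≤ K := by
  rw [pPow_le_iff]
  unfold stdLat
  rw [Submodule.span_le]
  rintro _ ⟨i, rfl⟩
  rw [SetLike.mem_coe, mem_pPow_iff, neg_neg]
  exact hK i

/-- If `G` maps the standard lattice into `p^t` times itself and `ord det G = t h`, then `G` maps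
the standard lattice onto `p^t` times itself. -/
theorem exists_preimage_of_det (hτ : WCompat τ e) {h : ℕ} (b : Module.Basis (Fin h) K(p, k) N)
    (G : N →ₛₗ[τ] N) (t : ℤ) (hG : ∀ j, G (b j) ∈ Isoc.pPow t (stdLat b))
    (hdet : Isoc.IsOrdP (Isoc.detCoeff b G) (t * h)) :
    ∀ i, ∃ x ∈ stdLat b, G x = ((p : K(p, k)) ^ t) • b i := by
  have hex : ∀ j i, ∃ w : WittVector p k,
      b.repr (G (b j)) i = (p : K(p, k)) ^ t * algebraMap _ _ w := fun j =>
    (mem_pPow_stdLat_iff b t _).mp (hG j)
  choose B hB using hex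
  set Bm : Matrix (Fin h) (Fin h) (WittVector p k) := Matrix.of fun i j => B j i with hBm
  have hmat : mat b G = ((p : K(p, k)) ^ t) •
      Bm.map (algebraMap (WittVector p k) K(p, k)) := by
    ext i j
    rw [mat_apply, hB]
    rfl
  have hdetB : IsUnit Bm.det := by
    obtain ⟨u, hu⟩ := hdet
    rw [detCoeff_eq, hmat, Matrix.det_smul, Fintype.card_fin, ← RingHom.mapMatrix_apply,
      ← RingHom.map_det, zpow_mul, zpow_natCast] at hu
    have h2 := mul_left_cancel₀ (pow_ne_zero h (pL_zpow_ne_zero t)) hu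
    have h3 := IsFractionRing.injective (WittVector p k) K(p, k) h2
    rw [h3]
    exact u.isUnit
  have hinv : Bm * Bm⁻¹ = 1 := Matrix.mul_nonsing_inv Bm hdetB
  intro i
  refine ⟨b.equivFun.symm (fun l => algebraMap (WittVector p k) K(p, k) (e.symm (Bm⁻¹ l i))), ?_, ?_⟩
  · rw [mem_stdLat_iff]
    intro l
    rw [← b.equivFun_apply, LinearEquiv.apply_symm_apply]
    exact ⟨_, rfl⟩
  · apply b.repr.injective
    ext m
    rw [repr_apply_semilinear, map_smul, Finsupp.smul_apply, smul_eq_mul,
      Module.Basis.repr_self_apply]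
    have h4 : ∀ l, mat b G m l * τ (b.repr (b.equivFun.symm
        (fun l => algebraMap (WittVector p k) K(p, k) (e.symm (Bm⁻¹ l i)))) l) =
        (p : K(p, k)) ^ t * algebraMap (WittVector p k) K(p, k) (Bm m l * Bm⁻¹ l i) := by
      intro l
      rw [← b.equivFun_apply, LinearEquiv.apply_symm_apply, hτ.comm, RingEquiv.apply_symm_apply,
        hmat, map_mul]
      simp only [Matrix.smul_apply, Matrix.map_apply, smul_eq_mul]
      ring
    rw [Finset.sum_congr rfl fun l _ => h4 l, ← Finset.mul_sum, ← map_sum]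
    have h5 : ∑ l, Bm m l * Bm⁻¹ l i = (1 : Matrix (Fin h) (Fin h) (WittVector p k)) m i := by
      rw [← hinv, Matrix.mul_apply]
    rw [h5, Matrix.one_apply]
    by_cases hmi : m = i
    · subst hmi
      simp
    · have : ¬ i = m := fun h => hmi h.symm
      simp [hmi, this]

end BasisIndep

end Groth.Agent.Lib.Helper86
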