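import Mathlib
import Groth.Prelude.Def_Isoc
import Groth.Agent.Lib.Helper86.Isoc
import Groth.Agent.Lib.Helper86.Isoc2
import Groth.Agent.Lib.Helper86.Isoc3
import Groth.Agent.Lib.Helper86.Isoc4
import Groth.Agent.Lib.Helper86.Isoc8
import Groth.Agent.Lib.Helper86.Isoc11
import Groth.Agent.Lib.Helper86.Isoc12
import Groth.Agent.Lib.Helper86.Isoc13
import Groth.Agent.S17151

/-!
# Library for `Def_Isoc` (helper86), part 14: `orddet` is the sum of the slopes with
multiplicities.
-/

set_option autoImplicit false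
set_option linter.unusedSectionVars false

noncomputable section

open scoped Pointwise Isocrystal

universe u v

namespace Groth.Agent.Lib.Helper86

open Groth.Agent.S17151

/-- Determinant of a block diagonal matrix with blocks of varying sizes. -/
theorem det_blockDiagonal'_eq {o : Type*} [Fintype o] [DecidableEq o] [LinearOrder o]
    {m' : o → Type*} [∀ i, Fintype (m' i)] [∀ i, DecidableEq (m' i)] {R : Type*} [CommRing R]
    (d : ∀ i, Matrix (m' i) (m' i) R) :
    (Matrix.blockDiagonal' d).det = ∏ i, (d i).det := by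
  rw [(Matrix.blockTriangular_blockDiagonal' d).det]
  have hblock : ∀ a : o, ((Matrix.blockDiagonal' d).toSquareBlock Sigma.fst a).det = (d a).det := by
    intro a
    rw [← Matrix.det_reindex_self (Equiv.sigmaSubtype a).symm (d a)]
    congr 1
    ext x y
    rcases x with ⟨⟨k, i⟩, hk⟩
    rcases y with ⟨⟨k', j⟩, hk'⟩
    simp only at hk hk'
    subst hk
    subst hk'
    simp [Matrix.toSquareBlock_def, Equiv.sigmaSubtype]
  rw [Finset.prod_congr rfl fun a _ => hblock a]
  apply Finset.prod_subset (Finset.subset_univ _)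
  intro a _ ha
  have hempty : IsEmpty (m' a) := by
    constructor
    intro i
    apply ha
    exact Finset.mem_image.mpr ⟨⟨a, i⟩, Finset.mem_univ _, rfl⟩
  exact Matrix.det_isEmpty

section OrdSum

variable {p : ℕ} [Fact p.Prime] {k : Type u} [Field k] [CharP k p] [PerfectRing k p]
variable {N : Type v} [AddCommGroup N] [Module (WittVector p k) N] [Module K(p, k) N]
  [IsScalarTower (WittVector p k) K(p, k) N]
variable {τ : K(p, k) →+* K(p, k)} {e : WittVector p k ≃+* WittVector p k}

theorem isOrdP_prod {ι : Type*} (s : Finset ι) (c : ι → K(p, k)) (r : ι → ℤ)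
    (h : ∀ i ∈ s, Isoc.IsOrdP (c i) (r i)) : Isoc.IsOrdP (∏ i ∈ s, c i) (∑ i ∈ s, r i) := by
  classical
  induction s using Finset.induction_on with
  | empty => simpa using isOrdP_one
  | insert a s ha ih =>
    rw [Finset.prod_insert ha, Finset.sum_insert ha]
    exact IsOrdP.mul (h a (Finset.mem_insert_self _ _))
      (ih fun i hi => h i (Finset.mem_insert_of_mem hi))

/-- The matrix of a semilinear map in a basis with an arbitrary finite index type. -/
def matG {ι : Type*} [Fintype ι] (B : Module.Basis ι K(p, k) N) (F : N →ₛₗ[τ] N) :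
    Matrix ι ι K(p, k) :=
  Matrix.of fun x y => B.repr (F (B y)) x

theorem mat_reindex {ι : Type*} [Fintype ι] [DecidableEq ι] {h : ℕ}
    (B : Module.Basis ι K(p, k) N) (ε : ι ≃ Fin h) (F : N →ₛₗ[τ] N) :
    mat (B.reindex ε) F = Matrix.reindex ε ε (matG B F) := by
  ext i j
  rw [mat_apply, Module.Basis.repr_reindex_apply, Module.Basis.reindex_apply]
  rfl

theorem detCoeff_reindex {ι : Type*} [Fintype ι] [DecidableEq ι] {h : ℕ}
    (B : Module.Basis ι K(p, k) N) (ε : ι ≃ Fin h) (F : N →ₛₗ[τ] N) :
    Isoc.detCoeff (B.reindex ε) F = (matG B F).det := by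
  rw [detCoeff_eq, mat_reindex, Matrix.det_reindex_self]

/-- For a good subspace of slope `μ` of dimension `m`, `orddet` of the restriction is `μ · m`. -/
theorem orddet_of_good (hτ : WCompat τ e) [Module.Finite K(p, k) N] {F : N →ₛₗ[τ] N}
    {μ : ℚ} {P : Submodule K(p, k) N} (hP : Good F μ P) {m : ℕ}
    (v : Module.Basis (Fin m) K(p, k) P) {d : ℤ}
    (hd : Isoc.IsOrdP (Isoc.detCoeff v (F.restrict hP.1)) d) : μ * (m : ℚ) = d := by
  obtain ⟨hPs, j, hj, hamb⟩ := hP
  have h1 : AmbIsoclinic (F.restrict hPs) ⊤ (μ.num * j) (μ.den * j) :=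
    AmbIsoclinic.of_map_injective hτ P.subtype (fun x => rfl) P.subtype_injective
      (by rwa [Submodule.map_subtype_top])
  obtain ⟨M, hfg, hspan, hM⟩ := h1
  have hMlat : M.IsLattice K(p, k) := ⟨hfg, hspan⟩
  have a1 := latImg_le_det hτ v _ hd hMlat hM.le
  have a2 := det_le_latImg hτ v _ hd hMlat hM.ge
  have key : μ.num * (j : ℤ) * m = ((μ.den * j : ℕ) : ℤ) * d := le_antisymm a1 a2
  have hj' : (j : ℚ) ≠ 0 := by exact_mod_cast hj.ne'
  have hden : (μ.den : ℚ) ≠ 0 := by exact_mod_cast μ.den_ne_zero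
  have key' : (μ.num : ℚ) * j * m = (μ.den : ℚ) * j * d := by exact_mod_cast key
  have key'' : (μ.num : ℚ) * m = μ.den * d := by
    apply mul_left_cancel₀ hj'
    linear_combination key'
  calc μ * (m : ℚ) = ((μ.num : ℚ) / μ.den) * m := by rw [Rat.num_div_den]
    _ = d := by
      rw [div_mul_eq_mul_div, div_eq_iff hden]
      linear_combination key''

end OrdSum

end Groth.Agent.Lib.Helper86
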