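import Mathlib
import Groth.Agent.S17325

/-!
# Lang's theorem for semilinear maps over an algebraically closed field (helper86)

`φ(c v) = c^q φ(v)`, `φ` injective on a finite-dimensional space: the fixed vectors span and
`φ - 1` is surjective.
-/

set_option autoImplicit false

universe u v

namespace Groth.Agent.Lib.Helper86

open Polynomial Groth.Agent.S17325


theorem exists_fixed_of_semilinear_q {k : Type u} [Field k] [IsAlgClosed k] (p : ℕ) (hp2 : 2 ≤ p)
    {M : Type v} [AddCommGroup M] [Module k M] [FiniteDimensional k M]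
    (F : M →+ M) (hF : ∀ (c : k) (x : M), F (c • x) = c ^ p • F x) (hinj : Function.Injective F)
    (x : M) (hx : x ≠ 0) : ∃ v : M, v ≠ 0 ∧ F v = v := by
  classical
  set xs : ℕ → M := fun i => F^[i] x with hxs
  have hxs_succ : ∀ i, F (xs i) = xs (i + 1) := fun i => (Function.iterate_succ_apply' F i x).symm
  -- Step 1: some xs n lies in the span of the previous ones
  have hex : ∃ n, xs n ∈ Submodule.span k (Set.range (fun i : Fin n => xs i)) := by
    by_contra hcon
    push Not at hcon
    have hli : ∀ n, LinearIndependent k (fun i : Fin n => xs i) := by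
      intro n
      induction n with
      | zero => exact linearIndependent_empty_type
      | succ n ih =>
        have : (fun i : Fin (n + 1) => xs i) = Fin.snoc (fun i : Fin n => xs i) (xs n) := by
          funext i
          refine Fin.lastCases ?_ (fun j => ?_) i
          · simp
          · simp
        rw [this, linearIndependent_finSnoc]
        exact ⟨ih, hcon n⟩
    have := (hli (Module.finrank k M + 1)).fintype_card_le_finrank
    simp at this
  -- Step 2: minimal n
  let n := Nat.find hex
  have hn : xs n ∈ Submodule.span k (Set.range (fun i : Fin n => xs i)) := Nat.find_spec hex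
  have hmin : ∀ m < n, xs m ∉ Submodule.span k (Set.range (fun i : Fin m => xs i)) :=
    fun m hm => Nat.find_min hex hm
  have hn0 : n ≠ 0 := by
    intro h0
    rw [h0] at hn
    have : xs 0 = 0 := by simpa using hn
    exact hx this
  obtain ⟨m, hm⟩ : ∃ m, n = m + 1 := Nat.exists_eq_succ_of_ne_zero hn0
  -- Step 3: coefficients
  obtain ⟨a', ha'⟩ := (Submodule.mem_span_range_iff_exists_fun k).mp hn
  let a : ℕ → k := fun i => if h : i < n then a' ⟨i, h⟩ else 0
  have ha : ∑ i ∈ Finset.range n, a i • xs i = xs n := by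
    rw [← ha', Finset.sum_range]
    apply Finset.sum_congr rfl
    intro i _
    simp [a]
  -- Step 4: some coefficient nonzero
  have hane : ∃ j ≤ m, a j ≠ 0 := by
    by_contra hcon
    push Not at hcon
    have : xs n = 0 := by
      rw [← ha]
      apply Finset.sum_eq_zero
      intro i hi
      rw [Finset.mem_range] at hi
      rw [hcon i (by omega), zero_smul]
    have hinjn : Function.Injective (F^[n]) := hinj.iterate n
    apply hx
    apply hinjn
    rw [show F^[n] x = xs n from rfl, this]
    exact (iterate_map_zero F n).symm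
  -- Step 5/6: polynomial root
  have hD : auxD p a m ≠ 0 := by
    intro h
    obtain ⟨j, hj, hj'⟩ := hane
    exact hj' (auxD_eq_zero p hp2 a m h j hj)
  set Q : k[X] := X ^ (p - 1) * auxD p a m - 1 with hQ
  have hQdeg : Q.degree ≠ 0 := by
    intro hdeg
    have hC := Polynomial.eq_C_of_degree_eq_zero hdeg
    have h1 : X ^ (p - 1) * auxD p a m = C (Q.coeff 0 + 1) := by
      rw [map_add, ← hC, hQ]; simp
    have h2 := congrArg (Polynomial.eval 0) h1
    have hp1 : p - 1 ≠ 0 := by omega
    simp only [eval_mul, eval_pow, eval_X, zero_pow hp1, zero_mul, eval_C] at h2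
    rw [← h2, map_zero] at h1
    rcases mul_eq_zero.mp h1 with h3 | h3
    · exact absurd h3 (pow_ne_zero _ X_ne_zero)
    · exact hD h3
  obtain ⟨t, ht⟩ := IsAlgClosed.exists_root Q hQdeg
  have ht' : t ^ (p - 1) * (auxD p a m).eval t = 1 := by
    have : Q.eval t = 0 := ht
    rw [hQ] at this
    simpa [sub_eq_zero] using this
  have ht0 : t ≠ 0 := by
    intro h0
    rw [h0, zero_pow (by omega), zero_mul] at ht'
    exact zero_ne_one ht'
  -- Step 7: coefficients c
  let c : ℕ → k := fun i => t ^ p * (auxD p a i).eval t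
  have hc0 : c 0 = a 0 * t ^ p := by
    simp [c, auxD, mul_comm]
  have hcs : ∀ i, c (i + 1) = c i ^ p + a (i + 1) * t ^ p := by
    intro i
    simp only [c, auxD, eval_add, eval_mul, eval_pow, eval_X, eval_C]
    have : t ^ p * t ^ (p ^ 2 - p) = (t ^ p) ^ p := by
      rw [← pow_add, ← pow_mul]
      congr 1
      have : p ≤ p ^ 2 := by nlinarith
      rw [Nat.add_sub_cancel' this]; ring
    rw [mul_pow, ← this]; ring
  have hcm : c m = t := by
    show t ^ p * (auxD p a m).eval t = t
    have : t ^ p = t * t ^ (p - 1) := by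
      rw [← pow_succ']; congr 1; omega
    rw [this, mul_assoc, ht', mul_one]
  -- Step 8: the fixed vector
  refine ⟨∑ i ∈ Finset.range (m + 1), c i • xs i, ?_, ?_⟩
  · -- nonzero
    intro hv
    rw [Finset.sum_range_succ, hcm] at hv
    apply hmin m (by omega)
    have : xs m = ∑ i ∈ Finset.range m, (-(t⁻¹ * c i)) • xs i := by
      have h1 : t • xs m = -∑ i ∈ Finset.range m, c i • xs i := by
        rw [eq_neg_iff_add_eq_zero, add_comm]; exact hv
      have h2 : xs m = t⁻¹ • (t • xs m) := by rw [smul_smul, inv_mul_cancel₀ ht0, one_smul]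
      rw [h2, h1, smul_neg, Finset.smul_sum, ← Finset.sum_neg_distrib]
      apply Finset.sum_congr rfl
      intro i _
      rw [smul_smul, neg_smul]
    rw [this]
    apply Submodule.sum_mem
    intro i hi
    rw [Finset.mem_range] at hi
    exact Submodule.smul_mem _ _ (Submodule.subset_span ⟨⟨i, hi⟩, rfl⟩)
  · -- fixed
    rw [map_sum]
    simp only [hF, hxs_succ]
    rw [Finset.sum_range_succ, hcm]
    have hrel : xs (m + 1) = ∑ i ∈ Finset.range (m + 1), a i • xs i := by
      rw [← hm]; exact ha.symm
    rw [hrel, Finset.sum_range_succ' (fun i => c i • xs i), hc0, Finset.smul_sum,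
      Finset.sum_range_succ' (fun i => t ^ p • a i • xs i)]
    simp only [hcs, add_smul]
    rw [Finset.sum_add_distrib]
    simp only [smul_smul, mul_comm (t ^ p)]
    abel




/-- Artin–Schreier type equations are solvable over an algebraically closed field. -/
theorem exists_artinSchreier_root {k : Type u} [Field k] [IsAlgClosed k] (q : ℕ) (hq : 2 ≤ q)
    (μ : k) : ∃ t : k, t ^ q - t + μ = 0 := by
  have hdeg : (X ^ q + (-X + C μ) : k[X]).degree = q := by
    have hlt : (-X + C μ : k[X]).degree < (X ^ q : k[X]).degree := by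
      rw [degree_X_pow]
      calc (-X + C μ : k[X]).degree ≤ max (-X : k[X]).degree (C μ).degree := degree_add_le _ _
        _ ≤ 1 := by
          rw [degree_neg, degree_X]
          exact max_le le_rfl (degree_C_le.trans zero_le_one)
        _ < q := by exact_mod_cast hq
    rw [degree_add_eq_left_of_degree_lt hlt, degree_X_pow]
  obtain ⟨t, ht⟩ := IsAlgClosed.exists_root (X ^ q + (-X + C μ) : k[X]) (by
    rw [hdeg]
    exact_mod_cast (by omega : q ≠ 0))
  refine ⟨t, ?_⟩
  have : (X ^ q + (-X + C μ) : k[X]).eval t = 0 := ht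
  simp only [eval_add, eval_pow, eval_X, eval_neg, eval_C] at this
  linear_combination this

/-- Lang's theorem: the fixed vectors span, and `φ - 1` is surjective. -/
theorem lang_span_and_surj {k : Type u} [Field k] [IsAlgClosed k] (q : ℕ) (hq : 2 ≤ q)
    (σq : k →+* k) (hσ : ∀ x, σq x = x ^ q) :
    ∀ (d : ℕ) (V : Type v) [AddCommGroup V] [Module k V] [FiniteDimensional k V]
      (φ : V →ₛₗ[σq] V), Function.Injective φ → Module.finrank k V = d →
      Submodule.span k {v : V | φ v = v} = ⊤ ∧ ∀ z : V, ∃ y : V, φ y - y = z := by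
  intro d
  induction d with
  | zero =>
    intro V _ _ _ φ _ hd
    have : Subsingleton V := Module.finrank_zero_iff.mp hd
    exact ⟨Subsingleton.elim _ _, fun z => ⟨0, Subsingleton.elim _ _⟩⟩
  | succ d ih =>
    intro V _ _ _ φ hφ hd
    have hnt : Nontrivial V := Module.finrank_pos_iff.mp (by rw [hd]; omega)
    obtain ⟨x, hx⟩ := exists_ne (0 : V)
    obtain ⟨v₁, hv₁0, hv₁⟩ := exists_fixed_of_semilinear_q q hq φ.toAddMonoidHom
      (fun (c : k) (y : V) => by
        rw [LinearMap.toAddMonoidHom_coe, map_smulₛₗ, hσ]) hφ x hx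
    replace hv₁ : φ v₁ = v₁ := hv₁
    -- the quotient
    have hU : Submodule.span k {v₁} ≤ (Submodule.span k {v₁}).comap φ := by
      rw [Submodule.span_le]
      intro y hy
      rw [Set.mem_singleton_iff] at hy
      rw [hy, SetLike.mem_coe, Submodule.mem_comap, hv₁]
      exact Submodule.mem_span_singleton_self v₁
    have hmk : ∀ y, (Submodule.span k {v₁}).mapQ (Submodule.span k {v₁}) φ hU
        ((Submodule.span k {v₁}).mkQ y) = (Submodule.span k {v₁}).mkQ (φ y) := fun y => rfl
    have hinj' : Function.Injective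
        ((Submodule.span k {v₁}).mapQ (Submodule.span k {v₁}) φ hU) := by
      rw [injective_iff_map_eq_zero]
      intro y hy
      obtain ⟨y, rfl⟩ := (Submodule.span k {v₁}).mkQ_surjective y
      rw [hmk, Submodule.mkQ_apply, Submodule.Quotient.mk_eq_zero,
        Submodule.mem_span_singleton] at hy
      obtain ⟨μ, hμ⟩ := hy
      obtain ⟨t, ht⟩ := IsAlgClosed.exists_pow_nat_eq μ (by omega : 0 < q)
      have h1 : φ (y - t • v₁) = 0 := by
        rw [map_sub, map_smulₛₗ, hσ, ht, hv₁, hμ, sub_self]
      have h2 : y - t • v₁ = 0 := (injective_iff_map_eq_zero φ).mp hφ _ h1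
      rw [Submodule.mkQ_apply, Submodule.Quotient.mk_eq_zero, Submodule.mem_span_singleton]
      exact ⟨t, (sub_eq_zero.mp h2).symm⟩
    have hdim : Module.finrank k (V ⧸ Submodule.span k {v₁}) = d := by
      have h1 := (Submodule.span k {v₁}).finrank_quotient_add_finrank
      rw [finrank_span_singleton hv₁0, hd] at h1
      omega
    obtain ⟨ih1, ih2⟩ := ih (V ⧸ Submodule.span k {v₁}) _ hinj' hdim
    -- lifting: `φ w - w ∈ U` can be corrected
    have hlift : ∀ w z : V, (Submodule.span k {v₁}).mkQ (φ w - w) =
        (Submodule.span k {v₁}).mkQ z → ∃ w' : V, φ w' - w' = z ∧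
          (Submodule.span k {v₁}).mkQ w' = (Submodule.span k {v₁}).mkQ w := by
      intro w z hwz
      rw [← sub_eq_zero, ← map_sub, Submodule.mkQ_apply, Submodule.Quotient.mk_eq_zero,
        Submodule.mem_span_singleton] at hwz
      obtain ⟨μ, hμ⟩ := hwz
      obtain ⟨t, ht⟩ := exists_artinSchreier_root q hq μ
      refine ⟨w + t • v₁, ?_, ?_⟩
      · rw [map_add, map_smulₛₗ, hσ, hv₁]
        have h3 : φ w - w = z + μ • v₁ := by rw [hμ]; abel
        have h4 : φ w + t ^ q • v₁ - (w + t • v₁) = (φ w - w) + (t ^ q - t) • v₁ := by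
          rw [sub_smul]; abel
        rw [h4, h3, add_assoc, ← add_smul]
        have : μ + (t ^ q - t) = 0 := by linear_combination ht
        rw [this, zero_smul, add_zero]
      · rw [map_add, add_eq_left, Submodule.mkQ_apply, Submodule.Quotient.mk_eq_zero]
        exact Submodule.smul_mem _ _ (Submodule.mem_span_singleton_self v₁)
    refine ⟨?_, ?_⟩
    · -- fixed vectors span
      rw [eq_top_iff]
      have hv₁mem : Submodule.span k {v₁} ≤ Submodule.span k {v : V | φ v = v} :=
        Submodule.span_mono (Set.singleton_subset_iff.mpr hv₁)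
      have hmap : (Submodule.span k {v : V | φ v = v}).map (Submodule.span k {v₁}).mkQ = ⊤ := by
        rw [eq_top_iff, ← ih1, Submodule.span_le]
        intro y hy
        obtain ⟨w, rfl⟩ := (Submodule.span k {v₁}).mkQ_surjective y
        have hy' : (Submodule.span k {v₁}).mkQ (φ w - w) = (Submodule.span k {v₁}).mkQ 0 := by
          rw [map_sub, map_zero, sub_eq_zero]
          exact hy
        obtain ⟨w', hw', hw'w⟩ := hlift w 0 hy'
        rw [← hw'w]
        exact Submodule.mem_map_of_mem (Submodule.subset_span (sub_eq_zero.mp hw'))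
      intro y _
      have hy : (Submodule.span k {v₁}).mkQ y ∈
          (Submodule.span k {v : V | φ v = v}).map (Submodule.span k {v₁}).mkQ := by
        rw [hmap]; trivial
      obtain ⟨y', hy', hyy'⟩ := hy
      have h5 : y - y' ∈ Submodule.span k {v₁} := by
        rw [← Submodule.Quotient.mk_eq_zero, Submodule.Quotient.mk_sub, sub_eq_zero]
        exact hyy'.symm
      have : y = y' + (y - y') := by abel
      rw [this]
      exact Submodule.add_mem _ hy' (hv₁mem h5)
    · -- `φ - 1` is surjective
      intro z
      obtain ⟨yb, hyb⟩ := ih2 ((Submodule.span k {v₁}).mkQ z)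
      obtain ⟨w, rfl⟩ := (Submodule.span k {v₁}).mkQ_surjective yb
      have hw : (Submodule.span k {v₁}).mkQ (φ w - w) = (Submodule.span k {v₁}).mkQ z := by
        rw [map_sub]
        exact hyb
      obtain ⟨w', hw', -⟩ := hlift w z hw
      exact ⟨w', hw'⟩

end Groth.Agent.Lib.Helper86
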