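import Mathlib
import Groth.Agent.Lib.Helper86.Lang
import Groth.Agent.Lib.Helper86.Isoc2

/-!
# Lang's theorem for semilinear maps, for a power of Frobenius or its inverse (helper86)
-/

set_option autoImplicit false

universe u v

namespace Groth.Agent.Lib.Helper86

/-- Lang's theorem, for `σ` the `q`-power map or its inverse. -/
theorem lang_equiv {k : Type u} [Field k] [IsAlgClosed k] (q : ℕ) (hq : 2 ≤ q)
    (σ : k ≃+* k) (hσ : (∀ x, σ x = x ^ q) ∨ (∀ x, (σ x) ^ q = x))
    (V : Type v) [AddCommGroup V] [Module k V] [FiniteDimensional k V]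
    (φ : V →ₛₗ[(σ : k →+* k)] V) (hinj : Function.Injective φ) :
    Submodule.span k {v : V | φ v = v} = ⊤ ∧ ∀ z : V, ∃ y : V, φ y - y = z := by
  rcases hσ with hσ | hσ
  · exact lang_span_and_surj q hq (σ : k →+* k) hσ _ V φ hinj rfl
  · have hsurj : Function.Surjective φ :=
      surjective_of_injective_semilinear (τ := (σ : k →+* k)) σ.surjective φ hinj
    have hbij : Function.Bijective φ := ⟨hinj, hsurj⟩
    let ψf : V → V := Function.surjInv hsurj
    have hψ : ∀ y, φ (ψf y) = y := Function.surjInv_eq hsurj
    have hψ' : ∀ y, ψf (φ y) = y := fun y => hinj (hψ (φ y))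
    have hsymm : ∀ x : k, σ.symm x = x ^ q := by
      intro x
      apply σ.injective
      rw [σ.apply_symm_apply, map_pow, hσ]
    let ψ : V →ₛₗ[(σ.symm : k →+* k)] V :=
      { toFun := ψf
        map_add' := fun x y => by
          apply hinj
          rw [map_add, hψ, hψ, hψ]
        map_smul' := fun c x => by
          apply hinj
          rw [map_smulₛₗ, hψ, hψ]
          simp }
    have hψinj : Function.Injective ψ := by
      intro x y hxy
      have := congrArg φ hxy
      change φ (ψf x) = φ (ψf y) at this
      rwa [hψ, hψ] at this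
    obtain ⟨h1, h2⟩ := lang_span_and_surj q hq (σ.symm : k →+* k) hsymm _ V ψ hψinj rfl
    have hfix : {v : V | ψ v = v} = {v : V | φ v = v} := by
      ext v
      simp only [Set.mem_setOf_eq]
      constructor
      · intro hv
        have := congrArg φ hv
        change φ (ψf v) = φ v at this
        rw [hψ] at this
        exact this.symm
      · intro hv
        have := congrArg ψf hv
        rw [hψ'] at this
        exact this.symm
    refine ⟨by rw [← hfix]; exact h1, fun z => ?_⟩
    obtain ⟨y, hy⟩ := h2 (-z)
    refine ⟨ψ y, ?_⟩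
    have : φ (ψ y) = y := hψ y
    rw [this]
    have h3 : ψ y - y = -z := hy
    rw [← neg_eq_iff_eq_neg] at h3
    rw [← h3]
    abel

end Groth.Agent.Lib.Helper86
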