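import Mathlib
import Groth.Agent.Lib.Helper86.Lang2
import Groth.Agent.Lib.Helper86.Isoc9
import Groth.Agent.Lib.Helper86.Isoc8

/-!
# Lang's theorem over the Witt vectors (helper86)

For a bijective semilinear endomorphism `G` of `W(k)^h` (`k` algebraically closed) whose twist
reduces to a non-trivial power of Frobenius: `G - 1` is surjective and the fixed vectors span
(`wlang`).  Consequence for lattices: `span_fixed_eq_top`.
-/

set_option autoImplicit false
set_option linter.unusedSectionVars false
universe u v
open scoped Isocrystal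

noncomputable section

namespace Groth.Agent.Lib.Helper86

section WLang

variable {p : ℕ} [Fact p.Prime] {k : Type u} [Field k] [CharP k p] [PerfectRing k p]

theorem coeff_zero_frobeniusEquiv_zpow (c : ℤ) (w : WittVector p k) :
    (((WittVector.frobeniusEquiv p k) ^ c) w).coeff 0 =
      ((frobeniusEquiv k p) ^ c) (w.coeff 0) := by
  induction c using Int.induction_on generalizing w with
  | zero => simp
  | succ n ih =>
    rw [zpow_add_one, zpow_add_one, RingAut.mul_apply, RingAut.mul_apply, ih,
      WittVector.frobeniusEquiv_apply, WittVector.coeff_frobenius_charP, frobeniusEquiv_apply,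
      frobenius_def]
  | pred n ih =>
    rw [zpow_sub_one, zpow_sub_one, RingAut.mul_apply, RingAut.mul_apply, ih]
    congr 1

theorem frobeniusEquiv_zpow_natCast (n : ℕ) (x : k) :
    ((frobeniusEquiv k p) ^ (n : ℤ)) x = x ^ (p ^ n) := by
  induction n generalizing x with
  | zero => simp
  | succ n ih =>
    rw [Nat.cast_succ, zpow_add_one, RingAut.mul_apply, ih, frobeniusEquiv_apply, frobenius_def,
      ← pow_mul, pow_succ']

theorem frobeniusEquiv_zpow_neg_natCast (n : ℕ) (x : k) :
    (((frobeniusEquiv k p) ^ (-(n : ℤ))) x) ^ (p ^ n) = x := by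
  rw [← frobeniusEquiv_zpow_natCast, ← RingAut.mul_apply, ← zpow_add, add_neg_cancel, zpow_zero]
  rfl

/-- Reduction modulo `p` of a vector of Witt vectors. -/
def red {h : ℕ} (c : Fin h → WittVector p k) : Fin h → k := fun i => (c i).coeff 0

/-- Teichmüller lift of a vector. -/
def tei {h : ℕ} (v : Fin h → k) : Fin h → WittVector p k := fun i => WittVector.teichmuller p (v i)

theorem red_tei {h : ℕ} (v : Fin h → k) : red (tei (p := p) v) = v := by
  funext i
  exact WittVector.teichmuller_coeff_zero p (v i)

theorem red_add {h : ℕ} (c c' : Fin h → WittVector p k) : red (c + c') = red c + red c' := by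
  funext i
  exact map_add (WittVector.constantCoeff (p := p) (R := k)) (c i) (c' i)

theorem red_sub {h : ℕ} (c c' : Fin h → WittVector p k) : red (c - c') = red c - red c' := by
  funext i
  exact map_sub (WittVector.constantCoeff (p := p) (R := k)) (c i) (c' i)

theorem red_zero {h : ℕ} : red (0 : Fin h → WittVector p k) = 0 := by
  funext i
  exact map_zero (WittVector.constantCoeff (p := p) (R := k))

theorem red_smul {h : ℕ} (w : WittVector p k) (c : Fin h → WittVector p k) :
    red (w • c) = w.coeff 0 • red c := by
  funext i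
  exact map_mul (WittVector.constantCoeff (p := p) (R := k)) w (c i)

theorem red_p_smul {h : ℕ} (c : Fin h → WittVector p k) :
    red ((p : WittVector p k) • c) = 0 := by
  rw [red_smul]
  have : (p : WittVector p k).coeff 0 = 0 := by
    have := (WittVector.mem_span_p_iff_coeff_zero_eq_zero (p := p) (k := k) (p : WittVector p k)).mp
      (Ideal.mem_span_singleton_self _)
    exact this
  rw [this, zero_smul]

theorem red_eq_zero_iff {h : ℕ} (c : Fin h → WittVector p k) :
    red c = 0 ↔ ∃ d : Fin h → WittVector p k, c = (p : WittVector p k) • d := by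
  constructor
  · intro hc
    have : ∀ i, ∃ d : WittVector p k, c i = (p : WittVector p k) * d := by
      intro i
      have h1 : (c i).coeff 0 = 0 := congrFun hc i
      have h2 := (WittVector.mem_span_p_iff_coeff_zero_eq_zero (p := p) (k := k) (c i)).mpr h1
      rw [Ideal.mem_span_singleton] at h2
      exact h2
    choose d hd using this
    exact ⟨d, funext hd⟩
  · rintro ⟨d, rfl⟩
    exact red_p_smul d

theorem eq_zero_of_forall_pow_dvd (w : WittVector p k)
    (hw : ∀ n : ℕ, (p : WittVector p k) ^ n ∣ w) : w = 0 := by
  by_contra hne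
  obtain ⟨m, u, rfl⟩ := WittVector.exists_eq_pow_p_mul' w hne
  obtain ⟨d, hd⟩ := hw (m + 1)
  rw [pow_succ, mul_assoc] at hd
  have hpm : (p : WittVector p k) ^ m ≠ 0 := pow_ne_zero m (WittVector.p_nonzero p k)
  have h1 : (u : WittVector p k) = (p : WittVector p k) * d := mul_left_cancel₀ hpm hd
  have h2 : IsUnit ((p : WittVector p k) * d) := h1 ▸ u.isUnit
  have h3 : IsUnit (p : WittVector p k) := isUnit_of_mul_isUnit_left h2
  exact (WittVector.irreducible p).not_isUnit h3

variable [IsAlgClosed k]

/-- Lang's theorem over `W(k)`: for a bijective semilinear endomorphism of `W^h` whose twist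
reduces to a nontrivial power of Frobenius, `G - 1` is surjective and the fixed vectors span. -/
theorem wlang {h : ℕ} (e : WittVector p k ≃+* WittVector p k) (σ : k ≃+* k)
    (hred : ∀ w : WittVector p k, (e w).coeff 0 = σ (w.coeff 0))
    (q : ℕ) (hq : 2 ≤ q) (hσ : (∀ x, σ x = x ^ q) ∨ (∀ x, (σ x) ^ q = x))
    (G : (Fin h → WittVector p k) →ₛₗ[(e : WittVector p k →+* WittVector p k)]
      (Fin h → WittVector p k)) (hG : Function.Bijective G) :
    (∀ z, ∃ y, G y - y = z) ∧
      Submodule.span (WittVector p k) {c | G c = c} = ⊤ := by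
  have hGp : ∀ (n : ℕ) (c : Fin h → WittVector p k),
      G (((p : WittVector p k) ^ n) • c) = ((p : WittVector p k) ^ n) • G c := by
    intro n c
    rw [map_smulₛₗ]
    congr 1
    simp
  have hGp1 : ∀ c : Fin h → WittVector p k,
      G ((p : WittVector p k) • c) = (p : WittVector p k) • G c := by
    intro c
    have := hGp 1 c
    simpa using this
  -- the key congruence
  have hK : ∀ c c' : Fin h → WittVector p k, red c = red c' → red (G c) = red (G c') := by
    intro c c' hcc
    have h1 : red (c - c') = 0 := by rw [red_sub, hcc, sub_self]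
    obtain ⟨d, hd⟩ := (red_eq_zero_iff _).mp h1
    have h2 : G c - G c' = (p : WittVector p k) • G d := by
      rw [← map_sub, hd, hGp1]
    have h3 : red (G c - G c') = 0 := by rw [h2, red_p_smul]
    rw [red_sub] at h3
    exact sub_eq_zero.mp h3
  -- the reduction of `G`
  let φ : (Fin h → k) →ₛₗ[(σ : k →+* k)] (Fin h → k) :=
    { toFun := fun v => red (G (tei v))
      map_add' := fun v v' => by
        rw [← red_add, ← map_add]
        apply hK
        rw [red_add, red_tei, red_tei, red_tei]
      map_smul' := fun a v => by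
        have h1 : red (G (tei (a • v))) = red (G (WittVector.teichmuller p a • tei v)) := by
          apply hK
          rw [red_smul, red_tei, red_tei, WittVector.teichmuller_coeff_zero]
        rw [h1, map_smulₛₗ, red_smul]
        congr 1
        show (e (WittVector.teichmuller p a)).coeff 0 = σ a
        rw [hred, WittVector.teichmuller_coeff_zero] }
  have hφ : ∀ c, red (G c) = φ (red c) := by
    intro c
    show red (G c) = red (G (tei (red c)))
    apply hK
    rw [red_tei]
  have hφinj : Function.Injective φ := by
    rw [injective_iff_map_eq_zero]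
    intro v hv
    have h1 : red (G (tei v)) = 0 := hv
    obtain ⟨d, hd⟩ := (red_eq_zero_iff _).mp h1
    obtain ⟨d', rfl⟩ := hG.2 d
    rw [← hGp1] at hd
    have h2 := hG.1 hd
    rw [← red_tei (p := p) v, h2, red_p_smul]
  obtain ⟨hL1, hL2⟩ := lang_equiv q hq σ hσ (Fin h → k) φ hφinj
  -- solvability modulo `p`
  have hS1 : ∀ z : Fin h → WittVector p k, ∃ y z' : Fin h → WittVector p k,
      z - (G y - y) = (p : WittVector p k) • z' := by
    intro z
    obtain ⟨u, hu⟩ := hL2 (red z)
    have h1 : red (z - (G (tei u) - tei u)) = 0 := by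
      rw [red_sub, red_sub, hφ, red_tei, hu, sub_self]
    obtain ⟨z', hz'⟩ := (red_eq_zero_iff _).mp h1
    exact ⟨tei u, z', hz'⟩
  -- exact solvability
  have hS2 : ∀ z : Fin h → WittVector p k, ∃ y, G y - y = z := by
    intro z
    choose f g hfg using hS1
    let zs : ℕ → (Fin h → WittVector p k) := fun n => g^[n] z
    have hzs : ∀ n, zs n - (G (f (zs n)) - f (zs n)) = (p : WittVector p k) • zs (n + 1) := by
      intro n
      rw [hfg]
      show _ = (p : WittVector p k) • g^[n + 1] z
      rw [Function.iterate_succ_apply']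
    let Y : ℕ → (Fin h → WittVector p k) := fun n =>
      ∑ i ∈ Finset.range n, ((p : WittVector p k) ^ i) • f (zs i)
    have hYsucc : ∀ n, Y (n + 1) = Y n + ((p : WittVector p k) ^ n) • f (zs n) := fun n =>
      Finset.sum_range_succ _ n
    have hY : ∀ n, G (Y n) - Y n = z - ((p : WittVector p k) ^ n) • zs n := by
      intro n
      induction n with
      | zero => simp [Y, zs]
      | succ n ih =>
        rw [hYsucc, map_add, hGp, pow_succ, mul_smul, ← hzs n]
        have : G (Y n) + (p : WittVector p k) ^ n • G (f (zs n)) -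
            (Y n + (p : WittVector p k) ^ n • f (zs n)) =
            (G (Y n) - Y n) + (p : WittVector p k) ^ n • (G (f (zs n)) - f (zs n)) := by
          rw [smul_sub]; abel
        rw [this, ih, smul_sub, smul_sub, smul_sub]
        abel
    -- the limit
    have hlim : ∀ i : Fin h, ∃ a : WittVector p k, ∀ n, (p : WittVector p k) ^ n ∣ a - Y n i := by
      intro i
      apply witt_exists_limit
      intro n
      rw [hYsucc]
      refine ⟨f (zs n) i, ?_⟩
      simp
    choose a ha using hlim
    choose d hd using ha
    refine ⟨a, ?_⟩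
    have hdiff : ∀ n, a - Y n = ((p : WittVector p k) ^ n) • (fun i => d i n) := by
      intro n
      funext i
      exact hd i n
    rw [← sub_eq_zero]
    funext i
    apply eq_zero_of_forall_pow_dvd
    intro n
    have h1 : G a - a - z = ((p : WittVector p k) ^ n) •
        (G (fun i => d i n) - (fun i => d i n) - zs n) := by
      have h2 : a = Y n + ((p : WittVector p k) ^ n) • (fun i => d i n) := by
        rw [← hdiff]; abel
      conv_lhs => rw [h2]
      rw [map_add, hGp]
      have h3 : G (Y n) = Y n + (z - ((p : WittVector p k) ^ n) • zs n) := by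
        rw [← hY]; abel
      rw [h3, smul_sub, smul_sub]
      abel
    rw [h1]
    exact ⟨_, rfl⟩
  refine ⟨hS2, ?_⟩
  -- fixed vectors span
  set S := Submodule.span (WittVector p k) {c : Fin h → WittVector p k | G c = c} with hS
  have hP : ∀ v : Fin h → k, ∃ x ∈ S, red x = v := by
    intro v
    have hv : v ∈ Submodule.span k {v : Fin h → k | φ v = v} := by rw [hL1]; trivial
    induction hv using Submodule.span_induction with
    | mem v hv =>
      have hv' : φ v = v := hv
      have h1 : red (G (tei v) - tei v) = 0 := by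
        rw [red_sub, hφ, red_tei, hv', sub_self]
      obtain ⟨z₁, hz₁⟩ := (red_eq_zero_iff _).mp h1
      obtain ⟨y, hy⟩ := hS2 z₁
      refine ⟨tei v - (p : WittVector p k) • y, Submodule.subset_span ?_, ?_⟩
      · show G (tei v - (p : WittVector p k) • y) = tei v - (p : WittVector p k) • y
        rw [map_sub, hGp1]
        have h2 : G (tei v) = tei v + (p : WittVector p k) • z₁ := by rw [← hz₁]; abel
        rw [h2, ← hy, smul_sub]
        abel
      · rw [red_sub, red_tei, red_p_smul, sub_zero]
    | zero => exact ⟨0, Submodule.zero_mem _, red_zero⟩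
    | add v v' _ _ hv hv' =>
      obtain ⟨x, hx, rfl⟩ := hv
      obtain ⟨x', hx', rfl⟩ := hv'
      exact ⟨x + x', Submodule.add_mem _ hx hx', red_add x x'⟩
    | smul a v _ hv =>
      obtain ⟨x, hx, rfl⟩ := hv
      refine ⟨WittVector.teichmuller p a • x, Submodule.smul_mem _ _ hx, ?_⟩
      rw [red_smul, WittVector.teichmuller_coeff_zero]
  have hle : (⊤ : Submodule (WittVector p k) (Fin h → WittVector p k)) ≤
      S ⊔ (Ideal.span {(p : WittVector p k)}) • (⊤ : Submodule (WittVector p k) _) := by
    intro z _
    obtain ⟨x, hx, hxz⟩ := hP (red z)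
    have h1 : red (z - x) = 0 := by rw [red_sub, hxz, sub_self]
    obtain ⟨d, hd⟩ := (red_eq_zero_iff _).mp h1
    have h2 : z = x + (p : WittVector p k) • d := by rw [← hd]; abel
    rw [h2]
    apply Submodule.add_mem_sup hx
    exact Submodule.smul_mem_smul (Ideal.mem_span_singleton_self _) Submodule.mem_top
  have hjac : Ideal.span {(p : WittVector p k)} ≤ Ideal.jacobson ⊥ := by
    rw [IsLocalRing.jacobson_eq_maximalIdeal ⊥ bot_ne_top,
      (WittVector.irreducible p).maximalIdeal_eq]
  have := Submodule.le_of_le_smul_of_le_jacobson_bot (Module.Finite.fg_top) hjac hle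
  exact top_le_iff.mp this

variable {N : Type v} [AddCommGroup N] [Module (WittVector p k) N] [Module K(p, k) N]
  [IsScalarTower (WittVector p k) K(p, k) N]
variable {τ : K(p, k) →+* K(p, k)} {e : WittVector p k ≃+* WittVector p k}

/-- If `G M = M` for a lattice `M` and the twist of `G` reduces to a nontrivial power of Frobenius,
the fixed vectors of `G` span. -/
theorem span_fixed_eq_top (hτ : WCompat τ e) (σ : k ≃+* k)
    (hred : ∀ w : WittVector p k, (e w).coeff 0 = σ (w.coeff 0))
    (q : ℕ) (hq : 2 ≤ q) (hσ : (∀ x, σ x = x ^ q) ∨ (∀ x, (σ x) ^ q = x))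
    [Module.Finite K(p, k) N] (G : N →ₛₗ[τ] N) (hG : Function.Injective G)
    {M : Submodule (WittVector p k) N} (hM : M.IsLattice K(p, k))
    (hGM : Isoc.latImg G 1 M = M) :
    Submodule.span K(p, k) {x : N | G x = x} = ⊤ := by
  obtain ⟨h, hh⟩ : ∃ h, Module.finrank K(p, k) N = h := ⟨_, rfl⟩
  obtain ⟨b, rfl⟩ := exists_basis_stdLat_eq hM hh
  let β := b.restrictScalars (WittVector p k)
  let cd : ↥(stdLat b) ≃ₗ[WittVector p k] (Fin h → WittVector p k) := β.equivFun
  have hmem : ∀ x ∈ stdLat b, G x ∈ stdLat b := by
    intro x hx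
    have : G x ∈ Isoc.latImg G 1 (stdLat b) := (mem_latImg hτ).mpr ⟨x, hx, rfl⟩
    rwa [hGM] at this
  let GM : ↥(stdLat b) →ₛₗ[(e : WittVector p k →+* WittVector p k)] ↥(stdLat b) :=
    (toW G hτ).restrict hmem
  have hGMval : ∀ x : ↥(stdLat b), ((GM x : ↥(stdLat b)) : N) = G (x : N) := fun x => rfl
  let Gc : (Fin h → WittVector p k) →ₛₗ[(e : WittVector p k →+* WittVector p k)]
      (Fin h → WittVector p k) :=
    { toFun := fun c => cd (GM (cd.symm c))
      map_add' := fun c c' => by rw [map_add, map_add, map_add]
      map_smul' := fun w c => by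
        rw [map_smul, map_smulₛₗ, map_smul] }
  have hGc : ∀ c, Gc c = cd (GM (cd.symm c)) := fun c => rfl
  have hGcbij : Function.Bijective Gc := by
    constructor
    · intro c c' hcc
      rw [hGc, hGc] at hcc
      have h1 := cd.injective hcc
      have h2 : (cd.symm c : N) = (cd.symm c' : N) := by
        apply hG
        rw [← hGMval, ← hGMval, h1]
      exact cd.symm.injective (Subtype.ext h2)
    · intro c
      have h1 : ((cd.symm c : ↥(stdLat b)) : N) ∈ Isoc.latImg G 1 (stdLat b) := by
        rw [hGM]; exact (cd.symm c).2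
      obtain ⟨x, hx, hxy⟩ := (mem_latImg hτ).mp h1
      refine ⟨cd ⟨x, hx⟩, ?_⟩
      rw [hGc, cd.symm_apply_apply]
      have : GM ⟨x, hx⟩ = cd.symm c := Subtype.ext hxy
      rw [this, cd.apply_symm_apply]
  obtain ⟨-, hspan⟩ := wlang e σ hred q hq hσ Gc hGcbij
  have key : ∀ c : Fin h → WittVector p k,
      ((cd.symm c : ↥(stdLat b)) : N) ∈ Submodule.span K(p, k) {x : N | G x = x} := by
    intro c
    have hc : c ∈ Submodule.span (WittVector p k) {c | Gc c = c} := by rw [hspan]; trivial
    induction hc using Submodule.span_induction with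
    | mem c hc =>
      apply Submodule.subset_span
      have h1 : cd (GM (cd.symm c)) = c := hc
      have h2 : GM (cd.symm c) = cd.symm c := by
        apply cd.injective
        rw [h1, cd.apply_symm_apply]
      show G ((cd.symm c : ↥(stdLat b)) : N) = ((cd.symm c : ↥(stdLat b)) : N)
      rw [← hGMval, h2]
    | zero => rw [map_zero]; exact Submodule.zero_mem _
    | add c c' _ _ hc hc' =>
      rw [map_add]
      exact Submodule.add_mem _ hc hc'
    | smul w c _ hc =>
      rw [map_smul]
      have : ((w • cd.symm c : ↥(stdLat b)) : N) =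
          algebraMap (WittVector p k) K(p, k) w • ((cd.symm c : ↥(stdLat b)) : N) := by
        rw [algebraMap_smul]; rfl
      rw [this]
      exact Submodule.smul_mem _ _ hc
  rw [eq_top_iff, ← (isLattice_stdLat b).span_eq_top, Submodule.span_le]
  intro x hx
  have := key (cd ⟨x, hx⟩)
  rwa [cd.symm_apply_apply] at this

end WLang

end Groth.Agent.Lib.Helper86
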