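import Mathlib
import Groth.Agent.Lib.Helper86.Isoc15
import Groth.Agent.Lib.Helper86.Isoc11
import Groth.Agent.S17143

/-!
# Eigenvectors `F^s x = p^r x` span an isoclinic isocrystal of slope `r/s` over an algebraically
closed field (helper86)
-/

set_option autoImplicit false
set_option linter.unusedSectionVars false
universe u v
open scoped Isocrystal

noncomputable section

namespace Groth.Agent.Lib.Helper86

open Groth.Agent.S17143 Groth.Agent.S17151

section

variable {p : ℕ} [Fact p.Prime] {k : Type u} [Field k] [CharP k p] [PerfectRing k p]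
variable {N : Type v} [AddCommGroup N] [Module (WittVector p k) N] [Module K(p, k) N]
  [IsScalarTower (WittVector p k) K(p, k) N]
variable {τ : K(p, k) →+* K(p, k)} {e : WittVector p k ≃+* WittVector p k}

theorem latImg_le_sumIt (hτ : WCompat τ e) (G : N →ₛₗ[τ] N) (M : Submodule (WittVector p k) N)
    (i : ℕ) : Isoc.latImg G i M ≤ sumIt G M i := by
  induction i with
  | zero => rw [latImg_zero]; exact le_rfl
  | succ i ih =>
    have : Isoc.latImg G (i + 1) M = Isoc.latImg G 1 (Isoc.latImg G i M) := by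
      rw [add_comm, latImg_add hτ]
    rw [this, sumIt_succ]
    exact (latImg_mono G 1 ih).trans le_sup_right

theorem sumIt_le_latImg (hτ : WCompat τ e) (G : N →ₛₗ[τ] N) {M : Submodule (WittVector p k) N}
    (j : ℕ) (h : M ≤ Isoc.latImg G (j + 1) M) :
    sumIt G M j ≤ Isoc.latImg G 1 (sumIt G M j) := by
  have hM : M ≤ Isoc.latImg G 1 (sumIt G M j) := by
    refine h.trans ?_
    rw [add_comm, latImg_add hτ]
    exact latImg_mono G 1 (latImg_le_sumIt hτ G M j)
  cases j with
  | zero => exact hM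
  | succ n =>
    rw [sumIt_succ]
    refine sup_le ?_ (latImg_mono G 1 (sumIt_le_succ G M n))
    rw [← sumIt_succ]
    exact hM

theorem latImg_sumIt_eq (hτ : WCompat τ e) (G : N →ₛₗ[τ] N) {M : Submodule (WittVector p k) N}
    (j : ℕ) (h : Isoc.latImg G (j + 1) M = M) :
    Isoc.latImg G 1 (sumIt G M j) = sumIt G M j :=
  le_antisymm (latImg_sumIt_le_self hτ G j h.le) (sumIt_le_latImg hτ G j h.ge)

variable [IsAlgClosed k]

/-- `span_fixed_eq_top` for a power of `σ^a`, `a ≠ 0`. -/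
theorem span_fixed_eq_top_frob (a : ℤ) (ha : a ≠ 0) (s : ℕ) (hs : 0 < s)
    [Module.Finite K(p, k) N] (G : N →ₛₗ[(Isoc.frob p k a) ^ s] N) (hG : Function.Injective G)
    {M : Submodule (WittVector p k) N} (hM : M.IsLattice K(p, k))
    (hGM : Isoc.latImg G 1 M = M) :
    Submodule.span K(p, k) {x : N | G x = x} = ⊤ := by
  have hτ := (WCompat.frob (p := p) (k := k) a).pow s
  have he : (WittVector.frobeniusEquiv p k ^ a) ^ s = WittVector.frobeniusEquiv p k ^ (a * s) := by
    rw [zpow_mul, zpow_natCast]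
  have hred : ∀ w : WittVector p k, (((WittVector.frobeniusEquiv p k ^ a) ^ s) w).coeff 0 =
      ((frobeniusEquiv k p) ^ (a * s)) (w.coeff 0) := by
    intro w
    rw [he, coeff_zero_frobeniusEquiv_zpow]
  have hne : a * (s : ℤ) ≠ 0 := mul_ne_zero ha (by exact_mod_cast hs.ne')
  have hp2 : 2 ≤ p := (Fact.out : p.Prime).two_le
  obtain ⟨n, hn1, hn⟩ : ∃ n : ℕ, 1 ≤ n ∧ (a * (s : ℤ) = n ∨ a * (s : ℤ) = -n) :=
    ⟨(a * (s : ℤ)).natAbs, Int.natAbs_pos.mpr hne, Int.natAbs_eq _⟩
  have hq : 2 ≤ p ^ n := by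
    calc 2 ≤ p := hp2
      _ = p ^ 1 := (pow_one p).symm
      _ ≤ p ^ n := Nat.pow_le_pow_right (by omega) hn1
  refine span_fixed_eq_top hτ ((frobeniusEquiv k p) ^ (a * s)) hred (p ^ n) hq ?_ G hG hM hGM
  rcases hn with h1 | h1
  · left
    intro x
    rw [h1]
    exact frobeniusEquiv_zpow_natCast n x
  · right
    intro x
    rw [h1]
    exact frobeniusEquiv_zpow_neg_natCast n x

/-- In an isoclinic isocrystal of slope `r/s` over an algebraically closed field, the vectors with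
`F^s x = p^r x` span. -/
theorem span_eigen_eq_top (a : ℤ) (ha : a ≠ 0) [Module.Finite K(p, k) N]
    (F : N →ₛₗ[Isoc.frob p k a] N) (hF : Function.Injective F) (r : ℤ) (s : ℕ) (hs : 0 < s)
    (j : ℕ) (hj : 0 < j) (hamb : AmbIsoclinic F ⊤ (r * j) (s * j)) :
    Submodule.span K(p, k) {x : N | (⇑F)^[s] x = ((p : K(p, k)) ^ r) • x} = ⊤ := by
  have hτ := WCompat.frob (p := p) (k := k) a
  obtain ⟨M, hfg, hspan, hM⟩ := hamb
  obtain ⟨j', rfl⟩ : ∃ j', j = j' + 1 := ⟨j - 1, by omega⟩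
  set G : N →ₛₗ[(Isoc.frob p k a) ^ s] N := ((p : K(p, k)) ^ (-r)) • Isoc.iter F s with hGdef
  have hGapp : ∀ x, G x = ((p : K(p, k)) ^ (-r)) • (⇑F)^[s] x := fun x => rfl
  have hGj : Isoc.latImg G (j' + 1) M = M := by
    rw [hGdef, latImg_twist hτ, hM, pPow_pPow]
    have : -r * ((j' + 1 : ℕ) : ℤ) + r * ((j' + 1 : ℕ) : ℤ) = 0 := by ring
    rw [this, pPow_zero]
  have hMlat : M.IsLattice K(p, k) := ⟨hfg, hspan⟩
  have hGinj : Function.Injective G := by
    intro x y hxy
    rw [hGapp, hGapp] at hxy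
    have h1 := smul_right_injective N (pL_zpow_ne_zero (p := p) (k := k) (-r)) hxy
    exact (hF.iterate s) h1
  have := span_fixed_eq_top_frob a ha s hs G hGinj (isLattice_sumIt (hτ.pow s) G hMlat j')
    (latImg_sumIt_eq (hτ.pow s) G j' hGj)
  rw [← this]
  congr 1
  ext x
  simp only [Set.mem_ofPred_eq, hGapp]
  constructor
  · intro hx
    rw [hx, smul_smul, ← zpow_add₀ pL_ne_zero, neg_add_cancel, zpow_zero, one_smul]
  · intro hx
    calc (⇑F)^[s] x = ((p : K(p, k)) ^ r) • (((p : K(p, k)) ^ (-r)) • (⇑F)^[s] x) := by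
          rw [smul_smul, ← zpow_add₀ pL_ne_zero, add_neg_cancel, zpow_zero, one_smul]
      _ = ((p : K(p, k)) ^ r) • x := by rw [hx]

/-- A good subspace of slope `μ` is spanned by its vectors with `F^den x = p^num x`. -/
theorem Good.le_span_eigen (a : ℤ) (ha : a ≠ 0) [Module.Finite K(p, k) N]
    (F : N →ₛₗ[Isoc.frob p k a] N) (hF : Function.Injective F) {μ : ℚ}
    {P : Submodule K(p, k) N} (hP : Good F μ P) :
    P ≤ Submodule.span K(p, k)
      {x : N | x ∈ P ∧ (⇑F)^[μ.den] x = ((p : K(p, k)) ^ μ.num) • x} := by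
  have hτ := WCompat.frob (p := p) (k := k) a
  obtain ⟨hPs, j, hj, hamb⟩ := hP
  have h1 : AmbIsoclinic (F.restrict hPs) ⊤ (μ.num * j) (μ.den * j) :=
    AmbIsoclinic.of_map_injective hτ P.subtype (fun x => rfl) P.subtype_injective
      (by rwa [Submodule.map_subtype_top])
  have h2 := span_eigen_eq_top a ha (F.restrict hPs) (restrict_injective hF hPs) μ.num μ.den
    μ.den_pos j hj h1
  intro x hx
  have h3 : (⟨x, hx⟩ : P) ∈ Submodule.span K(p, k)
      {y : P | (⇑(F.restrict hPs))^[μ.den] y = ((p : K(p, k)) ^ μ.num) • y} := by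
    rw [h2]; trivial
  have h4 := Submodule.mem_map_of_mem (f := P.subtype) h3
  rw [Submodule.map_span] at h4
  refine Submodule.span_mono ?_ h4
  rintro _ ⟨y, hy, rfl⟩
  refine ⟨y.2, ?_⟩
  have h5 := iterate_comm (F := F.restrict hPs) (F' := F) P.subtype (fun x => rfl) μ.den y
  rw [← h5]
  have h6 : (⇑(F.restrict hPs))^[μ.den] y = ((p : K(p, k)) ^ μ.num) • y := hy
  rw [h6]
  rfl

end

end Groth.Agent.Lib.Helper86
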