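import Mathlib
import Groth.Agent.Lib.Helper86.Isoc16
import Groth.Agent.Lib.Helper86.Isoc13
import Groth.Agent.S17153

/-!
# Semisimplicity of isocrystals over an algebraically closed field (helper86)
-/

set_option autoImplicit false
set_option linter.unusedSectionVars false
universe u v
open scoped Isocrystal

noncomputable section

namespace Groth.Agent.Lib.Helper86

open Groth.Agent.S17143 Groth.Agent.S17151

section General

variable {K : Type*} [Field K] {τ : K →+* K} {V : Type*} [AddCommGroup V] [Module K V]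

/-- `F`-stable subspace. -/
def Stable (F : V →ₛₗ[τ] V) (P : Submodule K V) : Prop := ∀ x ∈ P, F x ∈ P

/-- Simple `F`-stable subspace. -/
def Simple (F : V →ₛₗ[τ] V) (S : Submodule K V) : Prop :=
  Stable F S ∧ S ≠ ⊥ ∧ ∀ T : Submodule K V, Stable F T → T ≤ S → T = ⊥ ∨ T = S

theorem Stable.sup {F : V →ₛₗ[τ] V} {P Q : Submodule K V} (hP : Stable F P) (hQ : Stable F Q) :
    Stable F (P ⊔ Q) := by
  intro x hx
  obtain ⟨y, hy, z, hz, rfl⟩ := Submodule.mem_sup.mp hx
  rw [map_add]
  exact Submodule.add_mem_sup (hP y hy) (hQ z hz)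

theorem Stable.inf {F : V →ₛₗ[τ] V} {P Q : Submodule K V} (hP : Stable F P) (hQ : Stable F Q) :
    Stable F (P ⊓ Q) := fun x hx => ⟨hP x hx.1, hQ x hx.2⟩

theorem stable_bot (F : V →ₛₗ[τ] V) : Stable F (⊥ : Submodule K V) := by
  intro x hx
  rw [Submodule.mem_bot] at hx
  rw [hx, map_zero]
  exact Submodule.zero_mem _

/-- If the space is a sum of simple stable subspaces, every stable subspace has a stable
complement. -/
theorem exists_stable_isCompl [FiniteDimensional K V] (F : V →ₛₗ[τ] V)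
    (hsum : sSup {S : Submodule K V | Simple F S} = ⊤) {P : Submodule K V} (hP : Stable F P) :
    ∃ Q : Submodule K V, Stable F Q ∧ IsCompl P Q := by
  have hwf : WellFounded ((· > ·) : Submodule K V → _ → Prop) := wellFounded_gt
  obtain ⟨Q, ⟨hQs, hQd⟩, hmax⟩ := hwf.has_min {Q | Stable F Q ∧ Disjoint P Q}
    ⟨⊥, stable_bot F, disjoint_bot_right⟩
  refine ⟨Q, hQs, hQd, ?_⟩
  rw [codisjoint_iff]
  by_contra hne
  have hex : ∃ S, Simple F S ∧ ¬ S ≤ P ⊔ Q := by
    by_contra hcon
    push Not at hcon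
    apply hne
    rw [eq_top_iff, ← hsum]
    exact sSup_le (fun S hS => hcon S hS)
  obtain ⟨S, ⟨hSs, hSne, hSmin⟩, hSle⟩ := hex
  have hinf : S ⊓ (P ⊔ Q) = ⊥ := by
    rcases hSmin (S ⊓ (P ⊔ Q)) (hSs.inf (hP.sup hQs)) inf_le_left with h | h
    · exact h
    · exfalso
      apply hSle
      rw [← h]
      exact inf_le_right
  have hdisj : Disjoint P (Q ⊔ S) := by
    rw [Submodule.disjoint_def]
    intro x hxP hxQS
    obtain ⟨q, hq, s, hs, rfl⟩ := Submodule.mem_sup.mp hxQS
    have hs' : s ∈ S ⊓ (P ⊔ Q) := by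
      refine ⟨hs, ?_⟩
      have : s = (q + s) - q := by abel
      rw [this]
      exact Submodule.sub_mem _ (Submodule.mem_sup_left hxP) (Submodule.mem_sup_right hq)
    rw [hinf, Submodule.mem_bot] at hs'
    rw [hs', add_zero] at hxP ⊢
    exact (Submodule.disjoint_def.mp hQd) q hxP hq
  have hlt : Q ⊔ S > Q := by
    refine lt_of_le_of_ne le_sup_left ?_
    intro heq
    apply hSle
    calc S ≤ Q ⊔ S := le_sup_right
      _ = Q := heq.symm
      _ ≤ P ⊔ Q := le_sup_right
  exact hmax (Q ⊔ S) ⟨hQs.sup hSs, hdisj⟩ hlt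

end General

section Orbit

variable {p : ℕ} [Fact p.Prime] {k : Type u} [Field k] [CharP k p] [PerfectRing k p]
variable {N : Type v} [AddCommGroup N] [Module (WittVector p k) N] [Module K(p, k) N]
  [IsScalarTower (WittVector p k) K(p, k) N]
variable {τ : K(p, k) →+* K(p, k)} {e : WittVector p k ≃+* WittVector p k}

/-- The map `c ↦ ∑ c_i F^i x` from `L^s`. -/
def orbitMap (F : N →ₛₗ[τ] N) (x : N) (s : ℕ) : (Fin s → K(p, k)) →ₗ[K(p, k)] N :=
  Fintype.linearCombination K(p, k) (fun i : Fin s => (⇑F)^[i.val] x)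

theorem orbitMap_apply (F : N →ₛₗ[τ] N) (x : N) (s : ℕ) (c : Fin s → K(p, k)) :
    orbitMap F x s c = ∑ i, c i • (⇑F)^[i.val] x :=
  Fintype.linearCombination_apply _ _ _

theorem orbitMap_single (F : N →ₛₗ[τ] N) (x : N) {s : ℕ} (hs : 0 < s) :
    orbitMap F x s (Pi.single ⟨0, hs⟩ 1) = x := by
  unfold orbitMap
  rw [Fintype.linearCombination_apply_single]
  simp

theorem orbitMap_stdIsoc (hτ : WCompat τ e) (F : N →ₛₗ[τ] N) {x : N} {r : ℤ} {s : ℕ}
    (hx : (⇑F)^[s] x = ((p : K(p, k)) ^ r) • x) (c : Fin s → K(p, k)) :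
    orbitMap F x s (Isoc.stdIsoc τ r s c) = F (orbitMap F x s c) := by
  rw [orbitMap_apply, orbitMap_apply, map_sum]
  rw [← Equiv.sum_comp (finRotate s).symm (fun i => F (c i • (⇑F)^[i.val] x))]
  refine Finset.sum_congr rfl fun i _ => ?_
  rw [map_smulₛₗ, ← Function.iterate_succ_apply' (⇑F), Isoc.stdIsoc_apply, val_finRotate_symm]
  have hi := i.isLt
  by_cases h0 : i.val = 0
  · rw [if_pos h0, if_pos h0, show (s - 1).succ = s by omega, hx, smul_smul, h0,
      Function.iterate_zero, id, mul_comm]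
  · rw [if_neg h0, if_neg h0, one_mul, show (i.val - 1).succ = i.val by omega]

end Orbit

section Simple

variable {p : ℕ} [Fact p.Prime] {k : Type u} [Field k] [CharP k p] [PerfectRing k p]
variable {N : Type v} [AddCommGroup N] [Module (WittVector p k) N] [Module K(p, k) N]
  [IsScalarTower (WittVector p k) K(p, k) N]

theorem simple_range_orbitMap (a : ℤ) (F : N →ₛₗ[Isoc.frob p k a] N) {x : N} (hx0 : x ≠ 0)
    {r : ℤ} {s : ℕ} (hs : 0 < s) (hrs : Int.gcd r s = 1)
    (hx : (⇑F)^[s] x = ((p : K(p, k)) ^ r) • x) :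
    Simple F (LinearMap.range (orbitMap F x s)) ∧ Function.Injective (orbitMap F x s) := by
  have hτ := WCompat.frob (p := p) (k := k) a
  have heq := orbitMap_stdIsoc hτ F hx
  have hxmem : x ∈ LinearMap.range (orbitMap F x s) := ⟨_, orbitMap_single F x hs⟩
  have hcomap : ∀ T : Submodule K(p, k) N, Stable F T →
      T.comap (orbitMap F x s) = ⊥ ∨ T.comap (orbitMap F x s) = ⊤ := by
    intro T hT
    apply Groth.Agent.S17153.result p k a r s hs hrs
    intro c hc
    rw [Submodule.mem_comap] at hc ⊢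
    rw [heq]
    exact hT _ hc
  refine ⟨⟨?_, ?_, ?_⟩, ?_⟩
  · rintro _ ⟨c, rfl⟩
    exact ⟨_, heq c⟩
  · intro hbot
    rw [hbot, Submodule.mem_bot] at hxmem
    exact hx0 hxmem
  · intro T hT hTle
    rcases hcomap T hT with h | h
    · left
      rw [eq_bot_iff]
      intro t ht
      obtain ⟨c, rfl⟩ := hTle ht
      have hc : c ∈ T.comap (orbitMap F x s) := ht
      rw [h, Submodule.mem_bot] at hc
      rw [hc, map_zero]
      exact Submodule.zero_mem _
    · right
      apply le_antisymm hTle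
      rintro _ ⟨c, rfl⟩
      have hc : c ∈ T.comap (orbitMap F x s) := by rw [h]; trivial
      exact hc
  · have hker : LinearMap.ker (orbitMap F x s) = ⊥ := by
      have h1 : LinearMap.ker (orbitMap F x s) = (⊥ : Submodule K(p, k) N).comap (orbitMap F x s) :=
        rfl
      rcases hcomap ⊥ (stable_bot F) with h | h
      · rw [h1, h]
      · exfalso
        have hc : (Pi.single ⟨0, hs⟩ 1 : Fin s → K(p, k)) ∈
            (⊥ : Submodule K(p, k) N).comap (orbitMap F x s) := by rw [h]; trivial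
        rw [Submodule.mem_comap, orbitMap_single, Submodule.mem_bot] at hc
        exact hx0 hc
    exact LinearMap.ker_eq_bot.mp hker

variable [IsAlgClosed k]

/-- Over an algebraically closed field, an isocrystal is the sum of its simple subobjects. -/
theorem sSup_simple_eq_top (a : ℤ) (ha : a ≠ 0) [Module.Finite K(p, k) N]
    (F : N →ₛₗ[Isoc.frob p k a] N) (hF : Function.Injective F) :
    sSup {S : Submodule K(p, k) N | Simple F S} = ⊤ := by
  have hτ := WCompat.frob (p := p) (k := k) a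
  rw [eq_top_iff, ← iSup_slopePart_eq_top hτ _ N F hF rfl]
  refine iSup_le fun μ => ?_
  refine (Good.le_span_eigen a ha F hF (good_slopePart hτ F μ)).trans ?_
  rw [Submodule.span_le]
  rintro x ⟨-, hx⟩
  by_cases hx0 : x = 0
  · rw [hx0]; exact Submodule.zero_mem _
  · have hgcd : Int.gcd μ.num μ.den = 1 := by
      rw [Int.gcd_eq_natAbs, Int.natAbs_natCast]
      exact μ.reduced
    have h1 := (simple_range_orbitMap a F hx0 μ.den_pos hgcd hx).1
    have h2 : LinearMap.range (orbitMap F x μ.den) ≤ sSup {S : Submodule K(p, k) N | Simple F S} :=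
      le_sSup h1
    exact h2 ⟨_, orbitMap_single F x μ.den_pos⟩

end Simple

end Groth.Agent.Lib.Helper86
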