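import Mathlib
import Groth.Agent.Lib.Helper86.Isoc17
import Groth.Agent.Lib.Helper86.Isoc4

/-!
# Newton multiplicities of sub-isocrystals and direct sums (helper86)
-/

set_option autoImplicit false
set_option linter.unusedSectionVars false
universe u v
open scoped Isocrystal

noncomputable section

namespace Groth.Agent.Lib.Helper86

open Groth.Agent.S17143 Groth.Agent.S17151

section

variable {p : ℕ} [Fact p.Prime] {k : Type u} [Field k] [CharP k p] [PerfectRing k p]
variable {N : Type v} [AddCommGroup N] [Module (WittVector p k) N] [Module K(p, k) N]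
  [IsScalarTower (WittVector p k) K(p, k) N]
variable {τ : K(p, k) →+* K(p, k)} {e : WittVector p k ≃+* WittVector p k}

/-- The slope part of a sub-isocrystal. -/
theorem map_slopePart_restrict (hτ : WCompat τ e) [Module.Finite K(p, k) N] (F : N →ₛₗ[τ] N)
    (hF : Function.Injective F) {T : Submodule K(p, k) N} (hT : ∀ x ∈ T, F x ∈ T) (μ : ℚ) :
    (Isoc.slopePart (F.restrict hT) μ).map T.subtype = T ⊓ Isoc.slopePart F μ := by
  apply le_antisymm
  · apply le_inf (Submodule.map_subtype_le T _)
    have hg : Good (F.restrict hT) μ (Isoc.slopePart (F.restrict hT) μ) := good_slopePart hτ _ μ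
    exact Good.le_slopePart hτ (Good.map hτ T.subtype (fun x => rfl) hg)
  · have hAs : ∀ x ∈ T ⊓ Isoc.slopePart F μ, F x ∈ T ⊓ Isoc.slopePart F μ := fun x hx =>
      ⟨hT x hx.1, (good_slopePart hτ F μ).1 x hx.2⟩
    have hA : Good F μ (T ⊓ Isoc.slopePart F μ) :=
      Good.mono hτ hF (good_slopePart hτ F μ) hAs inf_le_right
    obtain ⟨_, j, hj, hamb⟩ := hA
    have hmap : ((T ⊓ Isoc.slopePart F μ).comap T.subtype).map T.subtype =
        T ⊓ Isoc.slopePart F μ := by
      rw [Submodule.map_comap_subtype, ← inf_assoc, inf_idem]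
    have hA' : Good (F.restrict hT) μ ((T ⊓ Isoc.slopePart F μ).comap T.subtype) := by
      refine ⟨fun x hx => ?_, j, hj, ?_⟩
      · exact hAs x.1 hx
      · apply AmbIsoclinic.of_map_injective hτ T.subtype (fun x => rfl) T.subtype_injective
        rw [hmap]
        exact hamb
    have := Good.le_slopePart hτ hA'
    calc T ⊓ Isoc.slopePart F μ = ((T ⊓ Isoc.slopePart F μ).comap T.subtype).map T.subtype :=
          hmap.symm
      _ ≤ _ := Submodule.map_mono this

theorem newtonMult_restrict (hτ : WCompat τ e) [Module.Finite K(p, k) N] (F : N →ₛₗ[τ] N)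
    (hF : Function.Injective F) {T : Submodule K(p, k) N} (hT : ∀ x ∈ T, F x ∈ T) (μ : ℚ) :
    Isoc.newtonMult (F.restrict hT) μ =
      Module.finrank K(p, k) (T ⊓ Isoc.slopePart F μ : Submodule K(p, k) N) := by
  rw [← map_slopePart_restrict hτ F hF hT μ]
  unfold Isoc.newtonMult
  exact (Submodule.finrank_map_subtype_eq T _).symm

/-- Newton multiplicities are additive in complementary sub-isocrystals. -/
theorem newtonMult_of_isCompl (hτ : WCompat τ e) [Module.Finite K(p, k) N] (F : N →ₛₗ[τ] N)
    {S Q : Submodule K(p, k) N} (hS : ∀ x ∈ S, F x ∈ S) (hQ : ∀ x ∈ Q, F x ∈ Q)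
    (hSQ : IsCompl S Q) (μ : ℚ) :
    Isoc.newtonMult F μ =
      Module.finrank K(p, k) (S ⊓ Isoc.slopePart F μ : Submodule K(p, k) N) +
      Module.finrank K(p, k) (Q ⊓ Isoc.slopePart F μ : Submodule K(p, k) N) := by
  have hequiv : ∀ x, S.projection Q hSQ (F x) = F (S.projection Q hSQ x) := by
    intro x
    have hx := Submodule.projection_add_projection_eq_self hSQ x
    have h1 : F x = F (S.projection Q hSQ x) + F (Q.projection S hSQ.symm x) := by
      rw [← map_add, hx]
    conv_lhs => rw [h1]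
    rw [map_add, Submodule.projection_apply_of_mem_left hSQ
        (hS _ (Submodule.projection_apply_mem hSQ x)),
      Submodule.projection_apply_of_mem_right hSQ
        (hQ _ (Submodule.projection_apply_mem hSQ.symm x)), add_zero]
  have hmap : (Isoc.slopePart F μ).map (S.projection Q hSQ) ≤ Isoc.slopePart F μ :=
    Good.le_slopePart hτ (Good.map hτ (S.projection Q hSQ) hequiv (good_slopePart hτ F μ))
  have hsup : (S ⊓ Isoc.slopePart F μ) ⊔ (Q ⊓ Isoc.slopePart F μ) = Isoc.slopePart F μ := by
    apply le_antisymm (sup_le inf_le_right inf_le_right)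
    intro x hx
    have h1 : S.projection Q hSQ x ∈ Isoc.slopePart F μ := hmap ⟨x, hx, rfl⟩
    have h2 : x = S.projection Q hSQ x + (x - S.projection Q hSQ x) := by abel
    rw [h2]
    apply Submodule.add_mem_sup
    · exact ⟨Submodule.projection_apply_mem hSQ x, h1⟩
    · exact ⟨Submodule.sub_projection_mem hSQ x, Submodule.sub_mem _ hx h1⟩
  have hinf : (S ⊓ Isoc.slopePart F μ) ⊓ (Q ⊓ Isoc.slopePart F μ) = ⊥ := by
    rw [eq_bot_iff]
    intro x hx
    have : x ∈ S ⊓ Q := ⟨hx.1.1, hx.2.1⟩
    rwa [hSQ.inf_eq_bot] at this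
  have := Submodule.finrank_sup_add_finrank_inf_eq (S ⊓ Isoc.slopePart F μ)
    (Q ⊓ Isoc.slopePart F μ)
  rw [hsup, hinf, finrank_bot, add_zero] at this
  exact this

/-- The Newton multiplicities of the sub-isocrystal generated by an eigenvector. -/
theorem finrank_inf_slopePart_orbit (a : ℤ) [Module.Finite K(p, k) N]
    (F : N →ₛₗ[Isoc.frob p k a] N) (hF : Function.Injective F) {x : N} {r : ℤ} {s : ℕ}
    (hs : 0 < s) (hx : (⇑F)^[s] x = ((p : K(p, k)) ^ r) • x)
    (hinj : Function.Injective (orbitMap F x s)) (μ : ℚ) :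
    Module.finrank K(p, k)
      (LinearMap.range (orbitMap F x s) ⊓ Isoc.slopePart F μ : Submodule K(p, k) N) =
      if (r : ℚ) / (s : ℚ) = μ then s else 0 := by
  have hτ := WCompat.frob (p := p) (k := k) a
  have heq := orbitMap_stdIsoc hτ F hx
  have hSs : ∀ y ∈ LinearMap.range (orbitMap F x s), F y ∈ LinearMap.range (orbitMap F x s) := by
    rintro _ ⟨c, rfl⟩
    exact ⟨_, heq c⟩
  have hamb : AmbIsoclinic F (LinearMap.range (orbitMap F x s)) r s := by
    have := (stdIsoc_amb hτ r s).map hτ (orbitMap F x s) heq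
    rwa [Submodule.map_top] at this
  have hgood : Good F ((r : ℚ) / (s : ℚ)) (LinearMap.range (orbitMap F x s)) :=
    good_of_amb hτ hSs hs rfl hamb
  split_ifs with hμ
  · have hle : LinearMap.range (orbitMap F x s) ≤ Isoc.slopePart F μ := by
      rw [← hμ]; exact Good.le_slopePart hτ hgood
    rw [inf_eq_left.mpr hle, LinearMap.finrank_range_of_inj hinj, Module.finrank_fin_fun]
  · have hAs : ∀ y ∈ LinearMap.range (orbitMap F x s) ⊓ Isoc.slopePart F μ,
        F y ∈ LinearMap.range (orbitMap F x s) ⊓ Isoc.slopePart F μ := fun y hy =>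
      ⟨hSs y hy.1, (good_slopePart hτ F μ).1 y hy.2⟩
    have h1 := Good.mono hτ hF hgood hAs inf_le_left
    have h2 := Good.mono hτ hF (good_slopePart hτ F μ) hAs inf_le_right
    have hbot : LinearMap.range (orbitMap F x s) ⊓ Isoc.slopePart F μ = ⊥ := by
      by_contra hne
      exact hμ (Good.slope_unique hτ h1 h2 hne)
    rw [hbot, finrank_bot]

end

end Groth.Agent.Lib.Helper86
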