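import Mathlib
import Groth.Agent.Lib.Helper86.Isoc18

/-!
# Dieudonné–Manin classification (helper86)
-/

set_option autoImplicit false
set_option linter.unusedSectionVars false
universe u v
open scoped Isocrystal

noncomputable section

namespace Groth.Agent.Lib.Helper86

open Groth.Agent.S17143 Groth.Agent.S17151

section

variable {p : ℕ} [Fact p.Prime] {k : Type u} [Field k] [CharP k p] [PerfectRing k p]
  [IsAlgClosed k]

/-- Existence of a non-zero eigenvector `F^s x = p^r x` with `r/s` in lowest terms. -/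
theorem exists_eigen (a : ℤ) (ha : a ≠ 0)
    {N : Type v} [AddCommGroup N] [Module (WittVector p k) N] [Module K(p, k) N]
    [IsScalarTower (WittVector p k) K(p, k) N] [Module.Finite K(p, k) N] [Nontrivial N]
    (F : N →ₛₗ[Isoc.frob p k a] N) (hF : Function.Injective F) :
    ∃ (μ : ℚ) (x : N), x ≠ 0 ∧ (⇑F)^[μ.den] x = ((p : K(p, k)) ^ μ.num) • x := by
  have hτ := WCompat.frob (p := p) (k := k) a
  by_contra hcon
  push Not at hcon
  have htop := iSup_slopePart_eq_top hτ _ N F hF rfl
  have hbot : ∀ μ : ℚ, Isoc.slopePart F μ = ⊥ := by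
    intro μ
    rw [eq_bot_iff]
    refine (Good.le_span_eigen a ha F hF (good_slopePart hτ F μ)).trans ?_
    rw [Submodule.span_le]
    rintro x ⟨-, hx⟩
    by_contra hx0
    exact hcon μ x hx0 hx
  simp only [hbot, iSup_bot] at htop
  exact bot_ne_top htop

theorem classification (a : ℤ) (ha : a ≠ 0) :
    ∀ (n : ℕ) (N : Type v) [AddCommGroup N] [Module (WittVector p k) N] [Module K(p, k) N]
      [IsScalarTower (WittVector p k) K(p, k) N] [Module.Finite K(p, k) N]
      (F : N →ₛₗ[Isoc.frob p k a] N), Function.Injective F → Module.finrank K(p, k) N = n →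
      ∃ (t : ℕ) (d : Fin t → ℤ) (h : Fin t → ℕ)
        (e : N ≃ₗ[K(p, k)] ((i : Fin t) → (Fin (h i) → K(p, k)))),
        (∀ i, 0 < h i ∧ Int.gcd (d i) (h i) = 1) ∧
        (∀ (x : N) (i : Fin t), e (F x) i = Isoc.stdIsoc (Isoc.frob p k a) (d i) (h i) (e x i)) ∧
        ∀ μ : ℚ, Isoc.newtonMult F μ =
          ∑ i : Fin t, (if ((d i : ℚ) / (h i : ℚ)) = μ then h i else 0) := by
  have hτ := WCompat.frob (p := p) (k := k) a
  intro n
  induction n using Nat.strong_induction_on with
  | _ n ih =>
    intro N _ _ _ _ _ F hF hn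
    rcases Nat.eq_zero_or_pos n with h0 | hpos
    · -- the zero space
      rw [h0] at hn
      have hsub : Subsingleton N := Module.finrank_zero_iff.mp hn
      refine ⟨0, fun i => i.elim0, fun i => i.elim0, LinearEquiv.ofSubsingleton _ _, fun i => i.elim0,
        fun x i => i.elim0, fun μ => ?_⟩
      rw [Finset.univ_eq_empty, Finset.sum_empty]
      unfold Isoc.newtonMult
      exact Module.finrank_zero_of_subsingleton
    · have hnt : Nontrivial N := Module.finrank_pos_iff.mp (by rw [hn]; exact hpos)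
      obtain ⟨μ₀, x, hx0, hx⟩ := exists_eigen a ha F hF
      have hgcd : Int.gcd μ₀.num μ₀.den = 1 := by
        rw [Int.gcd_eq_natAbs, Int.natAbs_natCast]
        exact μ₀.reduced
      obtain ⟨hsimple, hinj⟩ := simple_range_orbitMap a F hx0 μ₀.den_pos hgcd hx
      set S := LinearMap.range (orbitMap F x μ₀.den) with hSdef
      have hS : ∀ y ∈ S, F y ∈ S := hsimple.1
      obtain ⟨Q, hQ, hSQ⟩ := exists_stable_isCompl F (sSup_simple_eq_top a ha F hF) hsimple.1
      have hfrS : Module.finrank K(p, k) S = μ₀.den := by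
        rw [hSdef, LinearMap.finrank_range_of_inj hinj, Module.finrank_fin_fun]
      have hfrQ : Module.finrank K(p, k) Q < n := by
        have := Submodule.finrank_add_eq_of_isCompl hSQ
        have := μ₀.den_pos
        omega
      obtain ⟨t, d', h', e', hdh', hequiv', hmult'⟩ :=
        ih _ hfrQ Q (F.restrict hQ) (restrict_injective hF hQ) rfl
      -- the pieces of the isomorphism
      let eS : (Fin μ₀.den → K(p, k)) ≃ₗ[K(p, k)] S := LinearEquiv.ofInjective _ hinj
      have heS : ∀ c, ((eS c : S) : N) = orbitMap F x μ₀.den c := fun c => rfl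
      let Ψ : ((Fin μ₀.den → K(p, k)) × ((i : Fin t) → (Fin (h' i) → K(p, k)))) ≃ₗ[K(p, k)] N :=
        (eS.prodCongr e'.symm).trans (Submodule.prodEquivOfIsCompl S Q hSQ)
      have hΨ : ∀ c y, Ψ (c, y) = orbitMap F x μ₀.den c + ((e'.symm y : Q) : N) := fun c y => rfl
      have hΨF : ∀ c y, F (Ψ (c, y)) = Ψ (Isoc.stdIsoc (Isoc.frob p k a) μ₀.num μ₀.den c,
          fun i => Isoc.stdIsoc (Isoc.frob p k a) (d' i) (h' i) (y i)) := by
        intro c y
        rw [hΨ, hΨ, map_add, orbitMap_stdIsoc hτ F hx]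
        congr 1
        have h1 : e' ((F.restrict hQ) (e'.symm y)) =
            fun i => Isoc.stdIsoc (Isoc.frob p k a) (d' i) (h' i) (y i) := by
          funext i
          rw [hequiv', e'.apply_symm_apply]
        have h2 : (F.restrict hQ) (e'.symm y) =
            e'.symm (fun i => Isoc.stdIsoc (Isoc.frob p k a) (d' i) (h' i) (y i)) := by
          rw [← h1, e'.symm_apply_apply]
        rw [← h2]
        rfl
      let hfam : Fin (t + 1) → ℕ := Fin.cons μ₀.den h'
      let dfam : Fin (t + 1) → ℤ := Fin.cons μ₀.num d'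
      let e : N ≃ₗ[K(p, k)] ((i : Fin (t + 1)) → (Fin (hfam i) → K(p, k))) :=
        Ψ.symm.trans (Fin.consLinearEquiv K(p, k) (fun i : Fin (t + 1) => Fin (hfam i) → K(p, k)))
      refine ⟨t + 1, dfam, hfam, e, ?_, ?_, ?_⟩
      · intro i
        refine Fin.cases ?_ (fun j => ?_) i
        · exact ⟨μ₀.den_pos, hgcd⟩
        · exact hdh' j
      · intro y i
        obtain ⟨⟨c, z⟩, rfl⟩ := Ψ.surjective y
        rw [hΨF]
        have h1 : ∀ c z, e (Ψ (c, z)) = Fin.cons (α := fun i : Fin (t + 1) => Fin (hfam i) → K(p, k))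
            c z := by
          intro c z
          show (Fin.consLinearEquiv K(p, k) (fun i : Fin (t + 1) => Fin (hfam i) → K(p, k)))
            (Ψ.symm (Ψ (c, z))) = _
          rw [Ψ.symm_apply_apply]
          rfl
        rw [h1, h1]
        refine Fin.cases ?_ (fun j => ?_) i
        · rfl
        · rfl
      · intro μ
        rw [newtonMult_of_isCompl hτ F hS hQ hSQ μ, ← newtonMult_restrict hτ F hF hQ μ, hmult',
          hSdef, finrank_inf_slopePart_orbit a F hF μ₀.den_pos hx hinj μ, Fin.sum_univ_succ]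
        congr 1

end

end Groth.Agent.Lib.Helper86
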