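import Mathlib
import Groth.Agent.Lib.Helper86.Isoc8

/-!
# Eigenvalues of lattice-preserving linear maps are integral units (helper86)
-/

set_option autoImplicit false
set_option linter.unusedSectionVars false
universe u v w
open scoped Isocrystal
open Matrix

noncomputable section

namespace Groth.Agent.Lib.Helper86

section Matrix

variable {R : Type*} [CommRing R] {Ω : Type*} [Field Ω] [Algebra R Ω]
variable {n : Type*} [Fintype n] [DecidableEq n]

/-- An eigenvalue (over a field extension) of a matrix with entries in `R` is integral. -/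
theorem isIntegral_of_mulVec_eq (A : Matrix n n R) {v : n → Ω} (hv : v ≠ 0) {β : Ω}
    (h : (A.map (algebraMap R Ω)) *ᵥ v = β • v) : IsIntegral R β := by
  have h0 : (Matrix.scalar n β - A.map (algebraMap R Ω)) *ᵥ v = 0 := by
    rw [Matrix.sub_mulVec, h]
    simp [Matrix.scalar_apply, Matrix.smul_eq_diagonal_mul]
  have hdet : (Matrix.scalar n β - A.map (algebraMap R Ω)).det = 0 :=
    Matrix.exists_mulVec_eq_zero_iff.mp ⟨v, hv, h0⟩
  rw [← Matrix.eval_charpoly, Matrix.charpoly_map, Polynomial.eval_map] at hdet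
  exact ⟨A.charpoly, A.charpoly_monic, hdet⟩

/-- Eigenvalues of an invertible matrix over `R` are units in the integral closure. -/
theorem isIntegral_unit_of_mulVec_eq {A B : Matrix n n R} (hAB : A * B = 1) {v : n → Ω}
    (hv : v ≠ 0) {β : Ω} (h : (A.map (algebraMap R Ω)) *ᵥ v = β • v) :
    β ≠ 0 ∧ IsIntegral R β ∧ IsIntegral R β⁻¹ := by
  have hBA : B * A = 1 := mul_eq_one_comm.mp hAB
  have hBAΩ : B.map (algebraMap R Ω) * A.map (algebraMap R Ω) = 1 := by
    rw [← Matrix.map_mul, hBA, Matrix.map_one _ (map_zero _) (map_one _)]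
  have h1 : v = β • (B.map (algebraMap R Ω) *ᵥ v) := by
    have := congrArg (fun w => B.map (algebraMap R Ω) *ᵥ w) h
    simp only [Matrix.mulVec_mulVec, hBAΩ, Matrix.one_mulVec, Matrix.mulVec_smul] at this
    exact this
  have hβ : β ≠ 0 := by
    intro h0
    rw [h0, zero_smul] at h1
    exact hv h1
  have h2 : B.map (algebraMap R Ω) *ᵥ v = β⁻¹ • v := by
    conv_rhs => rw [h1]
    rw [smul_smul, inv_mul_cancel₀ hβ, one_smul]
  exact ⟨hβ, isIntegral_of_mulVec_eq A hv h, isIntegral_of_mulVec_eq B hv h2⟩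

end Matrix

section Eigen

variable {L : Type*} [Field L] {Ω : Type*} [Field Ω] [Algebra L Ω]
variable {n : Type*} [Fintype n] [DecidableEq n]

/-- A root of the characteristic polynomial in an extension field has an eigenvector there. -/
theorem exists_mulVec_eq_of_isRoot (P : Matrix n n L) {α : Ω}
    (hα : (P.charpoly.map (algebraMap L Ω)).IsRoot α) :
    ∃ v : n → Ω, v ≠ 0 ∧ (P.map (algebraMap L Ω)) *ᵥ v = α • v := by
  rw [← Matrix.charpoly_map, Polynomial.IsRoot.def, Matrix.eval_charpoly] at hα
  obtain ⟨v, hv, h0⟩ := Matrix.exists_mulVec_eq_zero_iff.mpr hα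
  refine ⟨v, hv, ?_⟩
  rw [Matrix.sub_mulVec, sub_eq_zero] at h0
  rw [← h0]
  simp [Matrix.scalar_apply, Matrix.smul_eq_diagonal_mul]

theorem pow_mulVec_eq {K : Type*} [Field K] (P : Matrix n n K) {v : n → K} {α : K}
    (h : P *ᵥ v = α • v) (j : ℕ) : (P ^ j) *ᵥ v = α ^ j • v := by
  induction j with
  | zero => simp
  | succ j ih =>
    rw [pow_succ, ← Matrix.mulVec_mulVec, h, Matrix.mulVec_smul, ih, smul_smul, pow_succ, mul_comm]

theorem smul_pow_map_mulVec_eq (P : Matrix n n L) (c : L) (j : ℕ) {v : n → Ω} {α : Ω}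
    (h : (P.map (algebraMap L Ω)) *ᵥ v = α • v) :
    ((c • P ^ j).map (algebraMap L Ω)) *ᵥ v = (algebraMap L Ω c * α ^ j) • v := by
  have h1 : (c • P ^ j).map (algebraMap L Ω) =
      algebraMap L Ω c • (P.map (algebraMap L Ω)) ^ j := by
    have h2 : (P ^ j).map (algebraMap L Ω) = (P.map (algebraMap L Ω)) ^ j :=
      map_pow (algebraMap L Ω).mapMatrix P j
    rw [← h2]
    ext i l
    simp
  rw [h1, Matrix.smul_mulVec, pow_mulVec_eq _ h, smul_smul]

end Eigen

section Lattice

variable {p : ℕ} [Fact p.Prime] {k : Type u} [Field k] [CharP k p] [PerfectRing k p]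
variable {N : Type v} [AddCommGroup N] [Module (WittVector p k) N] [Module K(p, k) N]
  [IsScalarTower (WittVector p k) K(p, k) N]

/-- A linear map carrying the standard lattice onto itself has an invertible matrix over `W`. -/
theorem exists_matrix_of_stdLat {h : ℕ} (b : Module.Basis (Fin h) K(p, k) N)
    (T : N →ₗ[K(p, k)] N) (h1 : ∀ x ∈ stdLat b, T x ∈ stdLat b)
    (h2 : ∀ y ∈ stdLat b, ∃ x ∈ stdLat b, T x = y) :
    ∃ A B : Matrix (Fin h) (Fin h) (WittVector p k),
      LinearMap.toMatrix b b T = A.map (algebraMap (WittVector p k) K(p, k)) ∧ A * B = 1 := by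
  have hA : ∀ j i, ∃ w : WittVector p k,
      algebraMap (WittVector p k) K(p, k) w = b.repr (T (b j)) i := fun j =>
    (mem_stdLat_iff b _).mp (h1 _ (basis_mem_stdLat b j))
  choose A' hA' using hA
  choose x hx hTx using fun j => h2 (b j) (basis_mem_stdLat b j)
  have hB : ∀ j i, ∃ w : WittVector p k,
      algebraMap (WittVector p k) K(p, k) w = b.repr (x j) i := fun j =>
    (mem_stdLat_iff b _).mp (hx j)
  choose B' hB' using hB
  have hAmat : LinearMap.toMatrix b b T =
      (Matrix.of fun i j => A' j i).map (algebraMap (WittVector p k) K(p, k)) := by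
    ext i j
    rw [LinearMap.toMatrix_apply, Matrix.map_apply, Matrix.of_apply, hA']
  refine ⟨Matrix.of fun i j => A' j i, Matrix.of fun i j => B' j i, hAmat, ?_⟩
  have hinj : Function.Injective (algebraMap (WittVector p k) K(p, k)) :=
    IsFractionRing.injective _ _
  apply Matrix.map_injective hinj
  show ((Matrix.of fun i j => A' j i) * Matrix.of fun i j => B' j i).map
      (algebraMap (WittVector p k) K(p, k)) =
    (1 : Matrix (Fin h) (Fin h) (WittVector p k)).map (algebraMap (WittVector p k) K(p, k))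
  rw [Matrix.map_mul, ← hAmat, Matrix.map_one _ (map_zero _) (map_one _)]
  ext i j
  have h3 : (LinearMap.toMatrix b b T *
      (Matrix.of fun i j => B' j i).map (algebraMap (WittVector p k) K(p, k))) i j =
      (LinearMap.toMatrix b b T *ᵥ (b.repr (x j))) i := by
    rw [Matrix.mul_apply, Matrix.mulVec, dotProduct]
    refine Finset.sum_congr rfl fun l _ => ?_
    rw [Matrix.map_apply, Matrix.of_apply, hB']
  rw [h3, LinearMap.toMatrix_mulVec_repr, hTx, Module.Basis.repr_self, Matrix.one_apply,
    Finsupp.single_apply]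
  simp only [eq_comm]

end Lattice

end Groth.Agent.Lib.Helper86
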