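import Mathlib
import Groth.Agent.Lib.Helper86.Isoc20
import Groth.Agent.Lib.Helper86.Isoc18

/-!
# Newton slopes and the eigenvalues of the linear Frobenius `F^m` (helper86)
-/

set_option autoImplicit false
set_option linter.unusedSectionVars false
universe u v w
open scoped Isocrystal
open scoped Matrix

noncomputable section

namespace Groth.Agent.Lib.Helper86

open Groth.Agent.S17143 Groth.Agent.S17151

section Alg

variable {Ω : Type*} [Field Ω]

theorem zpow_ratio_aux (α P : Ω) (hα : α ≠ 0) (hP : P ≠ 0) (a1 b1 a2 b2 : ℤ) (d1 d2 : ℕ)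
    (h : a1 * d1 = a2 * d2) :
    (α ^ a1 * P ^ b1) ^ d1 * ((α ^ a2 * P ^ b2)⁻¹) ^ d2 = P ^ (b1 * d1 - b2 * d2) := by
  rw [← zpow_natCast, ← zpow_natCast, mul_zpow, ← zpow_mul, ← zpow_mul, inv_zpow, mul_zpow,
    ← zpow_mul, ← zpow_mul, mul_inv, h, zpow_sub₀ hP]
  have h1 : α ^ (a2 * (d2 : ℤ)) ≠ 0 := zpow_ne_zero _ hα
  have h2 : P ^ (b2 * (d2 : ℤ)) ≠ 0 := zpow_ne_zero _ hP
  field_simp

end Alg

section Cond

variable {p : ℕ} [Fact p.Prime] {k : Type u} [Field k] [CharP k p] [PerfectRing k p]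
variable {Ω : Type w} [Field Ω] [Algebra (WittVector p k) Ω] [Algebra K(p, k) Ω]
  [IsScalarTower (WittVector p k) K(p, k) Ω]

/-- `α^den · p^(-num·m)` is a unit of the integral closure of `W` in `Ω`. -/
def UnitCond (m : ℕ) (μ : ℚ) (α : Ω) : Prop :=
  IsIntegral (WittVector p k)
      (α ^ μ.den * (algebraMap K(p, k) Ω (p : K(p, k))) ^ (-(μ.num * (m : ℤ)))) ∧
    IsIntegral (WittVector p k)
      (α ^ μ.den * (algebraMap K(p, k) Ω (p : K(p, k))) ^ (-(μ.num * (m : ℤ))))⁻¹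

theorem not_isIntegral_p_zpow_neg (n : ℕ) (hn : 0 < n) :
    ¬ IsIntegral (WittVector p k) ((algebraMap K(p, k) Ω (p : K(p, k))) ^ (-(n : ℤ))) := by
  intro h
  rw [← map_zpow₀, isIntegral_algebraMap_iff (algebraMap K(p, k) Ω).injective,
    IsIntegrallyClosed.isIntegral_iff] at h
  obtain ⟨w, hw⟩ := h
  have h1 : algebraMap (WittVector p k) K(p, k) (w * (p : WittVector p k) ^ n) = 1 := by
    rw [map_mul, hw, map_pow, map_natCast, zpow_neg, zpow_natCast,
      inv_mul_cancel₀ (pow_ne_zero n pL_ne_zero)]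
  have h2 : w * (p : WittVector p k) ^ n = 1 := by
    apply IsFractionRing.injective (WittVector p k) K(p, k)
    rw [h1, map_one]
  have h3 : IsUnit ((p : WittVector p k) ^ n) := IsUnit.of_mul_eq_one w (by rw [mul_comm]; exact h2)
  have h4 : IsUnit (p : WittVector p k) := (isUnit_pow_iff hn.ne').mp h3
  exact (WittVector.irreducible p).not_isUnit h4

/-- The unit conditions for different slopes are mutually exclusive. -/
theorem unitCond_unique {m : ℕ} (hm : 0 < m) {ν μ : ℚ} {α : Ω} (hα : α ≠ 0)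
    (hν : UnitCond (p := p) (k := k) m ν α) (hμ : UnitCond (p := p) (k := k) m μ α) : ν = μ := by
  by_contra hne
  set P : Ω := algebraMap K(p, k) Ω (p : K(p, k)) with hPdef
  have hP : P ≠ 0 := by
    rw [hPdef]
    exact (map_ne_zero_iff _ (algebraMap K(p, k) Ω).injective).mpr pL_ne_zero
  obtain ⟨hν1, hν2⟩ := hν
  obtain ⟨hμ1, hμ2⟩ := hμ
  have hden : ((ν.den : ℤ)) * (μ.den : ℕ) = ((μ.den : ℤ)) * (ν.den : ℕ) := by ring
  have e1 := zpow_ratio_aux α P hα hP ν.den (-(ν.num * (m : ℤ))) μ.den (-(μ.num * (m : ℤ)))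
    μ.den ν.den hden
  have e2 := zpow_ratio_aux α P hα hP μ.den (-(μ.num * (m : ℤ))) ν.den (-(ν.num * (m : ℤ)))
    ν.den μ.den hden.symm
  simp only [zpow_natCast] at e1 e2
  have i1 : IsIntegral (WittVector p k)
      (P ^ (-(ν.num * (m : ℤ)) * (μ.den : ℤ) - -(μ.num * (m : ℤ)) * (ν.den : ℤ))) := by
    rw [← e1]
    exact (hν1.pow _).mul (hμ2.pow _)
  have i2 : IsIntegral (WittVector p k)
      (P ^ (-(μ.num * (m : ℤ)) * (ν.den : ℤ) - -(ν.num * (m : ℤ)) * (μ.den : ℤ))) := by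
    rw [← e2]
    exact (hμ1.pow _).mul (hν2.pow _)
  set c : ℤ := -(ν.num * (m : ℤ)) * (μ.den : ℤ) - -(μ.num * (m : ℤ)) * (ν.den : ℤ) with hc
  have hc2 : -(μ.num * (m : ℤ)) * (ν.den : ℤ) - -(ν.num * (m : ℤ)) * (μ.den : ℤ) = -c := by
    rw [hc]; ring
  rw [hc2] at i2
  have hc0 : c ≠ 0 := by
    intro h0
    apply hne
    rw [Rat.eq_iff_mul_eq_mul]
    have hm' : (m : ℤ) ≠ 0 := by exact_mod_cast hm.ne'
    have : (m : ℤ) * (μ.num * (ν.den : ℤ) - ν.num * (μ.den : ℤ)) = 0 := by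
      rw [← h0, hc]; ring
    rcases mul_eq_zero.mp this with h | h
    · exact absurd h hm'
    · linarith
  rcases lt_or_gt_of_ne hc0 with hneg | hpos
  · obtain ⟨n, hn⟩ := Int.eq_ofNat_of_zero_le (show 0 ≤ -c by omega)
    have hn0 : 0 < n := by omega
    have : c = -(n : ℤ) := by omega
    rw [this] at i1
    exact not_isIntegral_p_zpow_neg n hn0 i1
  · obtain ⟨n, hn⟩ := Int.eq_ofNat_of_zero_le hpos.le
    have hn0 : 0 < n := by omega
    rw [hn] at i2
    exact not_isIntegral_p_zpow_neg n hn0 i2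

end Cond

end Groth.Agent.Lib.Helper86
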