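import Mathlib
import Groth.Agent.Lib.Helper86.Isoc21

/-!
# Newton slopes via the characteristic polynomial of `F^m` (helper86)
-/

set_option autoImplicit false
set_option linter.unusedSectionVars false
universe u v w
open scoped Isocrystal
open scoped Matrix

noncomputable section

namespace Groth.Agent.Lib.Helper86

open Groth.Agent.S17143 Groth.Agent.S17151

section

variable {p : ℕ} [Fact p.Prime] {k : Type u} [Field k] [CharP k p] [PerfectRing k p]
variable {Ω : Type w} [Field Ω] [Algebra (WittVector p k) Ω] [Algebra K(p, k) Ω]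
  [IsScalarTower (WittVector p k) K(p, k) Ω]
variable {N : Type v} [AddCommGroup N] [Module (WittVector p k) N] [Module K(p, k) N]
  [IsScalarTower (WittVector p k) K(p, k) N]

/-- In an isoclinic isocrystal of slope `r/s`, every root `α` of the characteristic polynomial of
`π = F^m` has `α^s p^(-rm)` a unit of the integral closure. -/
theorem roots_cond_of_isoclinic (a : ℤ) (m : ℕ) [Module.Finite K(p, k) N]
    (F : N →ₛₗ[Isoc.frob p k a] N) (π : N →ₗ[K(p, k)] N) (hπ : ∀ x : N, π x = (⇑F)^[m] x)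
    {r : ℤ} {s j : ℕ} (hs : 0 < s) (hj : 0 < j) (hamb : AmbIsoclinic F ⊤ (r * j) (s * j))
    {α : Ω} (hα : (π.charpoly.map (algebraMap K(p, k) Ω)).IsRoot α) :
    α ≠ 0 ∧
      IsIntegral (WittVector p k)
        (α ^ s * (algebraMap K(p, k) Ω (p : K(p, k))) ^ (-(r * (m : ℤ)))) ∧
      IsIntegral (WittVector p k)
        (α ^ s * (algebraMap K(p, k) Ω (p : K(p, k))) ^ (-(r * (m : ℤ))))⁻¹ := by
  have hτ := WCompat.frob (p := p) (k := k) a
  obtain ⟨M, hfg, hspan, hM⟩ := hamb.pow hτ m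
  obtain ⟨h, hh⟩ : ∃ h, Module.finrank K(p, k) N = h := ⟨_, rfl⟩
  obtain ⟨b, rfl⟩ := exists_basis_stdLat_eq (⟨hfg, hspan⟩ : (M).IsLattice K(p, k)) hh
  set c : K(p, k) := (p : K(p, k)) ^ (-(r * (j : ℤ) * (m : ℤ))) with hc
  set T : N →ₗ[K(p, k)] N := c • π ^ (s * j) with hTdef
  have hπfun : ⇑π = (⇑F)^[m] := funext hπ
  have hT : ∀ x, T x = c • (⇑F)^[s * j * m] x := by
    intro x
    rw [hTdef, LinearMap.smul_apply, Module.End.pow_apply, hπfun, ← Function.iterate_mul,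
      mul_comm m]
  have h1 : ∀ x ∈ stdLat b, T x ∈ stdLat b := by
    intro x hx
    have h3 : (⇑F)^[s * j * m] x ∈ Isoc.latImg F (s * j * m) (stdLat b) :=
      (mem_latImg hτ).mpr ⟨x, hx, rfl⟩
    rw [hM, mem_pPow_iff] at h3
    rw [hT]
    exact h3
  have h2 : ∀ y ∈ stdLat b, ∃ x ∈ stdLat b, T x = y := by
    intro y hy
    have h3 : ((p : K(p, k)) ^ (r * (j : ℤ) * (m : ℤ))) • y ∈
        Isoc.pPow (r * (j : ℤ) * (m : ℤ)) (stdLat b) := smul_mem_pPow hy
    rw [← hM] at h3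
    obtain ⟨x, hx, hxy⟩ := (mem_latImg hτ).mp h3
    refine ⟨x, hx, ?_⟩
    rw [hT, hxy, hc, smul_smul, ← zpow_add₀ pL_ne_zero, neg_add_cancel, zpow_zero, one_smul]
  obtain ⟨A, B, hAmat, hAB⟩ := exists_matrix_of_stdLat b T h1 h2
  have hTmat : LinearMap.toMatrix b b T = c • (LinearMap.toMatrix b b π) ^ (s * j) := by
    rw [hTdef, map_smul, LinearMap.toMatrix_pow]
  obtain ⟨v, hv, hPv⟩ := exists_mulVec_eq_of_isRoot (LinearMap.toMatrix b b π)
    (by rwa [LinearMap.charpoly_toMatrix])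
  have h3 := smul_pow_map_mulVec_eq (LinearMap.toMatrix b b π) c (s * j) hPv
  rw [← hTmat, hAmat, Matrix.map_map] at h3
  have h4 : (⇑(algebraMap K(p, k) Ω) ∘ ⇑(algebraMap (WittVector p k) K(p, k))) =
      ⇑(algebraMap (WittVector p k) Ω) := by
    funext w
    exact (IsScalarTower.algebraMap_apply (WittVector p k) K(p, k) Ω w).symm
  rw [h4] at h3
  obtain ⟨hβ0, hβ1, hβ2⟩ := isIntegral_unit_of_mulVec_eq hAB hv h3
  have hsj : s * j ≠ 0 := Nat.mul_ne_zero hs.ne' hj.ne'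
  have hα0 : α ≠ 0 := by
    intro h0
    apply hβ0
    rw [h0, zero_pow hsj, mul_zero]
  have hpow : (α ^ s * (algebraMap K(p, k) Ω (p : K(p, k))) ^ (-(r * (m : ℤ)))) ^ j =
      algebraMap K(p, k) Ω c * α ^ (s * j) := by
    rw [mul_pow, ← pow_mul, ← zpow_natCast _ j, ← _root_.zpow_mul, hc, map_zpow₀, mul_comm]
    congr 2
    ring
  refine ⟨hα0, IsIntegral.of_pow hj (by rw [hpow]; exact hβ1), IsIntegral.of_pow hj ?_⟩
  rw [inv_pow, hpow]
  exact hβ2

end

end Groth.Agent.Lib.Helper86
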