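import Mathlib
import Groth.Agent.Lib.Helper86.Isoc22

/-!
# Newton multiplicities = counts of roots of the characteristic polynomial of `F^m` (helper86)
-/

set_option autoImplicit false
set_option linter.unusedSectionVars false
universe u v w
open scoped Isocrystal
open scoped Classical

noncomputable section

namespace Groth.Agent.Lib.Helper86

open Groth.Agent.S17143 Groth.Agent.S17151

section

variable {p : ℕ} [Fact p.Prime] {k : Type u} [Field k] [CharP k p] [PerfectRing k p]
variable {Ω : Type w} [Field Ω] [IsAlgClosed Ω] [Algebra (WittVector p k) Ω] [Algebra K(p, k) Ω]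
  [IsScalarTower (WittVector p k) K(p, k) Ω]

/-- The isoclinic case. -/
theorem newtonMult_eq_countP_of_good (a : ℤ) (m : ℕ) (hm : 0 < m)
    {N : Type v} [AddCommGroup N] [Module (WittVector p k) N] [Module K(p, k) N]
    [IsScalarTower (WittVector p k) K(p, k) N] [Module.Finite K(p, k) N]
    (F : N →ₛₗ[Isoc.frob p k a] N) (hF : Function.Injective F)
    (π : N →ₗ[K(p, k)] N) (hπ : ∀ x : N, π x = (⇑F)^[m] x) {ν : ℚ}
    (hgood : Good F ν (⊤ : Submodule K(p, k) N)) (μ : ℚ) :
    Isoc.newtonMult F μ = Multiset.countP (UnitCond (p := p) (k := k) (Ω := Ω) m μ)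
      ((π.charpoly.map (algebraMap K(p, k) Ω)).roots) := by
  have hτ := WCompat.frob (p := p) (k := k) a
  obtain ⟨-, j, hj, hamb⟩ := id hgood
  have hroots : ∀ α ∈ (π.charpoly.map (algebraMap K(p, k) Ω)).roots,
      α ≠ 0 ∧ UnitCond (p := p) (k := k) (Ω := Ω) m ν α := by
    intro α hα
    have hroot := (Polynomial.mem_roots'.mp hα).2
    obtain ⟨h0, h1, h2⟩ := roots_cond_of_isoclinic a m F π hπ ν.den_pos hj hamb hroot
    exact ⟨h0, h1, h2⟩
  have hcard : Multiset.card ((π.charpoly.map (algebraMap K(p, k) Ω)).roots) =
      Module.finrank K(p, k) N := by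
    rw [IsAlgClosed.card_roots_map_eq_natDegree_of_injective _ (algebraMap K(p, k) Ω).injective,
      LinearMap.charpoly_natDegree]
  by_cases hμν : μ = ν
  · subst hμν
    have htop : Isoc.slopePart F μ = ⊤ := top_le_iff.mp (Good.le_slopePart hτ hgood)
    unfold Isoc.newtonMult
    rw [htop, finrank_top, ← hcard]
    symm
    rw [Multiset.countP_eq_card]
    exact fun α hα => (hroots α hα).2
  · have hbot : Isoc.slopePart F μ = ⊥ := by
      by_contra hne
      have h1 : Good F ν (Isoc.slopePart F μ) :=
        Good.mono hτ hF hgood (good_slopePart hτ F μ).1 le_top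
      exact hμν (Good.slope_unique hτ (good_slopePart hτ F μ) h1 hne)
    unfold Isoc.newtonMult
    rw [hbot, finrank_bot]
    symm
    rw [Multiset.countP_eq_zero]
    intro α hα hcond
    obtain ⟨h0, hν⟩ := hroots α hα
    exact hμν (unitCond_unique hm h0 hcond hν)

/-- The characteristic polynomial splits along complementary stable subspaces. -/
theorem charpoly_eq_mul_of_isCompl {K : Type*} [Field K] {V : Type*} [AddCommGroup V] [Module K V]
    [FiniteDimensional K V] (π : V →ₗ[K] V) {A B : Submodule K V} (hA : ∀ x ∈ A, π x ∈ A)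
    (hB : ∀ x ∈ B, π x ∈ B) (hAB : IsCompl A B) :
    π.charpoly = (π.restrict hA).charpoly * (π.restrict hB).charpoly := by
  rw [← LinearMap.charpoly_prodMap, ← (Submodule.prodEquivOfIsCompl A B hAB).charpoly_conj]
  congr 1
  apply LinearMap.ext
  intro x
  obtain ⟨⟨y, z⟩, rfl⟩ := (Submodule.prodEquivOfIsCompl A B hAB).surjective x
  rw [LinearEquiv.conj_apply_apply, LinearEquiv.symm_apply_apply,
    Submodule.coe_prodEquivOfIsCompl', Submodule.coe_prodEquivOfIsCompl', map_add]
  rfl

theorem newtonMult_eq_countP (a : ℤ) (m : ℕ) (hm : 0 < m) :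
    ∀ (n : ℕ) (N : Type v) [AddCommGroup N] [Module (WittVector p k) N] [Module K(p, k) N]
      [IsScalarTower (WittVector p k) K(p, k) N] [Module.Finite K(p, k) N]
      (F : N →ₛₗ[Isoc.frob p k a] N) (_ : Function.Injective F)
      (π : N →ₗ[K(p, k)] N) (_ : ∀ x : N, π x = (⇑F)^[m] x),
      Module.finrank K(p, k) N = n → ∀ μ : ℚ,
      Isoc.newtonMult F μ = Multiset.countP (UnitCond (p := p) (k := k) (Ω := Ω) m μ)
        ((π.charpoly.map (algebraMap K(p, k) Ω)).roots) := by
  have hτ := WCompat.frob (p := p) (k := k) a
  intro n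
  induction n using Nat.strong_induction_on with
  | _ n ih =>
    intro N _ _ _ _ _ F hF π hπ hn μ
    rcases Nat.eq_zero_or_pos n with h0 | hpos
    · rw [h0] at hn
      have hsub : Subsingleton N := Module.finrank_zero_iff.mp hn
      have h1 : Isoc.newtonMult F μ = 0 := by
        unfold Isoc.newtonMult
        exact Module.finrank_zero_of_subsingleton
      have h2 : (π.charpoly.map (algebraMap K(p, k) Ω)).roots = 0 := by
        have hdeg : (π.charpoly.map (algebraMap K(p, k) Ω)).natDegree = 0 := by
          rw [Polynomial.natDegree_map, LinearMap.charpoly_natDegree, hn]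
        rw [Polynomial.eq_C_of_natDegree_eq_zero hdeg, Polynomial.roots_C]
      rw [h1, h2, Multiset.countP_zero]
    · have hnt : Nontrivial N := Module.finrank_pos_iff.mp (by rw [hn]; exact hpos)
      have htop := iSup_slopePart_eq_top hτ _ N F hF rfl
      obtain ⟨ν, hν⟩ : ∃ ν : ℚ, Isoc.slopePart F ν ≠ ⊥ := by
        by_contra hcon
        push Not at hcon
        simp only [hcon, iSup_bot] at htop
        exact bot_ne_top htop
      set A := Isoc.slopePart F ν with hAdef
      set B : Submodule K(p, k) N := ⨆ (j : ℚ) (_ : j ≠ ν), Isoc.slopePart F j with hBdef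
      have hA : ∀ x ∈ A, F x ∈ A := (good_slopePart hτ F ν).1
      have hB : ∀ x ∈ B, F x ∈ B := by
        apply stable_iSup
        intro j
        apply stable_iSup
        intro _
        exact (good_slopePart hτ F j).1
      have hAB : IsCompl A B := by
        refine ⟨?_, ?_⟩
        · exact (iSupIndep_def.mp (iSupIndep_slopePart hτ F hF)) ν
        · rw [codisjoint_iff, eq_top_iff, ← htop]
          refine iSup_le fun j => ?_
          by_cases hj : j = ν
          · rw [hj]; exact le_sup_left
          · exact le_trans (le_iSup₂ (f := fun (j : ℚ) (_ : j ≠ ν) => Isoc.slopePart F j) j hj)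
              le_sup_right
      -- stability under `π`
      have hiter : ∀ (P : Submodule K(p, k) N), (∀ x ∈ P, F x ∈ P) → ∀ x ∈ P, π x ∈ P := by
        intro P hP x hx
        rw [hπ]
        have : ∀ i : ℕ, (⇑F)^[i] x ∈ P := by
          intro i
          induction i with
          | zero => exact hx
          | succ i ih => rw [Function.iterate_succ_apply']; exact hP _ ih
        exact this m
      have hπA := hiter A hA
      have hπB := hiter B hB
      have hπA' : ∀ x : A, (π.restrict hπA) x = (⇑(F.restrict hA))^[m] x := by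
        intro x
        apply Subtype.ext
        have h5 := iterate_comm (F := F.restrict hA) (F' := F) A.subtype (fun x => rfl) m x
        exact (hπ x).trans h5.symm
      have hπB' : ∀ x : B, (π.restrict hπB) x = (⇑(F.restrict hB))^[m] x := by
        intro x
        apply Subtype.ext
        have h5 := iterate_comm (F := F.restrict hB) (F' := F) B.subtype (fun x => rfl) m x
        exact (hπ x).trans h5.symm
      -- dimensions
      have hfrA : 0 < Module.finrank K(p, k) A := by
        rw [Module.finrank_pos_iff, Submodule.nontrivial_iff_ne_bot]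
        exact hν
      have hfrB : Module.finrank K(p, k) B < n := by
        have := Submodule.finrank_add_eq_of_isCompl hAB
        omega
      -- the two pieces
      have hgoodA : Good (F.restrict hA) ν (⊤ : Submodule K(p, k) A) := by
        obtain ⟨_, j, hj, hamb⟩ := good_slopePart hτ F ν
        refine ⟨fun x _ => trivial, j, hj, ?_⟩
        apply AmbIsoclinic.of_map_injective hτ A.subtype (fun x => rfl) A.subtype_injective
        rwa [Submodule.map_subtype_top]
      have eA := newtonMult_eq_countP_of_good (Ω := Ω) a m hm (F.restrict hA)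
        (restrict_injective hF hA) (π.restrict hπA) hπA' hgoodA μ
      have eB := ih _ hfrB B (F.restrict hB) (restrict_injective hF hB) (π.restrict hπB) hπB' rfl μ
      rw [newtonMult_of_isCompl hτ F hA hB hAB μ, ← newtonMult_restrict hτ F hF hA μ,
        ← newtonMult_restrict hτ F hF hB μ, eA, eB, charpoly_eq_mul_of_isCompl π hπA hπB hAB,
        Polynomial.map_mul, Polynomial.roots_mul, Multiset.countP_add]
      apply mul_ne_zero
      · exact Polynomial.map_monic_ne_zero (LinearMap.charpoly_monic _)
      · exact Polynomial.map_monic_ne_zero (LinearMap.charpoly_monic _)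

end

end Groth.Agent.Lib.Helper86
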