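import Mathlib

set_option autoImplicit false
set_option linter.unusedSectionVars false
universe u v

namespace Groth.Agent.Lib.Helper86.IterEq

/-- descending chains of submodules of a finite module over a Noetherian ring stabilise after
localising at a minimal prime. -/
theorem dcc_at_minimalPrime {R : Type u} [CommRing R] [IsNoetherianRing R] (q : Ideal R)
    (hq : q ∈ minimalPrimes R) {X : Type v} [AddCommGroup X] [Module R X] [Module.Finite R X]
    (Y : ℕ → Submodule R X) (hY : Antitone Y) :
    ∃ m, ∀ i, m ≤ i → ∀ x ∈ Y i, ∃ t : R, t ∉ q ∧ t • x ∈ Y (i + 1) := by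
  have : q.IsPrime := hq.1.1
  have : Ring.KrullDimLE 0 (Localization.AtPrime q) :=
    Ring.KrullDimLE.of_isLocalization q hq (Localization.AtPrime q)
  have : IsArtinianRing (Localization.AtPrime q) :=
    IsNoetherianRing.isArtinianRing_of_krullDimLE_zero
  have : Module.Finite (Localization.AtPrime q) (LocalizedModule q.primeCompl X) :=
    inferInstance
  have : IsArtinian (Localization.AtPrime q) (LocalizedModule q.primeCompl X) := inferInstance
  let f : ℕ →o (Submodule (Localization.AtPrime q) (LocalizedModule q.primeCompl X))ᵒᵈ :=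
    ⟨fun i => OrderDual.toDual ((Y i).localized q.primeCompl), fun i j hij =>
      (Submodule.localized'gi (Localization.AtPrime q) q.primeCompl
        (LocalizedModule.mkLinearMap q.primeCompl X)).gc.monotone_l (hY hij)⟩
  obtain ⟨m, hm⟩ := IsArtinian.monotone_stabilizes f
  refine ⟨m, fun i hi x hx => ?_⟩
  have h1 : (Y i).localized q.primeCompl = (Y (i + 1)).localized q.primeCompl := by
    have e1 := hm i hi
    have e2 := hm (i + 1) (by omega)
    exact (OrderDual.toDual.injective (e1.symm.trans e2))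
  have h2 : LocalizedModule.mkLinearMap q.primeCompl X x ∈ (Y i).localized q.primeCompl :=
    ⟨x, hx, 1, by simp⟩
  rw [h1] at h2
  obtain ⟨y, hy, s, hys⟩ := h2
  rw [← IsLocalizedModule.mk'_one q.primeCompl (LocalizedModule.mkLinearMap q.primeCompl X) x,
    IsLocalizedModule.mk'_eq_mk'_iff] at hys
  obtain ⟨u, hu⟩ := hys
  refine ⟨u * s, (q.primeCompl.mul_mem u.2 s.2), ?_⟩
  simp only [one_smul, Submonoid.smul_def] at hu
  rw [mul_smul, hu]
  exact (Y (i + 1)).smul_mem _ hy

open TensorProduct in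
/-- if every element of a finite `A`-algebra `C` is, up to a multiplier outside the prime `p`,
equalised by the two maps `C ⇉ C ⊗ C`, then `A_p → C_p` is onto. -/
theorem exists_smul_mem_range_of_tmul_eq {A : Type u} {C : Type v} [CommRing A] [CommRing C]
    [Algebra A C] [Module.Finite A C] (p : Ideal A) [p.IsPrime]
    (h : ∀ c : C, ∃ t : A, t ∉ p ∧ (t • c) ⊗ₜ[A] (1 : C) = (1 : C) ⊗ₜ[A] (t • c)) :
    ∀ c : C, ∃ t : A, t ∉ p ∧ t • c ∈ Set.range (algebraMap A C) := by
  let S := p.primeCompl
  let Ap := Localization.AtPrime p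
  let T := Algebra.algebraMapSubmonoid C S
  let Cp := Localization T
  let alg : C →ₗ[A] Cp := (IsScalarTower.toAlgHom A C Cp).toLinearMap
  let ψ : C ⊗[A] C →ₗ[A] Cp ⊗[Ap] Cp :=
    (TensorProduct.mapOfCompatibleSMul Ap A A Cp Cp) ∘ₗ (TensorProduct.map alg alg)
  have hunit : ∀ t : A, t ∉ p → IsUnit (algebraMap A Ap t) := fun t ht =>
    IsLocalization.map_units Ap (⟨t, ht⟩ : S)
  have hAt : ∀ (t : A) (c : C), algebraMap C Cp (t • c) =
      (algebraMap A Ap t) • algebraMap C Cp c := by
    intro t c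
    rw [Algebra.smul_def, map_mul, ← IsScalarTower.algebraMap_apply A C Cp,
      IsScalarTower.algebraMap_apply A Ap Cp, ← Algebra.smul_def]
  -- key: the generators satisfy the epi identity
  have key : ∀ c : C, (1 : Cp) ⊗ₜ[Ap] (algebraMap C Cp c) = (algebraMap C Cp c) ⊗ₜ[Ap] (1 : Cp) := by
    intro c
    obtain ⟨t, ht, hc⟩ := h c
    have h1 := congrArg ψ hc
    have halg : ∀ c : C, alg c = algebraMap C Cp c := fun c => rfl
    simp only [ψ, LinearMap.comp_apply, TensorProduct.map_tmul,
      TensorProduct.mapOfCompatibleSMul_tmul, halg, map_one] at h1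
    rw [hAt, ← TensorProduct.smul_tmul', TensorProduct.tmul_smul] at h1
    exact ((hunit t ht).smul_left_cancel.1 h1).symm
  have hepi : Algebra.IsEpi Ap Cp := by
    rw [Algebra.isEpi_iff_forall_one_tmul_eq]
    intro x
    obtain ⟨⟨c, s'⟩, hcs⟩ := IsLocalization.surj T x
    obtain ⟨s, hs, hss⟩ := s'.2
    have hx : (algebraMap A Ap s) • x = algebraMap C Cp c := by
      rw [← hcs, Algebra.smul_def, ← IsScalarTower.algebraMap_apply A Ap Cp,
        IsScalarTower.algebraMap_apply A C Cp, hss, mul_comm]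
    have h2 : (algebraMap A Ap s) • ((1 : Cp) ⊗ₜ[Ap] x) =
        (algebraMap A Ap s) • (x ⊗ₜ[Ap] (1 : Cp)) := by
      rw [← TensorProduct.tmul_smul, hx, TensorProduct.smul_tmul', hx]
      exact key c
    exact (hunit s hs).smul_left_cancel.1 h2
  rw [Algebra.isEpi_iff_surjective_algebraMap_of_finite] at hepi
  intro c
  obtain ⟨y, hy⟩ := hepi (algebraMap C Cp c)
  obtain ⟨⟨a, s⟩, has⟩ := IsLocalization.surj S y
  -- y * algebraMap s = algebraMap a
  have h3 : algebraMap C Cp (s.1 • c) = algebraMap C Cp (algebraMap A C a) := by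
    rw [hAt, ← hy, ← IsScalarTower.algebraMap_apply A C Cp, IsScalarTower.algebraMap_apply A Ap Cp,
      ← has, map_mul, Algebra.smul_def, mul_comm]
  obtain ⟨u', hu'⟩ := (IsLocalization.eq_iff_exists T Cp).1 h3
  obtain ⟨u, hu, huu⟩ := u'.2
  refine ⟨u * s.1, S.mul_mem hu s.2, u * a, ?_⟩
  rw [map_mul, mul_smul, Algebra.smul_def u, huu]
  exact hu'.symm

end Groth.Agent.Lib.Helper86.IterEq
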