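import Mathlib
import Groth.Agent.Lib.Helper86.IterEq

set_option autoImplicit false
set_option linter.unusedSectionVars false
universe u v

open TensorProduct

namespace Groth.Agent.Lib.Helper86.IterEq

section Main

variable {A B : Type u} [CommRing A] [CommRing B] [Algebra A B]
    [IsNoetherianRing A] [Module.Finite A B]

/-- the conductor-like ideal of `A` carrying the subalgebra `C` into the image of `A`. -/
noncomputable def cond (C : Subalgebra A B) : Ideal A :=
  (⊥ : Subalgebra A B).toSubmodule.colon (C : Set B)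

omit [IsNoetherianRing A] [Module.Finite A B] in
lemma mem_cond {C : Subalgebra A B} {a : A} :
    a ∈ cond C ↔ ∀ b ∈ C, a • b ∈ (⊥ : Subalgebra A B) := by
  rw [cond, Submodule.mem_colon]
  rfl

omit [IsNoetherianRing A] [Module.Finite A B] in
lemma cond_antitone {C D : Subalgebra A B} (h : C ≤ D) : cond D ≤ cond C := by
  intro a ha
  rw [mem_cond] at ha ⊢
  exact fun b hb => ha b (h hb)

/-- the local DCC step: for `p` minimal over `cond (C n)`, far enough in the chain every element
is pushed one step further by a multiplier outside `p`. -/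
theorem exists_step (C : ℕ → Subalgebra A B) (hC : Antitone C) (n : ℕ) (p : Ideal A)
    (hp : p ∈ (cond (C n)).minimalPrimes) :
    ∃ m, ∀ i, m ≤ i → ∀ b ∈ C i, ∃ t : A, t ∉ p ∧ t • b ∈ C (i + 1) := by
  classical
  set J := cond (C n) with hJ
  rw [Ideal.minimalPrimes_eq_comap] at hp
  obtain ⟨q, hq, rfl⟩ := hp
  have : IsNoetherian A B := isNoetherian_of_isNoetherianRing_of_finite A B
  have : Module.Finite A (C n) :=
    Module.Finite.of_injective (C n).val.toLinearMap Subtype.val_injective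
  let M := ↥(C n)
  let X := M ⧸ (J • ⊤ : Submodule A M)
  have : IsScalarTower A (A ⧸ J) X :=
    (Module.isTorsionBySet_quotient_ideal_smul M J).isScalarTower
  have : Module.Finite (A ⧸ J) X := Module.Finite.of_restrictScalars_finite A (A ⧸ J) X
  let Y : ℕ → Submodule (A ⧸ J) X := fun i =>
    { carrier := {x | ∃ b : M, (b : B) ∈ C i ∧ Submodule.Quotient.mk b = x}
      add_mem' := by
        rintro _ _ ⟨b, hb, rfl⟩ ⟨b', hb', rfl⟩
        exact ⟨b + b', (C i).add_mem hb hb', rfl⟩
      zero_mem' := ⟨0, (C i).zero_mem, rfl⟩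
      smul_mem' := by
        rintro a _ ⟨b, hb, rfl⟩
        obtain ⟨a, rfl⟩ := Ideal.Quotient.mk_surjective a
        exact ⟨a • b, (C i).smul_mem hb a, rfl⟩ }
  have hY : Antitone Y := by
    intro i j hij x hx
    obtain ⟨b, hb, rfl⟩ := hx
    exact ⟨b, hC hij hb, rfl⟩
  obtain ⟨m, hm⟩ := dcc_at_minimalPrime q hq Y hY
  refine ⟨max m n, fun i hi b hb => ?_⟩
  have hbn : b ∈ C n := hC (le_trans (le_max_right m n) hi) hb
  obtain ⟨t', ht', htx⟩ := hm i (le_trans (le_max_left m n) hi)
    (Submodule.Quotient.mk (⟨b, hbn⟩ : M)) ⟨⟨b, hbn⟩, hb, rfl⟩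
  obtain ⟨t, rfl⟩ := Ideal.Quotient.mk_surjective t'
  refine ⟨t, ht', ?_⟩
  obtain ⟨b', hb', hbb⟩ := htx
  rw [Module.Quotient.mk_smul_mk, Submodule.Quotient.eq] at hbb
  -- b' - t • b ∈ J • ⊤, hence its image in B lies in ⊥
  have hbot : ∀ z : M, z ∈ (J • ⊤ : Submodule A M) → (z : B) ∈ (⊥ : Subalgebra A B) := by
    intro z hz
    refine Submodule.smul_induction_on hz ?_ ?_
    · intro a ha y _
      exact mem_cond.1 ha y y.2
    · intro y z hy hz
      exact (⊥ : Subalgebra A B).add_mem hy hz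
  have h1 := hbot _ hbb
  have h2 : (⊥ : Subalgebra A B) ≤ C (i + 1) := bot_le
  have h3 : t • b = (b' : B) - ((b' - t • (⟨b, hbn⟩ : M) : M) : B) := by
    rw [AddSubgroupClass.coe_sub, sub_sub_cancel]; rfl
  rw [h3]
  exact (C (i + 1)).sub_mem hb' (h2 h1)

/-- **Iterated equalisers reach the bottom.** -/
theorem exists_eq_bot (C : ℕ → Subalgebra A B)
    (hstep : ∀ (i : ℕ) (b : B), b ∈ C (i + 1) ↔ ∃ hb : b ∈ C i,
      ((⟨b, hb⟩ : C i) ⊗ₜ[A] (1 : C i) : C i ⊗[A] C i) = (1 : C i) ⊗ₜ[A] (⟨b, hb⟩ : C i)) :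
    ∃ m : ℕ, C m = ⊥ := by
  classical
  have hanti : ∀ i, C (i + 1) ≤ C i := fun i b hb => ((hstep i b).1 hb).1
  have hC : Antitone C := antitone_nat_of_succ_le hanti
  let f : ℕ →o Ideal A := ⟨fun i => cond (C i), fun i j hij => cond_antitone (hC hij)⟩
  obtain ⟨n, hn⟩ := monotone_stabilizes_iff_noetherian.2 (inferInstance : IsNoetherian A A) f
  by_cases hJ : cond (C n) = ⊤
  · refine ⟨n, le_antisymm (fun b hb => ?_) bot_le⟩
    have h1 : (1 : A) ∈ cond (C n) := by rw [hJ]; exact Submodule.mem_top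
    have := mem_cond.1 h1 b hb
    simpa using this
  · exfalso
    obtain ⟨p, hp⟩ := Ideal.nonempty_minimalPrimes hJ
    have hpp : p.IsPrime := hp.1.1
    obtain ⟨m, hm⟩ := exists_step C hC n p hp
    set i := max m n with hi
    have hin : n ≤ i := le_max_right _ _
    have : IsNoetherian A B := isNoetherian_of_isNoetherianRing_of_finite A B
    have : Module.Finite A (C i) :=
      Module.Finite.of_injective (C i).val.toLinearMap Subtype.val_injective
    have h1 := exists_smul_mem_range_of_tmul_eq (A := A) (C := C i) p (fun c => by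
      obtain ⟨t, ht, htc⟩ := hm i (le_max_left _ _) c.1 c.2
      refine ⟨t, ht, ?_⟩
      obtain ⟨hb, e⟩ := (hstep i (t • c.1)).1 htc
      exact e)
    obtain ⟨G, hG⟩ := (Module.Finite.fg_top : (⊤ : Submodule A (C i)).FG)
    choose τ hτ hτ' using h1
    let t := ∏ g ∈ G, τ g
    have ht : t ∉ p := by
      intro hmem
      obtain ⟨g, -, hg⟩ := (Ideal.IsPrime.prod_mem_iff).1 hmem
      exact hτ g hg
    have hall : ∀ c : C i, t • c ∈ Set.range (algebraMap A (C i)) := by
      intro c
      have hc : c ∈ Submodule.span A (G : Set (C i)) := by rw [hG]; exact Submodule.mem_top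
      induction hc using Submodule.span_induction with
      | mem g hg =>
        obtain ⟨a, ha⟩ := hτ' g
        refine ⟨(∏ g' ∈ G.erase g, τ g') * a, ?_⟩
        have : t = (∏ g' ∈ G.erase g, τ g') * τ g := by
          rw [mul_comm]; exact (Finset.mul_prod_erase G τ hg).symm
        rw [this, mul_smul, ← ha, map_mul, Algebra.smul_def]
      | zero => exact ⟨0, by simp⟩
      | add x y _ _ hx hy =>
        obtain ⟨a, ha⟩ := hx
        obtain ⟨b, hb⟩ := hy
        exact ⟨a + b, by rw [map_add, ha, hb, smul_add]⟩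
      | smul a x _ hx =>
        obtain ⟨a', ha'⟩ := hx
        exact ⟨a * a', by rw [map_mul, smul_comm, ← ha', Algebra.smul_def]⟩
    have h2 : t ∈ cond (C i) := mem_cond.2 (fun b hb => by
      obtain ⟨a, ha⟩ := hall ⟨b, hb⟩
      exact Algebra.mem_bot.2 ⟨a, by simpa using congrArg Subtype.val ha⟩)
    have h3 : t ∈ cond (C n) := by
      have : cond (C n) = cond (C i) := hn i hin
      rw [this]; exact h2
    exact ht (hp.1.2 h3)

end Main

end Groth.Agent.Lib.Helper86.IterEq
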