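import Mathlib
import Groth.Prelude.Def_W4c4cptpiccptjacBI

/-!
# Basic Inequality combinatorics on weighted multigraphs (helper86)
-/

set_option autoImplicit false
universe u

namespace Groth.Agent.Lib.Helper86.LabG

open LabGraph

variable {V E : Type u} [Fintype V] [Fintype E] [DecidableEq V] [DecidableEq E]

/-- Indicator of an edge `(x, y)` crossing the boundary of `Y`. -/
def cind (Y : Finset V) (x y : V) : ℤ :=
  if (x ∈ Y ∧ y ∉ Y) ∨ (x ∉ Y ∧ y ∈ Y) then 1 else 0

theorem cut_eq_sum (ends : E → V × V) (Y : Finset V) :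
    (cut ends Y : ℤ) = ∑ e : E, cind Y (ends e).1 (ends e).2 := by
  unfold cut cind
  rw [Finset.natCast_card_filter]

/-- The canonical degree of a single vertex. -/
def kv (ends : E → V × V) (w : V → ℕ) (v : V) : ℤ :=
  2 * (w v : ℤ) - 2 + (endCount ends Finset.univ v : ℤ)

theorem canDeg_eq_sum (ends : E → V × V) (w : V → ℕ) (Y : Finset V) :
    canDeg ends w Y = ∑ v ∈ Y, kv ends w v := rfl

theorem sum_endCount (ends : E → V × V) :
    ∑ v : V, (endCount ends Finset.univ v : ℤ) = 2 * (Fintype.card E : ℤ) := by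
  unfold endCount
  push_cast
  rw [Finset.sum_comm]
  simp only [Finset.sum_add_distrib, Finset.sum_ite_eq, Finset.mem_univ, if_true]
  simp
  ring

theorem canDeg_univ (ends : E → V × V) (w : V → ℕ) :
    canDeg ends w Finset.univ = 2 * genus ends w - 2 := by
  rw [canDeg_eq_sum]
  unfold kv genus
  rw [Finset.sum_add_distrib, Finset.sum_sub_distrib, sum_endCount, ← Finset.mul_sum]
  simp
  ring

theorem canDeg_univ_pos (ends : E → V × V) (w : V → ℕ) (hg : 3 ≤ genus ends w) :
    0 < canDeg ends w Finset.univ := by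
  rw [canDeg_univ]; omega

/-- Sum of a twist over a vertex set, as a sum over edges. -/
theorem sum_twist (ends : E → V × V) (φ : V → ℤ) (Y : Finset V) :
    ∑ v ∈ Y, twist ends φ v =
      ∑ e : E, ((if (ends e).1 ∈ Y then φ (ends e).2 - φ (ends e).1 else 0) +
        (if (ends e).2 ∈ Y then φ (ends e).1 - φ (ends e).2 else 0)) := by
  unfold twist
  rw [Finset.sum_comm]
  refine Finset.sum_congr rfl fun e _ => ?_
  rw [Finset.sum_add_distrib]
  congr 1
  · rw [Finset.sum_ite_eq]
  · rw [Finset.sum_ite_eq]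

theorem sum_twist_univ (ends : E → V × V) (φ : V → ℤ) : ∑ v : V, twist ends φ v = 0 := by
  rw [sum_twist]
  apply Finset.sum_eq_zero
  intro e _
  simp

/-- The per-vertex defect `K d_v - D k_v`. -/
def xi (ends : E → V × V) (w : V → ℕ) (d : V → ℤ) (v : V) : ℤ :=
  canDeg ends w Finset.univ * d v - (∑ u : V, d u) * kv ends w v

theorem qf_eq_sum (ends : E → V × V) (w : V → ℕ) (d : V → ℤ) (Y : Finset V) :
    canDeg ends w Finset.univ * (∑ v ∈ Y, d v) - (∑ v : V, d v) * canDeg ends w Y =
      ∑ v ∈ Y, xi ends w d v := by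
  unfold xi
  rw [Finset.sum_sub_distrib, ← Finset.mul_sum, ← Finset.mul_sum]
  rfl

theorem satisfiesBI_iff (ends : E → V × V) (w : V → ℕ) (d : V → ℤ) :
    SatisfiesBI ends w d ↔ ∀ Y : Finset V,
      2 * |∑ v ∈ Y, xi ends w d v| ≤ (cut ends Y : ℤ) * canDeg ends w Finset.univ := by
  unfold SatisfiesBI
  simp only [qf_eq_sum]

theorem sum_xi_univ (ends : E → V × V) (w : V → ℕ) (d : V → ℤ) :
    ∑ v : V, xi ends w d v = 0 := by
  rw [← qf_eq_sum]
  ring

theorem xi_add_twist (ends : E → V × V) (w : V → ℕ) (d : V → ℤ) (φ : V → ℤ) (v : V) :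
    xi ends w (fun u => d u + twist ends φ u) v =
      xi ends w d v + canDeg ends w Finset.univ * twist ends φ v := by
  unfold xi
  rw [Finset.sum_add_distrib, sum_twist_univ]
  ring

theorem sum_xi_add_twist (ends : E → V × V) (w : V → ℕ) (d : V → ℤ) (φ : V → ℤ) (Y : Finset V) :
    ∑ v ∈ Y, xi ends w (fun u => d u + twist ends φ u) v =
      ∑ v ∈ Y, xi ends w d v + canDeg ends w Finset.univ * ∑ v ∈ Y, twist ends φ v := by
  simp only [xi_add_twist]
  rw [Finset.sum_add_distrib, Finset.mul_sum]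

end Groth.Agent.Lib.Helper86.LabG
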