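import Mathlib
import Groth.Agent.Lib.Helper67.Lie3KL

/-!
`Lie3Mod.idJ A` is a prime ideal for every integral domain `A`.

After inverting `L1 = a - i` the Jacobi equations `Q1 = Q2 = Q3 = 0` can be solved for `h, e, b`;
this gives a ring map `phi` from `D A` to the fraction field of a polynomial ring in six variables
which kills `idJ`.  Every polynomial multiplied by a power of `L1` is congruent modulo `idI` to a
polynomial in the six free coordinates `L1, L2, L3, c, g, i`; together with helper67's key lemma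
(`L1` is a non-zero-divisor modulo `idJ`) this gives `ker phi = idJ`.
-/

namespace Groth.Agent.Lib.Helper86
namespace Lie3P
open MvPolynomial Lie3Mod Groth.Agent.Lib.Helper67.Lie3

variable (A : Type*) [CommRing A]

noncomputable section

/-- the parameter ring -/
abbrev P6 := MvPolynomial (Fin 6) A

/-- embedding of the six free coordinates -/
def psi : P6 A →ₐ[A] D A :=
  aeval (fun j : Fin 6 => (![L1 A, L2 A, L3 A, X 2, X 6, X 8] j : D A))

/-- reduction modulo `idI` after multiplication by a power of `L1`. -/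
def Red6 (x : D A) : Prop := ∃ (N : ℕ) (g : P6 A), L1 A ^ N * x - psi A g ∈ idI A

theorem red6_of_eq (x : D A) (g : P6 A) (h : x = psi A g) : Red6 A x :=
  ⟨0, g, by rw [h]; simp⟩

theorem red6_C (a : A) : Red6 A (C a) := red6_of_eq A _ (C a) (by simp [psi])

theorem red6_add {x y : D A} (hx : Red6 A x) (hy : Red6 A y) : Red6 A (x + y) := by
  obtain ⟨N, g, hg⟩ := hx
  obtain ⟨M, g', hg'⟩ := hy
  refine ⟨N + M, X 0 ^ M * g + X 0 ^ N * g', ?_⟩
  have hX : psi A (X 0) = L1 A := by simp [psi]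
  have : L1 A ^ (N + M) * (x + y) - psi A (X 0 ^ M * g + X 0 ^ N * g') =
      L1 A ^ M * (L1 A ^ N * x - psi A g) + L1 A ^ N * (L1 A ^ M * y - psi A g') := by
    simp only [map_add, map_mul, map_pow, hX]; ring
  rw [this]
  exact add_mem (Ideal.mul_mem_left _ _ hg) (Ideal.mul_mem_left _ _ hg')

theorem red6_mul {x y : D A} (hx : Red6 A x) (hy : Red6 A y) : Red6 A (x * y) := by
  obtain ⟨N, g, hg⟩ := hx
  obtain ⟨M, g', hg'⟩ := hy
  refine ⟨N + M, g * g', ?_⟩
  have : L1 A ^ (N + M) * (x * y) - psi A (g * g') =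
      (L1 A ^ M * y) * (L1 A ^ N * x - psi A g) + psi A g * (L1 A ^ M * y - psi A g') := by
    simp only [map_mul]; ring
  rw [this]
  exact add_mem (Ideal.mul_mem_left _ _ hg) (Ideal.mul_mem_left _ _ hg')

theorem red6_neg {x : D A} (hx : Red6 A x) : Red6 A (-x) := by
  obtain ⟨N, g, hg⟩ := hx
  refine ⟨N, -g, ?_⟩
  have : L1 A ^ N * (-x) - psi A (-g) = -(L1 A ^ N * x - psi A g) := by
    simp only [map_neg]; ring
  rw [this]; exact neg_mem hg

theorem red6_sub {x y : D A} (hx : Red6 A x) (hy : Red6 A y) : Red6 A (x - y) := by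
  rw [sub_eq_add_neg]; exact red6_add A hx (red6_neg A hy)

theorem red6_L1 : Red6 A (L1 A) := red6_of_eq A _ (X 0) (by simp [psi])
theorem red6_L2 : Red6 A (L2 A) := red6_of_eq A _ (X 1) (by simp [psi])
theorem red6_L3 : Red6 A (L3 A) := red6_of_eq A _ (X 2) (by simp [psi])
theorem red6_X2 : Red6 A (X 2 : D A) := red6_of_eq A _ (X 3) (by simp [psi])
theorem red6_X6 : Red6 A (X 6 : D A) := red6_of_eq A _ (X 4) (by simp [psi])
theorem red6_X8 : Red6 A (X 8 : D A) := red6_of_eq A _ (X 5) (by simp [psi])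

theorem red6_X0 : Red6 A (X 0 : D A) := by
  have : (X 0 : D A) = L1 A + X 8 := by simp [L1]
  rw [this]; exact red6_add A (red6_L1 A) (red6_X8 A)

/-- if `L1 * x ≡ y` mod `idI` and `y` is reducible then so is `x`. -/
theorem red6_of_L1_mul {x y : D A} (h : L1 A * x - y ∈ idI A) (hy : Red6 A y) : Red6 A x := by
  obtain ⟨N, g, hg⟩ := hy
  refine ⟨N + 1, g, ?_⟩
  have : L1 A ^ (N + 1) * x - psi A g = L1 A ^ N * (L1 A * x - y) + (L1 A ^ N * y - psi A g) := by
    ring
  rw [this]
  exact add_mem (Ideal.mul_mem_left _ _ h) hg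

theorem red6_X1 : Red6 A (X 1 : D A) := by
  -- L1 * X1 = Q3 + L1 L2 + X8 L2 - X2 L3
  refine red6_of_L1_mul A (y := L1 A * L2 A + X 8 * L2 A - X 2 * L3 A) ?_ ?_
  · have : L1 A * X 1 - (L1 A * L2 A + X 8 * L2 A - X 2 * L3 A) = Q3 A := by
      simp only [L1, L2, L3, Q3]; ring
    rw [this]; exact Q3_mem_idI A
  · exact red6_sub A (red6_add A (red6_mul A (red6_L1 A) (red6_L2 A))
      (red6_mul A (red6_X8 A) (red6_L2 A))) (red6_mul A (red6_X2 A) (red6_L3 A))

theorem red6_X5 : Red6 A (X 5 : D A) := by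
  have : (X 5 : D A) = L2 A - X 1 := by simp [L2]
  rw [this]; exact red6_sub A (red6_L2 A) (red6_X1 A)

theorem red6_X7 : Red6 A (X 7 : D A) := by
  -- L1 * X7 = Q1 + X6 L2 - X8 L3
  refine red6_of_L1_mul A (y := X 6 * L2 A - X 8 * L3 A) ?_ ?_
  · have : L1 A * X 7 - (X 6 * L2 A - X 8 * L3 A) = Q1 A := by
      simp only [L1, L2, L3, Q1]; ring
    rw [this]; exact Q1_mem_idI A
  · exact red6_sub A (red6_mul A (red6_X6 A) (red6_L2 A)) (red6_mul A (red6_X8 A) (red6_L3 A))

theorem red6_X3 : Red6 A (X 3 : D A) := by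
  have : (X 3 : D A) = L3 A - X 7 := by simp [L3]
  rw [this]; exact red6_sub A (red6_L3 A) (red6_X7 A)

theorem red6_X4 : Red6 A (X 4 : D A) := by
  -- L1 * X4 = -Q2 - X7 L2 + X1 L3
  refine red6_of_L1_mul A (y := X 1 * L3 A - X 7 * L2 A) ?_ ?_
  · have : L1 A * X 4 - (X 1 * L3 A - X 7 * L2 A) = - Q2 A := by
      simp only [L1, L2, L3, Q2]; ring
    rw [this]; exact neg_mem (Q2_mem_idI A)
  · exact red6_sub A (red6_mul A (red6_X1 A) (red6_L3 A)) (red6_mul A (red6_X7 A) (red6_L2 A))

theorem red6_all (x : D A) : Red6 A x := by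
  induction x using MvPolynomial.induction_on with
  | C a => exact red6_C A a
  | add p q hp hq => exact red6_add A hp hq
  | mul_X p j hp =>
    refine red6_mul A hp ?_
    fin_cases j
    · exact red6_X0 A
    · exact red6_X1 A
    · exact red6_X2 A
    · exact red6_X3 A
    · exact red6_X4 A
    · exact red6_X5 A
    · exact red6_X6 A
    · exact red6_X7 A
    · exact red6_X8 A

end


section Dom

variable [IsDomain A]

noncomputable section

/-- the target field -/
abbrev F6 := FractionRing (P6 A)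

/-- the parameters in the field -/
def tt (j : Fin 6) : F6 A := algebraMap (P6 A) (F6 A) (X j)

theorem tt0_ne : tt A 0 ≠ 0 := by
  rw [tt, Ne, map_eq_zero_iff _ (IsFractionRing.injective (P6 A) (F6 A))]
  exact X_ne_zero _

def y1 : F6 A := (tt A 0 * tt A 1 + tt A 5 * tt A 1 - tt A 3 * tt A 2) / tt A 0
def y7 : F6 A := (tt A 4 * tt A 1 - tt A 5 * tt A 2) / tt A 0
def y4 : F6 A := (y1 A * tt A 2 - y7 A * tt A 1) / tt A 0

/-- images of the nine variables -/
def yy : Fin 9 → F6 A :=
  ![tt A 0 + tt A 5, y1 A, tt A 3, tt A 2 - y7 A, y4 A, tt A 1 - y1 A, tt A 4, y7 A, tt A 5]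

def phi : D A →ₐ[A] F6 A := aeval (yy A)

theorem phi_X (j : Fin 9) : phi A (X j) = yy A j := by simp [phi]

theorem phi_L1 : phi A (L1 A) = tt A 0 := by
  simp only [L1, va, vi, map_sub, phi_X]; simp [yy]
theorem phi_L2 : phi A (L2 A) = tt A 1 := by
  simp only [L2, vb, vf, map_add, phi_X]; simp [yy]
theorem phi_L3 : phi A (L3 A) = tt A 2 := by
  simp only [L3, vd, vh, map_add, phi_X]; simp [yy]

theorem phi_psi (g : P6 A) : phi A (psi A g) = algebraMap (P6 A) (F6 A) g := by
  have h : (phi A).comp (psi A) = IsScalarTower.toAlgHom A (P6 A) (F6 A) := by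
    apply MvPolynomial.algHom_ext
    intro j
    simp only [AlgHom.comp_apply, IsScalarTower.toAlgHom_apply, psi, aeval_X]
    fin_cases j
    · exact phi_L1 A
    · exact phi_L2 A
    · exact phi_L3 A
    · simp [phi_X, yy, tt]
    · simp [phi_X, yy, tt]
    · simp [phi_X, yy, tt]
  exact AlgHom.congr_fun h g

theorem phi_Q1 : phi A (Q1 A) = 0 := by
  have h0 := tt0_ne A
  simp only [Q1, va, vb, vd, vf, vg, vh, vi, map_sub, map_add, map_mul, phi_X]
  simp only [yy, Matrix.cons_val_zero, Matrix.cons_val_one, Matrix.cons_val, y7]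
  field_simp
  ring

theorem phi_Q2 : phi A (Q2 A) = 0 := by
  have h0 := tt0_ne A
  simp only [Q2, va, vb, vd, ve, vf, vh, vi, map_sub, map_add, map_mul, phi_X]
  simp only [yy, Matrix.cons_val_zero, Matrix.cons_val_one, Matrix.cons_val, y4, y7, y1]
  field_simp
  ring

theorem phi_Q3 : phi A (Q3 A) = 0 := by
  have h0 := tt0_ne A
  simp only [Q3, va, vb, vc, vd, vf, vh, vi, map_sub, map_add, map_mul, phi_X]
  simp only [yy, Matrix.cons_val_zero, Matrix.cons_val_one, Matrix.cons_val, y7, y1]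
  field_simp
  ring

theorem phi_idI {x : D A} (hx : x ∈ idI A) : phi A x = 0 := by
  have : idI A ≤ RingHom.ker (phi A : D A →+* F6 A) := by
    refine Ideal.span_le.2 ?_
    intro z hz
    simp only [Set.mem_insert_iff, Set.mem_singleton_iff] at hz
    rcases hz with rfl | rfl | rfl
    · exact phi_Q1 A
    · exact phi_Q2 A
    · exact phi_Q3 A
  exact this hx

theorem phi_detM : phi A (detM A) = 0 := by
  have h : phi A (detM A * L1 A) = 0 := by
    apply phi_idI
    rw [adj_L1]
    exact add_mem (add_mem (Ideal.mul_mem_left _ _ (Q1_mem_idI A))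
      (Ideal.mul_mem_left _ _ (Q2_mem_idI A))) (Ideal.mul_mem_left _ _ (Q3_mem_idI A))
  rw [map_mul, phi_L1] at h
  exact (mul_eq_zero.1 h).resolve_right (tt0_ne A)

theorem idJ_le_ker : idJ A ≤ RingHom.ker (phi A : D A →+* F6 A) := by
  refine Ideal.span_le.2 ?_
  intro z hz
  simp only [Set.mem_insert_iff, Set.mem_singleton_iff] at hz
  rcases hz with rfl | rfl | rfl | rfl
  · exact phi_Q1 A
  · exact phi_Q2 A
  · exact phi_Q3 A
  · exact phi_detM A

theorem ker_phi : RingHom.ker (phi A : D A →+* F6 A) = idJ A := by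
  apply le_antisymm
  · intro x hx
    rw [RingHom.mem_ker] at hx
    obtain ⟨N, g, hg⟩ := red6_all A x
    have h1 : phi A (L1 A ^ N * x - psi A g) = 0 := phi_idI A hg
    rw [map_sub, map_mul] at h1
    have hx' : phi A x = 0 := hx
    rw [hx', mul_zero, zero_sub, neg_eq_zero, phi_psi,
      map_eq_zero_iff _ (IsFractionRing.injective (P6 A) (F6 A))] at h1
    rw [h1, map_zero, sub_zero] at hg
    exact key_lemma_pow A N (idI_le_idJ A hg)
  · exact idJ_le_ker A

theorem idJ_isPrime : (idJ A).IsPrime := by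
  rw [← ker_phi]
  exact RingHom.ker_isPrime _

theorem L1_not_mem_idJ : L1 A ∉ idJ A := by
  intro h
  rw [← ker_phi, RingHom.mem_ker] at h
  exact tt0_ne A ((phi_L1 A).symm.trans h)

end

end Dom

end Lie3P
end Groth.Agent.Lib.Helper86
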