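import Mathlib
import Groth.Agent.Lib.Helper86.Lie3Prime

namespace Groth.Agent.Lib.Helper86
namespace Lie3P
open MvPolynomial Lie3Mod Groth.Agent.Lib.Helper67.Lie3

variable (A : Type*) [CommRing A]

theorem idI_eq_inf : idI A = idJ A ⊓ idL A := by
  apply le_antisymm
  · exact le_inf (idI_le_idJ A) (idI_le_idL A)
  · rintro x ⟨hxJ, hxL⟩
    obtain ⟨q, hq, y, rfl⟩ := (mem_idJ_iff A x).1 hxJ
    have h1 : y * detM A ∈ idL A := by
      have : y * detM A = (q + y * detM A) - q := by ring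
      rw [this]
      exact sub_mem hxL (idI_le_idL A hq)
    have h2 := mem_idL_of_mul_detM_mem A h1
    have h3 := detM_mul_mem_idI A h2
    rw [mul_comm] at h3
    exact add_mem hq h3

variable [IsDomain A]

theorem C_mem_idJ {a : A} (h : (C a : D A) ∈ idJ A) : a = 0 := by
  rw [← ker_phi, RingHom.mem_ker] at h
  have h2 : phi A (C a) = algebraMap (P6 A) (F6 A) (C a) := by
    rw [← phi_psi]; simp [psi]
  rw [show (phi A : D A →+* F6 A) (C a) = phi A (C a) from rfl, h2,
    map_eq_zero_iff _ (IsFractionRing.injective (P6 A) (F6 A))] at h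
  exact (map_eq_zero_iff _ (C_injective _ _)).1 h

omit [IsDomain A] in
theorem C_mem_idL {a : A} (h : (C a : D A) ∈ idL A) : a = 0 := by
  rw [← ker_phiL, RingHom.mem_ker] at h
  have h2 : phiL A (C a) = C a := by
    rw [← MvPolynomial.algebraMap_eq, AlgHom.commutes]
  rw [show (phiL A : D A →+* D A) (C a) = phiL A (C a) from rfl, h2] at h
  exact (map_eq_zero_iff _ (C_injective _ _)).1 h

theorem idJ_minimal : idJ A ∈ (idI A).minimalPrimes := by
  refine ⟨⟨idJ_isPrime A, idI_le_idJ A⟩, ?_⟩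
  rintro P ⟨hP, hIP⟩ hPJ x hx
  have h1 : L1 A * x ∈ P := hIP (mul_mem_idI A (L1_mem_idL A) hx)
  rcases hP.mem_or_mem h1 with h | h
  · exact absurd (hPJ h) (L1_not_mem_idJ A)
  · exact h

theorem smul_mem_idJ {a : A} {x : D A} (h : a • x ∈ idJ A) : a = 0 ∨ x ∈ idJ A := by
  rw [MvPolynomial.smul_eq_C_mul] at h
  rcases (idJ_isPrime A).mem_or_mem h with h | h
  · exact Or.inl (C_mem_idJ A h)
  · exact Or.inr h

theorem smul_mem_idL {a : A} {x : D A} (h : a • x ∈ idL A) : a = 0 ∨ x ∈ idL A := by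
  rw [MvPolynomial.smul_eq_C_mul] at h
  rcases (idL_isPrime A).mem_or_mem h with h | h
  · exact Or.inl (C_mem_idL A h)
  · exact Or.inr h

theorem isTorsionFree_quot_idJ : Module.IsTorsionFree A (D A ⧸ idJ A) := by
  apply Module.IsTorsionFree.of_smul_eq_zero
  intro r m h
  obtain ⟨x, rfl⟩ := Ideal.Quotient.mk_surjective m
  have h' : r • x ∈ idJ A := by
    rw [← Ideal.Quotient.eq_zero_iff_mem]
    exact h
  rcases smul_mem_idJ A h' with h1 | h1
  · exact Or.inl h1
  · exact Or.inr (Ideal.Quotient.eq_zero_iff_mem.2 h1)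

theorem isTorsionFree_quot_idI : Module.IsTorsionFree A (D A ⧸ idI A) := by
  apply Module.IsTorsionFree.of_smul_eq_zero
  intro r m h
  obtain ⟨x, rfl⟩ := Ideal.Quotient.mk_surjective m
  have h' : r • x ∈ idI A := by
    rw [← Ideal.Quotient.eq_zero_iff_mem]
    exact h
  by_cases hr : r = 0
  · exact Or.inl hr
  right
  rw [idI_eq_inf] at h'
  have hJ := (smul_mem_idJ A h'.1).resolve_left hr
  have hL := (smul_mem_idL A h'.2).resolve_left hr
  apply Ideal.Quotient.eq_zero_iff_mem.2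
  rw [idI_eq_inf]
  exact ⟨hJ, hL⟩

theorem idI_isRadical : (idI A).IsRadical := by
  rw [idI_eq_inf]
  exact Ideal.IsRadical.inf (idJ_isPrime A).isRadical (idL_isPrime A).isRadical

end Lie3P
end Groth.Agent.Lib.Helper86
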