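import Mathlib
import Groth.Agent.S17331
import Groth.Agent.Lib.Helper86.CartierRed
import Groth.Agent.Lib.Helper86.HopfPrim4

set_option autoImplicit false
set_option linter.unusedSectionVars false
universe u v

open TensorProduct Coalgebra WithConv

namespace Groth.Agent.Lib.Helper86.MonoDual

open Groth.Agent.Lib.Helper86

section Main

variable (K : Type u) [Field K] [IsAlgClosed K] (H : Type v) [CommRing H] [HopfAlgebra K H]
  [Module.Finite K H]

theorem card_points_eq_finrank [IsReduced H] [Fintype (WithConv (H →ₐ[K] K))] :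
    Fintype.card (WithConv (H →ₐ[K] K)) = Module.finrank K H := by
  classical
  have e0 := HopfConst.equivF K H (MulEquiv.refl (WithConv (H →ₐ[K] K)))
  have h2 : Module.finrank K H = Module.finrank K (ConstGrp.F K (WithConv (H →ₐ[K] K))) :=
    LinearEquiv.finrank_eq (e0 : H ≃ₐ[K] ConstGrp.F K (WithConv (H →ₐ[K] K))).toLinearEquiv
  rw [h2]
  exact (Module.finrank_fintype_fun_eq_card K).symm

theorem exists_linearIndependent_pow_of_isReduced [IsReduced H] (p : ℕ) [Fact p.Prime]
    (hH : Module.finrank K H = p) :
    ∃ β : WithConv (H →ₗ[K] K), LinearIndependent K (fun j : Fin p => β ^ (j : ℕ)) := by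
  classical
  have hfinite : Finite (WithConv (H →ₐ[K] K)) :=
    Finite.of_equiv (H →ₐ[K] K) (WithConv.equiv _).symm
  have : Fintype (WithConv (H →ₐ[K] K)) := Fintype.ofFinite _
  have hcard : Nat.card (WithConv (H →ₐ[K] K)) = p := by
    rw [Nat.card_eq_fintype_card, card_points_eq_finrank K H, hH]
  have hc : IsCyclic (WithConv (H →ₐ[K] K)) := isCyclic_of_prime_card hcard
  obtain ⟨γ, hγ⟩ := hc.exists_generator
  have hord : orderOf γ = p := by
    rw [orderOf_eq_card_of_forall_mem_zpowers hγ, hcard]
  have hinj : Function.Injective (fun j : Fin p => (γ ^ (j : ℕ)).ofConv) := by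
    intro i j hij
    have h1 : γ ^ (i : ℕ) = γ ^ (j : ℕ) := WithConv.ofConv_injective hij
    have h2 := pow_injOn_Iio_orderOf (x := γ) (by rw [Set.mem_Iio, hord]; exact i.2)
      (by rw [Set.mem_Iio, hord]; exact j.2) h1
    exact Fin.ext h2
  have hli := (linearIndependent_algHom_toLinearMap K H K).comp _ hinj
  refine ⟨toConv γ.ofConv.toLinearMap, ?_⟩
  have h3 : ∀ j : Fin p, (toConv γ.ofConv.toLinearMap : WithConv (H →ₗ[K] K)) ^ (j : ℕ) =
      (WithConv.linearEquiv K (H →ₗ[K] K)).symm ((γ ^ (j : ℕ)).ofConv.toLinearMap) := by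
    intro j
    rw [← AlgHom.toLinearMap_convPow]
    rfl
  rw [show (fun j : Fin p => (toConv γ.ofConv.toLinearMap : WithConv (H →ₗ[K] K)) ^ (j : ℕ)) =
    fun j : Fin p => (WithConv.linearEquiv K (H →ₗ[K] K)).symm ((γ ^ (j : ℕ)).ofConv.toLinearMap) from
      funext h3]
  exact hli.map' (WithConv.linearEquiv K (H →ₗ[K] K)).symm.toLinearMap
    (LinearMap.ker_eq_bot.2 (WithConv.linearEquiv K (H →ₗ[K] K)).symm.injective)

theorem exists_linearIndependent_pow (p : ℕ) [Fact p.Prime] (hH : Module.finrank K H = p) :
    ∃ β : WithConv (H →ₗ[K] K), LinearIndependent K (fun j : Fin p => β ^ (j : ℕ)) := by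
  by_cases hred : IsReduced H
  · exact exists_linearIndependent_pow_of_isReduced K H p hH
  · -- the characteristic is p
    have hchar : CharP K p := by
      obtain ⟨q, hq⟩ := CharP.exists K
      rcases CharP.char_is_prime_or_zero K q with hq' | hq'
      · have : Fact q.Prime := ⟨hq'⟩
        obtain ⟨h1, -⟩ := Groth.Agent.S17331.result K q H p hH
        by_cases hpq : p = q
        · rw [hpq]; exact hq
        · exfalso
          obtain ⟨e⟩ := h1 hpq
          apply hred
          have hinj : Function.Injective (e : H →+* ConstGrp.F K (Multiplicative (ZMod p))) :=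
            e.injective
          have : IsReduced (ConstGrp.F K (Multiplicative (ZMod p))) :=
            inferInstanceAs (IsReduced (Multiplicative (ZMod p) → K))
          exact isReduced_of_injective _ hinj
      · exfalso
        subst hq'
        have : CharZero K := CharP.charP_to_charZero K
        exact hred (Cartier.isReduced_of_charZero K H)
    obtain ⟨d, hd, hd0⟩ := HopfPrim.exists_epsDer_ne_zero (k := K) hred
    obtain ⟨b, hb, hdb⟩ := HopfPrim.exists_eq_one hd hd0
    exact ⟨d, HopfPrim.linearIndependent_pow p hd hb hdb⟩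

end Main

end Groth.Agent.Lib.Helper86.MonoDual
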