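import Mathlib
import Groth.Agent.Lib.Helper92.OortTateDual

set_option autoImplicit false
set_option linter.unusedSectionVars false
universe u

namespace Groth.Agent.Lib.Helper86.OTBase

open TensorProduct WithConv Groth.Agent.Lib.Helper92.OT

section BC
variable (R : Type u) [CommRing R] (K : Type u) [CommRing K] [Algebra R K]
  (A : Type u) [CommRing A] [HopfAlgebra R A]

/-- `a₁ ⊗ a₂ ↦ (1 ⊗ a₁) ⊗ (1 ⊗ a₂)` -/
noncomputable def theta : A ⊗[R] A →ₗ[R] (K ⊗[R] A) ⊗[K] (K ⊗[R] A) :=
  ((TensorProduct.AlgebraTensorModule.distribBaseChange R K A A).toLinearMap.restrictScalars R) ∘ₗ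
    (TensorProduct.mk R K (A ⊗[R] A) 1)

lemma theta_tmul (a₁ a₂ : A) :
    theta R K A (a₁ ⊗ₜ[R] a₂) = ((1 : K) ⊗ₜ[R] a₁) ⊗ₜ[K] ((1 : K) ⊗ₜ[R] a₂) := rfl

lemma comul_one_tmul (a : A) :
    Coalgebra.comul (R := K) ((1 : K) ⊗ₜ[R] a) = theta R K A (Coalgebra.comul (R := R) a) := by
  rw [TensorProduct.comul_tmul, CommSemiring.comul_apply]
  generalize Coalgebra.comul (R := R) a = x
  induction x using TensorProduct.induction_on with
  | zero => simp
  | tmul a₁ a₂ =>
    rw [TensorProduct.AlgebraTensorModule.tensorTensorTensorComm_tmul, theta_tmul]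
  | add x y hx hy => rw [TensorProduct.tmul_add, map_add, hx, hy, map_add]

lemma counit_one_tmul (a : A) :
    Coalgebra.counit (R := K) ((1 : K) ⊗ₜ[R] a) = algebraMap R K (Coalgebra.counit (R := R) a) := by
  rw [TensorProduct.counit_tmul, CommSemiring.counit_apply, Algebra.algebraMap_eq_smul_one]

/-- base change of an algebra endomorphism -/
noncomputable def bcAlg (f : A →ₐ[R] A) : K ⊗[R] A →ₐ[K] K ⊗[R] A :=
  Algebra.TensorProduct.map (AlgHom.id K K) f

lemma bcAlg_tmul (f : A →ₐ[R] A) (c : K) (a : A) :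
    bcAlg R K A f (c ⊗ₜ[R] a) = c ⊗ₜ[R] f a := by
  simp [bcAlg]

lemma bcAlg_toLinearMap (f : A →ₐ[R] A) :
    (bcAlg R K A f).toLinearMap = f.toLinearMap.baseChange K := by
  apply TensorProduct.AlgebraTensorModule.ext
  intro c a
  simp [bcAlg_tmul]

lemma algHom_ext_one_tmul {f g : K ⊗[R] A →ₐ[K] K ⊗[R] A}
    (h : ∀ a : A, f ((1 : K) ⊗ₜ[R] a) = g ((1 : K) ⊗ₜ[R] a)) : f = g := by
  apply Algebra.TensorProduct.ext'
  intro c a
  have : c ⊗ₜ[R] a = c • ((1 : K) ⊗ₜ[R] a) := by rw [TensorProduct.smul_tmul', smul_eq_mul, mul_one]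
  rw [this, map_smul, map_smul, h]

lemma bcAlg_convMul (f g : WithConv (A →ₐ[R] A)) :
    toConv (bcAlg R K A (f * g).ofConv) =
      toConv (bcAlg R K A f.ofConv) * toConv (bcAlg R K A g.ofConv) := by
  apply WithConv.ofConv_injective
  apply algHom_ext_one_tmul
  intro a
  rw [WithConv.ofConv_toConv, bcAlg_tmul]
  have hL : (f * g).ofConv a = _ := AlgHom.convMul_apply f g a
  have hR : (toConv (bcAlg R K A f.ofConv) * toConv (bcAlg R K A g.ofConv)).ofConv
      ((1 : K) ⊗ₜ[R] a) = _ := AlgHom.convMul_apply _ _ _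
  rw [hL, hR, comul_one_tmul]
  generalize Coalgebra.comul (R := R) a = x
  induction x using TensorProduct.induction_on with
  | zero => simp
  | tmul a₁ a₂ =>
    rw [theta_tmul, Algebra.TensorProduct.lift_tmul, Algebra.TensorProduct.lift_tmul,
      WithConv.ofConv_toConv, WithConv.ofConv_toConv, bcAlg_tmul, bcAlg_tmul,
      Algebra.TensorProduct.tmul_mul_tmul, mul_one]
  | add x y hx hy => rw [map_add, TensorProduct.tmul_add, hx, hy, map_add, map_add]

lemma bcAlg_convOne : toConv (bcAlg R K A (1 : WithConv (A →ₐ[R] A)).ofConv) = 1 := by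
  apply WithConv.ofConv_injective
  apply algHom_ext_one_tmul
  intro a
  rw [WithConv.ofConv_toConv, bcAlg_tmul]
  show (1 : K) ⊗ₜ[R] ((1 : WithConv (A →ₐ[R] A)) a) =
    (1 : WithConv (K ⊗[R] A →ₐ[K] K ⊗[R] A)) ((1 : K) ⊗ₜ[R] a)
  rw [AlgHom.convOne_apply, AlgHom.convOne_apply, counit_one_tmul,
    Algebra.algebraMap_eq_smul_one (A := A), TensorProduct.tmul_smul, TensorProduct.smul_tmul',
    Algebra.TensorProduct.algebraMap_apply, ← Algebra.algebraMap_eq_smul_one]
  rfl

lemma bcAlg_convPow (f : WithConv (A →ₐ[R] A)) (n : ℕ) :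
    toConv (bcAlg R K A (f ^ n).ofConv) = (toConv (bcAlg R K A f.ofConv)) ^ n := by
  induction n with
  | zero => rw [pow_zero, pow_zero, bcAlg_convOne]
  | succ n ih => rw [pow_succ, pow_succ, bcAlg_convMul, ih]

lemma bcAlg_id : bcAlg R K A (AlgHom.id R A) = AlgHom.id K (K ⊗[R] A) := by
  apply algHom_ext_one_tmul
  intro a
  rw [bcAlg_tmul]
  rfl

theorem powConv_bc (n : ℕ) :
    SGA3b.powConv K (K ⊗[R] A) n = bcAlg R K A (SGA3b.powConv R A n) := by
  unfold SGA3b.powConv
  have := bcAlg_convPow R K A (toConv (AlgHom.id R A)) n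
  rw [WithConv.ofConv_toConv, bcAlg_id] at this
  rw [← this, WithConv.ofConv_toConv]

theorem hp_bc (p : ℕ) (hp : (toConv (AlgHom.id R A)) ^ p = 1) :
    (toConv (AlgHom.id K (K ⊗[R] A))) ^ p = 1 := by
  have := bcAlg_convPow R K A (toConv (AlgHom.id R A)) p
  rw [WithConv.ofConv_toConv, bcAlg_id] at this
  rw [← this, hp, bcAlg_convOne]

end BC

section Eigen
variable (R : Type u) [CommRing R] (K : Type u) [CommRing K] [Algebra R K]
  (A : Type u) [CommRing A] [HopfAlgebra R A]
variable (p : ℕ) [Fact p.Prime] (χ : (ZMod p)ˣ →* Rˣ) (u : R)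

/-- the character pushed to `K` -/
noncomputable abbrev chiK : (ZMod p)ˣ →* Kˣ :=
  (Units.map ((algebraMap R K : R →+* K) : R →* K)).comp χ

lemma chiK_apply (m : (ZMod p)ˣ) :
    ((chiK R K p χ m : Kˣ) : K) = algebraMap R K ((χ m : Rˣ) : R) := rfl

lemma powConv_bc_tmul (n : ℕ) (c : K) (a : A) :
    SGA3b.powConv K (K ⊗[R] A) n (c ⊗ₜ[R] a) = c ⊗ₜ[R] SGA3b.powConv R A n a := by
  rw [powConv_bc, bcAlg_tmul]

theorem proj_bc (i : ℕ) :
    OortTate.proj K (K ⊗[R] A) p (algebraMap R K u) (chiK R K p χ) i =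
      (OortTate.proj R A p u χ i).baseChange K := by
  apply TensorProduct.AlgebraTensorModule.ext
  intro c a
  rw [LinearMap.baseChange_tmul]
  unfold OortTate.proj
  simp only [LinearMap.smul_apply, LinearMap.sum_apply, AlgHom.toLinearMap_apply,
    powConv_bc_tmul, chiK_apply, TensorProduct.tmul_smul, TensorProduct.tmul_sum,
    ← map_pow, algebraMap_smul]

theorem counit_bc_tmul (c : K) (a : A) :
    Coalgebra.counit (R := K) (c ⊗ₜ[R] a) = c * algebraMap R K (Coalgebra.counit (R := R) a) := by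
  rw [TensorProduct.counit_tmul, CommSemiring.counit_apply, Algebra.smul_def, mul_comm]

theorem piAug_bc (i : ℕ) :
    piAug K (K ⊗[R] A) p (chiK R K p χ) (algebraMap R K u) i =
      (piAug R A p χ u i).baseChange K := by
  apply TensorProduct.AlgebraTensorModule.ext
  intro c a
  rw [LinearMap.baseChange_tmul, piAug_apply, piAug_apply, proj_bc, counit_bc_tmul]
  have : c ⊗ₜ[R] a - algebraMap K (K ⊗[R] A) (c * algebraMap R K (Coalgebra.counit (R := R) a)) =
      c ⊗ₜ[R] (a - algebraMap R A (Coalgebra.counit (R := R) a)) := by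
    rw [TensorProduct.tmul_sub, Algebra.TensorProduct.algebraMap_apply,
      Algebra.algebraMap_eq_smul_one (A := A), TensorProduct.tmul_smul,
      TensorProduct.smul_tmul', Algebra.smul_def, mul_comm]
    rfl
  rw [this, LinearMap.baseChange_tmul]

variable (hp : (WithConv.toConv (AlgHom.id R A)) ^ p = 1) (hu : u * ((p - 1 : ℕ) : R) = 1)

include hu in
lemma hu_bc : algebraMap R K u * ((p - 1 : ℕ) : K) = 1 := by
  rw [← map_natCast (algebraMap R K), ← map_mul, hu, map_one]

include hp in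
lemma one_tmul_mem (i : ℕ) (f : A) (hf : f ∈ OortTate.eigenAug R A p χ i) :
    (1 : K) ⊗ₜ[R] f ∈ OortTate.eigenAug K (K ⊗[R] A) p (chiK R K p χ) i := by
  rw [mem_eigenAug] at hf ⊢
  refine ⟨?_, fun m => ?_⟩
  · rw [counit_one_tmul, hf.1, map_zero]
  · rw [powConv_bc_tmul, hf.2 m, chiK_apply, TensorProduct.tmul_smul, ← map_pow, algebraMap_smul]

include hp in
theorem piAug_mem' (i : ℕ) (a : A) : piAug R A p χ u i a ∈ OortTate.eigenAug R A p χ i := by
  rw [piAug_apply]
  apply proj_mem R A p χ hp u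
  rw [map_sub, Bialgebra.counit_algebraMap, sub_self]

include hu hp in
theorem piAug_fix' (i : ℕ) (a : A) (ha : a ∈ OortTate.eigenAug R A p χ i) :
    piAug R A p χ u i a = a := by
  rw [mem_eigenAug] at ha
  rw [piAug_apply, ha.1, map_zero, sub_zero]
  exact proj_fix R A p χ hp u hu i a ha.2

/-- the retraction `A → I_i` -/
noncomputable def retr (i : ℕ) : A →ₗ[R] OortTate.eigenAug R A p χ i :=
  LinearMap.codRestrict _ (piAug R A p χ u i) (piAug_mem' R A p χ u hp i)

include hu in
lemma retr_comp_subtype (i : ℕ) :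
    (retr R A p χ u hp i) ∘ₗ (OortTate.eigenAug R A p χ i).subtype = LinearMap.id := by
  apply LinearMap.ext
  intro f
  apply Subtype.ext
  exact piAug_fix' R A p χ u hp hu i f f.2

lemma subtype_comp_retr (i : ℕ) :
    (OortTate.eigenAug R A p χ i).subtype ∘ₗ (retr R A p χ u hp i) = piAug R A p χ u i := by
  apply LinearMap.ext
  intro f
  rfl

include hu hp in
theorem subtype_baseChange_injective (i : ℕ) :
    Function.Injective ((OortTate.eigenAug R A p χ i).subtype.baseChange K) := by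
  have h := retr_comp_subtype R A p χ u hp hu i
  have h2 : ((retr R A p χ u hp i).baseChange K) ∘ₗ
      ((OortTate.eigenAug R A p χ i).subtype.baseChange K) = LinearMap.id := by
    rw [← LinearMap.baseChange_comp, h, LinearMap.baseChange_id]
  exact Function.LeftInverse.injective (g := (retr R A p χ u hp i).baseChange K)
    (fun x => LinearMap.congr_fun h2 x)

include hu hp in
theorem eigenAug_bc (i : ℕ) :
    OortTate.eigenAug K (K ⊗[R] A) p (chiK R K p χ) i =
      (OortTate.eigenAug R A p χ i).baseChange K := by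
  apply le_antisymm
  · intro x hx
    have h1 := piAug_fix' K (K ⊗[R] A) p (chiK R K p χ) (algebraMap R K u) (hp_bc R K A p hp)
      (hu_bc R K p u hu) i x hx
    rw [piAug_bc, ← subtype_comp_retr R A p χ u hp i, LinearMap.baseChange_comp] at h1
    rw [← h1]
    exact ⟨_, rfl⟩
  · rw [Submodule.baseChange_eq_span, Submodule.span_le]
    rintro _ ⟨f, hf, rfl⟩
    exact one_tmul_mem R K A p χ hp i f hf

include hu hp in
theorem finrank_bc (i : ℕ) :
    Module.finrank K (K ⊗[R] OortTate.eigenAug R A p χ i) =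
      Module.finrank K (OortTate.eigenAug K (K ⊗[R] A) p (chiK R K p χ) i) := by
  rw [eigenAug_bc R K A p χ u hp hu i]
  exact (LinearEquiv.ofInjective _ (subtype_baseChange_injective R K A p χ u hp hu i)).finrank_eq

end Eigen

end Groth.Agent.Lib.Helper86.OTBase
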