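import Mathlib

set_option autoImplicit false
set_option linter.unusedSectionVars false
universe u

namespace Groth.Agent.Lib.Helper86.OTGlobal

open TensorProduct

section Geom
variable (R : Type u) [CommRing R]

/-- the geometric point over a prime `q` -/
abbrev Kq (q : PrimeSpectrum R) : Type u := AlgebraicClosure q.asIdeal.ResidueField

lemma algebraMap_Kq_eq_zero (q : PrimeSpectrum R) (x : R) :
    algebraMap R (Kq R q) x = 0 ↔ x ∈ q.asIdeal := by
  rw [IsScalarTower.algebraMap_apply R q.asIdeal.ResidueField (Kq R q),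
    map_eq_zero_iff _ (algebraMap q.asIdeal.ResidueField (Kq R q)).injective,
    Ideal.algebraMap_residueField_eq_zero]

lemma comap_bot (q : PrimeSpectrum R) :
    (⟨⊥, Ideal.isPrime_bot⟩ : PrimeSpectrum (Kq R q)).comap (algebraMap R (Kq R q)) = q := by
  apply PrimeSpectrum.ext
  ext x
  show algebraMap R (Kq R q) x ∈ (⊥ : Ideal (Kq R q)) ↔ _
  rw [Ideal.mem_bot, algebraMap_Kq_eq_zero]

theorem rankAtStalk_eq_finrank (M : Type u) [AddCommGroup M] [Module R M] [Module.Finite R M]
    [Module.Flat R M] (q : PrimeSpectrum R) :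
    Module.rankAtStalk M q = Module.finrank (Kq R q) (Kq R q ⊗[R] M) := by
  have h1 := Module.rankAtStalk_baseChange (R := R) (M := M) (S := Kq R q)
    ⟨⊥, Ideal.isPrime_bot⟩
  rw [comap_bot] at h1
  rw [← h1, Module.rankAtStalk_eq_finrank_of_free]
  rfl

theorem nontrivial_geom (Q : Type u) [AddCommGroup Q] [Module R Q] [Module.Finite R Q]
    (q : PrimeSpectrum R) (hq : q ∈ Module.support R Q) : Nontrivial (Kq R q ⊗[R] Q) := by
  have h1 : Nontrivial (q.asIdeal.ResidueField ⊗[R] Q) :=
    (Module.mem_support_iff_nontrivial_residueField_tensorProduct q).1 hq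
  have hfree : Module.Free q.asIdeal.ResidueField (Kq R q) := Module.Free.of_divisionRing _ _
  have hntK : Nontrivial (Kq R q) := inferInstance
  have hff : Module.FaithfullyFlat q.asIdeal.ResidueField (Kq R q) :=
    Module.FaithfullyFlat.instOfNontrivialOfFree _ _
  have h2 : Nontrivial (Kq R q ⊗[q.asIdeal.ResidueField] (q.asIdeal.ResidueField ⊗[R] Q)) :=
    Module.FaithfullyFlat.lTensor_nontrivial _ _ _
  exact (TensorProduct.AlgebraTensorModule.cancelBaseChange R q.asIdeal.ResidueField
    (Kq R q) (Kq R q) Q).symm.toEquiv.nontrivial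

theorem surjective_of_geom {N M : Type u} [AddCommGroup N] [Module R N] [AddCommGroup M]
    [Module R M] [Module.Finite R M] (f : N →ₗ[R] M)
    (h : ∀ q : PrimeSpectrum R, Function.Surjective (f.baseChange (Kq R q))) :
    Function.Surjective f := by
  rw [← LinearMap.range_eq_top, ← Submodule.Quotient.subsingleton_iff]  
  by_contra hns
  rw [not_subsingleton_iff_nontrivial] at hns
  obtain ⟨q, hq⟩ := Module.nonempty_support_of_nontrivial (R := R) (M := M ⧸ LinearMap.range f)
  have hnt := nontrivial_geom R (M ⧸ LinearMap.range f) q hq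
  have hsurj : Function.Surjective ((LinearMap.range f).mkQ.baseChange (Kq R q)) := by
    rw [LinearMap.baseChange_eq_ltensor]
    exact LinearMap.lTensor_surjective _ (Submodule.mkQ_surjective _)
  have hzero : ((LinearMap.range f).mkQ.baseChange (Kq R q)) ∘ₗ (f.baseChange (Kq R q)) = 0 := by
    rw [← LinearMap.baseChange_comp]
    have : (LinearMap.range f).mkQ ∘ₗ f = 0 := by
      apply LinearMap.ext
      intro x
      simp
    rw [this, LinearMap.baseChange_zero]
  have : Subsingleton (Kq R q ⊗[R] (M ⧸ LinearMap.range f)) := by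
    constructor
    intro a b
    obtain ⟨a', rfl⟩ := hsurj a
    obtain ⟨b', rfl⟩ := hsurj b
    obtain ⟨a'', rfl⟩ := h q a'
    obtain ⟨b'', rfl⟩ := h q b'
    have ha := LinearMap.congr_fun hzero a''
    have hb := LinearMap.congr_fun hzero b''
    simp only [LinearMap.comp_apply, LinearMap.zero_apply] at ha hb
    rw [ha, hb]
  exact not_subsingleton _ this

end Geom

section Pow
variable (R : Type u) [CommRing R] (K : Type u) [CommRing K] [Algebra R K]
  (A : Type u) [CommRing A] [Algebra R A]

theorem baseChange_mul (N₁ N₂ : Submodule R A) :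
    (N₁ * N₂).baseChange K = N₁.baseChange K * N₂.baseChange K := by
  apply le_antisymm
  · rw [Submodule.baseChange_eq_span, Submodule.span_le]
    rintro _ ⟨x, hx, rfl⟩
    refine Submodule.mul_induction_on hx ?_ ?_
    · intro a ha b hb
      have : TensorProduct.mk R K A 1 (a * b) = ((1 : K) ⊗ₜ[R] a) * ((1 : K) ⊗ₜ[R] b) := by
        rw [Algebra.TensorProduct.tmul_mul_tmul, mul_one]
        rfl
      rw [SetLike.mem_coe, this]
      exact Submodule.mul_mem_mul (Submodule.tmul_mem_baseChange_of_mem _ ha)
        (Submodule.tmul_mem_baseChange_of_mem _ hb)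
    · intro x y hx hy
      rw [SetLike.mem_coe] at hx hy ⊢
      rw [map_add]
      exact Submodule.add_mem _ hx hy
  · rw [Submodule.baseChange_eq_span, Submodule.baseChange_eq_span, Submodule.span_mul_span,
      Submodule.span_le]
    rintro _ ⟨_, ⟨a, ha, rfl⟩, _, ⟨b, hb, rfl⟩, rfl⟩
    have : TensorProduct.mk R K A 1 a * TensorProduct.mk R K A 1 b = (1 : K) ⊗ₜ[R] (a * b) := by
      show ((1 : K) ⊗ₜ[R] a) * ((1 : K) ⊗ₜ[R] b) = _
      rw [Algebra.TensorProduct.tmul_mul_tmul, mul_one]
    show TensorProduct.mk R K A 1 a * TensorProduct.mk R K A 1 b ∈ _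
    rw [this]
    exact Submodule.tmul_mem_baseChange_of_mem _ (Submodule.mul_mem_mul ha hb)

theorem baseChange_pow (N : Submodule R A) (t : ℕ) :
    (N ^ t).baseChange K = (N.baseChange K) ^ t := by
  induction t with
  | zero =>
    rw [pow_zero, pow_zero, Submodule.one_eq_span, Submodule.baseChange_span, Set.image_singleton,
      Submodule.one_eq_span]
    rfl
  | succ n ih => rw [pow_succ, pow_succ, baseChange_mul, ih]

end Pow

end Groth.Agent.Lib.Helper86.OTGlobal
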