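import Mathlib
import Groth.Agent.Lib.Helper86.OTGlobal

set_option autoImplicit false
set_option linter.unusedSectionVars false
universe u

namespace Groth.Agent.Lib.Helper86.OTDual

open TensorProduct Groth.Agent.Lib.Helper86.OTGlobal

section DualRank
variable (R : Type u) [CommRing R] (M : Type u) [AddCommGroup M] [Module R M]
  [Module.Finite R M] [Module.Projective R M]

theorem rankAtStalk_dual (q : PrimeSpectrum R) :
    Module.rankAtStalk (Module.Dual R M) q = Module.rankAtStalk M q := by
  let S := q.asIdeal.primeCompl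
  let Rq := Localization.AtPrime q.asIdeal
  let Mq := LocalizedModule S M
  let f : M →ₗ[R] Mq := LocalizedModule.mkLinearMap S M
  let g : R →ₗ[R] Rq := Algebra.linearMap R Rq
  let Φ : (M →ₗ[R] R) →ₗ[R] (Mq →ₗ[Rq] Rq) := IsLocalizedModule.mapExtendScalars S f g Rq
  have hfp : Module.FinitePresentation R M := Module.finitePresentation_of_projective R M
  have hΦ : IsLocalizedModule S Φ :=
    Module.FinitePresentation.isLocalizedModule_mapExtendScalars S f g Rq
  let e : LocalizedModule S (M →ₗ[R] R) ≃ₗ[Rq] (Mq →ₗ[Rq] Rq) :=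
    (IsLocalizedModule.linearEquiv S (LocalizedModule.mkLinearMap S (M →ₗ[R] R)) Φ
      ).extendScalarsOfIsLocalization S Rq
  have hfree : Module.Free Rq Mq := Module.free_of_flat_of_isLocalRing
  show Module.finrank Rq (LocalizedModule S (Module.Dual R M)) = Module.finrank Rq Mq
  rw [e.finrank_eq, Module.finrank_linearMap_self]

end DualRank

section Inv
variable (R : Type u) [CommRing R] (L : Type u) [AddCommGroup L] [Module R L]
  [Module.Finite R L] [Module.Projective R L]

theorem contractLeft_surjective (h1 : ∀ q : PrimeSpectrum R, Module.rankAtStalk L q = 1) :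
    Function.Surjective (contractLeft R L) := by
  classical
  obtain ⟨n, f, g, -, -, hfg⟩ := Module.Finite.exists_comp_eq_id_of_projective R L
  rw [← LinearMap.range_eq_top]
  by_contra hne
  obtain ⟨𝔪, hmax, hle⟩ := Ideal.exists_le_maximal (LinearMap.range (contractLeft R L)) hne
  let q : PrimeSpectrum R := ⟨𝔪, hmax.isPrime⟩
  have hcoef : ∀ (b : L) (k : Fin n), g b k ∈ 𝔪 := by
    intro b k
    apply hle
    refine ⟨((LinearMap.proj k : (Fin n → R) →ₗ[R] R) ∘ₗ g) ⊗ₜ[R] b, ?_⟩
    rw [contractLeft_apply]
    rfl
  have hzero : ∀ (c : Kq R q) (b : L), c ⊗ₜ[R] b = (0 : Kq R q ⊗[R] L) := by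
    intro c b
    have hb : b = ∑ k, g b k • f (fun j => if k = j then 1 else 0) := by
      have h2 := LinearMap.congr_fun hfg b
      rw [LinearMap.comp_apply, LinearMap.id_apply] at h2
      conv_lhs => rw [← h2]
      exact LinearMap.pi_apply_eq_sum_univ f (g b)
    rw [hb, TensorProduct.tmul_sum]
    apply Finset.sum_eq_zero
    intro k _
    have h3 : algebraMap R (Kq R q) (g b k) = 0 :=
      (algebraMap_Kq_eq_zero R q _).2 (hcoef b k)
    rw [TensorProduct.tmul_smul, TensorProduct.smul_tmul', Algebra.smul_def, h3, zero_mul,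
      TensorProduct.zero_tmul]
  have hsub : Subsingleton (Kq R q ⊗[R] L) := by
    constructor
    intro x y
    have : ∀ z : Kq R q ⊗[R] L, z = 0 := by
      intro z
      induction z using TensorProduct.induction_on with
      | zero => rfl
      | tmul c b => exact hzero c b
      | add x y hx hy => rw [hx, hy, add_zero]
    rw [this x, this y]
  have h4 := rankAtStalk_eq_finrank R L q
  rw [h1 q, Module.finrank_zero_of_subsingleton] at h4
  exact one_ne_zero h4

theorem invertible_of_rank_one (h1 : ∀ q : PrimeSpectrum R, Module.rankAtStalk L q = 1) :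
    Module.Invertible R L := by
  constructor
  refine @Module.bijective_of_surjective_of_rankAtStalk_eq R _ (Module.Dual R L ⊗[R] L) R
    _ _ _ _ _ _ _ _ (contractLeft R L) (contractLeft_surjective R L h1) ?_
  intro m hm
  have : Nontrivial R :=
    nontrivial_of_ne (0 : R) 1 (fun h => hm.ne_top ((Ideal.eq_top_iff_one m).2 (h ▸ m.zero_mem)))
  rw [Module.rankAtStalk_tensorProduct, Pi.mul_apply, rankAtStalk_dual, h1, Module.rankAtStalk_self]
  rfl

end Inv

end Groth.Agent.Lib.Helper86.OTDual
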