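import Mathlib
import Groth.Agent.Lib.Helper92.OortTateMu
import Groth.Prelude.Def_ConstGrp
import Groth.Prelude.Def_AlphaP

set_option autoImplicit false
set_option linter.unusedSectionVars false
universe u

namespace Groth.Agent.Lib.Helper86.OTField

open TensorProduct WithConv Groth.Agent.Lib.Helper92.OT

section Transport
variable (K : Type u) [CommRing K] (B M : Type u) [CommRing B] [HopfAlgebra K B]
  [CommRing M] [HopfAlgebra K M]

theorem pow_comp {C : Type u} [CommRing C] [Algebra K C] (h : B →ₐc[K] M)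
    (g : WithConv (M →ₐ[K] C)) (n : ℕ) :
    (g ^ n).ofConv.comp (h : B →ₐ[K] M) =
      WithConv.ofConv ((WithConv.toConv (g.ofConv.comp (h : B →ₐ[K] M))) ^ n) := by
  induction n with
  | zero =>
    rw [pow_zero, pow_zero]
    ext b
    simp [AlgHom.convOne_def]
  | succ n ih =>
    rw [pow_succ, pow_succ, AlgHom.convMul_comp_bialgHom_distrib, ih]

theorem powConv_comm (h : B →ₐc[K] M) (n : ℕ) (b : B) :
    h (SGA3b.powConv K B n b) = SGA3b.powConv K M n (h b) := by
  have h1 := comp_pow K B (h : B →ₐ[K] M) n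
  have h2 := pow_comp K B M h (toConv (AlgHom.id K M)) n
  rw [WithConv.ofConv_toConv, AlgHom.id_comp] at h2
  have h3 := h1.trans h2.symm
  exact DFunLike.congr_fun h3 b

theorem mem_eigenAug_symm (p : ℕ) [Fact p.Prime] (χ : (ZMod p)ˣ →* Kˣ) (i : ℕ) (e : B ≃ₐc[K] M)
    (y : M) (hy : y ∈ OortTate.eigenAug K M p χ i) :
    e.symm y ∈ OortTate.eigenAug K B p χ i := by
  rw [mem_eigenAug] at hy ⊢
  refine ⟨?_, fun m => ?_⟩
  · rw [← hy.1]
    exact CoalgHomClass.counit_comp_apply e.symm y
  · have h1 := powConv_comm K M B (e.symm : M →ₐc[K] B) (m : ZMod p).val y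
    rw [hy.2 m] at h1
    rw [map_smul] at h1
    exact h1.symm

end Transport

section Const
variable (K : Type u) [CommRing K] (G : Type) [Group G] [Fintype G] [DecidableEq G]

open ConstGrp

lemma lift_ev (a b : G) (t : F K G ⊗[K] F K G) :
    Algebra.TensorProduct.lift (ev K a) (ev K b) (fun _ _ => .all _ _) t = pair K G t (a, b) := by
  induction t using TensorProduct.induction_on with
  | zero => simp
  | tmul x y => rw [Algebra.TensorProduct.lift_tmul, pair_tmul, ev_apply, ev_apply]
  | add x y hx hy => rw [map_add, map_add, hx, hy]; rfl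

lemma ev_mul (a b : G) : toConv (ev K a) * toConv (ev K b) = toConv (ev K (a * b)) := by
  apply WithConv.ofConv_injective
  ext f
  have h : (toConv (ev K a) * toConv (ev K b)).ofConv f = _ := AlgHom.convMul_apply _ _ f
  rw [h, WithConv.ofConv_toConv, WithConv.ofConv_toConv, lift_ev, pair_comul]
  rfl

lemma ev_one : (1 : WithConv (F K G →ₐ[K] K)) = toConv (ev K (1 : G)) := by
  apply WithConv.ofConv_injective
  ext f
  have h : (1 : WithConv (F K G →ₐ[K] K)).ofConv f = _ := AlgHom.convOne_apply f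
  rw [h]
  simp

lemma ev_pow (a : G) (n : ℕ) : (toConv (ev K a)) ^ n = toConv (ev K (a ^ n)) := by
  induction n with
  | zero => rw [pow_zero, pow_zero, ev_one]
  | succ n ih => rw [pow_succ, pow_succ, ih, ev_mul]

theorem powConv_const (n : ℕ) (f : F K G) (a : G) :
    SGA3b.powConv K (F K G) n f a = f (a ^ n) := by
  have h1 := comp_pow K (F K G) (ev K a) n
  rw [ev_pow, WithConv.ofConv_toConv] at h1
  exact DFunLike.congr_fun h1 f

end Const

section ConstZ
variable (K : Type u) [Field K] (p : ℕ) [Fact p.Prime] (χ : (ZMod p)ˣ →* Kˣ)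

open ConstGrp

/-- the eigenfunction `a ↦ χ(a)` (zero at the origin) -/
noncomputable def yc : F K (Multiplicative (ZMod p)) := fun g =>
  if h : Multiplicative.toAdd g = 0 then 0 else ((χ (Units.mk0 _ h) : Kˣ) : K)

lemma yc_apply_zero (g : Multiplicative (ZMod p)) (h : Multiplicative.toAdd g = 0) :
    yc K p χ g = 0 := by
  unfold yc; rw [dif_pos h]

lemma yc_apply_ne (g : Multiplicative (ZMod p)) (h : Multiplicative.toAdd g ≠ 0) :
    yc K p χ g = ((χ (Units.mk0 _ h) : Kˣ) : K) := by
  unfold yc; rw [dif_neg h]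

theorem yc_mem : yc K p χ ∈ OortTate.eigenAug K (F K (Multiplicative (ZMod p))) p χ 1 := by
  rw [mem_eigenAug]
  refine ⟨?_, fun m => ?_⟩
  · rw [counit_apply]
    exact yc_apply_zero K p χ 1 rfl
  · ext g
    refine (powConv_const K (Multiplicative (ZMod p)) (m : ZMod p).val (yc K p χ) g).trans ?_
    rw [ConstGrp.smul_apply, pow_one]
    have hg : Multiplicative.toAdd (g ^ (m : ZMod p).val) = (m : ZMod p) * Multiplicative.toAdd g := by
      rw [toAdd_pow, nsmul_eq_mul, ZMod.natCast_zmod_val]
    by_cases h : Multiplicative.toAdd g = 0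
    · rw [yc_apply_zero K p χ g h, mul_zero]
      apply yc_apply_zero
      rw [hg, h, mul_zero]
    · have h' : Multiplicative.toAdd (g ^ (m : ZMod p).val) ≠ 0 := by
        rw [hg]
        exact mul_ne_zero m.ne_zero h
      rw [yc_apply_ne K p χ g h, yc_apply_ne K p χ _ h', ← Units.val_mul, ← map_mul]
      congr 2
      apply Units.ext
      rw [Units.val_mul, Units.val_mk0, Units.val_mk0, hg]

theorem yc_pow_ne : yc K p χ ^ (p - 1) ≠ 0 := by
  intro h
  have h1 := congrFun h (Multiplicative.ofAdd (1 : ZMod p))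
  have h2 : (yc K p χ ^ (p - 1)) (Multiplicative.ofAdd (1 : ZMod p)) =
      (yc K p χ (Multiplicative.ofAdd (1 : ZMod p))) ^ (p - 1) := rfl
  have hne : Multiplicative.toAdd (Multiplicative.ofAdd (1 : ZMod p)) ≠ 0 := by
    rw [toAdd_ofAdd]; exact one_ne_zero
  rw [h2, yc_apply_ne K p χ _ hne] at h1
  have : Units.mk0 (Multiplicative.toAdd (Multiplicative.ofAdd (1 : ZMod p))) hne = 1 := by
    apply Units.ext; rfl
  rw [this, map_one, Units.val_one, one_pow] at h1
  exact one_ne_zero h1

end ConstZ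

section Alpha
variable (K : Type u) [Field K] (p : ℕ) [Fact p.Prime] [CharP K p]

open AlphaP

theorem powConv_x (n : ℕ) : SGA3b.powConv K (A p K) n (x p K) = (n : K) • x p K := by
  unfold SGA3b.powConv
  induction n with
  | zero =>
    rw [pow_zero]
    have h : (1 : WithConv (A p K →ₐ[K] A p K)).ofConv (x p K) = _ := AlgHom.convOne_apply _
    rw [h, counit_x, map_zero, Nat.cast_zero, zero_smul]
  | succ n ih =>
    rw [pow_succ]
    have h : ((toConv (AlgHom.id K (A p K))) ^ n * toConv (AlgHom.id K (A p K))).ofConv (x p K) = _ :=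
      AlgHom.convMul_apply _ _ _
    rw [h, comul_x, map_add, Algebra.TensorProduct.lift_tmul, Algebra.TensorProduct.lift_tmul, ih,
      map_one, map_one, mul_one, one_mul, WithConv.ofConv_toConv, AlgHom.id_apply, Nat.cast_succ,
      add_smul, one_smul]

variable (χ : (ZMod p)ˣ →* Kˣ)
  (hχval : ∀ m : (ZMod p)ˣ, ((χ m : Kˣ) : K) = (((m : ZMod p).val : ℕ) : K))

include hχval in
theorem x_mem : x p K ∈ OortTate.eigenAug K (A p K) p χ 1 := by
  rw [mem_eigenAug]
  refine ⟨counit_x p K, fun m => ?_⟩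
  rw [powConv_x, pow_one, hχval]

theorem x_pow_ne : x p K ^ (p - 1) ≠ 0 := by
  have hp1 : 1 < p := (Fact.out : p.Prime).one_lt
  have h := (basis p K).ne_zero ⟨p - 1, by omega⟩
  rwa [basis_apply] at h

end Alpha

end Groth.Agent.Lib.Helper86.OTField
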