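import Mathlib
import Groth.Agent.Lib.Helper86.OTField
import Groth.Agent.Lib.Helper86.CartierRed
import Groth.Agent.S17331
import Groth.Agent.S15053
import Groth.Agent.S15048

set_option autoImplicit false
set_option linter.unusedSectionVars false
universe u

namespace Groth.Agent.Lib.Helper86.OTField

open TensorProduct WithConv Groth.Agent.Lib.Helper92.OT

section Main
variable (K : Type u) [Field K] [IsAlgClosed K] (p : ℕ) [Fact p.Prime] (u : K)
  (hu : u * ((p - 1 : ℕ) : K) = 1) (χ : (ZMod p)ˣ →* Kˣ)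
  (hχp : ∀ m : (ZMod p)ˣ, ((χ m : Kˣ) : K) - (((m : ZMod p).val : ℕ) : K) ∈
    Ideal.span ({(p : K)} : Set K))
  (B : Type u) [CommRing B] [HopfAlgebra K B] (hB : Module.finrank K B = p)

include hu hχp hB in
theorem exists_gen : ∃ y ∈ OortTate.eigenAug K B p χ 1, y ^ (p - 1) ≠ 0 := by
  have hpp : p.Prime := Fact.out
  have tr : ∀ (M : Type u) [CommRing M] [HopfAlgebra K M] (e : B ≃ₐc[K] M) (y : M),
      y ∈ OortTate.eigenAug K M p χ 1 → y ^ (p - 1) ≠ 0 →
      ∃ y ∈ OortTate.eigenAug K B p χ 1, y ^ (p - 1) ≠ 0 := by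
    intro M _ _ e y hy hne
    refine ⟨e.symm y, mem_eigenAug_symm K B M p χ 1 e y hy, ?_⟩
    rw [← map_pow]
    intro h
    apply hne
    have := congrArg e h
    rwa [map_zero, BialgEquiv.apply_symm_apply] at this
  have hfin : Module.Finite K B := Module.finite_of_finrank_pos (by rw [hB]; exact hpp.pos)
  have hconst : Nonempty (B ≃ₐc[K] ConstGrp.F K (Multiplicative (ZMod p))) →
      ∃ y ∈ OortTate.eigenAug K B p χ 1, y ^ (p - 1) ≠ 0 := by
    rintro ⟨e⟩
    exact tr _ e (yc K p χ) (yc_mem K p χ) (yc_pow_ne K p χ)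
  obtain ⟨q, hq⟩ := CharP.exists K
  rcases CharP.char_is_prime_or_zero K q with hq' | hq'
  · have : Fact q.Prime := ⟨hq'⟩
    have hcl := Groth.Agent.S17331.result K q B p hB
    by_cases hpq : p = q
    · subst hpq
      rcases hcl.2 rfl with h | h | h
      · exact hconst h
      · obtain ⟨e⟩ := h
        exact tr _ e _ (Groth.Agent.Lib.Helper92.OTMu.ygen_mem K p u χ 1)
          (Groth.Agent.Lib.Helper92.OTMu.y1_pow_ne_field K p u χ hu hχp)
      · obtain ⟨e⟩ := h
        have hχval : ∀ m : (ZMod p)ˣ, ((χ m : Kˣ) : K) = (((m : ZMod p).val : ℕ) : K) := by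
          intro m
          have := hχp m
          rw [CharP.cast_eq_zero K p, Ideal.span_singleton_eq_bot.mpr rfl, Ideal.mem_bot,
            sub_eq_zero] at this
          exact this
        exact tr _ e _ (x_mem K p χ hχval) (x_pow_ne K p)
    · exact hconst (hcl.1 hpq)
  · subst hq'
    have : CharZero K := CharP.charP_to_charZero K
    have : IsReduced B := Cartier.isReduced_of_charZero K B
    exact hconst (Groth.Agent.S17331.reduced_case K B p hB)

end Main

section General
variable (R : Type u) [CommRing R] (A : Type u) [CommRing A] [HopfAlgebra R A]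
  (p : ℕ) [Fact p.Prime] (χ : (ZMod p)ˣ →* Rˣ)

theorem chi_pow_card (m : (ZMod p)ˣ) : ((χ m : Rˣ) : R) ^ (p - 1) = 1 := by
  rw [← Units.val_pow_eq_pow_val, ← map_pow, ZMod.units_pow_card_sub_one_eq_one, map_one,
    Units.val_one]

theorem eigenAug_add_period (i : ℕ) :
    OortTate.eigenAug R A p χ (i + (p - 1)) = OortTate.eigenAug R A p χ i := by
  ext f
  rw [mem_eigenAug, mem_eigenAug]
  simp only [pow_add, chi_pow_card, mul_one]

theorem eigenAug_mod (i : ℕ) :
    OortTate.eigenAug R A p χ (i % (p - 1)) = OortTate.eigenAug R A p χ i := by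
  induction i using Nat.strong_induction_on with
  | _ i ih =>
    by_cases h : i < p - 1
    · rw [Nat.mod_eq_of_lt h]
    · have h1 : i = (i - (p - 1)) + (p - 1) := by omega
      have hp1 : 1 < p := (Fact.out : p.Prime).one_lt
      have h2 : i % (p - 1) = (i - (p - 1)) % (p - 1) := by
        conv_lhs => rw [h1]
        rw [Nat.add_mod_right]
      rw [h2, ih (i - (p - 1)) (by omega)]
      conv_rhs => rw [h1]
      rw [eigenAug_add_period]

theorem mul_mem_eigenAug (i j : ℕ) (f g : A) (hf : f ∈ OortTate.eigenAug R A p χ i)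
    (hg : g ∈ OortTate.eigenAug R A p χ j) : f * g ∈ OortTate.eigenAug R A p χ (i + j) := by
  rw [mem_eigenAug] at hf hg ⊢
  refine ⟨?_, fun m => ?_⟩
  · have : Coalgebra.counit (R := R) (f * g) = Coalgebra.counit (R := R) f * Coalgebra.counit (R := R) g :=
      map_mul (Bialgebra.counitAlgHom R A) f g
    rw [this, hf.1, zero_mul]
  · rw [map_mul, hf.2 m, hg.2 m, smul_mul_smul_comm, pow_add]

theorem pow_mem_eigenAug (f : A) (hf : f ∈ OortTate.eigenAug R A p χ 1) (t : ℕ) (ht : 1 ≤ t) :
    f ^ t ∈ OortTate.eigenAug R A p χ t := by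
  induction t, ht using Nat.le_induction with
  | base => rwa [pow_one]
  | succ n hn ih =>
    rw [pow_succ]
    exact mul_mem_eigenAug R A p χ n 1 _ _ ih hf

theorem eigenAug_pow_le (t : ℕ) (ht : 1 ≤ t) :
    (OortTate.eigenAug R A p χ 1) ^ t ≤ OortTate.eigenAug R A p χ t := by
  induction t, ht using Nat.le_induction with
  | base => rw [pow_one]
  | succ n hn ih =>
    rw [pow_succ, Submodule.mul_le]
    intro f hf g hg
    exact mul_mem_eigenAug R A p χ n 1 f g (ih hf) hg

end General

section Count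
variable (K : Type u) [Field K] [IsAlgClosed K] (p : ℕ) [Fact p.Prime] (u : K)
  (hu : u * ((p - 1 : ℕ) : K) = 1) (χ : (ZMod p)ˣ →* Kˣ)
  (hχ : ∀ m : (ZMod p)ˣ, m ≠ 1 → IsUnit ((χ m : K) - 1))
  (hχp : ∀ m : (ZMod p)ˣ, ((χ m : Kˣ) : K) - (((m : ZMod p).val : ℕ) : K) ∈
    Ideal.span ({(p : K)} : Set K))
  (B : Type u) [CommRing B] [HopfAlgebra K B] (hB : Module.finrank K B = p)

include hB in
theorem hp_field : (toConv (AlgHom.id K B)) ^ p = 1 := by
  have hpp : p.Prime := Fact.out
  have hfin : Module.Finite K B := Module.finite_of_finrank_pos (by rw [hB]; exact hpp.pos)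
  have hrk : ∀ q : PrimeSpectrum K, Module.rankAtStalk B q = p := by
    intro q
    rw [Module.rankAtStalk_eq_finrank_of_free]
    exact hB
  have := Groth.Agent.S15053.result K p B hrk
  exact Groth.Agent.S15048.result K B p hrk

include hB in
theorem finrank_ker_counit :
    Module.finrank K (LinearMap.ker (Bialgebra.counitAlgHom K B).toLinearMap) = p - 1 := by
  have hpp : p.Prime := Fact.out
  have hfin : Module.Finite K B := Module.finite_of_finrank_pos (by rw [hB]; exact hpp.pos)
  have h1 := LinearMap.finrank_range_add_finrank_ker (Bialgebra.counitAlgHom K B).toLinearMap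
  have h2 : LinearMap.range (Bialgebra.counitAlgHom K B).toLinearMap = ⊤ := by
    rw [LinearMap.range_eq_top]
    intro c
    refine ⟨algebraMap K B c, ?_⟩
    exact (Bialgebra.counitAlgHom K B).commutes c
  rw [h2, finrank_top, Module.finrank_self, hB] at h1
  omega

include hu hχ hB in
/-- key counting lemma: if `y ∈ I_1` has `y^(p-1) ≠ 0`, then `I_t = K y^t` for `1 ≤ t ≤ p - 1`. -/
theorem eigenAug_eq_span (y : B) (hy : y ∈ OortTate.eigenAug K B p χ 1) (hne : y ^ (p - 1) ≠ 0)
    (t : ℕ) (ht1 : 1 ≤ t) (ht2 : t ≤ p - 1) :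
    OortTate.eigenAug K B p χ t = Submodule.span K {y ^ t} := by
  classical
  have hpp : p.Prime := Fact.out
  have hp1 : 1 < p := hpp.one_lt
  have hfin : Module.Finite K B := Module.finite_of_finrank_pos (by rw [hB]; exact hpp.pos)
  have hp := hp_field K p B hB
  obtain ⟨hind, hsup, -⟩ := main K B p hp u hu χ hχ
  have hcoi := coi K B p hp u hu χ hχ
  -- exponents
  let τ : Fin (p - 1) → ℕ := fun i => if (i : ℕ) = 0 then p - 1 else (i : ℕ)
  have hτ1 : ∀ i, 1 ≤ τ i := by
    intro i
    show 1 ≤ if (i : ℕ) = 0 then p - 1 else (i : ℕ)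
    split_ifs with h <;> omega
  have hτ2 : ∀ i, τ i ≤ p - 1 := by
    intro i
    show (if (i : ℕ) = 0 then p - 1 else (i : ℕ)) ≤ p - 1
    have := i.2
    split_ifs with h <;> omega
  have hτI : ∀ i : Fin (p - 1), OortTate.eigenAug K B p χ (τ i) = OortTate.eigenAug K B p χ (i : ℕ) := by
    intro i
    show OortTate.eigenAug K B p χ (if (i : ℕ) = 0 then p - 1 else (i : ℕ)) = _
    split_ifs with h
    · rw [h]
      have := eigenAug_add_period K B p χ 0
      rwa [zero_add] at this
    · rfl
  let v : Fin (p - 1) → B := fun i => y ^ (τ i)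
  have hvmem : ∀ i : Fin (p - 1), v i ∈ OortTate.eigenAug K B p χ (i : ℕ) := by
    intro i
    rw [← hτI i]
    exact pow_mem_eigenAug K B p χ y hy (τ i) (hτ1 i)
  have hpow_ne : ∀ s : ℕ, s ≤ p - 1 → y ^ s ≠ 0 := by
    intro s hs h
    apply hne
    have : p - 1 = s + (p - 1 - s) := by omega
    rw [this, pow_add, h, zero_mul]
  have hvne : ∀ i, v i ≠ 0 := fun i => hpow_ne (τ i) (hτ2 i)
  have hli : LinearIndependent K v :=
    iSupIndep.linearIndependent _ hind hvmem hvne
  -- the span of v is the augmentation ideal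
  have hle : Submodule.span K (Set.range v) ≤
      LinearMap.ker (Bialgebra.counitAlgHom K B).toLinearMap := by
    rw [Submodule.span_le]
    rintro _ ⟨i, rfl⟩
    exact ((mem_eigenAug K B p χ _ _).1 (hvmem i)).1
  have hspan : Submodule.span K (Set.range v) =
      LinearMap.ker (Bialgebra.counitAlgHom K B).toLinearMap := by
    apply Submodule.eq_of_le_of_finrank_eq hle
    rw [finrank_span_eq_card hli, finrank_ker_counit K p B hB, Fintype.card_fin]
  -- index of t
  have hidx : ∃ j : Fin (p - 1), τ j = t := by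
    by_cases h : t = p - 1
    · refine ⟨⟨0, by omega⟩, ?_⟩
      show (if (0 : ℕ) = 0 then p - 1 else 0) = t
      rw [if_pos rfl, h]
    · refine ⟨⟨t, by omega⟩, ?_⟩
      show (if t = 0 then p - 1 else t) = t
      rw [if_neg (by omega)]
  obtain ⟨j, hj⟩ := hidx
  have hIt : OortTate.eigenAug K B p χ t = OortTate.eigenAug K B p χ (j : ℕ) := by
    rw [← hj, hτI]
  have hvj : v j = y ^ t := by show y ^ (τ j) = y ^ t; rw [hj]
  apply le_antisymm
  · intro f hf
    rw [hIt] at hf
    have hfker : f ∈ LinearMap.ker (Bialgebra.counitAlgHom K B).toLinearMap :=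
      ((mem_eigenAug K B p χ _ _).1 hf).1
    rw [← hspan, Submodule.mem_span_range_iff_exists_fun] at hfker
    obtain ⟨c, hc⟩ := hfker
    have hfix : OortTate.proj K B p u χ (j : ℕ) f = f :=
      proj_fix K B p χ hp u hu (j : ℕ) f ((mem_eigenAug K B p χ _ _).1 hf).2
    have hproj : ∀ i : Fin (p - 1), OortTate.proj K B p u χ (j : ℕ) (v i) =
        if i = j then v i else 0 := by
      intro i
      have hfi : OortTate.proj K B p u χ (i : ℕ) (v i) = v i :=
        proj_fix K B p χ hp u hu (i : ℕ) (v i) ((mem_eigenAug K B p χ _ _).1 (hvmem i)).2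
      split_ifs with h
      · rw [h] at hfi ⊢; exact hfi
      · rw [← hfi, ← Module.End.mul_apply]
        have := hcoi.ortho (Ne.symm h)
        simp only at this
        rw [this, LinearMap.zero_apply]
    rw [← hfix, ← hc, map_sum]
    simp only [map_smul, hproj]
    rw [Finset.sum_eq_single j]
    · rw [if_pos rfl, hvj]
      exact Submodule.smul_mem _ _ (Submodule.mem_span_singleton_self _)
    · intro i _ hij
      rw [if_neg hij, smul_zero]
    · intro h
      exact absurd (Finset.mem_univ _) h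
  · rw [Submodule.span_le, Set.singleton_subset_iff]
    exact pow_mem_eigenAug K B p χ y hy t ht1

include hu hχ hχp hB in
theorem finrank_eigenAug (i : ℕ) : Module.finrank K (OortTate.eigenAug K B p χ i) = 1 := by
  have hpp : p.Prime := Fact.out
  have hp1 : 1 < p := hpp.one_lt
  obtain ⟨y, hy, hne⟩ := exists_gen K p u hu χ hχp B hB
  have hpow_ne : ∀ s : ℕ, s ≤ p - 1 → y ^ s ≠ 0 := by
    intro s hs h
    apply hne
    have : p - 1 = s + (p - 1 - s) := by omega
    rw [this, pow_add, h, zero_mul]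
  rw [← eigenAug_mod K B p χ i]
  have hlt : i % (p - 1) < p - 1 := Nat.mod_lt _ (by omega)
  by_cases h0 : i % (p - 1) = 0
  · rw [h0]
    have h1 := eigenAug_add_period K B p χ 0
    rw [zero_add] at h1
    rw [← h1, eigenAug_eq_span K p u hu χ hχ B hB y hy hne (p - 1) (by omega) le_rfl]
    exact finrank_span_singleton hne
  · rw [eigenAug_eq_span K p u hu χ hχ B hB y hy hne (i % (p - 1)) (by omega) (by omega)]
    exact finrank_span_singleton (hpow_ne _ (by omega))

include hu hχ hχp hB in
theorem eigenAug_pow_eq (t : ℕ) (ht1 : 1 ≤ t) (ht2 : t ≤ p - 1) :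
    (OortTate.eigenAug K B p χ 1) ^ t = OortTate.eigenAug K B p χ t := by
  obtain ⟨y, hy, hne⟩ := exists_gen K p u hu χ hχp B hB
  have h1 := eigenAug_eq_span K p u hu χ hχ B hB y hy hne 1 le_rfl (by omega)
  rw [eigenAug_eq_span K p u hu χ hχ B hB y hy hne t ht1 ht2, h1, pow_one,
    Submodule.span_pow, Set.singleton_pow]

end Count

end Groth.Agent.Lib.Helper86.OTField
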