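import Mathlib
import Groth.Agent.Lib.Helper86.OTField2

set_option autoImplicit false
set_option linter.unusedSectionVars false
universe u

namespace Groth.Agent.Lib.Helper86.OTTensor

open TensorProduct WithConv Groth.Agent.Lib.Helper92.OT Groth.Agent.Lib.Helper86.OTField

section
variable (p : ℕ) [Fact p.Prime] (R : Type u) [CommRing R]
  (χ : (ZMod p)ˣ →* Rˣ) (A : Type u) [CommRing A] [HopfAlgebra R A]


/-- multiplication `I_s ⊗ I_t → I_{s+t}` -/
noncomputable def mulMap (s t : ℕ) : (OortTate.eigenAug R A p χ s) ⊗[R] (OortTate.eigenAug R A p χ t) →ₗ[R] OortTate.eigenAug R A p χ (s + t) :=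
  LinearMap.codRestrict _
    (LinearMap.mul' R A ∘ₗ TensorProduct.map (OortTate.eigenAug R A p χ s).subtype (OortTate.eigenAug R A p χ t).subtype) (by
      intro w
      induction w using TensorProduct.induction_on with
      | zero => simp
      | tmul a b =>
        simp only [LinearMap.comp_apply, TensorProduct.map_tmul, Submodule.subtype_apply,
          LinearMap.mul'_apply]
        exact mul_mem_eigenAug R A p χ s t _ _ a.2 b.2
      | add x y hx hy =>
        rw [map_add]
        exact Submodule.add_mem _ hx hy)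

lemma mulMap_tmul (s t : ℕ) (a : OortTate.eigenAug R A p χ s) (b : OortTate.eigenAug R A p χ t) :
    ((mulMap p R χ A s t (a ⊗ₜ[R] b) : OortTate.eigenAug R A p χ (s + t)) : A) = (a : A) * (b : A) := rfl

lemma mulMap_surjective (s t : ℕ) (h : (OortTate.eigenAug R A p χ s) * (OortTate.eigenAug R A p χ t) = OortTate.eigenAug R A p χ (s + t)) :
    Function.Surjective (mulMap p R χ A s t) := by
  intro a
  have ha : (a : A) ∈ (OortTate.eigenAug R A p χ s) * (OortTate.eigenAug R A p χ t) := by rw [h]; exact a.2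
  have key : ∀ x ∈ (OortTate.eigenAug R A p χ s) * (OortTate.eigenAug R A p χ t), ∃ w : (OortTate.eigenAug R A p χ s) ⊗[R] (OortTate.eigenAug R A p χ t),
      ((mulMap p R χ A s t w : OortTate.eigenAug R A p χ (s + t)) : A) = x := by
    intro x hx
    refine Submodule.mul_induction_on hx ?_ ?_
    · intro b hb c hc
      exact ⟨(⟨b, hb⟩ : OortTate.eigenAug R A p χ s) ⊗ₜ[R] (⟨c, hc⟩ : OortTate.eigenAug R A p χ t), rfl⟩
    · rintro x y ⟨w1, hw1⟩ ⟨w2, hw2⟩
      exact ⟨w1 + w2, by rw [map_add, Submodule.coe_add, hw1, hw2]⟩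
  obtain ⟨w, hw⟩ := key _ ha
  exact ⟨w, Subtype.ext hw⟩

variable (hI : ∀ i : ℕ, Module.Finite R (OortTate.eigenAug R A p χ i) ∧
    Module.Projective R (OortTate.eigenAug R A p χ i) ∧
    ∀ q : PrimeSpectrum R, Module.rankAtStalk (↥(OortTate.eigenAug R A p χ i)) q = 1)

include hI in
lemma mulMap_bijective (s t : ℕ) (h : (OortTate.eigenAug R A p χ s) * (OortTate.eigenAug R A p χ t) = OortTate.eigenAug R A p χ (s + t)) :
    Function.Bijective (mulMap p R χ A s t) := by
  have h1 := (hI s).1
  have h2 := (hI s).2.1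
  have h3 := (hI t).1
  have h4 := (hI t).2.1
  have h5 := (hI (s + t)).1
  have h6 := (hI (s + t)).2.1
  have h7 : Module.Finite R ((OortTate.eigenAug R A p χ s) ⊗[R] (OortTate.eigenAug R A p χ t)) :=
    inferInstance
  have h8 : Module.Flat R ((OortTate.eigenAug R A p χ s) ⊗[R] (OortTate.eigenAug R A p χ t)) :=
    inferInstance
  have h9 : Module.Flat R (OortTate.eigenAug R A p χ (s + t)) := inferInstance
  refine @Module.bijective_of_surjective_of_rankAtStalk_eq R _
    ((OortTate.eigenAug R A p χ s) ⊗[R] (OortTate.eigenAug R A p χ t))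
    (OortTate.eigenAug R A p χ (s + t)) _ _ _ _ _ _ _ _ (mulMap p R χ A s t)
    (mulMap_surjective p R χ A s t h) ?_
  intro m hm
  rw [Module.rankAtStalk_tensorProduct, Pi.mul_apply, (hI s).2.2, (hI t).2.2, (hI (s + t)).2.2]

end

section Tensor
variable (p : ℕ) [Fact p.Prime] (R : Type u) [CommRing R]
  (χ : (ZMod p)ˣ →* Rˣ) (A : Type u) [CommRing A] [HopfAlgebra R A]

/-- the tensor algebra of `I_1` -/
abbrev TA : Type u := TensorAlgebra R (OortTate.eigenAug R A p χ 1)

/-- the canonical map `T(I_1) → A` -/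
noncomputable abbrev phi : TA p R χ A →ₐ[R] A :=
  TensorAlgebra.lift R (OortTate.eigenAug R A p χ 1).subtype

/-- degree `n` part of the tensor algebra -/
noncomputable abbrev S (n : ℕ) : Submodule R (TA p R χ A) :=
  (LinearMap.range (TensorAlgebra.ι R : OortTate.eigenAug R A p χ 1 →ₗ[R] TA p R χ A)) ^ n

lemma map_S (n : ℕ) :
    (S p R χ A n).map (phi p R χ A).toLinearMap = (OortTate.eigenAug R A p χ 1) ^ n := by
  unfold S
  rw [Submodule.map_pow, ← LinearMap.range_comp]
  congr 1
  have : (phi p R χ A).toLinearMap ∘ₗ (TensorAlgebra.ι R) =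
      (OortTate.eigenAug R A p χ 1).subtype := TensorAlgebra.ι_comp_lift _
  rw [this, Submodule.range_subtype]

variable (hI : ∀ i : ℕ, Module.Finite R (OortTate.eigenAug R A p χ i) ∧
    Module.Projective R (OortTate.eigenAug R A p χ i) ∧
    ∀ q : PrimeSpectrum R, Module.rankAtStalk (↥(OortTate.eigenAug R A p χ i)) q = 1)
  (hpow : ∀ t : ℕ, 1 ≤ t → t ≤ p - 1 →
    (OortTate.eigenAug R A p χ 1) ^ t = OortTate.eigenAug R A p χ t)

include hpow in
lemma phi_mem (t : ℕ) (ht1 : 1 ≤ t) (ht2 : t ≤ p - 1) (z : TA p R χ A) (hz : z ∈ S p R χ A t) :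
    phi p R χ A z ∈ OortTate.eigenAug R A p χ t := by
  rw [← hpow t ht1 ht2, ← map_S]
  exact ⟨z, hz, rfl⟩

/-- `S_t ⊗ I_1 → T`, `s ⊗ x ↦ s * ι x` -/
noncomputable def mT (t : ℕ) :
    (S p R χ A t) ⊗[R] (OortTate.eigenAug R A p χ 1) →ₗ[R] TA p R χ A :=
  LinearMap.mul' R (TA p R χ A) ∘ₗ TensorProduct.map (S p R χ A t).subtype (TensorAlgebra.ι R)

lemma mT_tmul (t : ℕ) (s : S p R χ A t) (x : OortTate.eigenAug R A p χ 1) :
    mT p R χ A t (s ⊗ₜ[R] x) = (s : TA p R χ A) * TensorAlgebra.ι R x := rfl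

lemma exists_mT (t : ℕ) (z : TA p R χ A) (hz : z ∈ S p R χ A (t + 1)) :
    ∃ w, mT p R χ A t w = z := by
  unfold S at hz
  rw [pow_succ] at hz
  refine Submodule.mul_induction_on hz ?_ ?_
  · rintro s hs _ ⟨x, rfl⟩
    exact ⟨(⟨s, hs⟩ : S p R χ A t) ⊗ₜ[R] x, rfl⟩
  · rintro x y ⟨w1, hw1⟩ ⟨w2, hw2⟩
    exact ⟨w1 + w2, by rw [map_add, hw1, hw2]⟩

include hI hpow in
theorem phi_inj (t : ℕ) (ht1 : 1 ≤ t) (ht2 : t ≤ p - 1) :
    ∀ z ∈ S p R χ A t, phi p R χ A z = 0 → z = 0 := by
  induction t, ht1 using Nat.le_induction with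
  | base =>
    intro z hz h0
    unfold S at hz
    rw [pow_one] at hz
    obtain ⟨x, rfl⟩ := hz
    rw [TensorAlgebra.lift_ι_apply] at h0
    have : x = 0 := Subtype.ext h0
    rw [this, map_zero]
  | succ t ht1 ih =>
    have ht2' : t ≤ p - 1 := by omega
    have ih' := ih ht2'
    intro z hz h0
    -- the restricted map
    let φt : S p R χ A t →ₗ[R] OortTate.eigenAug R A p χ t :=
      LinearMap.codRestrict _ ((phi p R χ A).toLinearMap ∘ₗ (S p R χ A t).subtype)
        (fun s => phi_mem p R χ A hpow t ht1 ht2' s s.2)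
    have hφt : Function.Injective φt := by
      rw [← LinearMap.ker_eq_bot, LinearMap.ker_eq_bot']
      intro s hs
      have h1 : phi p R χ A (s : TA p R χ A) = 0 := congrArg Subtype.val hs
      exact Subtype.ext (ih' s s.2 h1)
    have hflat : Module.Flat R (OortTate.eigenAug R A p χ 1) := by
      have := (hI 1).2.1
      infer_instance
    have hrT : Function.Injective (φt.rTensor (OortTate.eigenAug R A p χ 1)) :=
      Module.Flat.rTensor_preserves_injective_linearMap φt hφt
    have hmul : (OortTate.eigenAug R A p χ t) * (OortTate.eigenAug R A p χ 1) =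
        OortTate.eigenAug R A p χ (t + 1) := by
      rw [← hpow t ht1 ht2', ← hpow (t + 1) (by omega) ht2, pow_succ]
    have hmm := mulMap_bijective p R χ A hI t 1 hmul
    have hcomp : ∀ w, phi p R χ A (mT p R χ A t w) =
        ((mulMap p R χ A t 1 (φt.rTensor (OortTate.eigenAug R A p χ 1) w) :
          OortTate.eigenAug R A p χ (t + 1)) : A) := by
      intro w
      induction w using TensorProduct.induction_on with
      | zero => simp
      | tmul s x =>
        rw [mT_tmul, map_mul, TensorAlgebra.lift_ι_apply, LinearMap.rTensor_tmul, mulMap_tmul]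
        rfl
      | add x y hx hy => rw [map_add, map_add, hx, hy, map_add, map_add, Submodule.coe_add]
    obtain ⟨w, rfl⟩ := exists_mT p R χ A t z hz
    rw [hcomp] at h0
    have h1 : mulMap p R χ A t 1 (φt.rTensor (OortTate.eigenAug R A p χ 1) w) = 0 :=
      Subtype.ext h0
    have h2 : φt.rTensor (OortTate.eigenAug R A p χ 1) w = 0 :=
      hmm.1 (h1.trans (map_zero _).symm)
    have h3 : w = 0 := hrT (h2.trans (map_zero _).symm)
    rw [h3, map_zero]

end Tensor

section Tau
variable (p : ℕ) [Fact p.Prime]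

/-- reindexing `Fin (p - 1) ≃ {1, …, p - 1}` sending `0` to `p - 1` -/
def tau (i : Fin (p - 1)) : ℕ := if (i : ℕ) = 0 then p - 1 else (i : ℕ)

lemma tau_pos (i : Fin (p - 1)) : 1 ≤ tau p i := by
  have hp1 : 1 < p := (Fact.out : p.Prime).one_lt
  unfold tau
  split_ifs with h <;> omega

lemma tau_le (i : Fin (p - 1)) : tau p i ≤ p - 1 := by
  unfold tau
  have := i.2
  split_ifs with h <;> omega

lemma exists_tau (t : ℕ) (ht1 : 1 ≤ t) (ht2 : t ≤ p - 1) : ∃ i : Fin (p - 1), tau p i = t := by
  by_cases h : t = p - 1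
  · refine ⟨⟨0, by omega⟩, ?_⟩
    show (if (0 : ℕ) = 0 then p - 1 else 0) = t
    rw [if_pos rfl, h]
  · refine ⟨⟨t, by omega⟩, ?_⟩
    show (if t = 0 then p - 1 else t) = t
    rw [if_neg (by omega)]

lemma tau_injective : Function.Injective (tau p) := by
  intro i j h
  unfold tau at h
  have hi := i.2
  have hj := j.2
  apply Fin.ext
  split_ifs at h with h1 h2 h2 <;> omega

variable (R : Type u) [CommRing R] (χ : (ZMod p)ˣ →* Rˣ) (A : Type u) [CommRing A] [HopfAlgebra R A]

lemma eigenAug_tau (i : Fin (p - 1)) :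
    OortTate.eigenAug R A p χ (tau p i) = OortTate.eigenAug R A p χ (i : ℕ) := by
  unfold tau
  split_ifs with h
  · rw [h]
    have := eigenAug_add_period R A p χ 0
    rwa [zero_add] at this
  · rfl

lemma prod_mem_eigenAug (n : ℕ) (x : Fin (n + 1) → A)
    (hx : ∀ i, x i ∈ OortTate.eigenAug R A p χ 1) :
    ∏ i, x i ∈ OortTate.eigenAug R A p χ (n + 1) := by
  induction n with
  | zero =>
    rw [Fin.prod_univ_one]
    exact hx 0
  | succ n ih =>
    rw [Fin.prod_univ_castSucc]
    exact mul_mem_eigenAug R A p χ (n + 1) 1 _ _ (ih _ fun i => hx _) (hx _)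

lemma prod_mem_eigenAug_one (x : Fin p → A) (hx : ∀ i, x i ∈ OortTate.eigenAug R A p χ 1) :
    ∏ i, x i ∈ OortTate.eigenAug R A p χ 1 := by
  have hp1 : 1 < p := (Fact.out : p.Prime).one_lt
  obtain ⟨n, rfl⟩ : ∃ n, p = n + 1 := ⟨p - 1, by omega⟩
  have h1 := prod_mem_eigenAug (n + 1) R χ A n x hx
  have h2 := eigenAug_add_period R A (n + 1) χ 1
  rw [show 1 + (n + 1 - 1) = n + 1 by omega] at h2
  rwa [h2] at h1

end Tau

section Reduce
variable (p : ℕ) [Fact p.Prime] (R : Type u) [CommRing R]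
  (χ : (ZMod p)ˣ →* Rˣ) (A : Type u) [CommRing A] [HopfAlgebra R A]

/-- the relations `ι x_1 ⋯ ι x_p - ι (x_1 ⋯ x_p)` -/
def relSet : Set (TA p R χ A) :=
  {x | ∃ (f : Fin p → OortTate.eigenAug R A p χ 1) (g : OortTate.eigenAug R A p χ 1),
    (g : A) = ∏ i, (f i : A) ∧
    x = (List.ofFn fun i => TensorAlgebra.ι R (f i)).prod - TensorAlgebra.ι R g}

/-- the (left) ideal generated by the relations -/
noncomputable def Jid : Ideal (TA p R χ A) := Ideal.span (relSet p R χ A)

/-- the part of degree `< p` -/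
noncomputable def W : Submodule R (TA p R χ A) :=
  S p R χ A 0 ⊔ ⨆ i : Fin (p - 1), S p R χ A (tau p i)

lemma S_le_W (t : ℕ) (ht2 : t ≤ p - 1) : S p R χ A t ≤ W p R χ A := by
  by_cases h0 : t = 0
  · subst h0
    exact le_sup_left
  · obtain ⟨i, hi⟩ := exists_tau p t (by omega) ht2
    rw [← hi]
    exact le_trans (le_iSup (fun i : Fin (p - 1) => S p R χ A (tau p i)) i) le_sup_right

lemma Jid_le_ker : ∀ z ∈ Jid p R χ A, phi p R χ A z = 0 := by
  intro z hz
  have hle : Jid p R χ A ≤ RingHom.ker (phi p R χ A) := by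
    unfold Jid
    rw [Ideal.span_le]
    rintro _ ⟨f, g, hg, rfl⟩
    rw [SetLike.mem_coe, RingHom.mem_ker, map_sub, TensorAlgebra.lift_ι_apply, map_list_prod,
      List.map_ofFn, List.prod_ofFn]
    simp only [Function.comp_apply, TensorAlgebra.lift_ι_apply, Submodule.subtype_apply]
    rw [hg, sub_self]
  exact hle hz

theorem S_le (n : ℕ) :
    S p R χ A n ≤ W p R χ A ⊔ (Jid p R χ A).restrictScalars R := by
  have hp1 : 1 < p := (Fact.out : p.Prime).one_lt
  induction n using Nat.strong_induction_on with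
  | _ n ih =>
    by_cases hn : n ≤ p - 1
    · exact le_trans (S_le_W p R χ A n hn) le_sup_left
    · have hnp : n = (n - p) + p := by omega
      have hS : S p R χ A n = S p R χ A (n - p) * S p R χ A p := by
        unfold S
        rw [← pow_add, ← hnp]
      rw [hS, Submodule.mul_le]
      intro s hs m hm
      unfold S at hm
      rw [Submodule.pow_eq_span_pow_set] at hm
      refine Submodule.span_induction ?_ ?_ ?_ ?_ hm
      · intro m hm
        rw [Set.mem_pow] at hm
        obtain ⟨f, rfl⟩ := hm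
        have hx : ∀ i, ∃ x : OortTate.eigenAug R A p χ 1, TensorAlgebra.ι R x = (f i : TA p R χ A) :=
          fun i => (f i).2
        choose x hx using hx
        have hprod : ∏ i, ((x i : OortTate.eigenAug R A p χ 1) : A) ∈ OortTate.eigenAug R A p χ 1 :=
          prod_mem_eigenAug_one p R χ A _ (fun i => (x i).2)
        let g : OortTate.eigenAug R A p χ 1 := ⟨_, hprod⟩
        have hm' : (List.ofFn fun i => ((f i : _) : TA p R χ A)).prod =
            (List.ofFn fun i => TensorAlgebra.ι R (x i)).prod := by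
          congr 1
          congr 1
          funext i
          exact (hx i).symm
        rw [hm']
        have hrel : (List.ofFn fun i => TensorAlgebra.ι R (x i)).prod - TensorAlgebra.ι R g ∈
            Jid p R χ A := Ideal.subset_span ⟨x, g, rfl, rfl⟩
        have h1 : s * ((List.ofFn fun i => TensorAlgebra.ι R (x i)).prod - TensorAlgebra.ι R g) ∈
            (Jid p R χ A).restrictScalars R := Ideal.mul_mem_left _ s hrel
        have h2 : s * TensorAlgebra.ι R g ∈ S p R χ A (n - p + 1) := by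
          unfold S
          rw [pow_succ]
          exact Submodule.mul_mem_mul hs ⟨g, rfl⟩
        have h3 := ih (n - p + 1) (by omega) h2
        have : s * (List.ofFn fun i => TensorAlgebra.ι R (x i)).prod =
            s * TensorAlgebra.ι R g +
              s * ((List.ofFn fun i => TensorAlgebra.ι R (x i)).prod - TensorAlgebra.ι R g) := by
          rw [mul_sub, add_sub_cancel]
        rw [this]
        exact Submodule.add_mem _ h3 (Submodule.mem_sup_right h1)
      · rw [mul_zero]
        exact Submodule.zero_mem _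
      · intro a b _ _ ha hb
        rw [mul_add]
        exact Submodule.add_mem _ ha hb
      · intro r a _ ha
        rw [mul_smul_comm]
        exact Submodule.smul_mem _ r ha

theorem iSup_S : ⨆ n, S p R χ A n = ⊤ :=
  (DirectSum.Decomposition.isInternal (fun n => S p R χ A n)).submodule_iSup_eq_top

theorem W_sup_J : W p R χ A ⊔ (Jid p R χ A).restrictScalars R = ⊤ := by
  rw [eq_top_iff, ← iSup_S p R χ A]
  exact iSup_le (S_le p R χ A)

end Reduce

section Main
variable (p : ℕ) [Fact p.Prime] (R : Type u) [CommRing R] (u : R)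
  (hu : u * ((p - 1 : ℕ) : R) = 1)
  (χ : (ZMod p)ˣ →* Rˣ) (hχ : ∀ m : (ZMod p)ˣ, m ≠ 1 → IsUnit ((χ m : R) - 1))
  (A : Type u) [CommRing A] [HopfAlgebra R A]
  (hp : (WithConv.toConv (AlgHom.id R A)) ^ p = 1)
  (hI : ∀ i : ℕ, Module.Finite R (OortTate.eigenAug R A p χ i) ∧
    Module.Projective R (OortTate.eigenAug R A p χ i) ∧
    ∀ q : PrimeSpectrum R, Module.rankAtStalk (↥(OortTate.eigenAug R A p χ i)) q = 1)
  (hpow : ∀ t : ℕ, 1 ≤ t → t ≤ p - 1 →
    (OortTate.eigenAug R A p χ 1) ^ t = OortTate.eigenAug R A p χ t)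

include hu hχ hp in
theorem eq_zero_of_sum (b : Fin (p - 1) → A)
    (hb : ∀ i : Fin (p - 1), b i ∈ OortTate.eigenAug R A p χ (i : ℕ))
    (hsum : ∑ i, b i = 0) : ∀ i, b i = 0 := by
  classical
  have hcoi := coi R A p hp u hu χ hχ
  intro j
  have hproj : ∀ i : Fin (p - 1), OortTate.proj R A p u χ (j : ℕ) (b i) =
      if i = j then b i else 0 := by
    intro i
    have hfi : OortTate.proj R A p u χ (i : ℕ) (b i) = b i :=
      proj_fix R A p χ hp u hu (i : ℕ) (b i) ((mem_eigenAug R A p χ _ _).1 (hb i)).2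
    split_ifs with h
    · rw [h] at hfi ⊢; exact hfi
    · rw [← hfi, ← Module.End.mul_apply]
      have := hcoi.ortho (Ne.symm h)
      simp only at this
      rw [this, LinearMap.zero_apply]
  have h1 := congrArg (OortTate.proj R A p u χ (j : ℕ)) hsum
  rw [map_sum, map_zero] at h1
  simp only [hproj] at h1
  rw [Finset.sum_ite_eq' Finset.univ j, if_pos (Finset.mem_univ _)] at h1
  exact h1

lemma S_zero_inj (z : TA p R χ A) (hz : z ∈ S p R χ A 0) (h0 : phi p R χ A z = 0) : z = 0 := by
  unfold S at hz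
  rw [pow_zero, Submodule.mem_one] at hz
  obtain ⟨r, rfl⟩ := hz
  rw [AlgHom.commutes] at h0
  have h1 := congrArg (Coalgebra.counit (R := R)) h0
  rw [Bialgebra.counit_algebraMap, map_zero] at h1
  rw [h1, map_zero]

lemma counit_phi_S_zero (z : TA p R χ A) (hz : z ∈ S p R χ A 0) :
    phi p R χ A z = algebraMap R A (Coalgebra.counit (R := R) (phi p R χ A z)) := by
  unfold S at hz
  rw [pow_zero, Submodule.mem_one] at hz
  obtain ⟨r, rfl⟩ := hz
  rw [AlgHom.commutes, Bialgebra.counit_algebraMap]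

include hu hχ hp hI hpow in
theorem W_inj (z : TA p R χ A) (hz : z ∈ W p R χ A) (h0 : phi p R χ A z = 0) : z = 0 := by
  classical
  unfold W at hz
  rw [Submodule.mem_sup] at hz
  obtain ⟨a, ha, b, hb, rfl⟩ := hz
  rw [Submodule.mem_iSup_iff_exists_finsupp] at hb
  obtain ⟨f, hf, rfl⟩ := hb
  rw [Finsupp.sum_fintype _ _ (fun _ => rfl)] at h0 ⊢
  rw [map_add, map_sum] at h0
  have hfmem : ∀ i : Fin (p - 1), phi p R χ A (f i) ∈ OortTate.eigenAug R A p χ (i : ℕ) := by
    intro i
    rw [← eigenAug_tau p R χ A i]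
    exact phi_mem p R χ A hpow (tau p i) (tau_pos p i) (tau_le p i) (f i) (hf i)
  -- counit kills the I-part
  have hc : Coalgebra.counit (R := R) (phi p R χ A a) = 0 := by
    have h1 := congrArg (Coalgebra.counit (R := R)) h0
    rw [map_add, map_sum, map_zero] at h1
    have : ∀ i : Fin (p - 1), Coalgebra.counit (R := R) (phi p R χ A (f i)) = 0 :=
      fun i => ((mem_eigenAug R A p χ _ _).1 (hfmem i)).1
    simp only [this, Finset.sum_const_zero, add_zero] at h1
    exact h1
  have ha0 : phi p R χ A a = 0 := by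
    rw [counit_phi_S_zero p R χ A a ha, hc, map_zero]
  have ha' : a = 0 := S_zero_inj p R χ A a ha ha0
  rw [ha0, zero_add] at h0
  have hall := eq_zero_of_sum p R u hu χ hχ A hp (fun i => phi p R χ A (f i)) hfmem h0
  have hf0 : ∀ i : Fin (p - 1), f i = 0 := fun i =>
    phi_inj p R χ A hI hpow (tau p i) (tau_pos p i) (tau_le p i) (f i) (hf i) (hall i)
  rw [ha', zero_add]
  exact Finset.sum_eq_zero fun i _ => hf0 i

include hu hχ hp hI hpow in
theorem ker_le (z : TA p R χ A) (h0 : phi p R χ A z = 0) : z ∈ Jid p R χ A := by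
  have hz : z ∈ W p R χ A ⊔ (Jid p R χ A).restrictScalars R := by
    rw [W_sup_J]; trivial
  rw [Submodule.mem_sup] at hz
  obtain ⟨w, hw, j, hj, rfl⟩ := hz
  have hj' : j ∈ Jid p R χ A := hj
  rw [map_add, Jid_le_ker p R χ A j hj', add_zero] at h0
  rw [W_inj p R u hu χ hχ A hp hI hpow w hw h0, zero_add]
  exact hj'

include hu hχ hp hpow in
theorem phi_surjective : Function.Surjective (phi p R χ A) := by
  classical
  have hp1 : 1 < p := (Fact.out : p.Prime).one_lt
  obtain ⟨-, hsup, -⟩ := main R A p hp u hu χ hχ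
  have hrange : ∀ t : ℕ, 1 ≤ t → t ≤ p - 1 →
      OortTate.eigenAug R A p χ t ≤ LinearMap.range (phi p R χ A).toLinearMap := by
    intro t ht1 ht2
    rw [← hpow t ht1 ht2, ← map_S]
    exact LinearMap.map_le_range
  have hker : LinearMap.ker (Bialgebra.counitAlgHom R A).toLinearMap ≤
      LinearMap.range (phi p R χ A).toLinearMap := by
    rw [← hsup]
    refine iSup_le fun i => ?_
    rw [← eigenAug_tau p R χ A i]
    exact hrange (tau p i) (tau_pos p i) (tau_le p i)
  intro a
  have h1 : a - algebraMap R A (Coalgebra.counit (R := R) a) ∈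
      LinearMap.ker (Bialgebra.counitAlgHom R A).toLinearMap := by
    rw [LinearMap.mem_ker]
    show Coalgebra.counit (R := R) (a - _) = 0
    rw [map_sub, Bialgebra.counit_algebraMap, sub_self]
  obtain ⟨z, hz⟩ := hker h1
  refine ⟨z + algebraMap R _ (Coalgebra.counit (R := R) a), ?_⟩
  rw [map_add, AlgHom.commutes]
  have : phi p R χ A z = a - algebraMap R A (Coalgebra.counit (R := R) a) := hz
  rw [this, sub_add_cancel]

end Main

end Groth.Agent.Lib.Helper86.OTTensor
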