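import Mathlib
import Groth.Agent.Lib.Helper86.OTTensor

/-!
# Oort–Tate: algebra maps out of `A` from linear maps out of `I_1(A)` (helper86)

Using the presentation `A = T(I_1) / (x_1 ⋯ x_p - (x_1 ⋯ x_p))` (`OTTensor`):
* `exists_algHom` : a linear map `g : I_1(A) → B` compatible with `p`-fold products extends to an algebra map;
* `algHom_ext` : algebra maps out of `A` agreeing on `I_1(A)` are equal;
* `exists_algEquiv` : a linear iso `θ : I_1(A) ≃ I_1(A')` compatible with `p`-fold products extends to `A ≃ₐ A'`.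
-/

set_option autoImplicit false
set_option linter.unusedSectionVars false
set_option linter.unusedVariables false
universe u

namespace Groth.Agent.Lib.Helper86.OTLift

open TensorProduct WithConv Groth.Agent.Lib.Helper92.OT Groth.Agent.Lib.Helper86.OTField
  Groth.Agent.Lib.Helper86.OTTensor

section Lift
variable (p : ℕ) [Fact p.Prime] (R : Type u) [CommRing R] (u : R)
  (hu : u * ((p - 1 : ℕ) : R) = 1)
  (χ : (ZMod p)ˣ →* Rˣ) (hχ : ∀ m : (ZMod p)ˣ, m ≠ 1 → IsUnit ((χ m : R) - 1))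
  (A : Type u) [CommRing A] [HopfAlgebra R A]
  (hp : (WithConv.toConv (AlgHom.id R A)) ^ p = 1)
  (hI : ∀ i : ℕ, Module.Finite R (OortTate.eigenAug R A p χ i) ∧
    Module.Projective R (OortTate.eigenAug R A p χ i) ∧
    ∀ q : PrimeSpectrum R, Module.rankAtStalk (↥(OortTate.eigenAug R A p χ i)) q = 1)
  (hpow : ∀ t : ℕ, 1 ≤ t → t ≤ p - 1 →
    (OortTate.eigenAug R A p χ 1) ^ t = OortTate.eigenAug R A p χ t)
  (B : Type u) [CommRing B] [Algebra R B]
  (g : OortTate.eigenAug R A p χ 1 →ₗ[R] B)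
  (hg : ∀ (f : Fin p → OortTate.eigenAug R A p χ 1) (x : OortTate.eigenAug R A p χ 1),
      (x : A) = ∏ i, (f i : A) → g x = ∏ i, g (f i))

/-- the lift of `g` to the tensor algebra -/
noncomputable abbrev gT : TA p R χ A →ₐ[R] B := TensorAlgebra.lift R g

include hg in
lemma Jid_le_ker_gT : ∀ z ∈ Jid p R χ A, gT p R χ A B g z = 0 := by
  intro z hz
  have hle : Jid p R χ A ≤ RingHom.ker (gT p R χ A B g) := by
    unfold Jid
    rw [Ideal.span_le]
    rintro _ ⟨f, x, hx, rfl⟩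
    rw [SetLike.mem_coe, RingHom.mem_ker, map_sub, TensorAlgebra.lift_ι_apply, map_list_prod,
      List.map_ofFn, List.prod_ofFn]
    simp only [Function.comp_apply, TensorAlgebra.lift_ι_apply]
    rw [hg f x hx, sub_self]
  exact hle hz

include hu hχ hp hI hpow hg in
theorem exists_algHom :
    ∃ Φ : A →ₐ[R] B, ∀ x : OortTate.eigenAug R A p χ 1, Φ (x : A) = g x := by
  classical
  have hsurj := phi_surjective p R u hu χ hχ A hp hpow
  have key : ∀ z1 z2 : TA p R χ A, phi p R χ A z1 = phi p R χ A z2 →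
      gT p R χ A B g z1 = gT p R χ A B g z2 := by
    intro z1 z2 h
    have h0 : phi p R χ A (z1 - z2) = 0 := by rw [map_sub, h, sub_self]
    have h1 := Jid_le_ker_gT p R χ A B g hg (z1 - z2)
      (ker_le p R u hu χ hχ A hp hI hpow (z1 - z2) h0)
    rwa [map_sub, sub_eq_zero] at h1
  let s : A → TA p R χ A := Function.surjInv hsurj
  have hs : ∀ a, phi p R χ A (s a) = a := Function.surjInv_eq hsurj
  refine ⟨{ toFun := fun a => gT p R χ A B g (s a)
            map_one' := ?_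
            map_mul' := ?_
            map_zero' := ?_
            map_add' := ?_
            commutes' := ?_ }, ?_⟩
  · rw [← map_one (gT p R χ A B g)]
    exact key _ _ (by rw [hs, map_one])
  · intro a b
    rw [← map_mul (gT p R χ A B g)]
    exact key _ _ (by rw [hs, map_mul, hs, hs])
  · rw [← map_zero (gT p R χ A B g)]
    exact key _ _ (by rw [hs, map_zero])
  · intro a b
    show gT p R χ A B g (s (a + b)) = gT p R χ A B g (s a) + gT p R χ A B g (s b)
    rw [← map_add (gT p R χ A B g)]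
    exact key _ _ (by rw [hs, map_add, hs, hs])
  · intro r
    show gT p R χ A B g (s (algebraMap R A r)) = algebraMap R B r
    rw [← AlgHom.commutes (gT p R χ A B g) r]
    exact key _ _ (by rw [hs, AlgHom.commutes])
  · intro x
    show gT p R χ A B g (s (x : A)) = g x
    have h1 : gT p R χ A B g (TensorAlgebra.ι R x) = g x := TensorAlgebra.lift_ι_apply _ _
    rw [← h1]
    exact key _ _ (by rw [hs, TensorAlgebra.lift_ι_apply]; rfl)

include hu hχ hp hpow in
theorem algHom_ext (Φ₁ Φ₂ : A →ₐ[R] B)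
    (h : ∀ x : OortTate.eigenAug R A p χ 1, Φ₁ (x : A) = Φ₂ (x : A)) : Φ₁ = Φ₂ := by
  have hsurj := phi_surjective p R u hu χ hχ A hp hpow
  have h1 : Φ₁.comp (phi p R χ A) = Φ₂.comp (phi p R χ A) := by
    apply TensorAlgebra.hom_ext
    apply LinearMap.ext
    intro x
    simp only [LinearMap.comp_apply, AlgHom.toLinearMap_apply, AlgHom.comp_apply,
      TensorAlgebra.lift_ι_apply, Submodule.subtype_apply]
    exact h x
  apply AlgHom.ext
  intro a
  obtain ⟨z, rfl⟩ := hsurj a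
  exact DFunLike.congr_fun h1 z

end Lift

section Equiv
variable (p : ℕ) [Fact p.Prime] (R : Type u) [CommRing R] (u : R)
  (hu : u * ((p - 1 : ℕ) : R) = 1)
  (χ : (ZMod p)ˣ →* Rˣ) (hχ : ∀ m : (ZMod p)ˣ, m ≠ 1 → IsUnit ((χ m : R) - 1))
  (A : Type u) [CommRing A] [HopfAlgebra R A]
  (hp : (WithConv.toConv (AlgHom.id R A)) ^ p = 1)
  (hI : ∀ i : ℕ, Module.Finite R (OortTate.eigenAug R A p χ i) ∧
    Module.Projective R (OortTate.eigenAug R A p χ i) ∧
    ∀ q : PrimeSpectrum R, Module.rankAtStalk (↥(OortTate.eigenAug R A p χ i)) q = 1)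
  (hpow : ∀ t : ℕ, 1 ≤ t → t ≤ p - 1 →
    (OortTate.eigenAug R A p χ 1) ^ t = OortTate.eigenAug R A p χ t)
  (A' : Type u) [CommRing A'] [HopfAlgebra R A']
  (hp' : (WithConv.toConv (AlgHom.id R A')) ^ p = 1)
  (hI' : ∀ i : ℕ, Module.Finite R (OortTate.eigenAug R A' p χ i) ∧
    Module.Projective R (OortTate.eigenAug R A' p χ i) ∧
    ∀ q : PrimeSpectrum R, Module.rankAtStalk (↥(OortTate.eigenAug R A' p χ i)) q = 1)
  (hpow' : ∀ t : ℕ, 1 ≤ t → t ≤ p - 1 →
    (OortTate.eigenAug R A' p χ 1) ^ t = OortTate.eigenAug R A' p χ t)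
  (θ : OortTate.eigenAug R A p χ 1 ≃ₗ[R] OortTate.eigenAug R A' p χ 1)
  (hθ : ∀ (f : Fin p → OortTate.eigenAug R A p χ 1) (g : OortTate.eigenAug R A p χ 1),
      (g : A) = ∏ i, (f i : A) → ((θ g : OortTate.eigenAug R A' p χ 1) : A') = ∏ i, ((θ (f i)) : A'))

include hθ in
lemma hθ_symm (f : Fin p → OortTate.eigenAug R A' p χ 1) (g : OortTate.eigenAug R A' p χ 1)
    (h : (g : A') = ∏ i, (f i : A')) :
    ((θ.symm g : OortTate.eigenAug R A p χ 1) : A) = ∏ i, ((θ.symm (f i)) : A) := by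
  have hmem : ∏ i, ((θ.symm (f i)) : A) ∈ OortTate.eigenAug R A p χ 1 :=
    prod_mem_eigenAug_one p R χ A _ fun i => (θ.symm (f i)).2
  have h1 := hθ (fun i => θ.symm (f i)) ⟨_, hmem⟩ rfl
  simp only [LinearEquiv.apply_symm_apply] at h1
  have h2 : θ ⟨_, hmem⟩ = g := Subtype.ext (h1.trans h.symm)
  rw [← h2, LinearEquiv.symm_apply_apply]

include hu hχ hp hI hpow hp' hI' hpow' hθ in
theorem exists_algEquiv :
    ∃ Φ : A ≃ₐ[R] A', ∀ x : OortTate.eigenAug R A p χ 1, Φ (x : A) = (θ x : A') := by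
  obtain ⟨Φ, hΦ⟩ := exists_algHom p R u hu χ hχ A hp hI hpow A'
    ((OortTate.eigenAug R A' p χ 1).subtype ∘ₗ θ.toLinearMap) (fun f g h => hθ f g h)
  obtain ⟨Φ', hΦ'⟩ := exists_algHom p R u hu χ hχ A' hp' hI' hpow' A
    ((OortTate.eigenAug R A p χ 1).subtype ∘ₗ θ.symm.toLinearMap)
    (fun f g h => hθ_symm p R χ A A' θ hθ f g h)
  have h1 : Φ'.comp Φ = AlgHom.id R A := by
    apply algHom_ext p R u hu χ hχ A hp hpow
    intro x
    rw [AlgHom.comp_apply, hΦ]
    have := hΦ' (θ x)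
    simp only [LinearMap.comp_apply, LinearEquiv.coe_coe, Submodule.subtype_apply,
      LinearEquiv.symm_apply_apply] at this ⊢
    exact this
  have h2 : Φ.comp Φ' = AlgHom.id R A' := by
    apply algHom_ext p R u hu χ hχ A' hp' hpow'
    intro x
    rw [AlgHom.comp_apply, hΦ']
    have := hΦ (θ.symm x)
    simp only [LinearMap.comp_apply, LinearEquiv.coe_coe, Submodule.subtype_apply,
      LinearEquiv.apply_symm_apply] at this ⊢
    exact this
  refine ⟨AlgEquiv.ofAlgHom Φ Φ' h2 h1, fun x => ?_⟩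
  show Φ (x : A) = _
  rw [hΦ]
  rfl

end Equiv

end Groth.Agent.Lib.Helper86.OTLift
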