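import Mathlib
import Groth.Agent.Lib.Helper92.OortTateMu
import Groth.Agent.Lib.Helper86.OTBase

set_option autoImplicit false
set_option linter.unusedSectionVars false
universe u

namespace Groth.Agent.Lib.Helper86.OTPair

open TensorProduct WithConv Groth.Agent.Lib.Helper92.OT

section Theta
variable (R : Type u) [CommRing R] (A : Type u) [CommRing A] [HopfAlgebra R A]
  [Module.Finite R A] [Module.Projective R A]

/-- `A ⊗ A^D → End_R(A)`, `x ⊗ f ↦ (a ↦ f a • x)` -/
noncomputable def Theta : A ⊗[R] CartDual.D R A →ₗ[R] (A →ₗ[R] A) :=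
  dualTensorHom R A A ∘ₗ (TensorProduct.comm R A (Module.Dual R A)).toLinearMap ∘ₗ
    (LinearMap.lTensor A (CartDual.toDual R A).toLinearMap)

lemma Theta_tmul (x : A) (f : CartDual.D R A) (a : A) :
    Theta R A (x ⊗ₜ[R] f) a = f a • x := by
  simp [Theta, CartDual.coe_apply]

lemma Theta_injective : Function.Injective (Theta R A) := by
  unfold Theta
  rw [LinearMap.coe_comp, LinearMap.coe_comp]
  refine (dualTensorHom_bijective (R := R) (M := A) (N := A)).1.comp
    ((TensorProduct.comm R A (Module.Dual R A)).injective.comp ?_)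
  exact (LinearEquiv.lTensor A (CartDual.toDual R A)).injective

lemma Theta_apply_eq (w : A ⊗[R] CartDual.D R A) (a : A) :
    Theta R A w a = TensorProduct.rid R A
      (LinearMap.lTensor A ((Module.Dual.eval R A a) ∘ₗ (CartDual.toDual R A).toLinearMap) w) := by
  induction w using TensorProduct.induction_on with
  | zero => simp
  | tmul x f =>
    rw [Theta_tmul, LinearMap.lTensor_tmul, TensorProduct.rid_tmul]
    rfl
  | add x y hx hy => rw [map_add, LinearMap.add_apply, hx, hy, map_add, map_add]

instance instRightDistribClassTensor : RightDistribClass (A ⊗[R] CartDual.D R A) := by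
  let _ : Semiring (A ⊗[R] CartDual.D R A) := inferInstance
  infer_instance

instance instLeftDistribClassTensor : LeftDistribClass (A ⊗[R] CartDual.D R A) := by
  let _ : Semiring (A ⊗[R] CartDual.D R A) := inferInstance
  infer_instance

lemma Theta_mul (w w' : A ⊗[R] CartDual.D R A) :
    toConv (Theta R A (w * w')) = toConv (Theta R A w) * toConv (Theta R A w') := by
  induction w using TensorProduct.induction_on with
  | zero =>
    have h0 : (0 : A ⊗[R] CartDual.D R A) * w' = 0 := by
      let _ : Semiring (A ⊗[R] CartDual.D R A) := inferInstance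
      exact zero_mul w'
    rw [h0, map_zero, toConv_zero, zero_mul]
  | add x y hx hy => rw [add_mul, map_add, toConv_add, hx, hy, map_add, toConv_add, add_mul]
  | tmul x f =>
    induction w' using TensorProduct.induction_on with
    | zero =>
      have h0 : x ⊗ₜ[R] f * (0 : A ⊗[R] CartDual.D R A) = 0 := by
        let _ : Semiring (A ⊗[R] CartDual.D R A) := inferInstance
        exact mul_zero _
      rw [h0, map_zero, toConv_zero, mul_zero]
    | add x' y' hx' hy' =>
      rw [mul_add, map_add, toConv_add, hx', hy', map_add, toConv_add, mul_add]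
    | tmul y g =>
      apply WithConv.ext
      apply LinearMap.ext
      intro a
      rw [Algebra.TensorProduct.tmul_mul_tmul]
      show Theta R A ((x * y) ⊗ₜ[R] (f * g)) a =
        (toConv (Theta R A (x ⊗ₜ[R] f)) * toConv (Theta R A (y ⊗ₜ[R] g))) a
      rw [Theta_tmul, LinearMap.convMul_apply, LinearMap.convMul_apply]
      generalize Coalgebra.comul (R := R) a = t
      induction t using TensorProduct.induction_on with
      | zero => simp
      | tmul a₁ a₂ =>
        simp only [TensorProduct.map_tmul, LinearMap.mul'_apply, Theta_tmul]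
        rw [smul_mul_smul_comm]
      | add s t hs ht => rw [map_add, map_add, add_smul, hs, ht, map_add, map_add]

lemma Theta_one : toConv (Theta R A 1) = 1 := by
  apply WithConv.ext
  apply LinearMap.ext
  intro a
  show Theta R A ((1 : A) ⊗ₜ[R] (1 : CartDual.D R A)) a = (1 : WithConv (A →ₗ[R] A)) a
  rw [Theta_tmul, LinearMap.convOne_apply, LinearMap.convOne_apply]
  simp [Algebra.algebraMap_eq_smul_one]

lemma Theta_pow (w : A ⊗[R] CartDual.D R A) (k : ℕ) :
    toConv (Theta R A (w ^ k)) = (toConv (Theta R A w)) ^ k := by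
  induction k with
  | zero => rw [pow_zero, pow_zero, Theta_one]
  | succ k ih => rw [pow_succ, pow_succ, Theta_mul, ih]

lemma Theta_map (F G : A →ₗ[R] A) (w : A ⊗[R] CartDual.D R A) :
    Theta R A (TensorProduct.map F (tr R A G) w) = F ∘ₗ Theta R A w ∘ₗ G := by
  induction w using TensorProduct.induction_on with
  | zero => simp
  | tmul x f =>
    apply LinearMap.ext
    intro a
    rw [TensorProduct.map_tmul, Theta_tmul, LinearMap.comp_apply, LinearMap.comp_apply, Theta_tmul,
      map_smul, tr_apply]
  | add x y hx hy => rw [map_add, map_add, hx, hy, map_add, LinearMap.add_comp, LinearMap.comp_add]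

end Theta

section Pairing
variable (p : ℕ) [Fact p.Prime] (R : Type u) [CommRing R] (u : R) (χ : (ZMod p)ˣ →* Rˣ)
  (A : Type u) [CommRing A] [HopfAlgebra R A] [Module.Finite R A] [Module.Projective R A]
  (δ : A ⊗[R] CartDual.D R A)
  (hδ : ∀ a : A, TensorProduct.rid R A
      (LinearMap.lTensor A ((Module.Dual.eval R A a) ∘ₗ (CartDual.toDual R A).toLinearMap) δ) = a)
  (ϕ : MonoidAlgebra R (Multiplicative (ZMod p)) →ₐ[R] A ⊗[R] CartDual.D R A)
  (hϕ : ϕ (OortTate.muT R p) = δ)

open Groth.Agent.Lib.Helper92.OTMu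

include hδ in
lemma Theta_delta : Theta R A δ = LinearMap.id :=
  LinearMap.ext fun a => (Theta_apply_eq R A δ a).trans (hδ a)

include hδ in
lemma Theta_delta_pow (k : ℕ) : Theta R A (δ ^ k) = (SGA3b.powConv R A k).toLinearMap := by
  have h1 := Theta_pow R A δ k
  rw [Theta_delta R A δ hδ] at h1
  have h2 : ((toConv (AlgHom.id R A)) ^ k).ofConv.toLinearMap =
      ((toConv (AlgHom.id R A).toLinearMap) ^ k).ofConv := by
    apply WithConv.toConv_injective
    rw [AlgHom.toLinearMap_convPow]
  unfold SGA3b.powConv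
  rw [h2]
  exact WithConv.toConv_injective h1

lemma Tm_eq_pow' (a : ZMod p) : Tm R p a = (Tm R p 1) ^ a.val := by
  unfold Tm
  rw [← map_pow]
  congr 1
  apply Multiplicative.toAdd.injective
  rw [toAdd_pow, toAdd_ofAdd, toAdd_ofAdd, nsmul_eq_mul, mul_one, ZMod.natCast_zmod_val]

include hϕ in
lemma phi_Tm (a : ZMod p) : ϕ.toLinearMap (Tm R p a) = δ ^ a.val := by
  rw [Tm_eq_pow']
  have h1 : ϕ.toLinearMap ((Tm R p 1) ^ a.val) = (ϕ (Tm R p 1)) ^ a.val :=
    map_pow ϕ.toRingHom (Tm R p 1) a.val
  rw [h1]
  congr 1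

include hϕ in
lemma phi_one : ϕ.toLinearMap 1 = 1 := map_one ϕ.toRingHom

include hδ hϕ in
theorem Theta_phi_ygen :
    Theta R A (ϕ (OortTate.ygen R p u χ 1)) = piAug R A p χ u 1 := by
  apply LinearMap.ext
  intro a
  rw [ygen_eq, piAug_apply]
  unfold OortTate.proj
  have hL : ∀ y : MonoidAlgebra R (Multiplicative (ZMod p)), ϕ y = ϕ.toLinearMap y := fun _ => rfl
  rw [hL]
  simp only [map_smul, map_sum, map_sub, phi_Tm p R A δ ϕ hϕ, phi_one p R A δ ϕ hϕ,
    Theta_delta_pow R A δ hδ, LinearMap.smul_apply, LinearMap.sum_apply, LinearMap.sub_apply,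
    AlgHom.toLinearMap_apply, AlgHom.commutes]
  have h1 : Theta R A 1 a = algebraMap R A (Coalgebra.counit (R := R) a) := by
    have h2 := congrArg (fun F : WithConv (A →ₗ[R] A) => F a) (Theta_one R A)
    simp only at h2
    exact h2
  rw [h1]
  simp only [smul_sub, Finset.sum_sub_distrib]

end Pairing

section DualProj
variable (p : ℕ) [Fact p.Prime] (R : Type u) [CommRing R] (u : R) (χ : (ZMod p)ˣ →* Rˣ)
  (A : Type u) [CommRing A] [HopfAlgebra R A] [Coalgebra.IsCocomm R A]
  [Module.Finite R A] [Module.Projective R A]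

/-- evaluation at `a` as a linear form on `A^D` -/
noncomputable def evA (a : A) : CartDual.D R A →ₗ[R] R :=
  (Module.Dual.eval R A a) ∘ₗ (CartDual.toDual R A).toLinearMap

lemma evA_apply (a : A) (x : CartDual.D R A) : evA R A a x = x a := rfl

theorem proj_dual_apply (i : ℕ) (y : CartDual.D R A) (a : A) :
    (OortTate.proj R (CartDual.D R A) p u χ i y) a = y (OortTate.proj R A p u χ i a) := by
  rw [← evA_apply]
  unfold OortTate.proj
  simp only [LinearMap.smul_apply, LinearMap.sum_apply, map_smul, map_sum,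
    AlgHom.toLinearMap_apply, evA_apply, powConv_dual]

theorem counit_proj (i : ℕ) (a : A) :
    Coalgebra.counit (R := R) (OortTate.proj R A p u χ i a) =
      (u * ∑ m : (ZMod p)ˣ, ((χ m⁻¹ : Rˣ) : R) ^ i) * Coalgebra.counit (R := R) a := by
  unfold OortTate.proj
  simp only [LinearMap.smul_apply, LinearMap.sum_apply, map_smul, map_sum,
    AlgHom.toLinearMap_apply, counit_powConv, smul_eq_mul]
  rw [← Finset.sum_mul, mul_assoc]

theorem proj_one (i : ℕ) :
    OortTate.proj R A p u χ i 1 = (u * ∑ m : (ZMod p)ˣ, ((χ m⁻¹ : Rˣ) : R) ^ i) • (1 : A) := by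
  unfold OortTate.proj
  simp only [LinearMap.smul_apply, LinearMap.sum_apply, AlgHom.toLinearMap_apply, map_one]
  rw [← Finset.sum_smul, smul_smul]

lemma one_D_apply (b : A) : (1 : CartDual.D R A) b = Coalgebra.counit (R := R) b := by
  show (1 : WithConv (A →ₗ[R] R)) b = _
  rw [LinearMap.convOne_apply]
  rfl

theorem piAug_dual_apply (i : ℕ) (x : CartDual.D R A) (a : A) :
    (piAug R (CartDual.D R A) p χ u i x) a = x (piAug R A p χ u i a) := by
  set c := u * ∑ m : (ZMod p)ˣ, ((χ m⁻¹ : Rˣ) : R) ^ i with hc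
  have hx : ∀ b : A, x b = x.ofConv b := fun _ => rfl
  have hL : (piAug R (CartDual.D R A) p χ u i x) a =
      x (OortTate.proj R A p u χ i a) - x 1 * (c * Coalgebra.counit (R := R) a) := by
    rw [piAug_apply, proj_dual_apply, ← evA_apply, map_sub, evA_apply,
      Algebra.algebraMap_eq_smul_one, map_smul, evA_apply, one_D_apply, counit_proj,
      CartDual.coalgebra_counit_apply, smul_eq_mul]
  have hR : x (piAug R A p χ u i a) =
      x (OortTate.proj R A p u χ i a) - Coalgebra.counit (R := R) a * (c * x 1) := by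
    rw [piAug_apply, map_sub, Algebra.algebraMap_eq_smul_one, map_smul, proj_one, hx, hx, hx,
      map_sub, map_smul, map_smul, smul_eq_mul, smul_eq_mul]
  rw [hL, hR]
  ring

end DualProj

end Groth.Agent.Lib.Helper86.OTPair
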