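import Mathlib
import Groth.Agent.Lib.Helper92.OortTateIso

/-!
# Oort–Tate: algebra isomorphisms preserving the canonical element are bialgebra isomorphisms (helper86)

* `pairing_of_delta` : if `Φ : A ≃ₐ A'`, `Ψ : A^D → A'^D` linear and `(Φ ⊗ Ψ) δ_A = δ_{A'}` for the canonical
  elements (`PhiL δ = id`), then `Ψ ξ = ξ ∘ Φ⁻¹`.
* `bialgEquiv_of_pairing` : if moreover `Ψ` is an algebra map, `A ≃ₐc A'`.
-/

set_option autoImplicit false
set_option linter.unusedSectionVars false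
set_option linter.unusedVariables false
universe u

namespace Groth.Agent.Lib.Helper86.OTPairIso

open WithConv TensorProduct Groth.Agent.Lib.Helper92.OT Groth.Agent.Lib.Helper92.OTMu
  Groth.Agent.Lib.Helper92.OTPair Groth.Agent.Lib.Helper92.OTFrame

section H
variable (R : Type u) [CommRing R] (A : Type u) [CommRing A] [HopfAlgebra R A]

/-- `a ⊗ η ↦ ξ(a) • η` -/
noncomputable def Hmap (ξ : A →ₗ[R] R) : A ⊗[R] CartDual.D R A →ₗ[R] CartDual.D R A :=
  (TensorProduct.lid R (CartDual.D R A)).toLinearMap ∘ₗ LinearMap.rTensor (CartDual.D R A) ξ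

lemma Hmap_tmul (ξ : A →ₗ[R] R) (a : A) (η : CartDual.D R A) :
    Hmap R A ξ (a ⊗ₜ η) = ξ a • η := by
  simp [Hmap]

lemma Hmap_apply (ξ : A →ₗ[R] R) (t : A ⊗[R] CartDual.D R A) (b : A) :
    Hmap R A ξ t b = ξ (PhiL R A t b) := by
  induction t using TensorProduct.induction_on with
  | zero => simp
  | tmul a η =>
    rw [Hmap_tmul, PhiL_tmul, map_smul, smul_eq_mul]
    show (ξ a • η).ofConv b = _
    rw [WithConv.ofConv_smul, LinearMap.smul_apply, smul_eq_mul, mul_comm]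
  | add t t' ht ht' =>
    rw [map_add, map_add, LinearMap.add_apply, map_add, ← ht, ← ht']
    rfl

lemma Hmap_delta (ξ : A →ₗ[R] R) (δ : A ⊗[R] CartDual.D R A)
    (hδ : PhiL R A δ = LinearMap.id) : Hmap R A ξ δ = toConv ξ := by
  apply WithConv.ext
  apply LinearMap.ext
  intro b
  have := Hmap_apply R A ξ δ b
  rw [hδ] at this
  exact this

end H

section main
variable (R : Type u) [CommRing R] (A : Type u) [CommRing A] [HopfAlgebra R A]
  (A' : Type u) [CommRing A'] [HopfAlgebra R A']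

theorem pairing_of_delta (Φ : A ≃ₐ[R] A') (Ψ : CartDual.D R A →ₗ[R] CartDual.D R A')
    (δ : A ⊗[R] CartDual.D R A) (δ' : A' ⊗[R] CartDual.D R A')
    (hδ : PhiL R A δ = LinearMap.id) (hδ' : PhiL R A' δ' = LinearMap.id)
    (hΞ : TensorProduct.map Φ.toLinearMap Ψ δ = δ')
    (ξ : CartDual.D R A) (a' : A') : (Ψ ξ) a' = ξ (Φ.symm a') := by
  set ξ' : A' →ₗ[R] R := ξ.ofConv ∘ₗ Φ.symm.toLinearMap with hξ'
  have e1 : Hmap R A ξ.ofConv δ = ξ := Hmap_delta R A ξ.ofConv δ hδ
  have e2 : ∀ t : A ⊗[R] CartDual.D R A, Ψ (Hmap R A ξ.ofConv t) =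
      Hmap R A' ξ' (TensorProduct.map Φ.toLinearMap Ψ t) := by
    intro t
    induction t using TensorProduct.induction_on with
    | zero => simp
    | tmul a η =>
      rw [Hmap_tmul, TensorProduct.map_tmul, Hmap_tmul, map_smul]
      congr 1
      show ξ.ofConv a = ξ.ofConv (Φ.symm (Φ a))
      rw [AlgEquiv.symm_apply_apply]
    | add t t' ht ht' => simp only [map_add, ht, ht']
  have e3 : Hmap R A' ξ' δ' = toConv ξ' := Hmap_delta R A' ξ' δ' hδ'
  have e4 : Ψ ξ = toConv ξ' := by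
    conv_lhs => rw [← e1]
    rw [e2, hΞ, e3]
  rw [e4]
  rfl

variable [Coalgebra.IsCocomm R A] [Module.Finite R A] [Module.Projective R A]
  [Coalgebra.IsCocomm R A'] [Module.Finite R A'] [Module.Projective R A']

theorem one_D_apply (b : A) : (1 : CartDual.D R A) b = Coalgebra.counit (R := R) b := by
  show (1 : WithConv (A →ₗ[R] R)) b = _
  rw [LinearMap.convOne_apply]
  rfl

theorem bialgEquiv_of_pairing (Φ : A ≃ₐ[R] A') (Ψ : CartDual.D R A →ₐ[R] CartDual.D R A')
    (h : ∀ (ξ : CartDual.D R A) (a' : A'), (Ψ ξ) a' = ξ (Φ.symm a')) :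
    Nonempty (A ≃ₐc[R] A') := by
  have hΨ : ∀ ξ : CartDual.D R A, Ψ ξ = trHom R A' A Φ.symm.toLinearMap ξ := by
    intro ξ
    apply WithConv.ext
    apply LinearMap.ext
    intro a'
    exact h ξ a'
  refine ⟨(BialgEquiv.ofAlgEquiv Φ.symm ?_ ?_).symm⟩
  · apply AlgHom.ext
    intro a'
    show Coalgebra.counit (R := R) (Φ.symm a') = Coalgebra.counit (R := R) a'
    rw [← one_D_apply, ← one_D_apply, ← h, map_one]
  · apply AlgHom.ext
    intro a'
    show TensorProduct.map Φ.symm.toLinearMap Φ.symm.toLinearMap (Coalgebra.comul (R := R) a') =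
      Coalgebra.comul (R := R) (Φ.symm a')
    apply eq_of_ev₂
    intro η₁ η₂
    rw [ev₂_map, ← convMul_eq_ev₂, ← convMul_eq_ev₂, ← hΨ, ← hΨ, ← map_mul, hΨ, trHom_apply]
    rfl

end main

end Groth.Agent.Lib.Helper86.OTPairIso
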