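import Mathlib
import Groth.Agent.Lib.Helper50.GeomConn

universe u
open TensorProduct

namespace Groth.Agent.Lib.Helper86.Pi0Tensor

/-- primitive idempotent of a commutative ring -/
def IsPrim {R : Type*} [CommRing R] (e : R) : Prop :=
  IsIdempotentElem e ∧ e ≠ 0 ∧ ∀ g : R, IsIdempotentElem g → g * e = g → g = 0 ∨ g = e

section Noeth
variable {R : Type*} [CommRing R]

lemma span_lt_of_le {e g : R} (he : IsIdempotentElem e) (_hg : IsIdempotentElem g)
    (hge : g * e = g) (hne : g ≠ e) :
    Ideal.span {1 - e} < Ideal.span {1 - g} := by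
  refine lt_of_le_of_ne ?_ ?_
  · rw [Ideal.span_singleton_le_span_singleton]
    refine ⟨1 - e, ?_⟩
    have : (1 - g) * (1 - e) = 1 - e - g + g * e := by ring
    rw [this, hge]; ring
  · intro h
    have h1 : (1 - g) ∈ Ideal.span {1 - e} := by
      rw [h]; exact Ideal.subset_span rfl
    rw [Ideal.mem_span_singleton'] at h1
    obtain ⟨r, hr⟩ := h1
    apply hne
    have h2 : e * (r * (1 - e)) = e * (1 - g) := by rw [hr]
    have h3 : e * (r * (1 - e)) = r * (e - e * e) := by ring
    rw [h3, he.eq, sub_self, mul_zero] at h2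
    have h4 : e * (1 - g) = e - g * e := by ring
    rw [h4, hge] at h2
    exact (sub_eq_zero.mp h2.symm).symm

theorem exists_list_prim_of_idem [IsNoetherianRing R] :
    ∀ (I : Ideal R) (e : R), IsIdempotentElem e → Ideal.span {1 - e} = I →
      ∃ l : List R, (∀ g ∈ l, IsPrim g) ∧ l.sum = e := by
  intro I
  induction I using WellFoundedGT.induction with
  | ind I ih =>
    intro e he hI
    by_cases h0 : e = 0
    · exact ⟨[], by simp, by simp [h0]⟩
    by_cases hp : ∀ g : R, IsIdempotentElem g → g * e = g → g = 0 ∨ g = e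
    · exact ⟨[e], by simpa using ⟨he, h0, hp⟩, by simp⟩
    · push Not at hp
      obtain ⟨g, hg, hge, hg0, hgne⟩ := hp
      have hg' : IsIdempotentElem (e - g) := by
        unfold IsIdempotentElem
        have : (e - g) * (e - g) = e * e - g * e - g * e + g * g := by ring
        rw [this, he.eq, hg.eq, hge]; ring
      have hg'e : (e - g) * e = e - g := by
        rw [sub_mul, he.eq, hge]
      have hg'ne : e - g ≠ e := by
        intro h; apply hg0; simpa using h
      obtain ⟨l₁, hl₁, hs₁⟩ := ih _ (hI ▸ span_lt_of_le he hg hge hgne) g hg rfl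
      obtain ⟨l₂, hl₂, hs₂⟩ := ih _ (hI ▸ span_lt_of_le he hg' hg'e hg'ne) (e - g) hg' rfl
      refine ⟨l₁ ++ l₂, ?_, ?_⟩
      · intro x hx
        rcases List.mem_append.mp hx with h | h
        · exact hl₁ x h
        · exact hl₂ x h
      · rw [List.sum_append, hs₁, hs₂]; ring

theorem exists_list_prim [IsNoetherianRing R] :
    ∃ l : List R, (∀ g ∈ l, IsPrim g) ∧ l.sum = 1 :=
  exists_list_prim_of_idem _ 1 IsIdempotentElem.one rfl

end Noeth

end Groth.Agent.Lib.Helper86.Pi0Tensor
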