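import Mathlib
import Groth.Agent.Lib.Helper50.GeomConn
import Groth.Agent.Lib.Helper86.Pi0A

universe u
open TensorProduct

namespace Groth.Agent.Lib.Helper86.Pi0Tensor

section Quot
variable {R : Type*} [CommRing R]

lemma connectedSpace_quot_of_isPrim {e : R} (he : IsPrim e) :
    ConnectedSpace (PrimeSpectrum (R ⧸ Ideal.span {1 - e})) := by
  rw [Helper50.connectedSpace_primeSpectrum_iff]
  constructor
  · rw [Ideal.Quotient.nontrivial_iff]
    intro h
    have h1 : (1 : R) ∈ Ideal.span {1 - e} := by rw [h]; trivial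
    obtain ⟨c, hc⟩ := Ideal.mem_span_singleton'.mp h1
    apply he.2.1
    have h2 : e * (c * (1 - e)) = e * 1 := by rw [hc]
    have h3 : e * (c * (1 - e)) = c * (e - e * e) := by ring
    rw [h3, he.1.eq, sub_self, mul_zero, mul_one] at h2
    exact h2.symm
  · intro q hq
    obtain ⟨r, rfl⟩ := Ideal.Quotient.mk_surjective q
    have h1 : r * r - r ∈ Ideal.span {1 - e} := by
      rw [← Ideal.Quotient.eq, map_mul]; exact hq
    obtain ⟨c, hc⟩ := Ideal.mem_span_singleton'.mp h1
    have hg : IsIdempotentElem (e * r) := by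
      unfold IsIdempotentElem
      have : e * r * (e * r) = (e * e) * (r * r - r) + (e * e) * r := by ring
      rw [this, he.1.eq, ← hc]
      have : e * (c * (1 - e)) = c * (e - e * e) := by ring
      rw [this, he.1.eq, sub_self, mul_zero, zero_add]
    have hge : e * r * e = e * r := by
      have : e * r * e = (e * e) * r := by ring
      rw [this, he.1.eq]
    have hmk : Ideal.Quotient.mk (Ideal.span {1 - e}) r =
        Ideal.Quotient.mk (Ideal.span {1 - e}) (e * r) := by
      rw [Ideal.Quotient.eq]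
      have : r - e * r = r * (1 - e) := by ring
      rw [this]
      exact Ideal.mul_mem_left _ _ (Ideal.subset_span rfl)
    rcases he.2.2 (e * r) hg hge with h | h
    · left; rw [hmk, h, map_zero]
    · right
      rw [hmk, h, ← map_one (Ideal.Quotient.mk (Ideal.span {1 - e})), eq_comm, Ideal.Quotient.eq]
      exact Ideal.subset_span rfl

end Quot

section Tensor
variable {k : Type u} [Field k] {R₁ R₂ : Type u} [CommRing R₁] [CommRing R₂]
  [Algebra k R₁] [Algebra k R₂]

/-- the `k`-linear section `r̄ ↦ e r` of the quotient by `1 - e`. -/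
noncomputable def sec {R : Type u} [CommRing R] [Algebra k R] (e : R) (he : IsIdempotentElem e) :
    (R ⧸ Ideal.span {1 - e}) →ₗ[k] R :=
  (Submodule.liftQ (Ideal.span {1 - e}) (LinearMap.mulLeft R e) (by
    rw [Ideal.span_le]
    rintro x hx
    rw [Set.mem_singleton_iff] at hx
    subst hx
    show (LinearMap.mulLeft R e) (1 - e) = 0
    rw [LinearMap.mulLeft_apply, mul_sub, mul_one, he.eq, sub_self])).restrictScalars k

lemma sec_mk {R : Type u} [CommRing R] [Algebra k R] (e : R) (he : IsIdempotentElem e) (r : R) :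
    sec (k := k) e he (Ideal.Quotient.mk _ r) = e * r := rfl

lemma sec_map (e : R₁) (f : R₂) (he : IsIdempotentElem e) (hf : IsIdempotentElem f)
    (t : R₁ ⊗[k] R₂) :
    TensorProduct.map (sec (k := k) e he) (sec (k := k) f hf)
      (Algebra.TensorProduct.map (Ideal.Quotient.mkₐ k (Ideal.span {1 - e}))
        (Ideal.Quotient.mkₐ k (Ideal.span {1 - f})) t) = (e ⊗ₜ[k] f) * t := by
  induction t using TensorProduct.induction_on with
  | zero => simp
  | tmul a b =>
    rw [Algebra.TensorProduct.map_tmul, TensorProduct.map_tmul, Algebra.TensorProduct.tmul_mul_tmul]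
    rfl
  | add x y hx hy => rw [map_add, map_add, hx, hy, mul_add]

theorem prim_tmul_prim_mul [IsSepClosed k] {e : R₁} {f : R₂} (he : IsPrim e) (hf : IsPrim f)
    {u : R₁ ⊗[k] R₂} (hu : IsIdempotentElem u) :
    (e ⊗ₜ[k] f) * u = 0 ∨ (e ⊗ₜ[k] f) * u = e ⊗ₜ[k] f := by
  have := connectedSpace_quot_of_isPrim he
  have := connectedSpace_quot_of_isPrim hf
  have hc : ConnectedSpace (PrimeSpectrum
      ((R₁ ⧸ Ideal.span {1 - e}) ⊗[k] (R₂ ⧸ Ideal.span {1 - f}))) :=
    Helper50.connectedSpace_tensor_of_isSepClosed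
  have h := (Helper50.connectedSpace_primeSpectrum_iff.mp hc).2
  set π := Algebra.TensorProduct.map (Ideal.Quotient.mkₐ k (Ideal.span {1 - e}))
        (Ideal.Quotient.mkₐ k (Ideal.span {1 - f})) with hπ
  rcases h (π u) (hu.map π) with h0 | h1
  · left
    rw [← sec_map e f he.1 hf.1, ← hπ, h0, map_zero]
  · right
    have h2 : π (1 - u) = 0 := by rw [map_sub, map_one, h1, sub_self]
    have h3 := sec_map (k := k) e f he.1 hf.1 (1 - u)
    rw [← hπ, h2, map_zero, mul_sub, mul_one] at h3
    exact (sub_eq_zero.mp h3.symm).symm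

/-- the span of the pure tensors of idempotents. -/
def idemTmulSpan (k : Type u) [Field k] (R₁ R₂ : Type u) [CommRing R₁] [CommRing R₂]
    [Algebra k R₁] [Algebra k R₂] : Submodule k (R₁ ⊗[k] R₂) :=
  Submodule.span k {x | ∃ e f, IsIdempotentElem e ∧ IsIdempotentElem f ∧ x = e ⊗ₜ[k] f}

theorem mem_idemTmulSpan_of_noetherian [IsSepClosed k] [IsNoetherianRing R₁] [IsNoetherianRing R₂]
    {u : R₁ ⊗[k] R₂} (hu : IsIdempotentElem u) : u ∈ idemTmulSpan k R₁ R₂ := by
  obtain ⟨l₁, hl₁, hs₁⟩ := exists_list_prim (R := R₁)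
  obtain ⟨l₂, hl₂, hs₂⟩ := exists_list_prim (R := R₂)
  have key : ∀ (m₁ : List R₁) (m₂ : List R₂), (∀ g ∈ m₁, IsPrim g) → (∀ g ∈ m₂, IsPrim g) →
      (m₁.sum ⊗ₜ[k] m₂.sum) * u ∈ idemTmulSpan k R₁ R₂ := by
    intro m₁
    induction m₁ with
    | nil => intro m₂ _ _; simp
    | cons a m₁ ih =>
      intro m₂ h1 h2
      rw [List.sum_cons, TensorProduct.add_tmul, add_mul]
      refine Submodule.add_mem _ ?_ (ih m₂ (fun g hg => h1 g (List.mem_cons_of_mem _ hg)) h2)
      have ha : IsPrim a := h1 a (List.mem_cons_self)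
      clear ih h1
      induction m₂ with
      | nil => simp
      | cons b m₂ ih2 =>
        rw [List.sum_cons, TensorProduct.tmul_add, add_mul]
        refine Submodule.add_mem _ ?_ (ih2 (fun g hg => h2 g (List.mem_cons_of_mem _ hg)))
        have hb : IsPrim b := h2 b (List.mem_cons_self)
        rcases prim_tmul_prim_mul ha hb hu with h | h
        · rw [h]; exact Submodule.zero_mem _
        · rw [h]; exact Submodule.subset_span ⟨a, b, ha.1, hb.1, rfl⟩
  have := key l₁ l₂ hl₁ hl₂
  rwa [hs₁, hs₂, ← Algebra.TensorProduct.one_def, one_mul] at this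

end Tensor

end Groth.Agent.Lib.Helper86.Pi0Tensor
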