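import Mathlib
import Groth.Agent.Lib.Helper50.GeomConn
import Groth.Agent.Lib.Helper86.Pi0A
import Groth.Agent.Lib.Helper86.Pi0B

universe u
open TensorProduct

namespace Groth.Agent.Lib.Helper86.Pi0Tensor

section FG
variable {k : Type u} [Field k] {A₁ A₂ : Type u} [CommRing A₁] [CommRing A₂]
  [Algebra k A₁] [Algebra k A₂]

lemma range_map_val_mono {S S' : Subalgebra k A₁} {T T' : Subalgebra k A₂} (h : S ≤ S')
    (h' : T ≤ T') :
    LinearMap.range (TensorProduct.map S.val.toLinearMap T.val.toLinearMap) ≤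
      LinearMap.range (TensorProduct.map S'.val.toLinearMap T'.val.toLinearMap) := by
  have : TensorProduct.map S.val.toLinearMap T.val.toLinearMap =
      (TensorProduct.map S'.val.toLinearMap T'.val.toLinearMap) ∘ₗ
        (TensorProduct.map (Subalgebra.inclusion h).toLinearMap
          (Subalgebra.inclusion h').toLinearMap) := by
    rw [← TensorProduct.map_comp]
    rfl
  rw [this]
  exact LinearMap.range_comp_le_range _ _

lemma exists_fg_mem_range (u : A₁ ⊗[k] A₂) :
    ∃ (S : Subalgebra k A₁) (T : Subalgebra k A₂), S.FG ∧ T.FG ∧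
      u ∈ LinearMap.range (TensorProduct.map S.val.toLinearMap T.val.toLinearMap) := by
  induction u using TensorProduct.induction_on with
  | zero => exact ⟨⊥, ⊥, Subalgebra.fg_bot, Subalgebra.fg_bot, Submodule.zero_mem _⟩
  | tmul a b =>
    refine ⟨Algebra.adjoin k {a}, Algebra.adjoin k {b}, ⟨{a}, by simp⟩, ⟨{b}, by simp⟩,
      ⟨(⟨a, Algebra.subset_adjoin rfl⟩ : Algebra.adjoin k {a}) ⊗ₜ[k]
        (⟨b, Algebra.subset_adjoin rfl⟩ : Algebra.adjoin k {b}), ?_⟩⟩
    rw [TensorProduct.map_tmul]
    rfl
  | add x y hx hy =>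
    obtain ⟨S, T, hS, hT, hx⟩ := hx
    obtain ⟨S', T', hS', hT', hy⟩ := hy
    refine ⟨S ⊔ S', T ⊔ T', hS.sup hS', hT.sup hT', Submodule.add_mem _ ?_ ?_⟩
    · exact range_map_val_mono le_sup_left le_sup_left hx
    · exact range_map_val_mono le_sup_right le_sup_right hy

lemma map_val_injective (S : Subalgebra k A₁) (T : Subalgebra k A₂) :
    Function.Injective (Algebra.TensorProduct.map S.val T.val) := by
  have : Function.Injective (TensorProduct.map S.val.toLinearMap T.val.toLinearMap) :=
    TensorProduct.map_injective_of_flat_flat _ _ Subtype.val_injective Subtype.val_injective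
  exact this

/-- Over a separably closed field, every idempotent of `A₁ ⊗ A₂` is a sum of pure tensors of
idempotents. -/
theorem mem_idemTmulSpan [IsSepClosed k] {u : A₁ ⊗[k] A₂} (hu : IsIdempotentElem u) :
    u ∈ idemTmulSpan k A₁ A₂ := by
  obtain ⟨S, T, hS, hT, u', hu'⟩ := exists_fg_mem_range u
  have hft₁ : Algebra.FiniteType k S := (Subalgebra.fg_iff_finiteType S).mp hS
  have hft₂ : Algebra.FiniteType k T := (Subalgebra.fg_iff_finiteType T).mp hT
  have hn₁ : IsNoetherianRing S := Algebra.FiniteType.isNoetherianRing k S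
  have hn₂ : IsNoetherianRing T := Algebra.FiniteType.isNoetherianRing k T
  set ι := Algebra.TensorProduct.map S.val T.val with hι
  have hu'' : ι u' = u := hu'
  have hidem : IsIdempotentElem u' := by
    apply map_val_injective S T
    rw [map_mul, hu'', hu.eq]
  have hmem := mem_idemTmulSpan_of_noetherian hidem
  have : ι.toLinearMap u' ∈ Submodule.map ι.toLinearMap (idemTmulSpan k S T) :=
    Submodule.mem_map_of_mem hmem
  rw [idemTmulSpan, Submodule.map_span] at this
  rw [← hu'']
  refine Submodule.span_mono ?_ this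
  rintro _ ⟨_, ⟨e, f, he, hf, rfl⟩, rfl⟩
  exact ⟨S.val e, T.val f, he.map S.val, hf.map T.val, by simp [hι]⟩

end FG

end Groth.Agent.Lib.Helper86.Pi0Tensor
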