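import Mathlib
import Groth.Agent.Lib.Helper86.Pi0C

universe u
open TensorProduct Polynomial

namespace Groth.Agent.Lib.Helper86.Pi0Tensor

section Sep
variable {k : Type*} [Field k]

lemma isSeparable_of_aeval_eq_zero {A : Type*} [Ring A] [Algebra k A] {a : A} {P : k[X]}
    (hP : P.Separable) (h : aeval a P = 0) : IsSeparable k a :=
  hP.of_dvd (minpoly.dvd k a h)

lemma isSeparable_algHom {A B : Type*} [Ring A] [Ring B] [Algebra k A] [Algebra k B]
    (f : A →ₐ[k] B) {a : A} (h : IsSeparable k a) : IsSeparable k (f a) := by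
  refine isSeparable_of_aeval_eq_zero h ?_
  rw [aeval_algHom_apply, minpoly.aeval, map_zero]

lemma isSeparable_of_isIdempotentElem {A : Type*} [Ring A] [Algebra k A] {e : A}
    (he : IsIdempotentElem e) : IsSeparable k e := by
  have hsep : (X ^ 2 - X : k[X]).Separable := by
    refine ⟨-4, 2 * X - 1, ?_⟩
    have h2 : (C (2 : k) : k[X]) = 2 := map_ofNat C 2
    simp only [derivative_sub, derivative_X_pow, derivative_X, Nat.cast_ofNat, h2]
    norm_num
    ring
  refine isSeparable_of_aeval_eq_zero hsep ?_
  rw [map_sub, map_pow, aeval_X, pow_two, he.eq, sub_self]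

lemma aeval_mul_of_eigen' {B : Type*} [CommRing B] [Algebra k B] {y E : B} {c : k}
    (h : y * E = c • E) (P : k[X]) : aeval y P * E = P.eval c • E := by
  have hn : ∀ n : ℕ, y ^ n * E = c ^ n • E := by
    intro n
    induction n with
    | zero => simp
    | succ n ih => rw [pow_succ, mul_assoc, h, mul_smul_comm, ih, smul_smul, pow_succ, mul_comm]
  induction P using Polynomial.induction_on' with
  | add P Q hP hQ => rw [map_add, add_mul, hP, hQ, eval_add, add_smul]
  | monomial n a =>
    rw [aeval_monomial, eval_monomial, mul_assoc, hn, ← Algebra.smul_def, smul_smul]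

/-- the span of the idempotents. -/
def idemSpan (k : Type*) [Field k] (A : Type*) [CommRing A] [Algebra k A] : Submodule k A :=
  Submodule.span k {e | IsIdempotentElem e}

theorem mul_mem_idemSpan_of_aeval [IsAlgClosed k] {A : Type*} [CommRing A] [Algebra k A] :
    ∀ (n : ℕ) (Q : k[X]), Q.natDegree = n → Q.Separable → ∀ (a g : A), IsIdempotentElem g →
      g * aeval a Q = 0 → g * a ∈ idemSpan k A := by
  intro n
  induction n with
  | zero =>
    intro Q hQ hsep a g hg h
    obtain ⟨q, rfl⟩ := natDegree_eq_zero.mp hQ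
    have hq : q ≠ 0 := by
      rintro rfl
      exact hsep.ne_zero (by simp)
    rw [aeval_C, ← Algebra.commutes, ← Algebra.smul_def] at h
    have hg0 : g = 0 := by
      have := congrArg (fun x => q⁻¹ • x) h
      simpa [smul_smul, inv_mul_cancel₀ hq] using this
    rw [hg0, zero_mul]
    exact Submodule.zero_mem _
  | succ n ih =>
    intro Q hQ hsep a g hg h
    have hdeg : Q.degree ≠ 0 := by
      intro h0
      have := natDegree_eq_zero_iff_degree_le_zero.mpr (le_of_eq h0)
      omega
    obtain ⟨c, hc⟩ := IsAlgClosed.exists_root Q hdeg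
    obtain ⟨Q₁, rfl⟩ := dvd_iff_isRoot.mpr hc
    have hQ₁0 : Q₁ ≠ 0 := by
      rintro rfl
      exact hsep.ne_zero (by simp)
    have hQ₁n : Q₁.natDegree = n := by
      rw [natDegree_mul (X_sub_C_ne_zero c) hQ₁0, natDegree_X_sub_C] at hQ
      omega
    have hQ₁sep : Q₁.Separable := hsep.of_mul_right
    have hQ₁c : Q₁.eval c ≠ 0 := by
      obtain ⟨u, v, huv⟩ := hsep.isCoprime
      have := congrArg (eval c) huv
      simp only [eval_add, eval_mul, eval_sub, eval_X, eval_C, sub_self, mul_zero, zero_add,
        eval_one] at this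
      intro h0
      rw [h0, mul_zero] at this
      exact zero_ne_one this
    set E : A := g * aeval a Q₁ with hE
    have haE : a * E = c • E := by
      rw [map_mul, map_sub, aeval_X, aeval_C] at h
      have h1 : a * E - c • E = g * ((a - algebraMap k A c) * aeval a Q₁) := by
        rw [hE, Algebra.smul_def]; ring
      exact sub_eq_zero.mp (by rw [h1, h])
    have hQE : aeval a Q₁ * E = Q₁.eval c • E := aeval_mul_of_eigen' haE Q₁
    have hgE : g * E = E := by rw [hE, ← mul_assoc, hg.eq]
    set e : A := (Q₁.eval c)⁻¹ • E with he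
    have he_idem : IsIdempotentElem e := by
      unfold IsIdempotentElem
      have h1 : E * E = Q₁.eval c • E := by
        have : E * E = g * (aeval a Q₁ * E) := by rw [hE]; ring
        rw [this, hQE, mul_smul_comm, hgE]
      rw [he, smul_mul_smul_comm, h1, smul_smul, mul_assoc, inv_mul_cancel₀ hQ₁c, mul_one]
    have hge : g * e = e := by rw [he, mul_smul_comm, hgE]
    have hae : a * e = c • e := by rw [he, mul_smul_comm, haE, smul_comm]
    have hg' : IsIdempotentElem (g - e) := by
      unfold IsIdempotentElem
      have : (g - e) * (g - e) = g * g - g * e - g * e + e * e := by ring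
      rw [this, hg.eq, hge, he_idem.eq]; ring
    have hg'Q : (g - e) * aeval a Q₁ = 0 := by
      have h1 : e * aeval a Q₁ = E := by
        rw [he, smul_mul_assoc, mul_comm, hQE, smul_smul, inv_mul_cancel₀ hQ₁c, one_smul]
      rw [sub_mul, h1, ← hE, sub_self]
    have h1 := ih Q₁ hQ₁n hQ₁sep a (g - e) hg' hg'Q
    have h2 : g * a = (g - e) * a + c • e := by
      rw [← hae]; ring
    rw [h2]
    exact Submodule.add_mem _ h1 (Submodule.smul_mem _ _ (Submodule.subset_span he_idem))

theorem mem_idemSpan_of_isSeparable [IsAlgClosed k] {A : Type*} [CommRing A] [Algebra k A]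
    {a : A} (ha : IsSeparable k a) : a ∈ idemSpan k A := by
  have := mul_mem_idemSpan_of_aeval (k := k) (A := A) _ (minpoly k a) rfl ha a 1
    IsIdempotentElem.one (by rw [minpoly.aeval, mul_zero])
  rwa [one_mul] at this

end Sep

end Groth.Agent.Lib.Helper86.Pi0Tensor
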