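import Mathlib

universe u
open TensorProduct

namespace Groth.Agent.Lib.Helper86.Pi0Tensor

section Lin
variable {k : Type*} [Field k] {W W' : Type*} [AddCommGroup W] [Module k W]
  [AddCommGroup W'] [Module k W']

lemma mem_range_rTensor_of_slices (U : Submodule k W) (t : W ⊗[k] W')
    (h : ∀ φ : W' →ₗ[k] k, TensorProduct.rid k W (LinearMap.lTensor W φ t) ∈ U) :
    t ∈ LinearMap.range (LinearMap.rTensor W' U.subtype) := by
  classical
  let 𝒞 := Module.Basis.ofVectorSpace k W'
  set c := TensorProduct.equivFinsuppOfBasisRight 𝒞 t with hc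
  have ht : t = c.sum fun i m => m ⊗ₜ[k] 𝒞 i := by
    rw [← TensorProduct.equivFinsuppOfBasisRight_symm_apply, hc, LinearEquiv.symm_apply_apply]
  have hcU : ∀ i, c i ∈ U := fun i => by
    rw [hc, TensorProduct.equivFinsuppOfBasisRight_apply]; exact h _
  rw [ht, Finsupp.sum]
  refine Submodule.sum_mem _ (fun i _ => ?_)
  exact ⟨(⟨c i, hcU i⟩ : U) ⊗ₜ[k] 𝒞 i, by simp⟩

lemma mem_range_lTensor_of_slices (U : Submodule k W) (t : W' ⊗[k] W)
    (h : ∀ φ : W' →ₗ[k] k, TensorProduct.lid k W (LinearMap.rTensor W φ t) ∈ U) :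
    t ∈ LinearMap.range (LinearMap.lTensor W' U.subtype) := by
  classical
  let 𝒞 := Module.Basis.ofVectorSpace k W'
  set c := TensorProduct.equivFinsuppOfBasisLeft 𝒞 t with hc
  have ht : t = c.sum fun i m => 𝒞 i ⊗ₜ[k] m := by
    rw [← TensorProduct.equivFinsuppOfBasisLeft_symm_apply, hc, LinearEquiv.symm_apply_apply]
  have hcU : ∀ i, c i ∈ U := fun i => by
    rw [hc, TensorProduct.equivFinsuppOfBasisLeft_apply]; exact h _
  rw [ht, Finsupp.sum]
  refine Submodule.sum_mem _ (fun i _ => ?_)
  exact ⟨𝒞 i ⊗ₜ[k] (⟨c i, hcU i⟩ : U), by simp⟩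

lemma rid_map_mem {W'' : Type*} [AddCommGroup W''] [Module k W''] (U : Submodule k W)
    (ψ : W'' →ₗ[k] k) (s : U ⊗[k] W'') :
    TensorProduct.rid k W (TensorProduct.map U.subtype ψ s) ∈ U := by
  induction s using TensorProduct.induction_on with
  | zero => simp
  | tmul u w =>
    rw [TensorProduct.map_tmul, TensorProduct.rid_tmul]
    exact U.smul_mem _ u.2
  | add x y hx hy => rw [map_add, map_add]; exact U.add_mem hx hy

lemma lid_map_mem {W'' : Type*} [AddCommGroup W''] [Module k W''] (U : Submodule k W)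
    (ψ : W'' →ₗ[k] k) (s : W'' ⊗[k] U) :
    TensorProduct.lid k W (TensorProduct.map ψ U.subtype s) ∈ U := by
  induction s using TensorProduct.induction_on with
  | zero => simp
  | tmul w u =>
    rw [TensorProduct.map_tmul, TensorProduct.lid_tmul]
    exact U.smul_mem _ u.2
  | add x y hx hy => rw [map_add, map_add]; exact U.add_mem hx hy

theorem mem_range_map_inf (U V : Submodule k W) (t : W ⊗[k] W)
    (hU : t ∈ LinearMap.range (TensorProduct.map U.subtype U.subtype))
    (hV : t ∈ LinearMap.range (TensorProduct.map V.subtype V.subtype)) :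
    t ∈ LinearMap.range (TensorProduct.map (U ⊓ V).subtype (U ⊓ V).subtype) := by
  obtain ⟨sU, hsU⟩ := hU
  obtain ⟨sV, hsV⟩ := hV
  -- Step 1
  have h1 : t ∈ LinearMap.range (LinearMap.rTensor W (U ⊓ V).subtype) := by
    apply mem_range_rTensor_of_slices
    intro φ
    constructor
    · rw [← hsU, LinearMap.lTensor, ← LinearMap.comp_apply, ← TensorProduct.map_comp,
        LinearMap.id_comp]
      exact rid_map_mem U _ sU
    · rw [← hsV, LinearMap.lTensor, ← LinearMap.comp_apply, ← TensorProduct.map_comp,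
        LinearMap.id_comp]
      exact rid_map_mem V _ sV
  have h2 : t ∈ LinearMap.range (LinearMap.lTensor W (U ⊓ V).subtype) := by
    apply mem_range_lTensor_of_slices
    intro φ
    constructor
    · rw [← hsU, LinearMap.rTensor, ← LinearMap.comp_apply, ← TensorProduct.map_comp,
        LinearMap.id_comp]
      exact lid_map_mem U _ sU
    · rw [← hsV, LinearMap.rTensor, ← LinearMap.comp_apply, ← TensorProduct.map_comp,
        LinearMap.id_comp]
      exact lid_map_mem V _ sV
  obtain ⟨s, hs⟩ := h1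
  obtain ⟨s', hs'⟩ := h2
  have h3 : s ∈ LinearMap.range (LinearMap.lTensor (↥(U ⊓ V)) (U ⊓ V).subtype) := by
    apply mem_range_lTensor_of_slices
    intro ψ
    obtain ⟨ψ', hψ'⟩ := LinearMap.exists_extend ψ
    have e1 : LinearMap.rTensor W ψ s = LinearMap.rTensor W ψ' t := by
      rw [← hs, ← LinearMap.comp_apply, ← LinearMap.rTensor_comp, hψ']
    rw [e1, ← hs', LinearMap.rTensor, LinearMap.lTensor, ← LinearMap.comp_apply,
      ← TensorProduct.map_comp, LinearMap.id_comp, LinearMap.comp_id]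
    exact lid_map_mem (U ⊓ V) _ s'
  obtain ⟨s'', hs''⟩ := h3
  refine ⟨s'', ?_⟩
  rw [← hs, ← hs'', LinearMap.rTensor, LinearMap.lTensor, ← LinearMap.comp_apply,
    ← TensorProduct.map_comp, LinearMap.id_comp, LinearMap.comp_id]

end Lin

section Alg
variable {k : Type*} [Field k] {A : Type*} [CommRing A] [Algebra k A]

theorem mem_range_map_val_inf (B C : Subalgebra k A) (t : A ⊗[k] A)
    (hB : t ∈ LinearMap.range (TensorProduct.map B.val.toLinearMap B.val.toLinearMap))
    (hC : t ∈ LinearMap.range (TensorProduct.map C.val.toLinearMap C.val.toLinearMap)) :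
    t ∈ LinearMap.range (TensorProduct.map (B ⊓ C).val.toLinearMap (B ⊓ C).val.toLinearMap) :=
  mem_range_map_inf (Subalgebra.toSubmodule B) (Subalgebra.toSubmodule C) t hB hC

end Alg

end Groth.Agent.Lib.Helper86.Pi0Tensor
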