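import Mathlib
import Groth.Agent.Lib.Helper19.FpqcModDesc
import Groth.Agent.Lib.Helper49.QCohProducts
import Groth.Agent.Lib.Helper16.FlatPull.Chart

/-! Quasi-coherence descends along finite jointly surjective flat qcqs families (no quasi-coherence
assumed on the module downstairs). -/

set_option autoImplicit false

open CategoryTheory CategoryTheory.Limits AlgebraicGeometry

universe u

namespace Groth.Agent.Lib.Helper86.QCohFpqc

open Groth.Agent.Lib.Helper49 Groth.Agent.Helper19.FpqcModDesc

variable {V : Scheme.{u}} {J : Type u} [Finite J] {U : J → Scheme.{u}} (g : ∀ j, U j ⟶ V)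

/-- product of `g_* g^* M` -/
noncomputable abbrev P (M : V.Modules) : V.Modules :=
  ∏ᶜ fun j => (Scheme.Modules.pushforward (g j)).obj ((Scheme.Modules.pullback (g j)).obj M)

/-- product of the unit maps -/
noncomputable def uP (M : V.Modules) : M ⟶ P g M :=
  Pi.lift fun j => (Scheme.Modules.pullbackPushforwardAdjunction (g j)).unit.app M

lemma mono_pullback_uP (M : V.Modules) (i : J) :
    Mono ((Scheme.Modules.pullback (g i)).map (uP g M)) := by
  have h : (Scheme.Modules.pullback (g i)).map (uP g M) ≫
      ((Scheme.Modules.pullback (g i)).map (Pi.π _ i) ≫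
        (Scheme.Modules.pullbackPushforwardAdjunction (g i)).counit.app _) = 𝟙 _ := by
    rw [← Category.assoc, ← Functor.map_comp, uP, Pi.lift_π]
    exact (Scheme.Modules.pullbackPushforwardAdjunction (g i)).left_triangle_components M
  exact mono_of_mono_fac h

section

variable [∀ j, Flat (g j)] (hs : ∀ y : V, ∃ (j : J) (z : U j), (g j).base z = y)

include hs in
lemma mono_uP (M : V.Modules) : Mono (uP g M) :=
  mono_of_forall_pullback (uP g M) g hs (mono_pullback_uP g M)

variable [∀ j, QuasiCompact (g j)] [∀ j, QuasiSeparated (g j)]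

omit [∀ j, Flat (g j)] in
lemma isQuasicoherent_P (M : V.Modules)
    (h : ∀ j, ((Scheme.Modules.pullback (g j)).obj M).IsQuasicoherent) :
    (P g M).IsQuasicoherent :=
  isQuasicoherent_piObj _ fun j => by
    have := h j
    exact isQuasicoherent_pushforward _ (g j)

include hs in
theorem isQuasicoherent_of_family (M : V.Modules)
    (h : ∀ j, ((Scheme.Modules.pullback (g j)).obj M).IsQuasicoherent) :
    M.IsQuasicoherent := by
  have hPM := isQuasicoherent_P g M h
  have hQ : ∀ j, ((Scheme.Modules.pullback (g j)).obj (cokernel (uP g M))).IsQuasicoherent := by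
    intro j
    have : (Scheme.Modules.pullback (g j)).IsLeftAdjoint :=
      (Scheme.Modules.pullbackPushforwardAdjunction (g j)).isLeftAdjoint
    have e := PreservesCokernel.iso (Scheme.Modules.pullback (g j)) (uP g M)
    have hP' : ((Scheme.Modules.pullback (g j)).obj (P g M)).IsQuasicoherent := by
      have := hPM
      exact Groth.Agent.Lib.Helper16.FlatPull.isQuasicoherent_pullback (g j) (P g M)
    exact isQuasicoherent_of_iso e.symm (isQuasicoherent_cokernel _ (h j) hP')
  have hPQ := isQuasicoherent_P g _ hQ
  have m1 := mono_uP g hs M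
  have m2 := mono_uP g hs (cokernel (uP g M))
  have hker := isQuasicoherent_kernel (cokernel.π (uP g M) ≫ uP g (cokernel (uP g M))) hPM hPQ
  have e1 : kernel (cokernel.π (uP g M) ≫ uP g (cokernel (uP g M))) ≅
      kernel (cokernel.π (uP g M)) := kernelCompMono _ _
  have e2 : M ≅ kernel (cokernel.π (uP g M)) :=
    IsLimit.conePointUniqueUpToIso
      (Abelian.monoIsKernelOfCokernel _ (colimit.isColimit _))
      (limit.isLimit _)
  exact isQuasicoherent_of_iso (e1 ≪≫ e2.symm) hker

end

end Groth.Agent.Lib.Helper86.QCohFpqc
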