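import Mathlib
import Groth.Prelude.Def_W4c3truncdispsmoothDesc
import Groth.Agent.Lib.Helper86.DescDDNat
import Groth.Agent.Lib.Helper86.DescEff

/-! Module-level descent data for truncated Witt vectors, and the bridge to Mathlib's descent
data for the pseudofunctor `R ↦ ModuleCat (W_n R)`. -/

set_option autoImplicit false

open CategoryTheory Opposite ModuleCat
open Groth.Agent.Lib.Helper86.DescBridge Groth.Agent.Lib.Helper86.DescGen2
  Groth.Agent.Lib.Helper86.DescDDGen Groth.Agent.Lib.Helper86.DescDDNat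
  Groth.Agent.Lib.Helper86.DescEff

universe u

namespace Groth.Agent.Lib.Helper86.WittDD

variable (p : ℕ) [hp : Fact p.Prime] (n : ℕ)

lemma tmc {T T' T'' : Type u} [CommRing T] [CommRing T'] [CommRing T''] (g : T' →+* T'')
    (f : T →+* T') (f' : T →+* T'') (e : g.comp f = f') :
    (WittGrp.truncMap p n g).comp (WittGrp.truncMap p n f) = WittGrp.truncMap p n f' := by
  subst e
  exact (WittGrp.truncMap_comp p n f g).symm

/-- a module-level descent datum on the `W_n(R')`-module `N`, relative to `α : R → R'` -/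
structure WDD {R R' : Type u} [CommRing R] [CommRing R'] (α : R →+* R')
    (N : ModuleCat.{u} (TruncatedWittVector p n R')) where
  /-- the comparison maps -/
  hom : ∀ (T' : Type u) [CommRing T'] (f₁ f₂ : R' →+* T'), f₁.comp α = f₂.comp α →
    ((extendScalars (WittGrp.truncMap p n f₁)).obj N ⟶
      (extendScalars (WittGrp.truncMap p n f₂)).obj N)
  self : ∀ (T' : Type u) [CommRing T'] (f : R' →+* T') (h : f.comp α = f.comp α) (x : N),
    hom T' f f h (tm (WittGrp.truncMap p n f) 1 x) = tm (WittGrp.truncMap p n f) 1 x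
  comp : ∀ (T' : Type u) [CommRing T'] (f₁ f₂ f₃ : R' →+* T') (h₁₂ : f₁.comp α = f₂.comp α)
    (h₂₃ : f₂.comp α = f₃.comp α) (h₁₃ : f₁.comp α = f₃.comp α) (x : N),
    hom T' f₂ f₃ h₂₃ (hom T' f₁ f₂ h₁₂ (tm (WittGrp.truncMap p n f₁) 1 x)) =
      hom T' f₁ f₃ h₁₃ (tm (WittGrp.truncMap p n f₁) 1 x)
  pull : ∀ (T' T'' : Type u) [CommRing T'] [CommRing T''] (g : T' →+* T'') (f₁ f₂ : R' →+* T')
    (h : f₁.comp α = f₂.comp α) (f₁' f₂' : R' →+* T'') (_e₁ : g.comp f₁ = f₁')
    (e₂ : g.comp f₂ = f₂') (h' : f₁'.comp α = f₂'.comp α) (x : N),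
    hom T'' f₁' f₂' h' (tm (WittGrp.truncMap p n f₁') 1 x) =
      U (WittGrp.truncMap p n f₂) (WittGrp.truncMap p n g) (WittGrp.truncMap p n f₂')
        (tmc p n g f₂ f₂' e₂) N (hom T' f₁ f₂ h (tm (WittGrp.truncMap p n f₁) 1 x))

namespace WDD

variable {p n}
variable {R R' : Type u} [CommRing R] [CommRing R'] {α : R →+* R'}
  {N : ModuleCat.{u} (TruncatedWittVector p n R')} (dd : WDD p n α N)

/-- the image of `1 ⊗ x` -/
noncomputable def rho (T' : Type u) [CommRing T'] (f₁ f₂ : R' →+* T') (h : f₁.comp α = f₂.comp α)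
    (x : N) : (extendScalars (WittGrp.truncMap p n f₂)).obj N :=
  dd.hom T' f₁ f₂ h (tm (WittGrp.truncMap p n f₁) 1 x)

variable (T' : Type u) [CommRing T'] (f₁ f₂ : R' →+* T') (h : f₁.comp α = f₂.comp α)

lemma hom_tm (t : TruncatedWittVector p n T') (x : N) :
    dd.hom T' f₁ f₂ h (tm (WittGrp.truncMap p n f₁) t x) = t • dd.rho T' f₁ f₂ h x := by
  rw [tm_eq_smul, map_smul]
  rfl

lemma rho_add (x y : N) :
    dd.rho T' f₁ f₂ h (x + y) = dd.rho T' f₁ f₂ h x + dd.rho T' f₁ f₂ h y := by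
  unfold rho
  rw [tm_add, map_add]

lemma rho_zero : dd.rho T' f₁ f₂ h 0 = 0 := by
  unfold rho
  rw [tm_zero, map_zero]

lemma rho_smul (b : TruncatedWittVector p n R') (x : N) :
    dd.rho T' f₁ f₂ h (b • x) = WittGrp.truncMap p n f₁ b • dd.rho T' f₁ f₂ h x := by
  unfold rho
  rw [tm_smul, mul_one, tm_eq_smul, map_smul]

lemma hom_self_apply (f : R' →+* T') (h : f.comp α = f.comp α)
    (y : (extendScalars (WittGrp.truncMap p n f)).obj N) : dd.hom T' f f h y = y := by
  induction y using tm_induction with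
  | h0 => rw [map_zero]
  | h1 s x => rw [tm_eq_smul, map_smul, dd.self]
  | h2 x y hx hy => rw [map_add, hx, hy]

end WDD

section Universal

variable {p n}
variable {R R' : Type u} [CommRing R] [CommRing R'] [Algebra R R']
  {N : ModuleCat.{u} (TruncatedWittVector p n R')} (dd : WDD p n (algebraMap R R') N)

/-- invariance under the universal comparison implies invariance under all comparisons -/
lemma hom_of_rho₀_eq (x : N)
    (hx : dd.rho (TensorProduct R R' R') (g₁ R R') (g₂ R R') (hg R R') x =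
      tm (WittGrp.truncMap p n (g₂ R R')) 1 x)
    (T' : Type u) [CommRing T'] (f₁ f₂ : R' →+* T')
    (h : f₁.comp (algebraMap R R') = f₂.comp (algebraMap R R')) :
    dd.hom T' f₁ f₂ h (tm (WittGrp.truncMap p n f₁) 1 x) =
      tm (WittGrp.truncMap p n f₂) 1 x := by
  rw [dd.pull (TensorProduct R R' R') T' (pairHom f₁ f₂ h) (g₁ R R') (g₂ R R') (hg R R') f₁ f₂
    (pairHom_comp_g₁ f₁ f₂ h) (pairHom_comp_g₂ f₁ f₂ h) h x]
  have : dd.hom (TensorProduct R R' R') (g₁ R R') (g₂ R R') (hg R R')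
      (tm (WittGrp.truncMap p n (g₁ R R')) 1 x) =
      dd.rho (TensorProduct R R' R') (g₁ R R') (g₂ R R') (hg R R') x := rfl
  rw [this, hx, U_tm, map_one]

end Universal

section Bridge

/-- the functor `(CommRingCatᵒᵖ)ᵒᵖ ⥤ CommRingCat`, `R ↦ W_n(R)` -/
noncomputable abbrev ΦW : (CommRingCat.{u}ᵒᵖ)ᵒᵖ ⥤ CommRingCat.{u} :=
  unopUnop CommRingCat.{u} ⋙ W4c3truncdispsmooth.wittTrunc p n

variable {p n}
variable {A B : Type u} [CommRing A] [CommRing B] [Algebra A B]

/-- the morphism `Spec B → Spec A` -/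
noncomputable abbrev fAB (A B : Type u) [CommRing A] [CommRing B] [Algebra A B] :
    op (CommRingCat.of B) ⟶ op (CommRingCat.of A) := (CommRingCat.ofHom (algebraMap A B)).op

variable (D : (PF (ΦW.{u} p n)).DescentData (fun _ : PUnit.{u + 1} => fAB A B))

/-- the underlying `W_n(B)`-module of a descent datum -/
noncomputable abbrev objN : ModuleCat.{u} (TruncatedWittVector p n B) :=
  asMod (ΦW.{u} p n) (D.obj PUnit.unit)

lemma hfOf {T' : Type u} [CommRing T'] (f₁ f₂ : B →+* T')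
    (h : f₁.comp (algebraMap A B) = f₂.comp (algebraMap A B)) :
    (CommRingCat.ofHom f₂).op ≫ fAB A B = (CommRingCat.ofHom f₁).op ≫ fAB A B := by
  show (CommRingCat.ofHom (algebraMap A B) ≫ CommRingCat.ofHom f₂).op =
    (CommRingCat.ofHom (algebraMap A B) ≫ CommRingCat.ofHom f₁).op
  rw [← CommRingCat.ofHom_comp, ← CommRingCat.ofHom_comp, h]

/-- the module-level comparison maps of a descent datum -/
noncomputable def homR (T' : Type u) [CommRing T'] (f₁ f₂ : B →+* T')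
    (h : f₁.comp (algebraMap A B) = f₂.comp (algebraMap A B)) :
    (extendScalars (WittGrp.truncMap p n f₁)).obj (objN D) ⟶
      (extendScalars (WittGrp.truncMap p n f₂)).obj (objN D) :=
  homN D (CommRingCat.ofHom f₁).op (CommRingCat.ofHom f₂).op (hfOf f₁ f₂ h)

lemma op_comp_eq {T' T'' : Type u} [CommRing T'] [CommRing T''] (g : T' →+* T'') (f₁ : B →+* T')
    (f₁' : B →+* T'') (e₁ : g.comp f₁ = f₁') :
    (CommRingCat.ofHom g).op ≫ (CommRingCat.ofHom f₁).op = (CommRingCat.ofHom f₁').op := by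
  subst e₁
  rfl

theorem homR_self (T' : Type u) [CommRing T'] (f : B →+* T')
    (h : f.comp (algebraMap A B) = f.comp (algebraMap A B)) (x : objN D) :
    homR D T' f f h (tm (WittGrp.truncMap p n f) 1 x) = tm (WittGrp.truncMap p n f) 1 x :=
  self_apply_native (ΦW.{u} p n) (CommRingCat.ofHom f).op (D.obj PUnit.unit)
    (homN D (CommRingCat.ofHom f).op (CommRingCat.ofHom f).op (hfOf f f h))
    (homR D T' f f h) rfl (homN_self D (CommRingCat.ofHom f).op)
    (tm (WittGrp.truncMap p n f) 1 x)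

theorem homR_comp (T' : Type u) [CommRing T'] (f₁ f₂ f₃ : B →+* T')
    (h₁₂ : f₁.comp (algebraMap A B) = f₂.comp (algebraMap A B))
    (h₂₃ : f₂.comp (algebraMap A B) = f₃.comp (algebraMap A B))
    (h₁₃ : f₁.comp (algebraMap A B) = f₃.comp (algebraMap A B)) (x : objN D) :
    homR D T' f₂ f₃ h₂₃ (homR D T' f₁ f₂ h₁₂ (tm (WittGrp.truncMap p n f₁) 1 x)) =
      homR D T' f₁ f₃ h₁₃ (tm (WittGrp.truncMap p n f₁) 1 x) :=
  comp_apply_native (ΦW.{u} p n) (CommRingCat.ofHom f₁).op (CommRingCat.ofHom f₂).op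
    (CommRingCat.ofHom f₃).op (D.obj PUnit.unit)
    (homN D (CommRingCat.ofHom f₁).op (CommRingCat.ofHom f₂).op (hfOf f₁ f₂ h₁₂))
    (homN D (CommRingCat.ofHom f₂).op (CommRingCat.ofHom f₃).op (hfOf f₂ f₃ h₂₃))
    (homN D (CommRingCat.ofHom f₁).op (CommRingCat.ofHom f₃).op (hfOf f₁ f₃ h₁₃))
    (homR D T' f₁ f₂ h₁₂) (homR D T' f₂ f₃ h₂₃) (homR D T' f₁ f₃ h₁₃) rfl rfl rfl
    (homN_comp D _ _ _ _ _ _) (tm (WittGrp.truncMap p n f₁) 1 x)

theorem homR_pull (T' T'' : Type u) [CommRing T'] [CommRing T''] (g : T' →+* T'')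
    (f₁ f₂ : B →+* T') (h : f₁.comp (algebraMap A B) = f₂.comp (algebraMap A B))
    (f₁' f₂' : B →+* T'') (e₁ : g.comp f₁ = f₁') (e₂ : g.comp f₂ = f₂')
    (h' : f₁'.comp (algebraMap A B) = f₂'.comp (algebraMap A B)) (x : objN D) :
    homR D T'' f₁' f₂' h' (tm (WittGrp.truncMap p n f₁') 1 x) =
      U (WittGrp.truncMap p n f₂) (WittGrp.truncMap p n g) (WittGrp.truncMap p n f₂')
        (tmc p n g f₂ f₂' e₂) (objN D)
        (homR D T' f₁ f₂ h (tm (WittGrp.truncMap p n f₁) 1 x)) :=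
  pull_apply_native (ΦW.{u} p n) (CommRingCat.ofHom g).op (CommRingCat.ofHom f₁).op
    (CommRingCat.ofHom f₂).op (CommRingCat.ofHom f₁').op (CommRingCat.ofHom f₂').op
    (op_comp_eq g f₁ f₁' e₁) (op_comp_eq g f₂ f₂' e₂) (D.obj PUnit.unit)
    (homN D (CommRingCat.ofHom f₁).op (CommRingCat.ofHom f₂).op (hfOf f₁ f₂ h))
    (homN D (CommRingCat.ofHom f₁').op (CommRingCat.ofHom f₂').op (hfOf f₁' f₂' h'))
    (homR D T' f₁ f₂ h) (homR D T'' f₁' f₂' h') rfl rfl
    (homN_pull D (CommRingCat.ofHom g).op (CommRingCat.ofHom f₁).op (CommRingCat.ofHom f₂).op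
      (hfOf f₁ f₂ h) (CommRingCat.ofHom f₁').op (CommRingCat.ofHom f₂').op
      (op_comp_eq g f₁ f₁' e₁) (op_comp_eq g f₂ f₂' e₂) (hfOf f₁' f₂' h')) x

/-- the module-level descent datum attached to a descent datum -/
noncomputable def toWDD : WDD p n (algebraMap A B) (objN D) where
  hom := homR D
  self := homR_self D
  comp := homR_comp D
  pull := homR_pull D

lemma hfOf' {Y : CommRingCat.{u}ᵒᵖ} (f₁ f₂ : Y ⟶ op (CommRingCat.of B))
    (hf : f₂ ≫ fAB A B = f₁ ≫ fAB A B) :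
    f₁.unop.hom.comp (algebraMap A B) = f₂.unop.hom.comp (algebraMap A B) := by
  have h1 := congrArg (fun φ => φ.unop.hom) hf
  exact h1.symm

/-- the native isomorphism attached to an isomorphism of modules -/
noncomputable def nativeIso (M : ModuleCat.{u} (TruncatedWittVector p n A))
    (θ : (extendScalars (WittGrp.truncMap p n (algebraMap A B))).obj M ≅ objN D) :
    ((PF (ΦW.{u} p n)).map (fAB A B).op.toLoc).toFunctor.obj M ≅ D.obj PUnit.unit := θ

theorem effective_native_of (M : ModuleCat.{u} (TruncatedWittVector p n A))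
    (θ : (extendScalars (WittGrp.truncMap p n (algebraMap A B))).obj M ⟶ objN D) [IsIso θ]
    (hprop : ∀ (T' : Type u) [CommRing T'] (f₁ f₂ : B →+* T')
      (h : f₁.comp (algebraMap A B) = f₂.comp (algebraMap A B)) (m : M),
      (toWDD D).hom T' f₁ f₂ h (tm (WittGrp.truncMap p n f₁) 1
        (θ (tm (WittGrp.truncMap p n (algebraMap A B)) 1 m))) =
      tm (WittGrp.truncMap p n f₂) 1 (θ (tm (WittGrp.truncMap p n (algebraMap A B)) 1 m))) :
    Nonempty (((PF (ΦW.{u} p n)).toDescentData (fun _ : PUnit.{u + 1} => fAB A B)).obj M ≅ D) := by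
  refine nonempty_iso_of D M (nativeIso D M (asIso θ)) ?_
  intro Y f₁ f₂ hf
  exact comm_of_apply_native (ΦW.{u} p n) (fAB A B) f₁ f₂ hf M (D.obj PUnit.unit)
    (nativeIso D M (asIso θ)).hom θ rfl (homN D f₁ f₂ hf)
    (homR D Y.unop f₁.unop.hom f₂.unop.hom (hfOf' f₁ f₂ hf)) rfl
    (fun m => hprop Y.unop f₁.unop.hom f₂.unop.hom (hfOf' f₁ f₂ hf) m)

end Bridge

end Groth.Agent.Lib.Helper86.WittDD
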