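import Mathlib
import Groth.Prelude.Def_WittGrp
import Groth.Agent.Lib.Helper75.WittTruncFiltration

/-! The filtration of truncated Witt vectors by the kernels of the truncations: ghost components
on truncated Witt vectors and the graded pieces of the filtration. -/

set_option autoImplicit false

open WittVector

universe u

namespace Groth.Agent.Lib.Helper86.WittFil

section Untrunc

variable {p : ℕ} [hp : Fact p.Prime] {T : Type*} [CommRing T]

local notation "𝕎" => WittVector p

lemma ghostComponent_zero' (y : 𝕎 T) : ghostComponent 0 y = y.coeff 0 := by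
  rw [ghostComponent_apply, wittPolynomial_zero, MvPolynomial.aeval_X]

lemma coeff_zero_iterate_frobenius (m : ℕ) (w : 𝕎 T) :
    (frobenius^[m] w).coeff 0 = ghostComponent m w := by
  induction m generalizing w with
  | zero => rw [Function.iterate_zero, id, ghostComponent_zero']
  | succ m ih => rw [Function.iterate_succ_apply, ih, ghostComponent_frobenius]

lemma coeff_add_of_vanish (m : ℕ) (x y : 𝕎 T) (hx : ∀ i < m, x.coeff i = 0)
    (hy : ∀ i < m, y.coeff i = 0) : (x + y).coeff m = x.coeff m + y.coeff m := by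
  obtain ⟨x', rfl⟩ : ∃ x', x = verschiebung^[m] x' := ⟨_, eq_iterate_verschiebung hx⟩
  obtain ⟨y', rfl⟩ : ∃ y', y = verschiebung^[m] y' := ⟨_, eq_iterate_verschiebung hy⟩
  rw [← iterate_map_add]
  have h1 := iterate_verschiebung_coeff (x' + y') m 0
  have h2 := iterate_verschiebung_coeff x' m 0
  have h3 := iterate_verschiebung_coeff y' m 0
  rw [zero_add] at h1 h2 h3
  rw [h1, h2, h3, add_coeff_zero]

lemma coeff_mul_of_vanish (m : ℕ) (w x : 𝕎 T) (hx : ∀ i < m, x.coeff i = 0) :
    (w * x).coeff m = ghostComponent m w * x.coeff m := by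
  obtain ⟨x', rfl⟩ : ∃ x', x = verschiebung^[m] x' := ⟨_, eq_iterate_verschiebung hx⟩
  rw [mul_comm, iterate_verschiebung_mul_left]
  have h1 := iterate_verschiebung_coeff (x' * frobenius^[m] w) m 0
  have h2 := iterate_verschiebung_coeff x' m 0
  rw [zero_add] at h1 h2
  rw [h1, h2, mul_coeff_zero, coeff_zero_iterate_frobenius, mul_comm]

lemma ghostComponent_map {T' : Type*} [CommRing T'] (g : T →+* T') (m : ℕ) (x : 𝕎 T) :
    ghostComponent m (WittVector.map g x) = g (ghostComponent m x) := by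
  rw [ghostComponent_apply, ghostComponent_apply, aeval_wittPolynomial, aeval_wittPolynomial,
    map_sum]
  refine Finset.sum_congr rfl fun i _ => ?_
  rw [map_mul, map_pow, map_pow, map_natCast, WittVector.map_coeff]

lemma ghostComponent_eq_zero_of_mem_ker {n m : ℕ} (hm : m < n) (x : 𝕎 T)
    (hx : x ∈ RingHom.ker (WittVector.truncate (p := p) (R := T) n)) :
    ghostComponent m x = 0 := by
  rw [WittVector.mem_ker_truncate] at hx
  rw [ghostComponent_apply, aeval_wittPolynomial]
  refine Finset.sum_eq_zero fun i hi => ?_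
  have : i < n := by have := Finset.mem_range.mp hi; omega
  rw [hx i this, zero_pow (pow_pos hp.out.pos _).ne', mul_zero]

end Untrunc

section Trunc

variable (p : ℕ) [hp : Fact p.Prime] (n : ℕ) (T : Type*) [CommRing T]

local notation "𝕎" => WittVector p

/-- the ghost component `w_m` on truncated Witt vectors of length `n > m` -/
noncomputable def wm (m : ℕ) (hm : m < n) : TruncatedWittVector p n T →+* T :=
  RingHom.liftOfRightInverse (WittVector.truncate (p := p) (R := T) n) TruncatedWittVector.out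
    (fun x => TruncatedWittVector.truncateFun_out x)
    ⟨ghostComponent m, fun x hx => by
      rw [RingHom.mem_ker]; exact ghostComponent_eq_zero_of_mem_ker hm x hx⟩

lemma wm_truncate (m : ℕ) (hm : m < n) (x : 𝕎 T) :
    wm p n T m hm (WittVector.truncate n x) = ghostComponent m x :=
  RingHom.liftOfRightInverse_comp_apply _ _ _ _ x

variable {T}

lemma wm_truncMap {T' : Type*} [CommRing T'] (g : T →+* T') (m : ℕ) (hm : m < n)
    (a : TruncatedWittVector p n T) :
    wm p n T' m hm (WittGrp.truncMap p n g a) = g (wm p n T m hm a) := by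
  obtain ⟨x, rfl⟩ := WittVector.truncate_surjective p n T a
  rw [WittGrp.truncMap_truncate, wm_truncate, wm_truncate, ghostComponent_map]

lemma wm_comp_truncMap {T' : Type*} [CommRing T'] (g : T →+* T') (m : ℕ) (hm : m < n) :
    (wm p n T' m hm).comp (WittGrp.truncMap p n g) = g.comp (wm p n T m hm) :=
  RingHom.ext fun a => wm_truncMap p n g m hm a

variable (T)

/-- the ideal of truncated Witt vectors whose first `m` components vanish -/
noncomputable def Im (m : ℕ) : Ideal (TruncatedWittVector p n T) :=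
  Ideal.map (WittVector.truncate (p := p) (R := T) n)
    (RingHom.ker (WittVector.truncate (p := p) (R := T) m))

variable {T}

lemma exists_lift_of_mem_Im {m : ℕ} {a : TruncatedWittVector p n T} (ha : a ∈ Im p n T m) :
    ∃ x : 𝕎 T, WittVector.truncate n x = a ∧ ∀ i < m, x.coeff i = 0 := by
  unfold Im at ha
  rw [Ideal.mem_map_iff_of_surjective _ (WittVector.truncate_surjective p n T)] at ha
  obtain ⟨x, hx, rfl⟩ := ha
  exact ⟨x, rfl, (WittVector.mem_ker_truncate _ _).mp hx⟩

lemma mem_Im {m : ℕ} {a : TruncatedWittVector p n T} :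
    a ∈ Im p n T m ↔ ∀ i : Fin n, (i : ℕ) < m → a.coeff i = 0 := by
  constructor
  · intro ha i hi
    obtain ⟨x, rfl, hx⟩ := exists_lift_of_mem_Im p n ha
    rw [WittVector.coeff_truncate]
    exact hx i hi
  · intro h
    unfold Im
    rw [Ideal.mem_map_iff_of_surjective _ (WittVector.truncate_surjective p n T)]
    refine ⟨a.out, ?_, TruncatedWittVector.truncateFun_out a⟩
    rw [WittVector.mem_ker_truncate]
    intro i hi
    by_cases hin : i < n
    · have := h ⟨i, hin⟩ hi
      rw [← TruncatedWittVector.coeff_out] at this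
      exact this
    · unfold TruncatedWittVector.out
      show (if h : i < n then TruncatedWittVector.coeff ⟨i, h⟩ a else 0) = 0
      rw [dif_neg hin]

lemma Im_zero : Im p n T 0 = ⊤ := by
  rw [eq_top_iff]
  intro a _
  rw [mem_Im]
  intro i hi
  exact absurd hi (Nat.not_lt_zero _)

lemma Im_self : Im p n T n = ⊥ := by
  rw [eq_bot_iff]
  intro a ha
  rw [mem_Im] at ha
  rw [Ideal.mem_bot]
  ext i
  rw [ha i i.2, TruncatedWittVector.coeff_zero]

lemma Im_anti {m m' : ℕ} (h : m ≤ m') : Im p n T m' ≤ Im p n T m := by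
  intro a ha
  rw [mem_Im] at ha ⊢
  exact fun i hi => ha i (lt_of_lt_of_le hi h)

lemma mem_Im_succ {m : ℕ} (hm : m < n) {a : TruncatedWittVector p n T} :
    a ∈ Im p n T (m + 1) ↔ a ∈ Im p n T m ∧ a.coeff ⟨m, hm⟩ = 0 := by
  rw [mem_Im, mem_Im]
  constructor
  · intro h
    exact ⟨fun i hi => h i (Nat.lt_succ_of_lt hi), h ⟨m, hm⟩ (Nat.lt_succ_self m)⟩
  · rintro ⟨h1, h2⟩ i hi
    rcases Nat.lt_succ_iff_lt_or_eq.mp hi with h | h
    · exact h1 i h
    · have : i = ⟨m, hm⟩ := Fin.ext h
      rw [this]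
      exact h2

lemma coeff_add_of_mem_Im {m : ℕ} (hm : m < n) {a b : TruncatedWittVector p n T}
    (ha : a ∈ Im p n T m) (hb : b ∈ Im p n T m) :
    (a + b).coeff ⟨m, hm⟩ = a.coeff ⟨m, hm⟩ + b.coeff ⟨m, hm⟩ := by
  obtain ⟨x, rfl, hx⟩ := exists_lift_of_mem_Im p n ha
  obtain ⟨y, rfl, hy⟩ := exists_lift_of_mem_Im p n hb
  rw [← map_add, WittVector.coeff_truncate, WittVector.coeff_truncate, WittVector.coeff_truncate]
  exact coeff_add_of_vanish m x y hx hy

lemma coeff_mul_of_mem_Im {m : ℕ} (hm : m < n) (w : TruncatedWittVector p n T)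
    {a : TruncatedWittVector p n T} (ha : a ∈ Im p n T m) :
    (w * a).coeff ⟨m, hm⟩ = wm p n T m hm w * a.coeff ⟨m, hm⟩ := by
  obtain ⟨x, rfl, hx⟩ := exists_lift_of_mem_Im p n ha
  obtain ⟨v, rfl⟩ := WittVector.truncate_surjective p n T w
  rw [← map_mul, WittVector.coeff_truncate, WittVector.coeff_truncate, wm_truncate]
  exact coeff_mul_of_vanish m v x hx

lemma exists_mem_Im_coeff {m : ℕ} (hm : m < n) (t : T) :
    ∃ a ∈ Im p n T m, a.coeff ⟨m, hm⟩ = t := by
  refine ⟨TruncatedWittVector.mk p (fun i => if (i : ℕ) = m then t else 0), ?_, ?_⟩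
  · rw [mem_Im]
    intro i hi
    rw [TruncatedWittVector.coeff_mk, if_neg (Nat.ne_of_lt hi)]
  · rw [TruncatedWittVector.coeff_mk, if_pos rfl]

lemma truncMap_mem_Im {T' : Type*} [CommRing T'] (g : T →+* T') {m : ℕ}
    {a : TruncatedWittVector p n T} (ha : a ∈ Im p n T m) :
    WittGrp.truncMap p n g a ∈ Im p n T' m := by
  rw [mem_Im] at ha ⊢
  intro i hi
  rw [WittGrp.coeff_truncMap, ha i hi, map_zero]

lemma wm_zero (hn : 0 < n) (a : TruncatedWittVector p n T) :
    wm p n T 0 hn a = a.coeff ⟨0, hn⟩ := by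
  obtain ⟨x, rfl⟩ := WittVector.truncate_surjective p n T a
  rw [wm_truncate, ghostComponent_zero', WittVector.coeff_truncate]

lemma ker_wm_zero (hn : 0 < n) : RingHom.ker (wm p n T 0 hn) = Im p n T 1 := by
  ext a
  rw [RingHom.mem_ker, wm_zero, mem_Im]
  constructor
  · intro h i hi
    have : i = ⟨0, hn⟩ := Fin.ext (by show (i : ℕ) = 0; omega)
    rw [this]
    exact h
  · intro h
    exact h ⟨0, hn⟩ Nat.zero_lt_one

lemma wm_zero_surjective (hn : 0 < n) : Function.Surjective (wm p n T 0 hn) := by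
  intro t
  obtain ⟨a, _, ha⟩ := exists_mem_Im_coeff p n hn t
  exact ⟨a, by rw [wm_zero, ha]⟩

lemma isNilpotent_Im_one (hpn : IsNilpotent (p : T)) : IsNilpotent (Im p n T 1) := by
  obtain ⟨k, hk⟩ :=
    Groth.Agent.Lib.Helper75.WittTruncFiltration.exists_pow_In_one_le (p := p) (R := T) hpn n
  refine ⟨k, ?_⟩
  unfold Im
  rw [← Ideal.map_pow, Ideal.zero_eq_bot, eq_bot_iff]
  refine (Ideal.map_mono hk).trans ?_
  rw [Ideal.map_le_iff_le_comap]
  intro x hx
  exact hx

end Trunc

end Groth.Agent.Lib.Helper86.WittFil
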