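import Mathlib
import Groth.Agent.Lib.Helper86.WittFil
import Groth.Agent.Lib.Helper86.SemiMap

/-! The graded pieces of the filtration `I_m Q` of a flat module over truncated Witt vectors. -/

set_option autoImplicit false

open CategoryTheory ModuleCat TensorProduct
open Groth.Agent.Lib.Helper86.DescBridge Groth.Agent.Lib.Helper86.SemiMap
  Groth.Agent.Lib.Helper86.WittFil

universe u

namespace Groth.Agent.Lib.Helper86.WittGr

section One

variable (p : ℕ) [hp : Fact p.Prime] (n : ℕ) {T : Type u} [CommRing T] (m : ℕ) (hm : m < n)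
  (Q : ModuleCat.{u} (TruncatedWittVector p n T))

/-- `Gr_m Q = T ⊗_{w_m} Q` -/
noncomputable abbrev Gr : ModuleCat.{u} T := (extendScalars (wm p n T m hm)).obj Q

/-- `Fil_m Q = I_m Q` -/
noncomputable def Fil (m : ℕ) : Submodule (TruncatedWittVector p n T) Q :=
  Im p n T m • (⊤ : Submodule (TruncatedWittVector p n T) Q)

lemma Fil_anti {m m' : ℕ} (h : m ≤ m') : Fil p n Q m' ≤ Fil p n Q m :=
  Submodule.smul_mono (Im_anti p n h) le_rfl

lemma Fil_self : Fil p n Q n = ⊥ := by
  unfold Fil
  rw [Im_self, Submodule.bot_smul]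

lemma Fil_zero : Fil p n Q 0 = ⊤ := by
  unfold Fil
  rw [Im_zero, Submodule.top_smul]

/-- the `m`-th component, as a linear map on `I_m` -/
noncomputable def cmLin :
    letI := Module.compHom T (wm p n T m hm)
    Im p n T m →ₗ[TruncatedWittVector p n T] T :=
  letI := Module.compHom T (wm p n T m hm)
  { toFun := fun a => (a : TruncatedWittVector p n T).coeff ⟨m, hm⟩
    map_add' := fun a b => coeff_add_of_mem_Im p n hm a.2 b.2
    map_smul' := fun w a => coeff_mul_of_mem_Im p n hm w a.2 }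

/-- multiplication `I_m ⊗ Q → Q` -/
noncomputable def eMap :
    TensorProduct (TruncatedWittVector p n T) (Im p n T m) Q →ₗ[TruncatedWittVector p n T] Q :=
  (TensorProduct.lid (TruncatedWittVector p n T) Q).toLinearMap ∘ₗ
    LinearMap.rTensor Q (Submodule.subtype (Im p n T m))

lemma eMap_tmul (a : Im p n T m) (q : Q) :
    eMap p n m Q (a ⊗ₜ q) = (a : TruncatedWittVector p n T) • q := by
  simp [eMap]

lemma eMap_injective [Module.Flat (TruncatedWittVector p n T) Q] :
    Function.Injective (eMap p n m Q) := by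
  unfold eMap
  rw [LinearMap.coe_comp]
  exact (TensorProduct.lid (TruncatedWittVector p n T) Q).injective.comp
    (Module.Flat.rTensor_preserves_injective_linearMap _ Subtype.val_injective)

lemma range_eMap : LinearMap.range (eMap p n m Q) = Fil p n Q m := by
  apply le_antisymm
  · rintro _ ⟨z, rfl⟩
    induction z using TensorProduct.induction_on with
    | zero => rw [map_zero]; exact Submodule.zero_mem _
    | tmul a q => rw [eMap_tmul]; exact Submodule.smul_mem_smul a.2 Submodule.mem_top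
    | add x y hx hy => rw [map_add]; exact Submodule.add_mem _ hx hy
  · unfold Fil
    rw [Submodule.smul_le]
    intro a ha q _
    exact ⟨(⟨a, ha⟩ : Im p n T m) ⊗ₜ q, eMap_tmul p n m Q _ q⟩

lemma mem_Fil_iff (x : Q) : x ∈ Fil p n Q m ↔ ∃ z, eMap p n m Q z = x := by
  rw [← range_eMap]
  rfl

/-- `I_m ⊗ Q → T ⊗_{w_m} Q` -/
noncomputable def grMap :
    TensorProduct (TruncatedWittVector p n T) (Im p n T m) Q → Gr p n m hm Q :=
  letI := Module.compHom T (wm p n T m hm)
  fun z => (LinearMap.rTensor Q (cmLin p n m hm) :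
    TensorProduct (TruncatedWittVector p n T) (Im p n T m) Q →ₗ[TruncatedWittVector p n T]
      TensorProduct (TruncatedWittVector p n T) T Q) z

lemma grMap_tmul (a : Im p n T m) (q : Q) :
    grMap p n m hm Q (a ⊗ₜ q) =
      tm (wm p n T m hm) ((a : TruncatedWittVector p n T).coeff ⟨m, hm⟩) q := rfl

lemma grMap_add (z z' : TensorProduct (TruncatedWittVector p n T) (Im p n T m) Q) :
    grMap p n m hm Q (z + z') = grMap p n m hm Q z + grMap p n m hm Q z' := by
  let _ := Module.compHom T (wm p n T m hm)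
  exact map_add (LinearMap.rTensor Q (cmLin p n m hm) :
    TensorProduct (TruncatedWittVector p n T) (Im p n T m) Q →ₗ[TruncatedWittVector p n T]
      TensorProduct (TruncatedWittVector p n T) T Q) z z'

lemma grMap_zero : grMap p n m hm Q 0 = 0 := by
  let _ := Module.compHom T (wm p n T m hm)
  exact map_zero (LinearMap.rTensor Q (cmLin p n m hm) :
    TensorProduct (TruncatedWittVector p n T) (Im p n T m) Q →ₗ[TruncatedWittVector p n T]
      TensorProduct (TruncatedWittVector p n T) T Q)

/-- the inclusion `I_{m+1} → I_m` -/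
noncomputable def incl : Im p n T (m + 1) →ₗ[TruncatedWittVector p n T] Im p n T m :=
  Submodule.inclusion (Im_anti p n (Nat.le_succ m))

lemma exists_of_grMap_eq_zero (z : TensorProduct (TruncatedWittVector p n T) (Im p n T m) Q)
    (hz : grMap p n m hm Q z = 0) :
    ∃ z' : TensorProduct (TruncatedWittVector p n T) (Im p n T (m + 1)) Q,
      LinearMap.rTensor Q (incl p n m) z' = z := by
  let _ := Module.compHom T (wm p n T m hm)
  have hex : Function.Exact (incl p n m (T := T)) (cmLin p n m hm) := by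
    intro a
    constructor
    · intro h
      exact ⟨⟨a, (mem_Im_succ p n hm).mpr ⟨a.2, h⟩⟩, Subtype.ext rfl⟩
    · rintro ⟨b, rfl⟩
      exact ((mem_Im_succ p n hm).mp b.2).2
  have hsurj : Function.Surjective (cmLin p n m hm (T := T)) := fun t => by
    obtain ⟨a, ha, h⟩ := exists_mem_Im_coeff p n hm t
    exact ⟨⟨a, ha⟩, h⟩
  have := rTensor_exact Q hex hsurj
  exact (this z).mp hz

lemma eMap_rTensor_incl
    (z' : TensorProduct (TruncatedWittVector p n T) (Im p n T (m + 1)) Q) :
    eMap p n m Q (LinearMap.rTensor Q (incl p n m) z') = eMap p n (m + 1) Q z' := by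
  induction z' using TensorProduct.induction_on with
  | zero => rw [map_zero, map_zero, map_zero]
  | tmul a q => rw [LinearMap.rTensor_tmul, eMap_tmul, eMap_tmul]; rfl
  | add x y hx hy => rw [map_add, map_add, map_add, hx, hy]

lemma grMap_rTensor_incl
    (z' : TensorProduct (TruncatedWittVector p n T) (Im p n T (m + 1)) Q) :
    grMap p n m hm Q (LinearMap.rTensor Q (incl p n m) z') = 0 := by
  induction z' using TensorProduct.induction_on with
  | zero => rw [map_zero, grMap_zero]
  | tmul a q =>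
    rw [LinearMap.rTensor_tmul, grMap_tmul]
    have : ((incl p n m a : Im p n T m) : TruncatedWittVector p n T).coeff ⟨m, hm⟩ = 0 :=
      ((mem_Im_succ p n hm).mp a.2).2
    rw [this, zero_tm]
  | add x y hx hy => rw [map_add, grMap_add, hx, hy, add_zero]

open Classical in
/-- the map `Fil_m Q → Gr_m Q`, extended by zero -/
noncomputable def kappaFun (x : Q) : Gr p n m hm Q :=
  if h : ∃ z, eMap p n m Q z = x then grMap p n m hm Q (Classical.choose h) else 0

variable [Module.Flat (TruncatedWittVector p n T) Q]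

lemma kappaFun_eMap (z : TensorProduct (TruncatedWittVector p n T) (Im p n T m) Q) :
    kappaFun p n m hm Q (eMap p n m Q z) = grMap p n m hm Q z := by
  unfold kappaFun
  have h : ∃ z', eMap p n m Q z' = eMap p n m Q z := ⟨z, rfl⟩
  rw [dif_pos h]
  congr 1
  exact eMap_injective p n m Q (Classical.choose_spec h)

lemma kappaFun_smul {a : TruncatedWittVector p n T} (ha : a ∈ Im p n T m) (q : Q) :
    kappaFun p n m hm Q (a • q) = tm (wm p n T m hm) (a.coeff ⟨m, hm⟩) q := by
  rw [← eMap_tmul p n m Q ⟨a, ha⟩ q, kappaFun_eMap, grMap_tmul]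

lemma kappaFun_add {x y : Q} (hx : x ∈ Fil p n Q m) (hy : y ∈ Fil p n Q m) :
    kappaFun p n m hm Q (x + y) = kappaFun p n m hm Q x + kappaFun p n m hm Q y := by
  obtain ⟨zx, rfl⟩ := (mem_Fil_iff p n m Q x).mp hx
  obtain ⟨zy, rfl⟩ := (mem_Fil_iff p n m Q y).mp hy
  rw [← map_add, kappaFun_eMap, kappaFun_eMap, kappaFun_eMap, grMap_add]

lemma kappaFun_zero : kappaFun p n m hm Q 0 = 0 := by
  rw [← map_zero (eMap p n m Q), kappaFun_eMap, grMap_zero]

lemma kappaFun_neg {x : Q} (hx : x ∈ Fil p n Q m) :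
    kappaFun p n m hm Q (-x) = -kappaFun p n m hm Q x := by
  have h := kappaFun_add p n m hm Q hx (Submodule.neg_mem _ hx)
  rw [add_neg_cancel, kappaFun_zero] at h
  exact (neg_eq_of_add_eq_zero_right h.symm).symm

lemma kappaFun_sub {x y : Q} (hx : x ∈ Fil p n Q m) (hy : y ∈ Fil p n Q m) :
    kappaFun p n m hm Q (x - y) = kappaFun p n m hm Q x - kappaFun p n m hm Q y := by
  rw [sub_eq_add_neg, kappaFun_add p n m hm Q hx (Submodule.neg_mem _ hy),
    kappaFun_neg p n m hm Q hy, sub_eq_add_neg]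

lemma mem_Fil_succ_of_kappaFun_eq_zero {x : Q} (hx : x ∈ Fil p n Q m)
    (h : kappaFun p n m hm Q x = 0) : x ∈ Fil p n Q (m + 1) := by
  obtain ⟨z, rfl⟩ := (mem_Fil_iff p n m Q x).mp hx
  rw [kappaFun_eMap] at h
  obtain ⟨z', rfl⟩ := exists_of_grMap_eq_zero p n m hm Q z h
  rw [eMap_rTensor_incl, mem_Fil_iff]
  exact ⟨z', rfl⟩

lemma kappaFun_eq_zero_of_mem_Fil_succ {x : Q} (hx : x ∈ Fil p n Q (m + 1)) :
    kappaFun p n m hm Q x = 0 := by
  obtain ⟨z', rfl⟩ := (mem_Fil_iff p n (m + 1) Q x).mp hx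
  rw [← eMap_rTensor_incl, kappaFun_eMap, grMap_rTensor_incl]

lemma kappaFun_surjective (y : Gr p n m hm Q) :
    ∃ x ∈ Fil p n Q m, kappaFun p n m hm Q x = y := by
  induction y using tm_induction with
  | h0 => exact ⟨0, Submodule.zero_mem _, kappaFun_zero p n m hm Q⟩
  | h1 t q =>
    obtain ⟨a, ha, h⟩ := exists_mem_Im_coeff p n hm t
    refine ⟨a • q, Submodule.smul_mem_smul ha Submodule.mem_top, ?_⟩
    rw [kappaFun_smul p n m hm Q ha, h]
  | h2 y y' hy hy' =>
    obtain ⟨x, hx, rfl⟩ := hy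
    obtain ⟨x', hx', rfl⟩ := hy'
    exact ⟨x + x', Submodule.add_mem _ hx hx', kappaFun_add p n m hm Q hx hx'⟩

end One

section Nat

variable (p : ℕ) [hp : Fact p.Prime] (n : ℕ) {T T' : Type u} [CommRing T] [CommRing T']
  (g : T →+* T') (m : ℕ) (hm : m < n)
  (Q : ModuleCat.{u} (TruncatedWittVector p n T)) (Q' : ModuleCat.{u} (TruncatedWittVector p n T'))
  (Φ : Q →ₛₗ[WittGrp.truncMap p n g] Q')

/-- the map induced on graded pieces by a semilinear map -/
noncomputable def grSemi : Gr p n m hm Q →+ Gr p n m hm Q' :=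
  semiMap (wm p n T m hm) (wm p n T' m hm) (WittGrp.truncMap p n g) g
    (wm_comp_truncMap p n g m hm).symm Φ

lemma grSemi_tm (t : T) (q : Q) :
    grSemi p n g m hm Q Q' Φ (tm (wm p n T m hm) t q) = tm (wm p n T' m hm) (g t) (Φ q) := rfl

lemma map_mem_Fil {x : Q} (hx : x ∈ Fil p n Q m) : Φ x ∈ Fil p n Q' m := by
  unfold Fil at hx
  refine Submodule.smul_induction_on hx ?_ ?_
  · intro a ha q _
    rw [map_smulₛₗ]
    exact Submodule.smul_mem_smul (truncMap_mem_Im p n g ha) Submodule.mem_top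
  · intro x y hx hy
    rw [map_add]
    exact Submodule.add_mem _ hx hy

variable [Module.Flat (TruncatedWittVector p n T) Q] [Module.Flat (TruncatedWittVector p n T') Q']

lemma kappaFun_map {x : Q} (hx : x ∈ Fil p n Q m) :
    kappaFun p n m hm Q' (Φ x) = grSemi p n g m hm Q Q' Φ (kappaFun p n m hm Q x) := by
  have key : x ∈ Fil p n Q m ∧
      kappaFun p n m hm Q' (Φ x) = grSemi p n g m hm Q Q' Φ (kappaFun p n m hm Q x) := by
    have hx' := hx
    unfold Fil at hx'
    refine Submodule.smul_induction_on hx' ?_ ?_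
    · intro a ha q _
      refine ⟨Submodule.smul_mem_smul ha Submodule.mem_top, ?_⟩
      rw [map_smulₛₗ, kappaFun_smul p n m hm Q' (truncMap_mem_Im p n g ha),
        kappaFun_smul p n m hm Q ha, grSemi_tm, WittGrp.coeff_truncMap]
    · rintro x y ⟨hx1, hx2⟩ ⟨hy1, hy2⟩
      refine ⟨Submodule.add_mem _ hx1 hy1, ?_⟩
      rw [map_add, kappaFun_add p n m hm Q' (map_mem_Fil p n g m Q Q' Φ hx1)
        (map_mem_Fil p n g m Q Q' Φ hy1), hx2, hy2, kappaFun_add p n m hm Q hx1 hy1, map_add]
  exact key.2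

end Nat

end Groth.Agent.Lib.Helper86.WittGr
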