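import Mathlib
import Groth.Agent.Lib.Helper86.WittDD
import Groth.Agent.Lib.Helper86.WittGr

/-! Base change of Witt-level descent data along the ghost component `w_m : W_n ⇒ Id`. -/

set_option autoImplicit false

open CategoryTheory Opposite ModuleCat
open Groth.Agent.Lib.Helper86.DescBridge Groth.Agent.Lib.Helper86.DescEff
  Groth.Agent.Lib.Helper86.SemiMap Groth.Agent.Lib.Helper86.WittFil
  Groth.Agent.Lib.Helper86.WittGr Groth.Agent.Lib.Helper86.WittDD

universe u

namespace Groth.Agent.Lib.Helper86.WittDDGr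

section SL

variable {A B C : Type u} [CommRing A] [CommRing B] [CommRing C]

/-- `x ↦ 1 ⊗ x` as a semilinear map -/
noncomputable def iotaSL (f : A →+* B) (N : ModuleCat.{u} A) : N →ₛₗ[f] (extendScalars f).obj N where
  toFun x := tm f 1 x
  map_add' x y := tm_add f 1 x y
  map_smul' a x := tm_one_smul f a x

lemma iotaSL_apply (f : A →+* B) (N : ModuleCat.{u} A) (x : N) : iotaSL f N x = tm f 1 x := rfl

/-- `U` as a semilinear map -/
noncomputable def USL (α : A →+* B) (γ : B →+* C) (κ : A →+* C) (h : γ.comp α = κ)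
    (N : ModuleCat.{u} A) : (extendScalars α).obj N →ₛₗ[γ] (extendScalars κ).obj N where
  toFun := U α γ κ h N
  map_add' := U_add α γ κ h N
  map_smul' b y := U_smul α γ κ h N b y

lemma USL_apply (α : A →+* B) (γ : B →+* C) (κ : A →+* C) (h : γ.comp α = κ)
    (N : ModuleCat.{u} A) (y : (extendScalars α).obj N) : USL α γ κ h N y = U α γ κ h N y := rfl

/-- induction principle for a twofold extension of scalars -/
lemma gen_induction (w : A →+* B) (f : B →+* C) (N : ModuleCat.{u} A)
    {P : (extendScalars f).obj ((extendScalars w).obj N) → Prop} (h0 : P 0)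
    (h1 : ∀ (t : C) (x : N), P (t • tm f 1 (tm w 1 x))) (h2 : ∀ a b, P a → P b → P (a + b))
    (c : (extendScalars f).obj ((extendScalars w).obj N)) : P c := by
  induction c using tm_induction with
  | h0 => exact h0
  | h1 t y =>
    induction y using tm_induction generalizing t with
    | h0 => rw [tm_zero]; exact h0
    | h1 s x =>
      have : tm f t (tm w s x) = (f s * t) • tm f 1 (tm w 1 x) := by
        rw [tm_eq_smul_one w s x, tm_smul, smul_tm, mul_one]
      rw [this]
      exact h1 _ x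
    | h2 y y' hy hy' => rw [tm_add]; exact h2 _ _ (hy t) (hy' t)
  | h2 a b ha hb => exact h2 a b ha hb

end SL

section GrSemi

variable (p : ℕ) [hp : Fact p.Prime] (n : ℕ) {T T' : Type u} [CommRing T] [CommRing T']
  (g : T →+* T') (m : ℕ) (hm : m < n)
  (Q : ModuleCat.{u} (TruncatedWittVector p n T)) (Q' : ModuleCat.{u} (TruncatedWittVector p n T'))
  (Φ : Q →ₛₗ[WittGrp.truncMap p n g] Q')

lemma grSemi_smul (t : T) (z : Gr p n m hm Q) :
    grSemi p n g m hm Q Q' Φ (t • z) = g t • grSemi p n g m hm Q Q' Φ z :=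
  semiMap_smul _ _ _ _ _ Φ t z

end GrSemi

section Main

variable {p : ℕ} [hp : Fact p.Prime] {n : ℕ} {R R' : Type u} [CommRing R] [CommRing R']
  {α : R →+* R'} {N : ModuleCat.{u} (TruncatedWittVector p n R')} (dd : WDD p n α N)
  (m : ℕ) (hm : m < n)

/-- the comparison isomorphism `T ⊗_f (R' ⊗_{w_m} N) ≅ T ⊗_{w_m} (W_n(T) ⊗_{W_n(f)} N)` -/
noncomputable def cIso {T' : Type u} [CommRing T'] (f : R' →+* T') :
    (extendScalars f).obj (Gr p n m hm N) ≅
      Gr p n m hm ((extendScalars (WittGrp.truncMap p n f)).obj N) :=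
  ((extendScalarsComp (wm p n R' m hm) f).app N).symm ≪≫
    eqToIso (by rw [wm_comp_truncMap]) ≪≫
    (extendScalarsComp (WittGrp.truncMap p n f) (wm p n T' m hm)).app N

lemma cIso_hom_gen {T' : Type u} [CommRing T'] (f : R' →+* T') (x : N) :
    (cIso (N := N) m hm f).hom (tm f 1 (tm (wm p n R' m hm) 1 x)) =
      tm (wm p n T' m hm) 1 (tm (WittGrp.truncMap p n f) 1 x) := by
  have h1 : ((extendScalarsComp (wm p n R' m hm) f).app N).hom (tm (f.comp (wm p n R' m hm)) 1 x) =
      tm f 1 (tm (wm p n R' m hm) 1 x) :=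
    extendScalarsComp_hom_app_one_tmul (wm p n R' m hm) f N x
  have h1' : ((extendScalarsComp (wm p n R' m hm) f).app N).inv
      (tm f 1 (tm (wm p n R' m hm) 1 x)) = tm (f.comp (wm p n R' m hm)) 1 x := by
    rw [← h1]
    exact ConcreteCategory.congr_hom ((extendScalarsComp (wm p n R' m hm) f).app N).hom_inv_id _
  have h2 : ((extendScalarsComp (WittGrp.truncMap p n f) (wm p n T' m hm)).app N).hom
      (tm ((wm p n T' m hm).comp (WittGrp.truncMap p n f)) 1 x) =
      tm (wm p n T' m hm) 1 (tm (WittGrp.truncMap p n f) 1 x) :=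
    extendScalarsComp_hom_app_one_tmul (WittGrp.truncMap p n f) (wm p n T' m hm) N x
  unfold cIso
  rw [Iso.trans_hom, Iso.trans_hom, Iso.symm_hom, eqToIso.hom, ModuleCat.comp_apply,
    ModuleCat.comp_apply, h1', eqToHom_tm (f.comp (wm p n R' m hm))
      ((wm p n T' m hm).comp (WittGrp.truncMap p n f)) (wm_comp_truncMap p n f m hm).symm, h2]

lemma cIso_inv_gen {T' : Type u} [CommRing T'] (f : R' →+* T') (x : N) :
    (cIso (N := N) m hm f).inv (tm (wm p n T' m hm) 1 (tm (WittGrp.truncMap p n f) 1 x)) =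
      tm f 1 (tm (wm p n R' m hm) 1 x) := by
  rw [← cIso_hom_gen m hm f x]
  exact ConcreteCategory.congr_hom (cIso (N := N) m hm f).hom_inv_id _

lemma cIso_inv_hom_apply {T' : Type u} [CommRing T'] (f : R' →+* T')
    (z : Gr p n m hm ((extendScalars (WittGrp.truncMap p n f)).obj N)) :
    (cIso (N := N) m hm f).hom ((cIso (N := N) m hm f).inv z) = z :=
  ConcreteCategory.congr_hom (cIso (N := N) m hm f).inv_hom_id z

lemma cIso_hom_inv_apply {T' : Type u} [CommRing T'] (f : R' →+* T')
    (z : (extendScalars f).obj (Gr p n m hm N)) :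
    (cIso (N := N) m hm f).inv ((cIso (N := N) m hm f).hom z) = z :=
  ConcreteCategory.congr_hom (cIso (N := N) m hm f).hom_inv_id z

/-- the inverse comparison isomorphism on general pure tensors -/
lemma cIso_inv_tm {T' : Type u} [CommRing T'] (f : R' →+* T') (t : T')
    (a : TruncatedWittVector p n T') (x : N) :
    (cIso (N := N) m hm f).inv (tm (wm p n T' m hm) t (tm (WittGrp.truncMap p n f) a x)) =
      (t * wm p n T' m hm a) • tm f 1 (tm (wm p n R' m hm) 1 x) := by
  have : tm (wm p n T' m hm) t (tm (WittGrp.truncMap p n f) a x) =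
      (t * wm p n T' m hm a) • tm (wm p n T' m hm) 1 (tm (WittGrp.truncMap p n f) 1 x) := by
    rw [tm_eq_smul_one (WittGrp.truncMap p n f) a x, tm_smul, smul_tm, mul_one, mul_comm]
  rw [this, map_smul, cIso_inv_gen]

/-- `cIso` and `1 ⊗ -` -/
lemma cIso_hom_tm_one {T' : Type u} [CommRing T'] (f : R' →+* T') (y : Gr p n m hm N) :
    (cIso (N := N) m hm f).hom (tm f 1 y) =
      grSemi p n f m hm N _ (iotaSL (WittGrp.truncMap p n f) N) y := by
  induction y using tm_induction with
  | h0 => rw [tm_zero, map_zero, map_zero]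
  | h1 s x =>
    rw [grSemi_tm, iotaSL_apply, tm_eq_smul_one (wm p n R' m hm) s x, tm_one_smul, map_smul,
      cIso_hom_gen, smul_tm, mul_one]
  | h2 y y' hy hy' => rw [tm_add, map_add, hy, hy', map_add]

/-- `cIso` and base change -/
lemma cIso_hom_U {T' T'' : Type u} [CommRing T'] [CommRing T''] (g : T' →+* T'')
    (f : R' →+* T') (f' : R' →+* T'') (e : g.comp f = f')
    (c : (extendScalars f).obj (Gr p n m hm N)) :
    (cIso (N := N) m hm f').hom (U f g f' e (Gr p n m hm N) c) =
      grSemi p n g m hm _ _ (USL (WittGrp.truncMap p n f) (WittGrp.truncMap p n g)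
        (WittGrp.truncMap p n f') (tmc p n g f f' e) N) ((cIso (N := N) m hm f).hom c) := by
  induction c using gen_induction with
  | h0 => rw [U_zero, map_zero, map_zero, map_zero]
  | h1 t x =>
    rw [U_smul, U_tm, map_one, map_smul, cIso_hom_gen, map_smul, cIso_hom_gen, grSemi_smul,
      grSemi_tm, USL_apply, U_tm, map_one, map_one]
  | h2 a b ha hb => rw [U_add, map_add, ha, hb, map_add, map_add]

/-- the comparison maps of the base-changed descent datum -/
noncomputable def homGr (T' : Type u) [CommRing T'] (f₁ f₂ : R' →+* T')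
    (h : f₁.comp α = f₂.comp α) :
    (extendScalars f₁).obj (Gr p n m hm N) ⟶ (extendScalars f₂).obj (Gr p n m hm N) :=
  (cIso (N := N) m hm f₁).hom ≫ (extendScalars (wm p n T' m hm)).map (dd.hom T' f₁ f₂ h) ≫
    (cIso (N := N) m hm f₂).inv

lemma cIso_hom_homGr (T' : Type u) [CommRing T'] (f₁ f₂ : R' →+* T')
    (h : f₁.comp α = f₂.comp α) (c : (extendScalars f₁).obj (Gr p n m hm N)) :
    (cIso (N := N) m hm f₂).hom (homGr dd m hm T' f₁ f₂ h c) =
      (extendScalars (wm p n T' m hm)).map (dd.hom T' f₁ f₂ h) ((cIso (N := N) m hm f₁).hom c) := by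
  unfold homGr
  rw [ModuleCat.comp_apply, ModuleCat.comp_apply, cIso_inv_hom_apply]

lemma homGr_gen (T' : Type u) [CommRing T'] (f₁ f₂ : R' →+* T')
    (h : f₁.comp α = f₂.comp α) (x : N) :
    homGr dd m hm T' f₁ f₂ h (tm f₁ 1 (tm (wm p n R' m hm) 1 x)) =
      (cIso (N := N) m hm f₂).inv (tm (wm p n T' m hm) 1 (dd.rho T' f₁ f₂ h x)) := by
  unfold homGr
  rw [ModuleCat.comp_apply, ModuleCat.comp_apply, cIso_hom_gen, map_tm]
  rfl

/-- reduction of statements about `1 ⊗ y`, `y ∈ Gr N`, to generators -/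
lemma tm_one_induction {T' : Type u} [CommRing T'] (f : R' →+* T')
    {P : (extendScalars f).obj (Gr p n m hm N) → Prop} (h0 : P 0)
    (h1 : ∀ (s : R') (x : N), P (f s • tm f 1 (tm (wm p n R' m hm) 1 x)))
    (h2 : ∀ a b, P a → P b → P (a + b)) (y : Gr p n m hm N) : P (tm f 1 y) := by
  induction y using tm_induction with
  | h0 => rw [tm_zero]; exact h0
  | h1 s x =>
    rw [tm_eq_smul_one (wm p n R' m hm) s x, tm_one_smul]
    exact h1 s x
  | h2 y y' hy hy' => rw [tm_add]; exact h2 _ _ hy hy'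

lemma cIso_inv_U {T' T'' : Type u} [CommRing T'] [CommRing T''] (g : T' →+* T'')
    (f : R' →+* T') (f' : R' →+* T'') (e : g.comp f = f')
    (z : (extendScalars (WittGrp.truncMap p n f)).obj N) :
    (cIso (N := N) m hm f').inv (tm (wm p n T'' m hm) 1
        (U (WittGrp.truncMap p n f) (WittGrp.truncMap p n g) (WittGrp.truncMap p n f')
          (tmc p n g f f' e) N z)) =
      U f g f' e (Gr p n m hm N) ((cIso (N := N) m hm f).inv (tm (wm p n T' m hm) 1 z)) := by
  induction z using tm_induction with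
  | h0 => rw [U_zero, tm_zero, map_zero, tm_zero, map_zero, U_zero]
  | h1 a x =>
    rw [U_tm, cIso_inv_tm, cIso_inv_tm, U_smul, U_tm, map_one, one_mul, one_mul, wm_truncMap]
  | h2 z z' hz hz' => rw [U_add, tm_add, map_add, hz, hz', tm_add, map_add, U_add]

/-- the base change of a Witt-level descent datum along `w_m` -/
noncomputable def grDD : ModDD α (Gr p n m hm N) where
  hom := homGr dd m hm
  self := by
    intro T' _ f h y
    refine tm_one_induction m hm f (P := fun c => homGr dd m hm T' f f h c = c) ?_ ?_ ?_ y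
    · rw [map_zero]
    · intro s x
      rw [map_smul, homGr_gen]
      have : dd.rho T' f f h x = tm (WittGrp.truncMap p n f) 1 x := dd.self T' f h x
      rw [this, cIso_inv_gen]
    · intro a b ha hb
      rw [map_add, ha, hb]
  comp := by
    intro T' _ f₁ f₂ f₃ h₁₂ h₂₃ h₁₃ y
    refine tm_one_induction m hm f₁ (P := fun c => homGr dd m hm T' f₂ f₃ h₂₃
      (homGr dd m hm T' f₁ f₂ h₁₂ c) = homGr dd m hm T' f₁ f₃ h₁₃ c) ?_ ?_ ?_ y
    · rw [map_zero, map_zero, map_zero]
    · intro s x
      rw [map_smul, map_smul, map_smul, homGr_gen, homGr_gen]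
      congr 1
      apply (cIso (N := N) m hm f₃).toLinearEquiv.injective
      show (cIso (N := N) m hm f₃).hom _ = (cIso (N := N) m hm f₃).hom _
      rw [cIso_hom_homGr, cIso_inv_hom_apply, cIso_inv_hom_apply, map_tm]
      congr 1
      exact dd.comp T' f₁ f₂ f₃ h₁₂ h₂₃ h₁₃ x
    · intro a b ha hb
      rw [map_add, map_add, map_add, ha, hb]
  pull := by
    intro T' T'' _ _ g f₁ f₂ h f₁' f₂' e₁ e₂ h' y
    have key : ∀ c : (extendScalars f₁).obj (Gr p n m hm N),
        homGr dd m hm T'' f₁' f₂' h' (U f₁ g f₁' e₁ (Gr p n m hm N) c) =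
          U f₂ g f₂' e₂ (Gr p n m hm N) (homGr dd m hm T' f₁ f₂ h c) := by
      intro c
      induction c using gen_induction with
      | h0 => rw [U_zero, map_zero, map_zero, U_zero]
      | h1 t x =>
        rw [U_smul, U_tm, map_one, map_smul, map_smul, U_smul, homGr_gen, homGr_gen]
        congr 1
        rw [← cIso_inv_U m hm g f₂ f₂' e₂]
        congr 2
        exact dd.pull T' T'' g f₁ f₂ h f₁' f₂' e₁ e₂ h' x
      | h2 a b ha hb => rw [U_add, map_add, ha, hb, map_add, U_add]
    have := key (tm f₁ 1 y)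
    rw [U_tm, map_one] at this
    exact this

lemma grDD_hom (T' : Type u) [CommRing T'] (f₁ f₂ : R' →+* T') (h : f₁.comp α = f₂.comp α) :
    (grDD dd m hm).hom T' f₁ f₂ h = homGr dd m hm T' f₁ f₂ h := rfl

end Main

end Groth.Agent.Lib.Helper86.WittDDGr
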