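import Mathlib
import Groth.Agent.Lib.Helper86.WittDDGr
import Groth.Agent.Lib.Helper86.ClassH1

/-! The Čech complex of a Witt-level descent datum and the lifting of invariant elements along
the filtration by the ideals `I_m`. -/

set_option autoImplicit false

open CategoryTheory Opposite ModuleCat TensorProduct
open Groth.Agent.Lib.Helper86.DescBridge Groth.Agent.Lib.Helper86.DescEff
  Groth.Agent.Lib.Helper86.SemiMap Groth.Agent.Lib.Helper86.WittFil
  Groth.Agent.Lib.Helper86.WittGr Groth.Agent.Lib.Helper86.WittDD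
  Groth.Agent.Lib.Helper86.WittDDGr Groth.Agent.Lib.Helper86.ClassH1

universe u

namespace Groth.Agent.Lib.Helper86.WittCech

variable {p : ℕ} [hp : Fact p.Prime] {n : ℕ} (R : Type u) {R' : Type u} [CommRing R] [CommRing R']
  [Algebra R R'] {N : ModuleCat.{u} (TruncatedWittVector p n R')}
  (dd : WDD p n (algebraMap R R') N)

/-- `N₂ = W_n(R' ⊗ R') ⊗_{g₂} N` -/
noncomputable abbrev N₂ (N : ModuleCat.{u} (TruncatedWittVector p n R')) :
    ModuleCat.{u} (TruncatedWittVector p n (R' ⊗[R] R')) :=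
  (extendScalars (WittGrp.truncMap p n (g₂ R R'))).obj N

/-- `N₃ = W_n(R' ⊗ R' ⊗ R') ⊗_{h₃} N` -/
noncomputable abbrev N₃ (N : ModuleCat.{u} (TruncatedWittVector p n R')) :
    ModuleCat.{u} (TruncatedWittVector p n (T₃ R R')) :=
  (extendScalars (WittGrp.truncMap p n (h₃ R R'))).obj N

/-- `x ↦ 1 ⊗ x` -/
noncomputable abbrev iota : N →ₛₗ[WittGrp.truncMap p n (g₂ R R')] N₂ R N :=
  iotaSL (WittGrp.truncMap p n (g₂ R R')) N

/-- the twisted coface map `N → N₂` -/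
noncomputable def rhoSL : N →ₛₗ[WittGrp.truncMap p n (g₁ R R')] N₂ R N where
  toFun := dd.rho (R' ⊗[R] R') (g₁ R R') (g₂ R R') (hg R R')
  map_add' := dd.rho_add _ _ _ _
  map_smul' := dd.rho_smul _ _ _ _

lemma rhoSL_apply (x : N) :
    rhoSL R dd x = dd.rho (R' ⊗[R] R') (g₁ R R') (g₂ R R') (hg R R') x := rfl

/-- coface map `p₂₃` -/
noncomputable abbrev d0SL : N₂ R N →ₛₗ[WittGrp.truncMap p n (j₃ R R')] N₃ R N :=
  USL (WittGrp.truncMap p n (g₂ R R')) (WittGrp.truncMap p n (j₃ R R'))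
    (WittGrp.truncMap p n (h₃ R R')) (tmc p n (j₃ R R') (g₂ R R') (h₃ R R') rfl) N

/-- coface map `p₁₃` -/
noncomputable abbrev d1SL : N₂ R N →ₛₗ[WittGrp.truncMap p n (p₁₃ R R')] N₃ R N :=
  USL (WittGrp.truncMap p n (g₂ R R')) (WittGrp.truncMap p n (p₁₃ R R'))
    (WittGrp.truncMap p n (h₃ R R')) (tmc p n (p₁₃ R R') (g₂ R R') (h₃ R R') (p₁₃_comp_g₂ R R')) N

/-- base change along `p₁₂` -/
noncomputable abbrev u12SL : N₂ R N →ₛₗ[WittGrp.truncMap p n (p₁₂ R R')]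
    (extendScalars (WittGrp.truncMap p n (h₂ R R'))).obj N :=
  USL (WittGrp.truncMap p n (g₂ R R')) (WittGrp.truncMap p n (p₁₂ R R'))
    (WittGrp.truncMap p n (h₂ R R')) (tmc p n (p₁₂ R R') (g₂ R R') (h₂ R R') (p₁₂_comp_g₂ R R')) N

/-- the twisted coface map `p₁₂` -/
noncomputable def d2SL : N₂ R N →ₛₗ[WittGrp.truncMap p n (p₁₂ R R')] N₃ R N where
  toFun c := dd.hom (T₃ R R') (h₂ R R') (h₃ R R') (h₂₃ R R') (u12SL R c)
  map_add' c c' := by rw [map_add, map_add]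
  map_smul' s c := by rw [map_smulₛₗ, map_smul]

lemma d2SL_apply (c : N₂ R N) :
    d2SL R dd c = dd.hom (T₃ R R') (h₂ R R') (h₃ R R') (h₂₃ R R') (u12SL R c) := rfl

/-- the Čech differential in degree zero -/
noncomputable def D0 (x : N) : N₂ R N := rhoSL R dd x - iota R x

/-- the Čech differential in degree one -/
noncomputable def D1 (c : N₂ R N) : N₃ R N := d0SL R c - d1SL R c + d2SL R dd c

lemma D0_add (x y : N) : D0 R dd (x + y) = D0 R dd x + D0 R dd y := by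
  unfold D0
  rw [map_add, map_add]
  abel

lemma D0_sub (x y : N) : D0 R dd (x - y) = D0 R dd x - D0 R dd y := by
  unfold D0
  rw [map_sub, map_sub]
  abel

lemma D0_zero : D0 R dd 0 = 0 := by
  unfold D0
  rw [map_zero, map_zero, sub_zero]

lemma D1_D0 (x : N) : D1 R dd (D0 R dd x) = 0 := by
  have e1 : d0SL R (rhoSL R dd x) = dd.rho (T₃ R R') (h₂ R R') (h₃ R R') (h₂₃ R R') x :=
    (dd.pull (R' ⊗[R] R') (T₃ R R') (j₃ R R') (g₁ R R') (g₂ R R') (hg R R') (h₂ R R') (h₃ R R')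
      rfl rfl (h₂₃ R R') x).symm
  have e2 : d1SL R (rhoSL R dd x) = dd.rho (T₃ R R') (h₁ R R') (h₃ R R') (h₁₃ R R') x :=
    (dd.pull (R' ⊗[R] R') (T₃ R R') (p₁₃ R R') (g₁ R R') (g₂ R R') (hg R R') (h₁ R R') (h₃ R R')
      (p₁₃_comp_g₁ R R') (p₁₃_comp_g₂ R R') (h₁₃ R R') x).symm
  have e3' : u12SL R (rhoSL R dd x) = dd.rho (T₃ R R') (h₁ R R') (h₂ R R') (h₁₂ R R') x :=
    (dd.pull (R' ⊗[R] R') (T₃ R R') (p₁₂ R R') (g₁ R R') (g₂ R R') (hg R R') (h₁ R R') (h₂ R R')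
      (p₁₂_comp_g₁ R R') (p₁₂_comp_g₂ R R') (h₁₂ R R') x).symm
  have e3 : d2SL R dd (rhoSL R dd x) = dd.rho (T₃ R R') (h₁ R R') (h₃ R R') (h₁₃ R R') x := by
    rw [d2SL_apply, e3']
    exact dd.comp (T₃ R R') (h₁ R R') (h₂ R R') (h₃ R R') (h₁₂ R R') (h₂₃ R R') (h₁₃ R R') x
  have e4 : d0SL R (iota R x) = tm (WittGrp.truncMap p n (h₃ R R')) 1 x := by
    rw [iotaSL_apply, USL_apply, U_tm, map_one]
  have e5 : d1SL R (iota R x) = tm (WittGrp.truncMap p n (h₃ R R')) 1 x := by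
    rw [iotaSL_apply, USL_apply, U_tm, map_one]
  have e6 : d2SL R dd (iota R x) = dd.rho (T₃ R R') (h₂ R R') (h₃ R R') (h₂₃ R R') x := by
    rw [d2SL_apply, iotaSL_apply, USL_apply, U_tm, map_one]
    rfl
  unfold D1 D0
  rw [map_sub, map_sub, map_sub, e1, e2, e3, e4, e5, e6]
  abel

section Graded

variable (m : ℕ) (hm : m < n)

/-- the graded Čech differential in degree one -/
noncomputable def GrD1 (z : Gr p n m hm (N₂ R N)) : Gr p n m hm (N₃ R N) :=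
  grSemi p n (j₃ R R') m hm _ _ (d0SL R) z - grSemi p n (p₁₃ R R') m hm _ _ (d1SL R) z +
    grSemi p n (p₁₂ R R') m hm _ _ (d2SL R dd) z

lemma map_grSemi {T T' : Type u} [CommRing T] [CommRing T'] (g : T →+* T')
    (Q : ModuleCat.{u} (TruncatedWittVector p n T))
    (Q' Q'' : ModuleCat.{u} (TruncatedWittVector p n T'))
    (Φ : Q →ₛₗ[WittGrp.truncMap p n g] Q') (ψ : Q' ⟶ Q'')
    (Ψ : Q →ₛₗ[WittGrp.truncMap p n g] Q'') (hΨ : ∀ q, Ψ q = ψ (Φ q)) (z : Gr p n m hm Q) :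
    (extendScalars (wm p n T' m hm)).map ψ (grSemi p n g m hm Q Q' Φ z) =
      grSemi p n g m hm Q Q'' Ψ z := by
  induction z using tm_induction with
  | h0 => rw [map_zero, map_zero, map_zero]
  | h1 t q => rw [grSemi_tm, grSemi_tm, map_tm, hΨ]
  | h2 a b ha hb => rw [map_add, map_add, map_add, ha, hb]

omit hp in
lemma rho₀_eq {A B : Type u} [CommRing A] [CommRing B] [Algebra A B] {X : ModuleCat.{u} B}
    (dd' : ModDD (algebraMap A B) X) (x : X) :
    rho₀ A dd' x = dd'.hom (B ⊗[A] B) (g₁ A B) (g₂ A B) (hg A B) (tm (g₁ A B) 1 x) := rfl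

lemma cIso_hom_rho₀ (y : Gr p n m hm N) :
    (cIso (N := N) m hm (g₂ R R')).hom (rho₀ R (grDD dd m hm) y) =
      grSemi p n (g₁ R R') m hm _ _ (rhoSL R dd) y := by
  rw [rho₀_eq, grDD_hom, cIso_hom_homGr, cIso_hom_tm_one]
  exact map_grSemi m hm (g₁ R R') N _ _ (iotaSL (WittGrp.truncMap p n (g₁ R R')) N)
    (dd.hom (R' ⊗[R] R') (g₁ R R') (g₂ R R') (hg R R')) (rhoSL R dd) (fun _ => rfl) y

lemma cIso_hom_D1 (c : (extendScalars (g₂ R R')).obj (Gr p n m hm N)) :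
    (cIso (N := N) m hm (h₃ R R')).hom (ClassH1.D1 R (grDD dd m hm) c) =
      GrD1 R dd m hm ((cIso (N := N) m hm (g₂ R R')).hom c) := by
  unfold ClassH1.D1 GrD1
  rw [map_add, map_sub, cIso_hom_U m hm (j₃ R R') (g₂ R R') (h₃ R R') rfl,
    cIso_hom_U m hm (p₁₃ R R') (g₂ R R') (h₃ R R') (p₁₃_comp_g₂ R R'), grDD_hom, cIso_hom_homGr,
    cIso_hom_U m hm (p₁₂ R R') (g₂ R R') (h₂ R R') (p₁₂_comp_g₂ R R')]
  congr 1
  exact map_grSemi m hm (p₁₂ R R') _ _ _ (u12SL R)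
    (dd.hom (T₃ R R') (h₂ R R') (h₃ R R') (h₂₃ R R')) (d2SL R dd) (fun _ => rfl) _

variable [Module.FaithfullyFlat R R'] [Module.Flat (TruncatedWittVector p n R') N]
  [Module.Flat (TruncatedWittVector p n (R' ⊗[R] R')) (N₂ R N)]
  [Module.Flat (TruncatedWittVector p n (T₃ R R')) (N₃ R N)]

lemma D0_mem_Fil {y : N} (hy : y ∈ Fil p n N m) : D0 R dd y ∈ Fil p n (N₂ R N) m :=
  Submodule.sub_mem _ (map_mem_Fil p n (g₁ R R') m N _ (rhoSL R dd) hy)
    (map_mem_Fil p n (g₂ R R') m N _ (iota R) hy)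

lemma kappaFun_D0 {y : N} (hy : y ∈ Fil p n N m) :
    kappaFun p n m hm (N₂ R N) (D0 R dd y) =
      grSemi p n (g₁ R R') m hm _ _ (rhoSL R dd) (kappaFun p n m hm N y) -
        grSemi p n (g₂ R R') m hm _ _ (iota R) (kappaFun p n m hm N y) := by
  unfold D0
  rw [kappaFun_sub p n m hm _ (map_mem_Fil p n (g₁ R R') m N _ (rhoSL R dd) hy)
    (map_mem_Fil p n (g₂ R R') m N _ (iota R) hy),
    kappaFun_map p n (g₁ R R') m hm N _ (rhoSL R dd) hy,
    kappaFun_map p n (g₂ R R') m hm N _ (iota R) hy]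

lemma kappaFun_D1 {c : N₂ R N} (hc : c ∈ Fil p n (N₂ R N) m) :
    kappaFun p n m hm (N₃ R N) (D1 R dd c) = GrD1 R dd m hm (kappaFun p n m hm (N₂ R N) c) := by
  have h0 := map_mem_Fil p n (j₃ R R') m _ _ (d0SL R (N := N)) hc
  have h1 := map_mem_Fil p n (p₁₃ R R') m _ _ (d1SL R (N := N)) hc
  have h2 := map_mem_Fil p n (p₁₂ R R') m _ _ (d2SL R dd) hc
  unfold D1 GrD1
  rw [kappaFun_add p n m hm _ (Submodule.sub_mem _ h0 h1) h2, kappaFun_sub p n m hm _ h0 h1,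
    kappaFun_map p n (j₃ R R') m hm _ _ (d0SL R (N := N)) hc,
    kappaFun_map p n (p₁₃ R R') m hm _ _ (d1SL R (N := N)) hc,
    kappaFun_map p n (p₁₂ R R') m hm _ _ (d2SL R dd) hc]

include hm in
/-- one step of the successive approximation -/
theorem step (x : N) (hx : D0 R dd x ∈ Fil p n (N₂ R N) m) :
    ∃ y ∈ Fil p n N m, D0 R dd (x - y) ∈ Fil p n (N₂ R N) (m + 1) := by
  set c := D0 R dd x with hcdef
  set c' := (cIso (N := N) m hm (g₂ R R')).inv (kappaFun p n m hm (N₂ R N) c) with hc'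
  have hcc' : (cIso (N := N) m hm (g₂ R R')).hom c' = kappaFun p n m hm (N₂ R N) c := by
    rw [hc', cIso_inv_hom_apply]
  have hD1 : ClassH1.D1 R (grDD dd m hm) c' = 0 := by
    apply (cIso (N := N) m hm (h₃ R R')).toLinearEquiv.injective
    show (cIso (N := N) m hm (h₃ R R')).hom _ = (cIso (N := N) m hm (h₃ R R')).hom _
    rw [cIso_hom_D1, hcc', ← kappaFun_D1 R dd m hm hx, hcdef, D1_D0, map_zero, kappaFun_zero]
  obtain ⟨ybar, hybar⟩ := exists_of_D1_eq_zero R (grDD dd m hm) c' hD1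
  obtain ⟨y, hy, hky⟩ := kappaFun_surjective p n m hm N ybar
  refine ⟨y, hy, ?_⟩
  rw [D0_sub]
  apply mem_Fil_succ_of_kappaFun_eq_zero p n m hm _ (Submodule.sub_mem _ hx (D0_mem_Fil R dd m hy))
  rw [kappaFun_sub p n m hm _ hx (D0_mem_Fil R dd m hy), kappaFun_D0 R dd m hm hy, hky, ← hcc',
    hybar, map_sub, cIso_hom_rho₀, cIso_hom_tm_one, sub_self]

end Graded

variable [Module.FaithfullyFlat R R'] [Module.Flat (TruncatedWittVector p n R') N]
  [Module.Flat (TruncatedWittVector p n (R' ⊗[R] R')) (N₂ R N)]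
  [Module.Flat (TruncatedWittVector p n (T₃ R R')) (N₃ R N)]

/-- successive approximation: an element invariant modulo `I_m` can be corrected to an invariant
element -/
theorem exists_invariant (k : ℕ) (hk : k ≤ n) (x : N)
    (hx : D0 R dd x ∈ Fil p n (N₂ R N) (n - k)) :
    ∃ y ∈ Fil p n N (n - k), D0 R dd (x - y) = 0 := by
  induction k generalizing x with
  | zero =>
    refine ⟨0, Submodule.zero_mem _, ?_⟩
    rw [sub_zero]
    rw [Nat.sub_zero, Fil_self, Submodule.mem_bot] at hx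
    exact hx
  | succ k ih =>
    have hm : n - (k + 1) < n := by omega
    have hm1 : n - (k + 1) + 1 = n - k := by omega
    obtain ⟨y₁, hy₁, h1⟩ := step R dd (n - (k + 1)) hm x hx
    rw [hm1] at h1
    obtain ⟨y₂, hy₂, h2⟩ := ih (by omega) (x - y₁) h1
    refine ⟨y₁ + y₂, Submodule.add_mem _ hy₁ (Fil_anti p n N (by omega) hy₂), ?_⟩
    rw [← sub_sub]
    exact h2

end Groth.Agent.Lib.Helper86.WittCech
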