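import Mathlib
import Groth.Agent.Lib.Helper86.WittCech
import Groth.Agent.Lib.Helper86.WittLift
import Groth.Agent.S0276

/-! General lemmas for the effectivity of Witt-vector descent: base change of finiteness
properties, descent of finite projectivity, and a Nakayama-type bijectivity criterion. -/

set_option autoImplicit false

open CategoryTheory Opposite ModuleCat TensorProduct
open Groth.Agent.Lib.Helper86.DescBridge Groth.Agent.Lib.Helper86.DescEff
  Groth.Agent.Lib.Helper86.SemiMap Groth.Agent.Lib.Helper86.WittFil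
  Groth.Agent.Lib.Helper86.WittGr

universe u

namespace Groth.Agent.Lib.Helper86.WittAsm1

section Ext

variable {S S' : Type u} [CommRing S] [CommRing S'] (f : S →+* S')

lemma flat_ext (M : ModuleCat.{u} S) [Module.Flat S M] :
    Module.Flat S' ((extendScalars f).obj M) := by
  let _ := f.toAlgebra
  exact (inferInstance : Module.Flat S' (S' ⊗[S] M))

lemma proj_ext (M : ModuleCat.{u} S) [Module.Projective S M] :
    Module.Projective S' ((extendScalars f).obj M) := by
  let _ := f.toAlgebra
  exact (inferInstance : Module.Projective S' (S' ⊗[S] M))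

lemma fin_ext (M : ModuleCat.{u} S) [Module.Finite S M] :
    Module.Finite S' ((extendScalars f).obj M) := by
  let _ := f.toAlgebra
  exact (inferInstance : Module.Finite S' (S' ⊗[S] M))

end Ext

section Descent

lemma univInjective_of_faithfullyFlat (R S : Type u) [CommRing R] [CommRing S] [Algebra R S]
    [Module.FaithfullyFlat R S] : Pi1.UnivInjective R S := by
  intro P _ _
  have h : (LinearMap.lTensor P (Algebra.linearMap R S)) =
      (TensorProduct.comm R S P).toLinearMap ∘ₗ (TensorProduct.mk R S P 1) ∘ₗ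
        (TensorProduct.rid R P).toLinearMap := by
    apply TensorProduct.ext'
    intro x r
    simp only [LinearMap.lTensor_tmul, Algebra.linearMap_apply, LinearMap.coe_comp,
      LinearEquiv.coe_coe, Function.comp_apply, TensorProduct.rid_tmul, TensorProduct.mk_apply,
      TensorProduct.comm_tmul]
    rw [Algebra.algebraMap_eq_smul_one, TensorProduct.tmul_smul, TensorProduct.smul_tmul']
  rw [h]
  exact (TensorProduct.comm R S P).injective.comp
    ((Module.FaithfullyFlat.tensorProduct_mk_injective (A := R) (B := S) P).comp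
      (TensorProduct.rid R P).injective)

theorem fp_descent_aux (R R' : Type u) [CommRing R] [CommRing R'] [Algebra R R']
    [Module.FaithfullyFlat R R'] (G₀ : Type u) [AddCommGroup G₀] [Module R G₀]
    [Module.Finite R' (R' ⊗[R] G₀)] [Module.Projective R' (R' ⊗[R] G₀)] :
    Module.Finite R G₀ ∧ Module.Projective R G₀ := by
  have h1 : Module.Finite R G₀ :=
    Module.Finite.of_finite_tensorProduct_of_faithfullyFlat (T := R')
  have h2 : Module.Flat R G₀ :=
    Module.Flat.of_flat_tensorProduct R G₀ R'
  have hfp' : Module.FinitePresentation R' (R' ⊗[R] G₀) :=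
    Module.finitePresentation_of_projective _ _
  have hui : Pi1.UnivInjective R R' := univInjective_of_faithfullyFlat R R'
  have h3 : Module.FinitePresentation R G₀ := Groth.Agent.S0276.result R R' hui G₀
  exact ⟨h1, Module.Flat.projective_of_finitePresentation⟩

theorem finite_projective_descent (R R' : Type u) [CommRing R] [CommRing R'] [Algebra R R']
    [Module.FaithfullyFlat R R'] (G₀ : ModuleCat.{u} R) (G' : ModuleCat.{u} R')
    [Module.Finite R' G'] [Module.Projective R' G']
    (θ₀ : (extendScalars (algebraMap R R')).obj G₀ ≅ G') :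
    Module.Finite R G₀ ∧ Module.Projective R G₀ := by
  have hfin : Module.Finite R' ((extendScalars (algebraMap R R')).obj G₀) :=
    Module.Finite.equiv θ₀.symm.toLinearEquiv
  have hproj : Module.Projective R' ((extendScalars (algebraMap R R')).obj G₀) :=
    Module.Projective.of_equiv θ₀.symm.toLinearEquiv
  have hff : @Module.FaithfullyFlat R R' _ _ (Module.compHom R' (algebraMap R R')) := by
    rw [Groth.Agent.Lib.Helper86.DescPB.compHom_eq]
    infer_instance
  let alg' : Algebra R R' := (algebraMap R R').toAlgebra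
  have hff' : @Module.FaithfullyFlat R R' _ _ (@Algebra.toModule R R' _ _ alg') := hff
  exact @fp_descent_aux R R' _ _ alg' hff' G₀ _ _ hfin hproj

end Descent

section GrZero

variable (p : ℕ) [hp : Fact p.Prime] (n : ℕ) {T : Type u} [CommRing T] (hn : 0 < n)
  (Q : ModuleCat.{u} (TruncatedWittVector p n T)) [Module.Flat (TruncatedWittVector p n T) Q]

lemma kappaFun_level_zero (x : Q) :
    kappaFun p n 0 hn Q x = tm (wm p n T 0 hn) 1 x := by
  have h1 : (1 : TruncatedWittVector p n T) ∈ Im p n T 0 := by
    rw [Im_zero]; trivial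
  have := kappaFun_smul p n 0 hn Q h1 x
  rw [one_smul] at this
  rw [this, ← wm_zero p n hn, map_one]

lemma mem_Fil_one_of_tm_eq_zero (x : Q) (h : tm (wm p n T 0 hn) 1 x = 0) : x ∈ Fil p n Q 1 := by
  have hx : x ∈ Fil p n Q 0 := by rw [Fil_zero]; trivial
  exact mem_Fil_succ_of_kappaFun_eq_zero p n 0 hn Q hx (by rw [kappaFun_level_zero, h])

lemma tm_eq_zero_of_mem_Fil_one (x : Q) (hx : x ∈ Fil p n Q 1) : tm (wm p n T 0 hn) 1 x = 0 := by
  rw [← kappaFun_level_zero]
  exact kappaFun_eq_zero_of_mem_Fil_succ p n 0 hn Q hx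

omit [Module.Flat (TruncatedWittVector p n T) Q] in
lemma exists_tm_one_eq (y : Gr p n 0 hn Q) : ∃ x : Q, y = tm (wm p n T 0 hn) 1 x :=
  Groth.Agent.Lib.Helper28.LiftCx.exists_one_tmul (wm p n T 0 hn) (wm_zero_surjective p n hn) Q y

end GrZero

section Nakayama

open Groth.Agent.Lib.Helper75.WittTruncFiltration

variable (p : ℕ) [hp : Fact p.Prime] (n : ℕ) {T : Type u} [CommRing T] (hn : 0 < n)

theorem bijective_of_gr (hnil : IsNilpotent (Im p n T 1))
    (X₁ N : ModuleCat.{u} (TruncatedWittVector p n T))
    [Module.Flat (TruncatedWittVector p n T) X₁] [Module.Flat (TruncatedWittVector p n T) N]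
    [Module.Projective (TruncatedWittVector p n T) N] (θ : X₁ ⟶ N)
    (hbij : Function.Bijective ((extendScalars (wm p n T 0 hn)).map θ)) :
    Function.Bijective θ := by
  obtain ⟨k, hk⟩ := hnil
  have hk' : ∀ (Q : ModuleCat.{u} (TruncatedWittVector p n T)),
      (Im p n T 1 ^ k • (⊤ : Submodule (TruncatedWittVector p n T) Q)) = ⊥ := by
    intro Q
    rw [hk, Ideal.zero_eq_bot, Submodule.bot_smul]
  have hsurj : Function.Surjective θ := by
    have hr : LinearMap.range θ.hom = ⊤ := by
      apply eq_top_of_sup_smul_eq_top (Im p n T 1) _ ?_ k (hk' N)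
      rw [eq_top_iff]
      intro x _
      obtain ⟨ζ, hζ⟩ := hbij.2 (tm (wm p n T 0 hn) 1 x)
      obtain ⟨z, rfl⟩ := exists_tm_one_eq p n hn X₁ ζ
      rw [map_tm] at hζ
      have h0 : tm (wm p n T 0 hn) 1 (x - θ z) = 0 := by
        rw [tm_sub, hζ, sub_self]
      have h1 := mem_Fil_one_of_tm_eq_zero p n hn N (x - θ z) h0
      have h2 : x = θ z + (x - θ z) := by abel
      rw [h2]
      exact Submodule.add_mem_sup ⟨z, rfl⟩ h1
    exact LinearMap.range_eq_top.mp hr
  refine ⟨?_, hsurj⟩
  obtain ⟨s, hs⟩ := Module.projective_lifting_property θ.hom LinearMap.id hsurj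
  have hs' : ∀ y, θ (s y) = y := fun y => LinearMap.congr_fun hs y
  let π : X₁ →ₗ[TruncatedWittVector p n T] X₁ := LinearMap.id - s ∘ₗ θ.hom
  have hπ : ∀ z, π z = z - s (θ z) := fun z => rfl
  have hπK : ∀ z, π z ∈ LinearMap.ker θ.hom := fun z => by
    rw [LinearMap.mem_ker, hπ]
    show θ (z - s (θ z)) = 0
    rw [map_sub, hs', sub_self]
  have hK : LinearMap.ker θ.hom ≤ Im p n T 1 • LinearMap.ker θ.hom := by
    intro z hz
    have hz0 : θ z = 0 := hz
    have h0 : tm (wm p n T 0 hn) 1 z = 0 := by
      apply hbij.1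
      rw [map_tm, hz0, tm_zero, map_zero]
    have h1 : z ∈ Im p n T 1 • (⊤ : Submodule (TruncatedWittVector p n T) X₁) :=
      mem_Fil_one_of_tm_eq_zero p n hn X₁ z h0
    have h2 : π z = z := by rw [hπ, hz0, map_zero, sub_zero]
    have h3 : π z ∈ Submodule.map π (Im p n T 1 • ⊤) := Submodule.mem_map_of_mem h1
    rw [Submodule.map_smul'', h2] at h3
    refine Submodule.smul_mono le_rfl ?_ h3
    rintro _ ⟨y, -, rfl⟩
    exact hπK y
  have hKbot := eq_bot_of_le_smul (Im p n T 1) (LinearMap.ker θ.hom) hK k (hk' X₁)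
  exact LinearMap.ker_eq_bot.mp hKbot

end Nakayama

end Groth.Agent.Lib.Helper86.WittAsm1
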