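import Mathlib
import Groth.Agent.Lib.Helper86.WittAsm1

/-! Effectivity of Witt-level descent data on finite projective modules. -/

set_option autoImplicit false

open CategoryTheory Opposite ModuleCat TensorProduct
open Groth.Agent.Lib.Helper86.DescBridge Groth.Agent.Lib.Helper86.DescEff
  Groth.Agent.Lib.Helper86.SemiMap Groth.Agent.Lib.Helper86.WittFil
  Groth.Agent.Lib.Helper86.WittGr Groth.Agent.Lib.Helper86.WittDD
  Groth.Agent.Lib.Helper86.WittDDGr Groth.Agent.Lib.Helper86.ClassH1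
  Groth.Agent.Lib.Helper86.WittCech Groth.Agent.Lib.Helper86.WittAsm1
  Groth.Agent.Lib.Helper86.WittLift

universe u

namespace Groth.Agent.Lib.Helper86.WittAsm2

section Setup

variable {p : ℕ} [hp : Fact p.Prime] {n : ℕ} (hn : 0 < n) (R : Type u) {R' : Type u} [CommRing R]
  [CommRing R'] [Algebra R R'] {N : ModuleCat.{u} (TruncatedWittVector p n R')}
  (dd : WDD p n (algebraMap R R') N)

local notation "Wα" => WittGrp.truncMap p n (algebraMap R R')

lemma truncMap_g_eq (a : TruncatedWittVector p n R) :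
    WittGrp.truncMap p n (g₁ R R') (Wα a) = WittGrp.truncMap p n (g₂ R R') (Wα a) := by
  have h1 := RingHom.congr_fun (tmc p n (g₁ R R') (algebraMap R R') _ rfl) a
  have h2 := RingHom.congr_fun (tmc p n (g₂ R R') (algebraMap R R') _ rfl) a
  rw [RingHom.comp_apply] at h1 h2
  rw [h1, h2, hg R R']

lemma D0_smul (a : TruncatedWittVector p n R) (x : N) :
    D0 R dd (Wα a • x) = WittGrp.truncMap p n (g₂ R R') (Wα a) • D0 R dd x := by
  unfold D0
  rw [map_smulₛₗ, map_smulₛₗ, truncMap_g_eq, smul_sub]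

/-- the invariant elements of `N`, as a `W_n(R)`-submodule -/
noncomputable def M₀ : Submodule (TruncatedWittVector p n R) ((restrictScalars Wα).obj N) where
  carrier := {x | D0 R dd (show N from x) = 0}
  add_mem' := by
    intro x y hx hy
    have hx' : D0 R dd (show N from x) = 0 := hx
    have hy' : D0 R dd (show N from y) = 0 := hy
    show D0 R dd ((show N from x) + (show N from y)) = 0
    rw [D0_add, hx', hy', add_zero]
  zero_mem' := D0_zero R dd
  smul_mem' := by
    intro a x hx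
    have hx' : D0 R dd (show N from x) = 0 := hx
    show D0 R dd (Wα a • (show N from x)) = 0
    rw [D0_smul, hx', smul_zero]

/-- the invariant elements of `Gr_0 N`, as a `W_n(R)`-submodule -/
noncomputable def E₀ : Submodule (TruncatedWittVector p n R)
    ((restrictScalars ((wm p n R' 0 hn).comp Wα)).obj (Gr p n 0 hn N)) where
  carrier := {e | rho₀ R (grDD dd 0 hn) (show Gr p n 0 hn N from e) =
    tm (g₂ R R') 1 (show Gr p n 0 hn N from e)}
  add_mem' := by
    intro x y hx hy
    have hx' : rho₀ R (grDD dd 0 hn) (show Gr p n 0 hn N from x) =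
      tm (g₂ R R') 1 (show Gr p n 0 hn N from x) := hx
    have hy' : rho₀ R (grDD dd 0 hn) (show Gr p n 0 hn N from y) =
      tm (g₂ R R') 1 (show Gr p n 0 hn N from y) := hy
    show rho₀ R (grDD dd 0 hn) ((show Gr p n 0 hn N from x) + (show Gr p n 0 hn N from y)) =
      tm (g₂ R R') 1 ((show Gr p n 0 hn N from x) + (show Gr p n 0 hn N from y))
    rw [rho₀_add, tm_add, hx', hy']
  zero_mem' := by
    show rho₀ R (grDD dd 0 hn) (0 : Gr p n 0 hn N) = tm (g₂ R R') 1 (0 : Gr p n 0 hn N)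
    rw [rho₀_zero, tm_zero]
  smul_mem' := by
    intro a x hx
    have hx' : rho₀ R (grDD dd 0 hn) (show Gr p n 0 hn N from x) =
      tm (g₂ R R') 1 (show Gr p n 0 hn N from x) := hx
    show rho₀ R (grDD dd 0 hn) (wm p n R' 0 hn (Wα a) • (show Gr p n 0 hn N from x)) =
      tm (g₂ R R') 1 (wm p n R' 0 hn (Wα a) • (show Gr p n 0 hn N from x))
    have := RingHom.congr_fun (hg R R') (wm p n R 0 hn a)
    rw [RingHom.comp_apply, RingHom.comp_apply] at this
    rw [rho₀_smul', tm_one_smul, hx', wm_truncMap, this]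

lemma mem_E₀ (e : Gr p n 0 hn N) :
    (show ((restrictScalars ((wm p n R' 0 hn).comp Wα)).obj (Gr p n 0 hn N)) from e) ∈ E₀ hn R dd ↔
      rho₀ R (grDD dd 0 hn) e = tm (g₂ R R') 1 e := Iff.rfl

/-- reduction modulo `I_1`, as a `W_n(R)`-linear map -/
noncomputable def kapX : ((restrictScalars Wα).obj N) →ₗ[TruncatedWittVector p n R]
    ((restrictScalars ((wm p n R' 0 hn).comp Wα)).obj (Gr p n 0 hn N)) where
  toFun x := tm (wm p n R' 0 hn) 1 (show N from x)
  map_add' x y := tm_add (wm p n R' 0 hn) 1 (show N from x) (show N from y)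
  map_smul' a x := tm_one_smul (wm p n R' 0 hn) (Wα a) (show N from x)

lemma kapX_apply (x : N) : kapX hn R (N := N) x = tm (wm p n R' 0 hn) 1 x := rfl

/-- the map `P → Gr_0 N` induced by an isomorphism `R' ⊗ G₀ ≅ Gr_0 N` and a lift `P` of `G₀` -/
noncomputable def phi0X (G₀ : ModuleCat.{u} R)
    (θ₀ : (extendScalars (algebraMap R R')).obj G₀ ⟶ Gr p n 0 hn N)
    (P : ModuleCat.{u} (TruncatedWittVector p n R))
    (v : (extendScalars (wm p n R 0 hn)).obj P ⟶ G₀) :
    P →ₗ[TruncatedWittVector p n R]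
      ((restrictScalars ((wm p n R' 0 hn).comp Wα)).obj (Gr p n 0 hn N)) where
  toFun q := θ₀ (tm (algebraMap R R') 1 (v (tm (wm p n R 0 hn) 1 q)))
  map_add' q q' := by
    show θ₀ (tm (algebraMap R R') 1 (v (tm (wm p n R 0 hn) 1 (q + q')))) =
      θ₀ (tm (algebraMap R R') 1 (v (tm (wm p n R 0 hn) 1 q))) +
        θ₀ (tm (algebraMap R R') 1 (v (tm (wm p n R 0 hn) 1 q')))
    rw [tm_add, map_add, tm_add, map_add]
  map_smul' a q := by
    show θ₀ (tm (algebraMap R R') 1 (v (tm (wm p n R 0 hn) 1 (a • q)))) =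
      wm p n R' 0 hn (Wα a) • θ₀ (tm (algebraMap R R') 1 (v (tm (wm p n R 0 hn) 1 q)))
    rw [tm_one_smul, map_smul, tm_one_smul, map_smul, wm_truncMap]

lemma phi0X_apply (G₀ : ModuleCat.{u} R)
    (θ₀ : (extendScalars (algebraMap R R')).obj G₀ ⟶ Gr p n 0 hn N)
    (P : ModuleCat.{u} (TruncatedWittVector p n R))
    (v : (extendScalars (wm p n R 0 hn)).obj P ⟶ G₀) (q : P) :
    phi0X hn R G₀ θ₀ P v q = θ₀ (tm (algebraMap R R') 1 (v (tm (wm p n R 0 hn) 1 q))) := rfl

variable [Module.FaithfullyFlat R R'] [Module.Flat (TruncatedWittVector p n R') N]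
  [Module.Flat (TruncatedWittVector p n (R' ⊗[R] R')) (N₂ R N)]
  [Module.Flat (TruncatedWittVector p n (T₃ R R')) (N₃ R N)]

lemma tm_D0 (x : N) :
    tm (wm p n (R' ⊗[R] R') 0 hn) 1 (D0 R dd x) =
      (cIso (N := N) 0 hn (g₂ R R')).hom
        (rho₀ R (grDD dd 0 hn) (tm (wm p n R' 0 hn) 1 x) -
          tm (g₂ R R') 1 (tm (wm p n R' 0 hn) 1 x)) := by
  have hx : x ∈ Fil p n N 0 := by rw [Fil_zero]; trivial
  rw [← kappaFun_level_zero p n hn (N₂ R N), kappaFun_D0 R dd 0 hn hx, kappaFun_level_zero,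
    map_sub, cIso_hom_rho₀, cIso_hom_tm_one]

lemma kapX_mem (x : (restrictScalars Wα).obj N) (hx : x ∈ M₀ R dd) :
    kapX hn R (N := N) x ∈ E₀ hn R dd := by
  have hx' : D0 R dd (show N from x) = 0 := hx
  have h1 := tm_D0 hn R dd (show N from x)
  rw [hx', tm_zero] at h1
  have h2 : rho₀ R (grDD dd 0 hn) (tm (wm p n R' 0 hn) 1 (show N from x)) -
      tm (g₂ R R') 1 (tm (wm p n R' 0 hn) 1 (show N from x)) = 0 := by
    apply (cIso (N := N) 0 hn (g₂ R R')).toLinearEquiv.injective
    show (cIso (N := N) 0 hn (g₂ R R')).hom _ = (cIso (N := N) 0 hn (g₂ R R')).hom _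
    rw [← h1, map_zero]
  exact sub_eq_zero.mp h2

lemma exists_invariant_lift (e : Gr p n 0 hn N)
    (he : rho₀ R (grDD dd 0 hn) e = tm (g₂ R R') 1 e) :
    ∃ x : N, D0 R dd x = 0 ∧ tm (wm p n R' 0 hn) 1 x = e := by
  obtain ⟨x, rfl⟩ := exists_tm_one_eq p n hn N e
  have h1 : D0 R dd x ∈ Fil p n (N₂ R N) 1 :=
    mem_Fil_one_of_tm_eq_zero p n hn (N₂ R N) _ (by rw [tm_D0, he, sub_self, map_zero])
  have h2 : n - (n - 1) = 1 := by omega
  obtain ⟨y, hy, hxy⟩ := exists_invariant R dd (n - 1) (by omega) x (by rw [h2]; exact h1)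
  rw [h2] at hy
  refine ⟨x - y, hxy, ?_⟩
  rw [tm_sub, tm_eq_zero_of_mem_Fil_one p n hn N y hy, sub_zero]

end Setup

section Main

variable {p : ℕ} [hp : Fact p.Prime] {n : ℕ} (hn : 0 < n) (R : Type u) {R' : Type u} [CommRing R]
  [CommRing R'] [Algebra R R'] {N : ModuleCat.{u} (TruncatedWittVector p n R')}
  (dd : WDD p n (algebraMap R R') N)

local notation "Wα" => WittGrp.truncMap p n (algebraMap R R')

include hn in
theorem effective_witt_pos [Module.FaithfullyFlat R R'] (hpR : IsNilpotent (p : R))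
    [Module.Finite (TruncatedWittVector p n R') N]
    [Module.Projective (TruncatedWittVector p n R') N] :
    ∃ (M : ModuleCat.{u} (TruncatedWittVector p n R))
      (θ : (extendScalars Wα).obj M ⟶ N), IsIso θ ∧
      Module.Finite (TruncatedWittVector p n R) M ∧
      Module.Projective (TruncatedWittVector p n R) M ∧
      ∀ (T' : Type u) [CommRing T'] (f₁ f₂ : R' →+* T')
        (h : f₁.comp (algebraMap R R') = f₂.comp (algebraMap R R')) (m : M),
        dd.hom T' f₁ f₂ h (tm (WittGrp.truncMap p n f₁) 1 (θ (tm Wα 1 m))) =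
          tm (WittGrp.truncMap p n f₂) 1 (θ (tm Wα 1 m)) := by
  have iF1 : Module.Flat (TruncatedWittVector p n R') N := inferInstance
  have iF2 : Module.Flat (TruncatedWittVector p n (R' ⊗[R] R')) (N₂ R N) := flat_ext _ N
  have iF3 : Module.Flat (TruncatedWittVector p n (T₃ R R')) (N₃ R N) := flat_ext _ N
  have iG1 : Module.Finite R' (Gr p n 0 hn N) := fin_ext _ N
  have iG2 : Module.Projective R' (Gr p n 0 hn N) := proj_ext _ N
  obtain ⟨G₀, θ₀, hθ₀, hprop₀⟩ := effective R (grDD dd 0 hn)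
  obtain ⟨hG₀f, hG₀p⟩ := finite_projective_descent R R' G₀ (Gr p n 0 hn N) (asIso θ₀)
  obtain ⟨P, hPf, hPp, ⟨v⟩⟩ := exists_lift (wm p n R 0 hn) (wm_zero_surjective p n hn)
    (by rw [ker_wm_zero]; exact isNilpotent_Im_one p n hpR) G₀
  -- the two maps
  have hmem : ∀ q, phi0X hn R G₀ θ₀ P v.hom q ∈ E₀ hn R dd := fun q => by
    rw [phi0X_apply]
    exact (mem_E₀ hn R dd _).mpr
      (hprop₀ (R' ⊗[R] R') (g₁ R R') (g₂ R R') (hg R R') (v.hom (tm (wm p n R 0 hn) 1 q)))
  let κlin : M₀ R dd →ₗ[TruncatedWittVector p n R] E₀ hn R dd :=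
    (kapX hn R (N := N)).restrict (kapX_mem hn R dd)
  let φ₀lin : P →ₗ[TruncatedWittVector p n R] E₀ hn R dd :=
    LinearMap.codRestrict (E₀ hn R dd) (phi0X hn R G₀ θ₀ P v.hom) hmem
  have hsurj : Function.Surjective κlin := by
    intro e
    obtain ⟨x, hx0, hxe⟩ := exists_invariant_lift hn R dd e.1 e.2
    exact ⟨⟨x, hx0⟩, Subtype.ext hxe⟩
  obtain ⟨φ, hφ⟩ := Module.projective_lifting_property κlin φ₀lin hsurj
  have hD0 : ∀ q, D0 R dd (show N from (φ q).1) = 0 := fun q => (φ q).2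
  have hκφ : ∀ q, tm (wm p n R' 0 hn) 1 (show N from (φ q).1) =
      θ₀ (tm (algebraMap R R') 1 (v.hom (tm (wm p n R 0 hn) 1 q))) := fun q =>
    congrArg Subtype.val (LinearMap.congr_fun hφ q)
  let φ' : P ⟶ (restrictScalars Wα).obj N := (ModuleCat.ofHom ((M₀ R dd).subtype ∘ₗ φ) :)
  let θ : (extendScalars Wα).obj P ⟶ N := (extendScalars Wα).map φ' ≫ eps Wα N
  have hθtm : ∀ (b : TruncatedWittVector p n R') (q : P),
      θ (tm Wα b q) = b • (show N from (φ q).1) := fun _ _ => rfl
  have hθ1 : ∀ q : P, θ (tm Wα 1 q) = (show N from (φ q).1) := fun q => by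
    rw [hθtm, one_smul]
  have hmap : ∀ z, (extendScalars (wm p n R' 0 hn)).map θ z =
      θ₀ ((extendScalars (algebraMap R R')).map v.hom
        ((cIso (N := P) 0 hn (algebraMap R R')).inv z)) := by
    intro z
    induction z using gen_induction with
    | h0 => rw [map_zero, map_zero, map_zero, map_zero]
    | h1 t q =>
      rw [map_smul, map_tm, hθ1, hκφ, map_smul, cIso_inv_gen, map_smul, map_tm, map_smul]
    | h2 a b ha hb => rw [map_add, ha, hb, map_add, map_add, map_add]
  have hbij : Function.Bijective ((extendScalars (wm p n R' 0 hn)).map θ) := by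
    have h1 : Function.Bijective (cIso (N := P) 0 hn (algebraMap R R')).inv :=
      (ConcreteCategory.isIso_iff_bijective _).mp inferInstance
    have h2 : Function.Bijective ((extendScalars (algebraMap R R')).map v.hom) :=
      (ConcreteCategory.isIso_iff_bijective _).mp inferInstance
    have h3 : Function.Bijective θ₀ := (ConcreteCategory.isIso_iff_bijective _).mp hθ₀
    have h4 := h3.comp (h2.comp h1)
    have h5 : ⇑(ConcreteCategory.hom ((extendScalars (wm p n R' 0 hn)).map θ)) =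
        (⇑(ConcreteCategory.hom θ₀)) ∘ (⇑(ConcreteCategory.hom
          ((extendScalars (algebraMap R R')).map v.hom))) ∘
          (⇑(ConcreteCategory.hom (cIso (N := P) 0 hn (algebraMap R R')).inv)) := funext hmap
    rw [h5]
    exact h4
  have hpR' : IsNilpotent (p : R') := by
    have := hpR.map (algebraMap R R')
    rwa [map_natCast] at this
  have iF4 : Module.Flat (TruncatedWittVector p n R) P := inferInstance
  have iF5 : Module.Flat (TruncatedWittVector p n R') ((extendScalars Wα).obj P) := flat_ext _ P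
  have hθbij : Function.Bijective θ :=
    bijective_of_gr p n hn (isNilpotent_Im_one p n hpR') _ N θ hbij
  refine ⟨P, θ, (ConcreteCategory.isIso_iff_bijective θ).mpr hθbij, hPf, hPp, ?_⟩
  intro T' _ f₁ f₂ h q
  rw [hθ1 q]
  refine hom_of_rho₀_eq dd _ ?_ T' f₁ f₂ h
  have := hD0 q
  unfold D0 at this
  rw [sub_eq_zero] at this
  exact this

end Main

end Groth.Agent.Lib.Helper86.WittAsm2
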