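import Mathlib
import Groth.Agent.Lib.Helper86.WittAsm2

/-! Effectivity of Witt-level descent data on finite projective modules: all lengths, and the
transport lemma for the final statement. -/

set_option autoImplicit false

open CategoryTheory Opposite ModuleCat TensorProduct
open Groth.Agent.Lib.Helper86.DescBridge Groth.Agent.Lib.Helper86.DescEff
  Groth.Agent.Lib.Helper86.WittDD Groth.Agent.Lib.Helper86.WittAsm2

universe u

namespace Groth.Agent.Lib.Helper86.WittAsm3

section Zero

variable {p : ℕ} [hp : Fact p.Prime] (R : Type u) {R' : Type u} [CommRing R]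
  [CommRing R'] [Algebra R R'] {N : ModuleCat.{u} (TruncatedWittVector p 0 R')}
  (dd : WDD p 0 (algebraMap R R') N)

theorem effective_witt_zero :
    ∃ (M : ModuleCat.{u} (TruncatedWittVector p 0 R))
      (θ : (extendScalars (WittGrp.truncMap p 0 (algebraMap R R'))).obj M ⟶ N), IsIso θ ∧
      Module.Finite (TruncatedWittVector p 0 R) M ∧
      Module.Projective (TruncatedWittVector p 0 R) M ∧
      ∀ (T' : Type u) [CommRing T'] (f₁ f₂ : R' →+* T')
        (h : f₁.comp (algebraMap R R') = f₂.comp (algebraMap R R')) (m : M),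
        dd.hom T' f₁ f₂ h (tm (WittGrp.truncMap p 0 f₁) 1
          (θ (tm (WittGrp.truncMap p 0 (algebraMap R R')) 1 m))) =
          tm (WittGrp.truncMap p 0 f₂) 1
            (θ (tm (WittGrp.truncMap p 0 (algebraMap R R')) 1 m)) := by
  have hS : ∀ (T : Type u) [CommRing T], Subsingleton (TruncatedWittVector p 0 T) :=
    fun T _ => inferInstanceAs (Subsingleton (Fin 0 → T))
  have hSM : ∀ (T : Type u) [CommRing T] (Q : ModuleCat.{u} (TruncatedWittVector p 0 T)),
      Subsingleton Q := fun T _ Q => by
    have := hS T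
    exact Module.subsingleton (TruncatedWittVector p 0 T) Q
  let M : ModuleCat.{u} (TruncatedWittVector p 0 R) :=
    ModuleCat.of (TruncatedWittVector p 0 R) PUnit.{u + 1}
  have hM : Subsingleton M := hSM R M
  refine ⟨M, 0, ?_, ?_, ?_, ?_⟩
  · rw [ConcreteCategory.isIso_iff_bijective]
    have h1 := hSM R' N
    have h2 := hSM R' ((extendScalars (WittGrp.truncMap p 0 (algebraMap R R'))).obj M)
    exact ⟨fun a b _ => Subsingleton.elim a b, fun b => ⟨0, Subsingleton.elim _ _⟩⟩
  · exact (inferInstance : Module.Finite (TruncatedWittVector p 0 R) PUnit.{u + 1})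
  · exact ⟨⟨0, fun x => Subsingleton.elim _ _⟩⟩
  · intro T' _ f₁ f₂ h m
    have := hSM T' ((extendScalars (WittGrp.truncMap p 0 f₂)).obj N)
    exact Subsingleton.elim _ _

end Zero

section All

variable {p : ℕ} [hp : Fact p.Prime] {n : ℕ} (R : Type u) {R' : Type u} [CommRing R]
  [CommRing R'] [Algebra R R'] {N : ModuleCat.{u} (TruncatedWittVector p n R')}
  (dd : WDD p n (algebraMap R R') N)

theorem effective_witt [Module.FaithfullyFlat R R'] (hpR : IsNilpotent (p : R))
    [Module.Finite (TruncatedWittVector p n R') N]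
    [Module.Projective (TruncatedWittVector p n R') N] :
    ∃ (M : ModuleCat.{u} (TruncatedWittVector p n R))
      (θ : (extendScalars (WittGrp.truncMap p n (algebraMap R R'))).obj M ⟶ N), IsIso θ ∧
      Module.Finite (TruncatedWittVector p n R) M ∧
      Module.Projective (TruncatedWittVector p n R) M ∧
      ∀ (T' : Type u) [CommRing T'] (f₁ f₂ : R' →+* T')
        (h : f₁.comp (algebraMap R R') = f₂.comp (algebraMap R R')) (m : M),
        dd.hom T' f₁ f₂ h (tm (WittGrp.truncMap p n f₁) 1
          (θ (tm (WittGrp.truncMap p n (algebraMap R R')) 1 m))) =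
          tm (WittGrp.truncMap p n f₂) 1
            (θ (tm (WittGrp.truncMap p n (algebraMap R R')) 1 m)) := by
  rcases Nat.eq_zero_or_pos n with h0 | hn
  · subst h0
    exact effective_witt_zero R dd
  · exact effective_witt_pos hn R dd hpR

end All

section Transport

universe v₁ u₁ t v' u'

variable {C : Type u₁} [Category.{v₁} C]

theorem effective_transport_pred {F G : Pseudofunctor (LocallyDiscrete Cᵒᵖ) Cat.{v', u'}}
    (e : F = G) {S X : C} (f : X ⟶ S)
    (D : G.DescentData (fun _ : PUnit.{t + 1} => f))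
    (Q : G.obj (.mk (op S)) → Prop)
    (h : ∀ (D' : F.DescentData (fun _ : PUnit.{t + 1} => f)), HEq D' D →
      ∃ M : F.obj (.mk (op S)), (∀ M' : G.obj (.mk (op S)), HEq M M' → Q M') ∧
        Nonempty ((F.toDescentData (fun _ : PUnit.{t + 1} => f)).obj M ≅ D')) :
    ∃ M : G.obj (.mk (op S)), Q M ∧
      Nonempty ((G.toDescentData (fun _ : PUnit.{t + 1} => f)).obj M ≅ D) := by
  subst e
  obtain ⟨M, hQ, hiso⟩ := h D HEq.rfl
  exact ⟨M, hQ M HEq.rfl, hiso⟩

end Transport

end Groth.Agent.Lib.Helper86.WittAsm3
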