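import Mathlib
import Groth.Prelude.Def_WittGrp
import Groth.Agent.Lib.Helper27.EqualizerFlat

/-! Equalizer property of truncated Witt vectors along a faithfully flat ring map. -/

set_option autoImplicit false

open TensorProduct

universe u

namespace Groth.Agent.Lib.Helper86.WittEq

variable (p : ℕ) [Fact p.Prime] (n : ℕ)

theorem truncMap_injective {R R' : Type*} [CommRing R] [CommRing R'] (f : R →+* R')
    (hf : Function.Injective f) : Function.Injective (WittGrp.truncMap p n f) := by
  intro x y hxy
  ext i
  have := congrArg (fun w => TruncatedWittVector.coeff i w) hxy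
  simp only [WittGrp.coeff_truncMap] at this
  exact hf this

theorem truncMap_equalizer (R R' : Type u) [CommRing R] [CommRing R'] [Algebra R R']
    [Module.FaithfullyFlat R R'] (w : TruncatedWittVector p n R')
    (hw : WittGrp.truncMap p n (Algebra.TensorProduct.includeLeftRingHom : R' →+* R' ⊗[R] R') w =
      WittGrp.truncMap p n
        ((Algebra.TensorProduct.includeRight : R' →ₐ[R] R' ⊗[R] R') : R' →+* R' ⊗[R] R') w) :
    ∃ v : TruncatedWittVector p n R, WittGrp.truncMap p n (algebraMap R R') v = w := by
  have h : ∀ i : Fin n, ∃ s : R, algebraMap R R' s = w.coeff i := by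
    intro i
    apply Groth.Agent.Lib.Helper27.EqualizerFlat.exists_algebraMap_eq_of_tmul_eq
    have := congrArg (fun w => TruncatedWittVector.coeff i w) hw
    simp only [WittGrp.coeff_truncMap] at this
    exact this
  choose s hs using h
  refine ⟨TruncatedWittVector.mk p s, ?_⟩
  ext i
  rw [WittGrp.coeff_truncMap, TruncatedWittVector.coeff_mk, hs]

end Groth.Agent.Lib.Helper86.WittEq
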